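import Cfsg.Agent.StdL34.Inv2
import Mathlib
import Cfsg.Agent.ClassicalGeometry.SympAutExists
import Cfsg.Agent.ClassicalGeometry.SympAutOddA
import Cfsg.Agent.ClassicalGeometry.SympGamma
import Cfsg.Agent.KFacts.Unit.OutHom
import Cfsg.Agent.ClassicalGeometry.HermOrtho
import Cfsg.Agent.ClassicalGeometry.PSUAutMain
import Cfsg.Agent.Schreier.PSU
import Cfsg.Agent.Cit.FourFixU
import Cfsg.Agent.KFacts.RgdSL
import Cfsg.Agent.Nodes.KindF
import Cfsg.Agent.Tits.OppRes
import Cfsg.Agent.S1232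
import Cfsg.Agent.S1236
import Cfsg.Agent.GH.Rank
import Cfsg.Agent.KFacts.He.TwoA_m3
import Cfsg.Agent.Intrinsic.Cen
import Cfsg.Agent.StdL34.Cov
import Cfsg.Agent.Lib.FinFast
import Cfsg.Agent.FixBN.ReduceMain_m3
import Cfsg.Agent.StandardComponent.AltAut
import Cfsg.Agent.SignalizersComponents.PCompQuot
import Cfsg.Agent.UAlt.AltCent
import Cfsg.Agent.StdAlt.Closing
import Cfsg.Agent.Intrinsic.Diag
import Cfsg.Agent.UAlt.Bij
import Cfsg.Agent.UGT.PumpGen
import Cfsg.Agent.UAlt.AltOn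
import Cfsg.Agent.StdAlt.Carm
import Cfsg.Agent.SignalizersComponents.IntrinsicBasic
import Cfsg.Agent.SignalizersComponents.FStarNormal
import Cfsg.Agent.SignalizersComponents.Components
import Cfsg.Agent.Lib.GenFitting
import Cfsg.Agent.Cit.Defs
import Cfsg.Agent.SignalizersComponents.SLQuasisimple
import Cfsg.Agent.LieClassical.SLTwoSylowTwo
import Cfsg.Agent.Lib.AutSL2Out
import Cfsg.Agent.StdL3.OneNoTwo
import Cfsg.Agent.LThreeFour.Inv_m3
import Cfsg.Agent.Lib.KleinGen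
import Cfsg.Agent.FastGrp
import Cfsg.Agent.Prune
set_option linter.all false

section
prune_inst 0x7fbcb8f8abb82ddedfff7e7ffed9dffc19901fffa6dff9437fe06bff0bdf030009c52b898de010fe0ed7629410b87853f97ee67fea6bd87ffffd1ff41ffbee0fe5f7b508519488340fbc2fff03f07f8a7f3fffffffffffffffffffffffffffbeffffffffffff

-- part: UGT/I34/OnCode
section
set_option linter.all false
open scoped Cfsg.Agent.FastGrp

/-!
# THEOREM I34, part [A], (5.5), second half: facts on codes

Finite facts on the codes of `StdL34` (of the Sylow 2-subgroup of `4₁.L₃(4)`, `ty = true`).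
-/

set_option autoImplicit false
set_option linter.constructorNameAsVariable false

open Cfsg.Agent.StdL34 Cfsg.Agent.SporadicA.FieldFour

namespace Cfsg.Agent.UGT.I34.OnT

/-! ### codes as numbers -/

private def d4 (P : F4 → Prop) [DecidablePred P] : Decidable (∀ a, P a) :=
  decidable_of_iff (P .z ∧ P .o ∧ P .w ∧ P .v)
    ⟨fun h a => F4.rec h.1 h.2.1 h.2.2.1 h.2.2.2 a, fun h => ⟨h _, h _, h _, h _⟩⟩

private def dK (P : Fin 4 → Prop) [DecidablePred P] : Decidable (∀ a, P a) :=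
  decidable_of_iff (P ⟨0, by decide⟩ ∧ P ⟨1, by decide⟩ ∧ P ⟨2, by decide⟩ ∧ P ⟨3, by decide⟩)
    ⟨fun h a => by fin_cases a; exacts [h.1, h.2.1, h.2.2.1, h.2.2.2], fun h => ⟨h _, h _, h _, h _⟩⟩

attribute [local instance 5000] d4 dK

private def dC (P : Code → Prop) [DecidablePred P] : Decidable (∀ p, P p) := decidable_of_iff _ forall_code.symm

private def dT (P : Ty → Prop) [DecidablePred P] : Decidable (∀ a, P a) :=
  decidable_of_iff (P (false, false) ∧ P (false, true) ∧ P (true, false) ∧ P (true, true))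
    ⟨fun h a => match a with
      | (false, false) => h.1
      | (false, true) => h.2.1
      | (true, false) => h.2.2.1
      | (true, true) => h.2.2.2, fun h => ⟨h _, h _, h _, h _⟩⟩

attribute [local instance 5000] dC dT

private def en (p : Code) : ℕ := p.a.toNat + 4 * p.b.toNat + 16 * p.c.toNat + 64 * p.k.1

private theorem tn (a : F4) : a.toNat < 4 := by cases a <;> decide

private theorem en_de : ∀ p : Code, en p < 256 ∧ Nat.mod (en p) 16 = p.a.toNat + 4 * p.b.toNat ∧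
    p.a = F4.ofNat (Nat.mod (en p) 16 % 4) ∧ p.b = F4.ofNat (Nat.mod (en p) 16 / 4) ∧
    p.c = F4.ofNat (en p / 16 % 4) ∧ p.k = Fin.ofNat 4 (en p / 64) := by decide +kernel

private theorem en_lt (p : Code) : en p < 256 := (en_de p).1

private theorem ab_iff (p q : Code) : (p.a = q.a ∧ p.b = q.b) ↔ Nat.mod (en p) 16 = Nat.mod (en q) 16 :=
  ⟨fun h => by rw [(en_de p).2.1, (en_de q).2.1, h.1, h.2],
    fun h => ⟨by rw [(en_de p).2.2.1, (en_de q).2.2.1, h], by rw [(en_de p).2.2.2.1, (en_de q).2.2.2.1, h]⟩⟩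

private theorem ab_zero (p : Code) : (p.a = 0 ∧ p.b = 0) ↔ Nat.mod (en p) 16 = 0 := ab_iff p cone

private theorem en_iff (p q : Code) : p = q ↔ en p = en q := by
  refine ⟨congrArg en, fun h => ?_⟩
  obtain ⟨h1, h2⟩ := (ab_iff p q).2 (by rw [h])
  have h3 : p.c = q.c := by rw [(en_de p).2.2.2.2.1, (en_de q).2.2.2.2.1, h]
  have h4 : p.k = q.k := by rw [(en_de p).2.2.2.2.2, (en_de q).2.2.2.2.2, h]
  show (⟨p.a, p.b, p.c, p.k⟩ : Code) = ⟨q.a, q.b, q.c, q.k⟩
  rw [h1, h2, h3, h4]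

private def tM : ℕ :=
  (by
  refine (?fq1 : (Nat.add (Nat.add 
    (nat_lit 0x61805332ed0c5f3ee988db3a7514c72671904322fd1c4f2ef998cb2a4524f71641a07312cd2c7f1ec9a8fb1a5534e70651b06302dd3c6f0ed9b8eb0a6607d43562835031ee0f5c3dea8bd8397617c42572934021fe1f4c2dfa9bc8294627f41542a37011ce2f7c1dcaabf8195637e40552b36001de3f6c0ddabbe8096706d53463825130ef0e5d3ceb8ad9387716c52473924120ff1e4d2cfb9ac9284726f51443a27110cf2e7d1ccbaaf9185736e50453b26100df3e6d0cdbbae90848d92a3bcc5d2e3f4051a233c4d5a63758c93a2bdc4d3e2f5041b223d4c5b62768f90a1bec7d0e1f60718213e4f5861778e91a0bfc6d1e0f70619203f4e5960749d82b3acd5c2f3e4150a332c5d4a73659c83b2add4c3f2e5140b322d5c4b72669f80b1aed7c0f1e61708312e5f4871679e81b0afd6c1f0e71609302f5e497064adb2839ce5f2c3d4253a031c6d7a4355acb3829de4f3c2d5243b021d6c7b4256afb0819ee7f0c1d62738011e6f784157aeb1809fe6f1c0d72639001f6e794054bda2938cf5e2d3c4352a130c7d6a5345bca3928df4e3d2c5342b120d7c6b5246bfa0918ef7e0d1c63728110e7f685147bea1908ff6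e1d0c73629100f7e695043c3d3e3f38393a3b34353637303132332c2d2e2f28292a2b24252627202122231c1d1e1f18191a1b14151617101112130c0d0e0f08090a0b04050607000102033d3c3f3e39383b3a35343736313033322d2c2f2e29282b2a25242726212023221d1c1f1e19181b1a15141716111013120d0c0f0e09080b0a05040706010003023e3f3c3d3a3b383936373435323330312e2f2c2d2a2b282926272425222320211e1f1c1d1a1b181916171415121310110e0f0c0d0a0b080906070405020300013f3e3d3c3b3a393837363534333231302f2e2d2c2b2a292827262524232221201f1e1d1c1b1a191817161514131211100f0e0d0c0b0a09080706050403020100)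
    (Nat.shiftLeft (Nat.add 
    (nat_lit 0xd2c3b0215647b4254adba8b9ce5facbdc2d3a0314657a4357aeb9889fe6f9c8df2e39001766794056afb8899ee7f8c9de2f38011667784155bcab9a8df4ebdacd3c2b1205746b5244bdaa9b8cf5eadbcc3d2a1304756a5347bea9988ff6e9d8cf3e29100776695046bfa8998ef7e8d9ce3f28110677685142c2daeaf2829aaaba4a52627a0a122233c3dbebf3839babbb4b53637b0b132330c0d8e8f08098a8b84850607808102031c1d9e9f18199a9b94951617909112132d2cafae2928abaaa5a42726a1a023223d3cbfbe3938bbbab5b43736b1b033320d0c8f8e09088b8a85840706818003021d1c9f9e19189b9a95941716919013122e2facad2a2ba8a9a6a72425a2a320213e3fbcbd3a3bb8b9b6b73435b2b330310e0f8c8d0a0b888986870405828300011e1f9c9d1a1b989996971415929310112f2eadac2b2aa9a8a7a62524a3a221203f3ebdbc3b3ab9b8b7b63534b3b231300f0e8d8c0b0a898887860504838201001f1e9d9c1b1a99989796151493921110906142331465c63718e94a3b9cedce3f807152230475d62708f95a2b8cfdde2fb04162133445e61738c96a1bbccdee1fa05172032455f60728d97a0bacddfe0f916043321564c73619e84b3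a9deccf3e817053220574d72609f85b2a8dfcdf2eb14063123544e71639c86b1abdccef1ea15073022554f70629d87b0aaddcff0e926340311667c4351aeb48399eefcc3d827350210677d4250afb58298effdc2db24360113647e4153acb6819becfec1da25370012657f4052adb7809aedffc0d936241301766c5341bea49389feecd3c837251200776d5240bfa59288ffedd2cb34261103746e5143bca6918bfceed1ca35271002756f5042bda7908afdefd0c6405d63760815233ec0d5e3fe889da3b7415c62770914223fc1d4e2ff899ca2b4425f61740a17213cc2d7e1fc8a9fa1b5435e60750b16203dc3d6e0fd8b9ea0b6504d736)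
    (Nat.shiftLeft 
    (nat_lit 0x139291100f8e8d0c8b0a098887060584038281003fbebd3cbb3a39b8b73635b433b2b1302faead2cab2a29a8a72625a423a2a1208071d2a3047556a788795a2b0c7dde2f9061c2b3146546b798694a3b1c6dce3fa051f28324557687a8597a0b2c5dfe0fb041e29334456697b8496a1b3c4dee1f8170d3a2057457a689785b2a0d7cdf2e9160c3b2156447b699684b3a1d6ccf3ea150f38225547786a9587b0a2d5cff0eb140e39235446796b9486b1a3d4cef1e8273d0a1067754a58a7b58290e7fdc2d9263c0b1166744b59a6b48391e6fcc3da253f08126577485aa5b78092e5ffc0db243e09136476495ba4b68193e4fec1d8372d1a0077655a48b7a59280f7edd2c9362c1b0176645b49b6a49381f6ecd3ca352f18027567584ab5a79082f5efd0cb342e19037466594bb4a69183f4eed1c741546a77091c2a37c9d4e2f7819ca2b640556b76081d2b36c8d5e3f6809da3b5435668750b1e2835cbd6e0f5839ea0b4425769740a1f2934cad7e1f4829fa1b751447a67190c3a27d9c4f2e7918cb2a650457b66180d3b26d8c5f3e6908db3a5534678651b0e3825dbc6f0e5938eb0a4524779641a0f3924dac7f1e4928fb1a761744a57293c0a17e9f4c2d7a1bc829660754b5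6283d0b16e8f5c3d6a0bd8395637648552b3e0815ebf6c0d5a3be8094627749542a3f0914eaf7c1d4a2bf819771645a47392c1a07f9e4d2c7b1ac928670655b46382d1b06f8e5d3c6b0ad9385736658453b2e1805fbe6d0c5b3ae9084726759443a2f1904fae7d1c4b2af91858c9baabdc4dbeafd0c1b2235445b62748d9aabbcc5daebfc0d1a2334455a63778e99a8bfc6d9e8ff0e192037465960768f98a9bec7d8e9fe0f182136475861759c8bbaadd4cbfaed1c0b3225544b72649d8abbacd5cafbec1d0a3324554a73679e89b8afd6c9f8ef1e093027564970669f88b9aed7c8f9ee1f08312657487165acbb8a9de4fbcad)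
    (nat_lit 5600)))
    (nat_lit 5600)))
    (Nat.shiftLeft (Nat.add 
    (nat_lit 0x54b56607d0b162835c3d6e8fd8396a0b64855637e08152b36c0d5ebfe8095a3b74954627f09142a37c1d4eaff8194a2b45a47716c1a073924d2c7f9ec9287b1a55b46706d1b063825d3c6f8ed9386b0a65845736e18053b26d0c5fbee9085b3a75944726f19043a27d1c4faef9184b2a46a77415c2a370914e2f7c9dca2b781956b76405d2b360815e3f6c8dda3b680966875435e28350b16e0f5cbdea0b583976974425f29340a17e1f4cadfa1b482947a67514c3a271904f2e7d9ccb2a791857b66504d3b261805f3e6d8cdb3a690867865534e38251b06f0e5dbceb0a593877964524f39241a07f1e4dacfb1a492868798a1b6c7d0e9fe0718293e475061778699a0b7c6d1e8ff0619283f46516074859aa3b4c5d2ebfc051a2b3c45526375849ba2b5c4d3eafd041b2a3d445362769788b1a6d7c0f9ee1708392e574071679689b0a7d6c1f8ef1609382f56417064958ab3a4d5c2fbec150a3b2c55427365948bb2a5d4c3faed140b3a2d54437266a7b88196e7f0c9de2738091e67704157a6b98097e6f1c8df2639081f66714054a5ba8394e5f2cbdc253a0b1c65724355a4bb8295e4f3cadd243b0a1d6473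4256b7a89186f7e0d9ce3728190e77605147b6a99087f6e1d8cf3629180f76615044b5aa9384f5e2dbcc352a1b0c75625345b4ab9285f4e3dacd342b1a0d74635241c9d9e1f98191a9b94151697109192130c8d8e0f88090a8b84050687008182033cbdbe3fb8393abbb43536b730b1b2332cadae2fa8292aaba42526a720a1a2231d9c9f1e99181b9a95141796119093120d8c8f0e89080b8a85040786018083023dbcbf3eb9383bbab53437b631b0b3322dacaf2ea9282baaa52427a621a0a3221e9f9c1d9a1b189996171495129390110e8f8c0d8a0b088986070485028380013ebfbc3dba3b38b9b63734b532b3b0312eafac2daa2b28a9a62724a522a3a0211f9e9d1c9b1a199897161594)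
    (Nat.shiftLeft (Nat.add 
    (nat_lit 0x6d7c8f1e61f0839265f4071659483baa5d4cbf2e51c0b3a255c4372649582bba4d5caf3e41d0a3b245d427367a6b18897e6f9c0d72e3908176e714056a7b08996e7f8c1d62f3809166f704155a4b38a95e4fbc2d52c3b0a156c734254a5b28b94e5fac3d42d3a0b146d724357b6a19887f6e9d0c73e2918077e615046b7a09986f7e8d1c63f2819067f605145b4a39a85f4ebd2c53c2b1a057c635244b5a29b84f5ead3c43d2a1b047d625340c8d0e8f88098a0b04850687800182031c9d1e9f98199a1b14951697901192132cad2eafa829aa2b24a526a7a021a2233cbd3ebfb839ba3b34b536b7b031b2330d8c0f8e89088b0a05840786810083021d9c1f9e99189b1a15941796911093122dac2faea928ab2a25a427a6a120a3223dbc3fbeb938bb3a35b437b6b130b3320e8f0c8d8a0b880906870485820380011e9f1c9d9a1b981916971495921390112eaf2cadaa2ba82926a724a5a223a0213ebf3cbdba3bb83936b734b5b233b0310f8e0d8c8b0a890807860584830281001f9e1d9c9b1a991817961594931291102fae2dacab2aa92827a625a4a322a1203fbe3dbcbb3ab93837b635b4b332b130b0c1e213b445e697b8c96a9bbc4d6e1fa0d1f203a455f68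7a8d97a8bac5d7e0f90e1c2339465c6b798e94abb9c6d4e3f80f1d2238475d6a788f95aab8c7d5e2fb1c0e312b544e796b9c86b9abd4c6f1ea1d0f302a554f786a9d87b8aad5c7f0e91e0c3329564c7b699e84bba9d6c4f3e81f0d3228574d7a689f85baa8d7c5f2eb2c3e011b647e495bacb6899be4f6c1da2d3f001a657f485aadb7889ae5f7c0d92e3c0319667c4b59aeb48b99e6f4c3d82f3d0218677d4a58afb58a98e7f5c2db3c2e110b746e594bbca6998bf4e6d1ca3d2f100a756f584abda7988af5e7d0c93e2c1309766c5b49bea49b89f6e4d3c83f2d1208776d5a48bfa59a88f7e5d2c44a57617c0a172934c2d7e9fc8297a1b)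
    (Nat.shiftLeft 
    (nat_lit 0xa0d17283a455760728597a8b2cdd7e0fb0c16293b445661738496a9b3ccd6e1f80f152a38475562708795aab0cfd5e2f90e142b39465463718694abb1ced4e3fa1d07382a554770629587b8a2ddc7f0eb1c06392b544671639486b9a3dcc6f1e81f053a28574572609785baa0dfc5f2e91e043b29564473619684bba1dec4f3ea2d37081a65774052a5b78892edf7c0db2c36091b64764153a4b68993ecf6c1d82f350a1867754250a7b58a90eff5c2d92e340b1966744351a6b48b91eef4c3da3d27180a75675042b5a79882fde7d0cb3c26190b74665143b4a69983fce6d1c83f251a0877655240b7a59a80ffe5d2c93e241b0976645341b6a49b81fee4d3c54b5e687d0b1e203dcbd6e8f58b96a0b44a5f697c0a1f213ccad7e9f48a97a1b7495c6a7f091c223fc9d4eaf78994a2b6485d6b7e081d233ec8d5ebf68895a3b55b4e786d1b0e302ddbc6f8e59b86b0a45a4f796c1a0f312cdac7f9e49a87b1a7594c7a6f190c322fd9c4fae79984b2a6584d7b6e180d332ed8c5fbe69885b3a56b7e485d2b3e001debf6c8d5abb680946a7f495c2a3f011ceaf7c9d4aab78197697c4a5f293c021fe9f4cad7a9b48296687d4b5e283d031ee8f5cbd6a8b583957b6e584d3b2e100dfbe6d8c5bba690847a6f594c3a2f110cfae7d9c4baa79187796c5a4f392c120ff9e4dac7b9a49286786d5b4e382d130ef8e5dbc6b8a593878691a8b7c6d9e0f70e1928374e5160768790a9b6c7d8e1f60f1829364f5061758493aab5c4dbe2f50c1b2a354c5362748592abb4c5dae3f40d1a2b344d5263779681b8a7d6c9f0e71e0938275e4170669780b9a)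
    (nat_lit 5600)))
    (nat_lit 5600)))
    (nat_lit 16800)))
    = ?xq1 → Nat) ?hq1; (case hq1 => (conv => lhs; whnf)); intro _; exact OfNat.ofNat ?xq1 : Nat)

private def tI : ℕ :=
  28236971547700790623075743670004275576260993781757344455765666028688419499706286622037702146226269239517158951707058462931413012922482661738281936361516558186759118694489151404765199055319154082355548897968860550288921375202374210149973827056972824832798644183204523734968332173021379995695333103898313425286419031530218058834825842353637798070248401408605453602946993580644433746704001525111265693792207597809318064094631182285853401176790348164037395061193751013201192616704969653770863213964291640145487811513127891524251871509869907389462705703315004197082054124332126235826309579336932134585354555463292464267520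

private def tU (τ : Ty) : ℕ :=
  cond τ.1 (cond τ.2
    27550536118694816687013266242435564531703655554811827730804753340774289466642778800729179338686772768327698812807429186006971181753504203564141218515458022971117709278698096982513567244786425079144978074847673405561966474204279861570888929802625093736969037067076098593927198909658106532294776054772122122821305699902545970623339444833474698790530888385584085355880249705993099793476997974788843634784243975882920387125276419965239321813470485830213592851190607715812361409555419019323059292865394935242832654144511094939169203419190079616182298461859044623781241689841893168427560752673677470231325927630851690726400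
    29656096748525160982666240120432612623420360234284127082922436433704328068493100306680167889925835418101502606654789609247383923881142074929460856072954945261130200514391730648520282198675581634973423564772393280216337599133677082054578481206026482134121222554217233556028080141427972578941824776274330827418280076413643037161885139471424948107958320518823296244620060856071847814284229799641032108117147393049756586987288470696266746656694893295175361046683263517279967918871415560079486292700979515408989584409839251743328113344824745586176088677909164040356547131142339494423421386545148455777429296656201197748480)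
  (cond τ.2
    28172360448104023354040063666078009288306546319296716194426996806544169747849292427036971290049997045978370012983109886023845121862680978960734908489273810993972387372238543259381536239478401275554950107757612696839061828588447695622406887087517552091061363060630758613597983066226678017877745064922221561717509836825642500137803510663532876346238903323064139034810060368745080262827939540459257276920926220726253204791043482828102945787148879454564038336763865343793875115846029722027215332334153620102573602858985849367737922957481274250332010933486265797098992243617355016906946057732312427285095068855050781066240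
    32316509077753586139510713445660514514047171580093496865901477602143224540557412340472969236184020377745408638077439397456141948699754273791418869985027499602243785773646750786158629119897527698459159582903277348091197804306308450975276589715725867107713970624879795449576651053772645338545136289129326403509065092108109101077472046144122638474948527343653345105797020149055603954704727773430317796884279167058635246262041734914578626456397727386204475718614091025348906121070916929137541182355893615952208805117487445236884750886234300399097674869962426348425792929710270231641017897005896324246640151098893336183040)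

private def ent (T i : ℕ) : ℕ := Nat.mod (Nat.shiftRight T (Nat.mul 8 i)) 256

private def mT (x y : ℕ) : ℕ :=
  Nat.mod (Nat.add (ent tM (Nat.add (Nat.mul 64 (Nat.mod x 64)) (Nat.mod y 64)))
    (Nat.mul 64 (Nat.add (Nat.div x 64) (Nat.div y 64)))) 256

private theorem en_mul (p q : Code) : en (cmul true p q) = mT (en p) (en q) := by
  have h0 : ∀ a b c a' b' c', en (cmul true ⟨a, b, c, 0⟩ ⟨a', b', c', 0⟩) =
      ent tM (64 * (a.toNat + 4 * b.toNat + 16 * c.toNat) + (a'.toNat + 4 * b'.toNat + 16 * c'.toNat)) := by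
    have h : ∀ a b c a' b' c' : F4, (a + a').toNat + 4 * (b + b').toNat + 16 * (a' * b + c + c').toNat +
        64 * (0 + 0 - gx true (a' * (b * b)) + t2 (c * a') + t2 ((a' * b + c) * b')).1 =
        ent tM (64 * (a.toNat + 4 * b.toNat + 16 * c.toNat) + (a'.toNat + 4 * b'.toNat + 16 * c'.toNat)) := by
      decide +kernel
    exact h
  have h1 : ∀ k k' g t t' : Fin 4, k + k' - g + t + t' = 0 + 0 - g + t + t' + k + k' := fun _ _ _ _ _ => by abel
  have h2 : ∀ (r : Code) (k k' : Fin 4), en ⟨r.a, r.b, r.c, r.k + k + k'⟩ = (en r + 64 * (k.1 + k'.1)) % 256 := by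
    intro r k k'
    have := tn r.a; have := tn r.b; have := tn r.c
    simp only [en, Fin.val_add]
    omega
  obtain ⟨a, b, c, k⟩ := p
  obtain ⟨a', b', c', k'⟩ := q
  refine ((congrArg (fun t => en ⟨_, _, _, t⟩) (h1 k k' _ _ _)).trans
    (h2 (cmul true ⟨a, b, c, 0⟩ ⟨a', b', c', 0⟩) k k')).trans ?_
  have e : ∀ x y, mT x y = (ent tM (64 * (x % 64) + y % 64) + 64 * (x / 64 + y / 64)) % 256 := fun _ _ => rfl
  have h3 : ∀ a b c k, en ⟨a, b, c, k⟩ % 64 = a.toNat + 4 * b.toNat + 16 * c.toNat ∧ en ⟨a, b, c, k⟩ / 64 = k.1 := by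
    decide +kernel
  rw [h0, e, (h3 a b c k).1, (h3 a b c k).2, (h3 a' b' c' k').1, (h3 a' b' c' k').2]

private theorem en_inv : ∀ p, en (cinv true p) = ent tI (en p) := by decide +kernel

private theorem en_tau : ∀ (τ : Ty) p, en (ctau true τ p) = ent (tU τ) (en p) := by
  have e : ∀ (τ : Ty) p, ctau true τ p = if τ.2 then
      cmul true (cmul true ⟨0, fr τ.1 p.a, 0, 0⟩ ⟨fr τ.1 p.b, 0, 0, 0⟩) ⟨0, 0, fr τ.1 p.c, sg (invs true τ) p.k⟩
      else ⟨fr τ.1 p.a, fr τ.1 p.b, fr τ.1 p.c, sg (invs true τ) p.k⟩ := fun _ _ => rfl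
  simp only [e, apply_ite en, en_mul]
  decide +kernel

private theorem en_act (p : Code) (τ : Ty) (y : Code) :
    en (cact true p τ y) = mT (mT (ent tI (en p)) (ent (tU τ) (en y))) (en p) :=
  (en_mul _ _).trans (by rw [en_mul, en_inv, en_tau])

private noncomputable def al (f : ℕ → Bool) : Bool := Nat.rec true (fun i b => Bool.rec false b (f i)) 256

private noncomputable def im (a b : Bool) : Bool := Bool.rec true b a

private noncomputable def nt (a : Bool) : Bool := Bool.rec true false a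

private noncomputable def aL (l : List ℕ) (f : ℕ → Bool) : Bool := List.rec true (fun x _ b => Bool.rec false b (f x)) l

private noncomputable def fL (l : List ℕ) (f : ℕ → Bool) : List ℕ := List.rec [] (fun x _ r => Bool.rec r (x :: r) (f x)) l

private theorem al_spec {f : ℕ → Bool} (h : al f = true) (p : Code) : f (en p) = true := by
  have H : ∀ n, Nat.rec true (fun i b => Bool.rec false b (f i)) n = true → ∀ i < n, f i = true := by
    intro n
    induction n with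
    | zero => exact fun _ i hi => absurd hi (Nat.not_lt_zero i)
    | succ n ih =>
      intro h i hi
      have e : ∀ a b : Bool, (Bool.rec false a b : Bool) = true → a = true ∧ b = true := by decide
      rcases Nat.lt_succ_iff_lt_or_eq.1 hi with h3 | h3
      · exact ih (e _ _ h).1 i h3
      · exact h3 ▸ (e _ _ h).2
  exact H 256 h _ (en_lt p)

private theorem aL_spec {l : List ℕ} {f : ℕ → Bool} (h : aL l f = true) : ∀ x ∈ l, f x = true := by
  induction l with
  | nil => exact fun _ h => nomatch h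
  | cons a l ih =>
    have e : ∀ a b : Bool, (Bool.rec false a b : Bool) = true → a = true ∧ b = true := by decide
    exact List.forall_mem_cons.2 ⟨(e _ _ h).2, ih (e _ _ h).1⟩

private theorem mem_fL {l : List ℕ} {f : ℕ → Bool} {x : ℕ} (h : x ∈ l) (hx : f x = true) : x ∈ fL l f := by
  have e : fL l f = l.filter f := by
    clear h
    induction l with
    | nil => rfl
    | cons a l ih =>
      rw [List.filter_cons, ← ih]
      show (Bool.rec (fL l f) (a :: fL l f) (f a) : List ℕ) = _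
      cases f a <;> rfl
  exact e ▸ List.mem_filter.2 ⟨h, hx⟩

private theorem im_eq {a b : ℕ} {c : Bool} (h : im (Nat.beq a b) c = true) (e : a = b) : c = true := by
  rwa [e, Nat.beq_refl] at h

private theorem im_ne {a b : ℕ} {c : Bool} (h : im (nt (Nat.beq a b)) c = true) (e : ¬ a = b) : c = true := by
  rwa [Bool.eq_false_iff.2 fun t => e (Nat.eq_of_beq_eq_true t)] at h

private theorem be {a b : ℕ} (e : a = b) : Nat.beq a b = true := e ▸ Nat.beq_refl a

private def iL : List ℕ := [0, 1, 2, 3, 4, 8, 12, 16, 17, 20, 32, 35, 44, 48, 50, 56, 82, 83, 88, 92, 97, 98, 100, 104, 113, 115, 116, 124, 128, 129, 130, 131, 132, 136, 140, 144, 145, 148, 160, 163, 172, 176, 178, 184, 210, 211, 216, 220, 225, 226, 228, 232, 241, 243, 244, 252]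

private theorem mem_iL : ∀ p, cmul true p p = cone → en p ∈ iL := by
  simp only [en_iff, en_mul]
  decide +kernel

private theorem cm_of {p q : Code} (h : cmul true p q = cmul true q p) : Nat.beq (mT (en p) (en q)) (mT (en q) (en p)) = true :=
  be (by rw [← en_mul, ← en_mul, h])

/-! ### codes -/

/-- the codes of the elements of `⟨u⟩` -/
def tw (b : Bool) : Fin 4 := if b then 2 else 0

theorem F_mul : ∀ c c' b b', cmul true ⟨0, 0, c, tw b⟩ ⟨0, 0, c', tw b'⟩ = ⟨0, 0, c + c', tw (xor b b')⟩ := by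
  decide +kernel

theorem tw_inj : ∀ b b', tw b = tw b' → b = b' := by decide

theorem F_sq : ∀ c b, cmul true ⟨0, 0, c, tw b⟩ ⟨0, 0, c, tw b⟩ = cone := by decide +kernel

theorem k_cases : ∀ k : Fin 4, (k = 0 ∨ k = 2) → ∃ b, k = tw b := by decide

theorem A_comm : ∀ a c k a' c' k', cmul true ⟨a, a, c, k⟩ ⟨a', a', c', k'⟩ = cmul true ⟨a', a', c', k'⟩ ⟨a, a, c, k⟩ := by
  have h : al (fun x => im (Nat.beq (Nat.mod x 4) (Nat.mod (Nat.div x 4) 4)) (al fun y =>
      im (Nat.beq (Nat.mod y 4) (Nat.mod (Nat.div y 4) 4)) (Nat.beq (mT x y) (mT y x)))) = true := by decide +kernel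
  have g : ∀ a c k, Nat.mod (en ⟨a, a, c, k⟩) 4 = Nat.mod (Nat.div (en ⟨a, a, c, k⟩) 4) 4 := by decide +kernel
  intro a c k a' c' k'
  rw [en_iff, en_mul, en_mul]
  exact Nat.eq_of_beq_eq_true (im_eq (al_spec (im_eq (al_spec h _) (g a c k)) _) (g a' c' k'))

theorem A_exp : ∀ a c k, cmul true (cmul true ⟨a, a, c, k⟩ ⟨a, a, c, k⟩) (cmul true ⟨a, a, c, k⟩ ⟨a, a, c, k⟩) = cone := by
  decide +kernel

theorem A_inv : ∀ a c k, cmul true ⟨a, a, c, k⟩ ⟨a, a, c, k⟩ = cone → a = 0 ∧ (k = 0 ∨ k = 2) := by decide +kernel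

theorem C_F : ∀ p, cmul true p ⟨0, 0, 1, 0⟩ = cmul true ⟨0, 0, 1, 0⟩ p →
    cmul true p ⟨0, 0, F4.w, 0⟩ = cmul true ⟨0, 0, F4.w, 0⟩ p → p.a = p.b := by
  simp only [en_iff, en_mul, en_inv, en_tau, en_act]
  decide +kernel

theorem act_F : ∀ (τ : Ty) p, cact true p τ ⟨0, 0, 1, 0⟩ = ⟨0, 0, 1, 0⟩ →
    cact true p τ ⟨0, 0, F4.w, 0⟩ = ⟨0, 0, F4.w, 0⟩ → τ.1 = false := by
  simp only [en_iff, en_mul, en_inv, en_tau, en_act]
  decide +kernel

theorem norm_F : ∀ (τ : Ty) p c b, (cact true p τ ⟨0, 0, c, tw b⟩).a = 0 ∧ (cact true p τ ⟨0, 0, c, tw b⟩).b = 0 ∧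
    ((cact true p τ ⟨0, 0, c, tw b⟩).k = 0 ∨ (cact true p τ ⟨0, 0, c, tw b⟩).k = 2) := by
  have h1 : ∀ τ : Ty, al (fun y => im (Nat.beq (Nat.land y 79) 0) (Nat.beq (Nat.land (ent (tU τ) y) 79) 0)) = true := by
    decide +kernel
  have h2 : al (fun y => im (Nat.beq (Nat.land y 79) 0) (al fun x =>
      Nat.beq (Nat.land (mT (mT (ent tI x) y) x) 79) 0)) = true := by decide +kernel
  have g1 : ∀ c b, Nat.land (en ⟨0, 0, c, tw b⟩) 79 = 0 := by decide +kernel
  have g2 : ∀ p : Code, Nat.land (en p) 79 = 0 → p.a = 0 ∧ p.b = 0 ∧ (p.k = 0 ∨ p.k = 2) := by decide +kernel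
  intro τ p c b
  have h3 := Nat.eq_of_beq_eq_true (im_eq (al_spec (h1 τ) _) (g1 c b))
  rw [← en_tau] at h3
  have h4 := Nat.eq_of_beq_eq_true (al_spec (im_eq (al_spec h2 _) h3) p)
  rw [← en_inv, ← en_mul, ← en_mul] at h4
  exact g2 _ h4

theorem ctau_ctau : ∀ (τ ρ : Ty) y, ctau true τ (ctau true ρ y) = ctau true (τ.mul ρ) y := by
  have h : ∀ τ ρ : Ty, al (fun y => Nat.beq (ent (tU τ) (ent (tU ρ) y)) (ent (tU (τ.mul ρ)) y)) = true := by
    decide +kernel
  intro τ ρ y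
  rw [en_iff, en_tau, en_tau, en_tau]
  exact Nat.eq_of_beq_eq_true (al_spec (h τ ρ) y)

theorem ctau_id : ∀ y, ctau true (false, false) y = y := by decide +kernel

theorem ty_uniq : ∀ (τ : Ty) p, cmul true (cmul true p ⟨0, 0, F4.w, 0⟩) (cinv true p) = ctau true τ ⟨0, 0, F4.w, 0⟩ →
    cmul true (cmul true p ⟨1, 0, 0, 0⟩) (cinv true p) = ctau true τ ⟨1, 0, 0, 0⟩ → τ = (false, false) := by
  simp only [en_iff, en_mul, en_inv, en_tau, en_act]
  decide +kernel

theorem g_F : ∀ c b, ctau true (false, true) ⟨0, 0, c, tw b⟩ = ⟨0, 0, c, tw b⟩ := by decide +kernel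

theorem g_A : ∀ a c k, ctau true (false, true) ⟨a, a, c, k⟩ = cinv true ⟨a, a, c, k⟩ := by decide +kernel

theorem g_Z : ∀ k, ctau true (false, true) ⟨0, 0, 0, k⟩ = ⟨0, 0, 0, k⟩ → k = 0 ∨ k = 2 := by decide +kernel

theorem Z_comm : ∀ k y, cmul true ⟨0, 0, 0, k⟩ y = cmul true y ⟨0, 0, 0, k⟩ := by
  simp only [en_iff, en_mul, en_inv, en_tau, en_act]
  decide +kernel

theorem c_pow : ctau true (true, true) ⟨F4.w, F4.v, F4.w, 1⟩ = cmul true ⟨F4.w, F4.v, F4.w, 1⟩ ⟨0, 0, 0, 1⟩ := by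
  decide +kernel

theorem Z_mul : ∀ k l, cmul true ⟨0, 0, 0, k⟩ ⟨0, 0, 0, l⟩ = ⟨0, 0, 0, k + l⟩ := by decide +kernel

theorem nk_mul : ∀ p, p = cmul true (nk p) ⟨0, 0, 0, p.k⟩ := by decide +kernel

theorem cz_flip : ∀ (τ : Ty) p, cz (cmul true (cinv true p) (ctau true τ (cinv true p))) →
    cz (cmul true (ctau true τ ⟨p.a, p.b, p.c, 0⟩) ⟨p.a, p.b, p.c, 0⟩) := by
  have g : ∀ p, cz p ↔ en p % 64 = 0 := by decide +kernel
  simp only [g, en_mul, en_inv, en_tau]
  decide +kernel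

theorem cmul_one : ∀ p, cmul true p cone = p := by decide +kernel

/-- the fixed involutions of `c` -/
def cfix : Finset Code := {⟨0, 0, 0, 0⟩, ⟨0, 0, 0, 2⟩, ⟨0, 0, 1, 0⟩, ⟨0, 0, 1, 2⟩}

theorem mem_cfix : ∀ p, ctau true (true, true) p = p → cmul true p p = cone → p ∈ cfix := by decide +kernel

theorem card_cfix : cfix.card = 4 := by decide +kernel

instance : Fintype Code := Fintype.ofEquiv (F4 × F4 × F4 × Fin 4)
  { toFun := fun t => ⟨t.1, t.2.1, t.2.2.1, t.2.2.2⟩
    invFun := fun p => (p.a, p.b, p.c, p.k)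
    left_inv := fun _ => rfl
    right_inv := fun _ => rfl }

theorem card_code : Nat.card Code = 256 := by
  rw [Nat.card_eq_fintype_card]; decide +kernel

private theorem card_le (P : Code → Prop) [DecidablePred P] (l : List ℕ) (hl : Nat.ble l.length 8 = true)
    (h : ∀ r, P r → en r ∈ l) : (Finset.univ.filter P).card ≤ 8 :=
  (Finset.card_le_card_of_injOn en (fun r hr => List.mem_toFinset.2 (h r (Finset.mem_filter.1 hr).2))
    fun _ _ _ _ e => (en_iff _ _).2 e).trans (l.toFinset_card_le.trans (Nat.le_of_ble_eq_true hl))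

set_option maxRecDepth 100000 in
theorem card_two : ∀ p, cmul true p p = cone → ¬ (p.a = 0 ∧ p.b = 0) → ∀ q, cmul true q q = cone →
    cmul true q p = cmul true p q → ¬ (q.a = 0 ∧ q.b = 0) → ¬ (q.a = p.a ∧ q.b = p.b) →
    (Finset.univ.filter fun r => cmul true r r = cone ∧ cmul true r p = cmul true p r ∧
      cmul true r q = cmul true q r).card ≤ 8 := by
  have h : aL iL (fun x => im (nt (Nat.beq (Nat.mod x 16) 0)) (aL (fL iL fun r => Nat.beq (mT r x) (mT x r)) fun y =>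
      im (nt (Nat.beq (Nat.mod y 16) 0)) (im (nt (Nat.beq (Nat.mod y 16) (Nat.mod x 16)))
        (Nat.ble (fL (fL iL fun r => Nat.beq (mT r x) (mT x r)) fun r => Nat.beq (mT r y) (mT y r)).length 8)))) = true := by
    decide +kernel
  intro p hp h0 q hq hc h1 h2
  refine card_le _ _ (im_ne (im_ne (aL_spec (im_ne (aL_spec h _ (mem_iL p hp)) (mt (ab_zero p).2 h0)) _
    (mem_fL (mem_iL q hq) (cm_of hc))) (mt (ab_zero q).2 h1)) (mt (ab_iff q p).2 h2)) fun r hr => ?_
  exact mem_fL (mem_fL (mem_iL r hr.1) (cm_of hr.2.1)) (cm_of hr.2.2)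

set_option maxRecDepth 100000 in
theorem card_one : ∀ p, cmul true p p = cone → ¬ (p.a = 0 ∧ p.b = 0) →
    (Finset.univ.filter fun r => cmul true r r = cone ∧ cmul true r p = cmul true p r ∧
      ((r.a = 0 ∧ r.b = 0) ∨ (r.a = p.a ∧ r.b = p.b))).card ≤ 8 := by
  have h : aL iL (fun x => im (nt (Nat.beq (Nat.mod x 16) 0)) (Nat.ble (fL (fL iL fun r =>
      Nat.beq (Nat.mod r 16) 0 || Nat.beq (Nat.mod r 16) (Nat.mod x 16)) fun r => Nat.beq (mT r x) (mT x r)).length 8)) = true := by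
    decide +kernel
  intro p hp h0
  refine card_le _ _ (im_ne (aL_spec h _ (mem_iL p hp)) (mt (ab_zero p).2 h0)) fun r hr => ?_
  exact mem_fL (mem_fL (mem_iL r hr.1) (Bool.or_eq_true_iff.2
    (hr.2.2.imp (fun e => be ((ab_zero r).1 e)) fun e => be ((ab_iff r p).1 e)))) (cm_of hr.2.1)

set_option maxRecDepth 100000 in
theorem card_zero : (Finset.univ.filter fun r : Code => cmul true r r = cone ∧ r.a = 0 ∧ r.b = 0).card ≤ 8 := by
  decide +kernel

end Cfsg.Agent.UGT.I34.OnT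
end

-- part: UGT/U2/FOne/PSpJ
section
prune_inst 0x424107404102210000000001060001e6286000002004880008800000004c0044008000021a010001000000c440030006811880000420000000a000000011c00800000000420400000000000000000400000000000000000000000000000000000000000000
set_option linter.all false
open scoped Cfsg.Agent.FastGrp

-- part: UGT/U2/FOne/PSpKey
section
/-!
(f1) of UGT NodeU2 for `PSp_2m(q)`, `q` odd, part 1: a field lemma and the elements of order `p` fixed by an
involutory automorphism.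
-/

set_option autoImplicit false
open Cfsg
open scoped Matrix

namespace Cfsg.Agent.UGT.U2.FOne.PSpKey

open Cfsg.Agent.ClassicalGeometry.SympBasic Cfsg.Agent.ClassicalGeometry.SympAutSemi
open Cfsg.Agent.ClassicalGeometry.SympSiegel
open Cfsg.Agent.ClassicalGeometry.SympAutExists Cfsg.Agent.ClassicalGeometry.SympGamma

/-! ### The norm of a quadratic extension of finite fields -/

section Norm

variable {F : Type*} [Field F]

/-- Hilbert 90 for an involution of a field. -/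
theorem exists_div (σ : F ≃+* F) (h2 : ∀ a, σ (σ a) = a) (h1 : ∃ a, σ a ≠ a) {l : F}
    (hl : l * σ l = 1) : ∃ c, c ≠ 0 ∧ c = l * σ c := by
  have hl0 : l ≠ 0 := by
    rintro rfl
    rw [zero_mul] at hl
    exact zero_ne_one hl
  have key : ∀ a, a + l * σ a = l * σ (a + l * σ a) := by
    intro a
    rw [map_add, map_mul, h2, mul_add, ← mul_assoc, hl, one_mul, add_comm]
  by_cases h : (1 : F) + l * σ 1 = 0
  · obtain ⟨a, ha⟩ := h1
    refine ⟨a + l * σ a, ?_, key a⟩
    have hl1 : l = -1 := by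
      rw [map_one, mul_one] at h
      exact (neg_eq_of_add_eq_zero_right h).symm
    rw [hl1, neg_one_mul, ← sub_eq_add_neg]
    exact sub_ne_zero.2 (Ne.symm ha)
  · exact ⟨1 + l * σ 1, h, key 1⟩

/-- The norm of a quadratic extension of finite fields is onto. -/
theorem exists_norm [Finite F] (σ : F ≃+* F) (h2 : ∀ a, σ (σ a) = a) (h1 : ∃ a, σ a ≠ a) {μ : F}
    (hμ : σ μ = μ) (h0 : μ ≠ 0) : ∃ a, a ≠ 0 ∧ a * σ a = μ := by
  let s : Fˣ →* Fˣ := Units.map (σ : F →* F)
  let N : Fˣ →* Fˣ := MonoidHom.id Fˣ * s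
  let M : Fˣ →* Fˣ := MonoidHom.id Fˣ / s
  have hs : ∀ a : Fˣ, ((s a : Fˣ) : F) = σ a := fun a => rfl
  have hN : ∀ a : Fˣ, N a = a * s a := fun a => rfl
  have hM : ∀ a : Fˣ, M a = a / s a := fun a => rfl
  have e1 : M.range = N.ker := by
    ext b
    constructor
    · rintro ⟨a, rfl⟩
      rw [MonoidHom.mem_ker, hM, hN, map_div]
      have : s (s a) = a := Units.ext (by rw [hs, hs, h2])
      rw [this, div_mul_div_cancel, div_self']
    · intro hb
      rw [MonoidHom.mem_ker, hN] at hb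
      have hb' : (b : F) * σ b = 1 := by
        have := congrArg (fun u : Fˣ => (u : F)) hb
        simpa [hs] using this
      obtain ⟨c, hc0, hc⟩ := exists_div σ h2 h1 hb'
      refine ⟨Units.mk0 c hc0, ?_⟩
      rw [hM]
      apply Units.ext
      rw [Units.val_div_eq_div_val, hs, Units.val_mk0]
      rw [div_eq_iff]
      · exact hc
      · exact (map_ne_zero σ).2 hc0
  have e2 : N.range ≤ M.ker := by
    rintro b ⟨a, rfl⟩
    rw [MonoidHom.mem_ker, hM, hN, map_mul]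
    have : s (s a) = a := Units.ext (by rw [hs, hs, h2])
    rw [this, mul_comm (s a) a, div_self']
  have c1 := Subgroup.card_mul_index N.ker
  have c2 := Subgroup.card_mul_index M.ker
  rw [Subgroup.index_ker] at c1 c2
  rw [e1] at c2
  have hpos : 0 < Nat.card N.ker := Nat.card_pos
  have c3 : Nat.card M.ker = Nat.card N.range := by
    apply Nat.eq_of_mul_eq_mul_right hpos
    rw [c2, ← c1, mul_comm]
  have e3 : N.range = M.ker := Subgroup.eq_of_le_of_card_ge e2 c3.le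
  have hmem : Units.mk0 μ h0 ∈ M.ker := by
    rw [MonoidHom.mem_ker, hM]
    apply Units.ext
    rw [Units.val_div_eq_div_val, hs, Units.val_mk0, hμ, div_self h0, Units.val_one]
  rw [← e3] at hmem
  obtain ⟨a, ha⟩ := hmem
  refine ⟨a, a.ne_zero, ?_⟩
  rw [hN] at ha
  have := congrArg (fun u : Fˣ => (u : F)) ha
  simpa [hs] using this

/-- Two vectors span a line. -/
theorem exists_sq_sub [Finite F] {μ : F} (h2 : (2 : F) ≠ 0) (hμ : μ ≠ 0) (c : F) :
    ∃ a b : F, a * a - μ * (b * b) = c := by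
  classical
  have := Fintype.ofFinite F
  obtain ⟨a, b, hab⟩ := FiniteField.exists_root_sum_quadratic (R := F)
    (f := Polynomial.X ^ 2) (g := Polynomial.C (-μ) * Polynomial.X ^ 2 - Polynomial.C c)
    (by simp) (by
      have : Polynomial.C (-μ) * Polynomial.X ^ 2 - Polynomial.C c =
        Polynomial.C (-μ) * Polynomial.X ^ 2 + Polynomial.C 0 * Polynomial.X + Polynomial.C (-c) := by
        simp [sub_eq_add_neg]
      rw [this]
      exact Polynomial.degree_quadratic (neg_ne_zero.2 hμ)) (by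
      have h2' : ringChar F ≠ 2 := by
        intro h
        apply h2
        have := ringChar.Nat.cast_ringChar (R := F)
        rw [h] at this
        exact_mod_cast this
      exact FiniteField.odd_card_of_char_ne_two h2')
  refine ⟨a, b, ?_⟩
  simp at hab
  linear_combination hab

end Norm

variable {F : Type*} [Field F] {m : ℕ}

local notation "V" => (Fin m ⊕ Fin m → F)
local notation "G" => Matrix.symplecticGroup (Fin m) F
local notation "f" => sympForm m F

section Fix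

variable (p : ℕ) [Fact p.Prime] [CharP F p]

include p in
theorem conjHom_eq_of_fix (hm : 1 ≤ m) (g : semiSim m F) {A : G} (hA : A ^ p = 1)
    (h : Psi m F g (pr A) = pr A) : conjHom m F g A = A := by
  apply eq_of_pr_eq p hm
  · rw [← map_pow, hA, map_one]
  · exact hA
  · exact h

theorem comm_of_conjHom (g : semiSim m F) {A : G} (h : conjHom m F g A = A) (v : V) :
    g.1 (rho m F A v) = rho m F A (g.1 v) := by
  have h1 := rho_conjHom g A
  rw [h] at h1
  have h2 := congrArg (fun e : Equiv.Perm V => (e * g.1) v) h1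
  simp only [Equiv.Perm.mul_apply, perm_inv_apply_self] at h2
  exact h2.symm

include p in
/-- Elements of `D` commute with `v ↦ c f(x,v) v + σ(c) l⁻¹ f(x,Tv) Tv` if `f(v,Tv) = 0`. -/
theorem key (hm : 1 ≤ m) (T g : semiSim m F) {σ : F ≃+* F} {l : F} (hl : l ≠ 0)
    (hT : IsSemi T.1 σ l) (hTT : Psi m F T * Psi m F T = 1)
    (hga : ∀ u v : V, g.1 (u + v) = g.1 u + g.1 v)
    (hfix : ∀ k : PSp m F, Psi m F T k = k → k ^ p = 1 → Psi m F g k = k) {v : V}
    (hv : f v (T.1 v) = 0) (c : F) (x : V) :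
    g.1 ((c * f x v) • v + (σ c * l⁻¹ * f x (T.1 v)) • T.1 v) =
      (c * f (g.1 x) v) • v + (σ c * l⁻¹ * f (g.1 x) (T.1 v)) • T.1 v := by
  set A : G := transv v c with hAdef
  set B : G := transv (T.1 v) (σ c * l⁻¹) with hBdef
  have hTA : conjHom m F T A = B := conjHom_transv T hl hT v c
  have hTB : conjHom m F T B = A := by
    have h1 : conjHom m F (T * T) A = A := by
      apply conjHom_eq_of_fix p hm _ (transv_pow_char p v c)
      rw [map_mul, hTT]
      rfl
    rw [map_mul, MulAut.mul_apply, hTA] at h1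
    exact h1
  have hv' : f (T.1 v) v = 0 := by rw [sympForm_swap, hv, neg_zero]
  have hAx : ∀ x, rho m F A x = x + (c * f x v) • v := fun x => rho_transv v x c
  have hBx : ∀ x, rho m F B x = x + (σ c * l⁻¹ * f x (T.1 v)) • T.1 v :=
    fun x => rho_transv (T.1 v) x _
  have hABx : ∀ x, rho m F (A * B) x =
      x + ((c * f x v) • v + (σ c * l⁻¹ * f x (T.1 v)) • T.1 v) := by
    intro x
    rw [map_mul, Equiv.Perm.mul_apply, hAx, hBx, sympForm_add_left, sympForm_smul_left, hv',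
      mul_zero, add_zero]
    abel
  have hBAx : ∀ x, rho m F (B * A) x =
      x + ((c * f x v) • v + (σ c * l⁻¹ * f x (T.1 v)) • T.1 v) := by
    intro x
    rw [map_mul, Equiv.Perm.mul_apply, hBx, hAx, sympForm_add_left, sympForm_smul_left, hv,
      mul_zero, add_zero]
    abel
  have hcomm : A * B = B * A := by
    apply rho_injective
    ext1 x
    rw [hABx, hBAx]
  have hP : (A * B) ^ p = 1 := by
    rw [(show Commute A B from hcomm).mul_pow, transv_pow_char p, transv_pow_char p, one_mul]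
  have hTP : conjHom m F T (A * B) = A * B := by
    rw [map_mul, hTA, hTB, hcomm]
  have hgP : conjHom m F g (A * B) = A * B := by
    apply conjHom_eq_of_fix p hm _ hP
    apply hfix
    · change pr (conjHom m F T (A * B)) = _
      rw [hTP]
    · rw [← pr_pow, hP, pr_one]
  have h1 := comm_of_conjHom g hgP x
  rw [hABx, hABx, hga] at h1
  exact add_left_cancel h1

end Fix

/-- Two vectors which are not proportional can be separated by the form. -/
theorem exists_sep {v w : V} (hw : w ≠ 0) (h : ∀ a : F, v ≠ a • w) : ∃ x, f x v = 1 ∧ f x w = 0 := by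
  by_contra hcon
  push Not at hcon
  have h1 : ∀ x, f x w = 0 → f x v = 0 := by
    intro x hx
    by_contra hne
    apply hcon ((f x v)⁻¹ • x)
    · rw [sympForm_smul_left, inv_mul_cancel₀ hne]
    · rw [sympForm_smul_left, hx, mul_zero]
  obtain ⟨y, hy⟩ := exists_form_eq_one hw
  have hy' : f y w = -1 := by rw [sympForm_swap, hy]
  apply h (-(f y v))
  apply eq_of_forall_sympForm_left
  intro x
  have h2 := h1 (x + f x w • y) (by
    rw [sympForm_add_left, sympForm_smul_left, hy']; ring)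
  rw [sympForm_add_left, sympForm_smul_left] at h2
  rw [sympForm_smul_right]
  linear_combination h2

end Cfsg.Agent.UGT.U2.FOne.PSpKey
end

-- part: UGT/U2/FOne/PSpLin
section
/-!
(f1) of UGT NodeU2 for `PSp_2m(q)`, `q` odd, part 2: the linear algebra, `T` linear.
-/

set_option autoImplicit false
open Cfsg
open scoped Matrix

namespace Cfsg.Agent.UGT.U2.FOne.PSpLin

open Cfsg.Agent.ClassicalGeometry.SympBasic Cfsg.Agent.ClassicalGeometry.SympAutSemi
open Cfsg.Agent.ClassicalGeometry.SympSiegel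
open Cfsg.Agent.ClassicalGeometry.SympAutExists Cfsg.Agent.ClassicalGeometry.SympGamma
open Cfsg.Agent.UGT.U2.FOne.PSpKey

variable {F : Type*} [Field F] {m : ℕ}

local notation "V" => (Fin m ⊕ Fin m → F)
local notation "G" => Matrix.symplecticGroup (Fin m) F
local notation "f" => sympForm m F

/-- Two linear conditions have a nonzero solution. -/
theorem exists_perp_pair (hm : 2 ≤ m) (e w : V) : ∃ x : V, x ≠ 0 ∧ f x e = 0 ∧ f x w = 0 := by
  by_contra hcon
  push Not at hcon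
  let L : V →ₗ[F] F × F := LinearMap.prod ((sympBilin m F).flip e) ((sympBilin m F).flip w)
  have hL : Function.Injective L := by
    rw [injective_iff_map_eq_zero]
    intro x hx
    by_contra hne
    have h1 : f x e = 0 := congrArg Prod.fst hx
    have h2 : f x w = 0 := congrArg Prod.snd hx
    exact hcon x hne h1 h2
  have h3 := LinearMap.finrank_le_finrank_of_injective hL
  rw [Module.finrank_prod, Module.finrank_self, Module.finrank_fintype_fun_eq_card,
    Fintype.card_sum, Fintype.card_fin] at h3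
  omega

/-- A linear map all whose restrictions to lines of a subspace are scalar is scalar on it. -/
theorem exists_const {g : V → V} (ga : ∀ u v, g (u + v) = g u + g v)
    (gs : ∀ (a : F) v, g (a • v) = a • g v) {P : V → Prop} (Pa : ∀ u v, P u → P v → P (u + v))
    (hP : ∀ v, P v → ∃ a : F, g v = a • v) : ∃ a : F, ∀ v, P v → g v = a • v := by
  by_cases h0 : ∃ v0, P v0 ∧ v0 ≠ 0
  swap
  · push Not at h0
    refine ⟨1, fun v hv => ?_⟩
    have := gs 0 v
    rw [zero_smul, zero_smul] at this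
    rw [h0 v hv, this, smul_zero]
  obtain ⟨v0, hv0, hne⟩ := h0
  obtain ⟨a, ha⟩ := hP v0 hv0
  refine ⟨a, fun v hv => ?_⟩
  by_cases hp : ∃ c : F, v = c • v0
  · obtain ⟨c, rfl⟩ := hp
    rw [gs, ha, smul_comm]
  · obtain ⟨b, hb⟩ := hP v hv
    obtain ⟨c, hc⟩ := hP _ (Pa v v0 hv hv0)
    rw [ga, ha, hb, smul_add] at hc
    have h1 : (b - c) • v = (c - a) • v0 := by
      rw [sub_smul, sub_smul, sub_eq_sub_iff_add_eq_add, hc, add_comm]
    have h2 : b = c := by
      by_contra hbc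
      apply hp
      have hbc' : b - c ≠ 0 := sub_ne_zero.2 hbc
      refine ⟨(b - c)⁻¹ * (c - a), ?_⟩
      rw [mul_smul, ← h1, smul_smul, inv_mul_cancel₀ hbc', one_smul]
    rw [h2, sub_self, zero_smul, eq_comm, smul_eq_zero, or_iff_left hne, sub_eq_zero] at h1
    rw [hb, h2, h1]

/-- `T` linear with `T² = μ`, `f(Tu,Tv) = l f(u,v)`; `g` a semisimilitude satisfying the key identity. -/
structure Pre (T g : V → V) (l μ k : F) (φ : F ≃+* F) : Prop where
  two : (2 : F) ≠ 0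
  Ta : ∀ u v, T (u + v) = T u + T v
  Ts : ∀ (a : F) v, T (a • v) = a • T v
  Tf : ∀ u v, f (T u) (T v) = l * f u v
  TT : ∀ v, T (T v) = μ • v
  l0 : l ≠ 0
  μ0 : μ ≠ 0
  ga : ∀ u v, g (u + v) = g u + g v
  gs : ∀ (a : F) v, g (a • v) = φ a • g v
  gf : ∀ u v, f (g u) (g v) = k * φ (f u v)
  k0 : k ≠ 0
  key : ∀ v, f v (T v) = 0 → ∀ c x, g ((c * f x v) • v + (c * l⁻¹ * f x (T v)) • T v) =
    (c * f (g x) v) • v + (c * l⁻¹ * f (g x) (T v)) • T v

namespace Pre

variable {T g : (Fin m ⊕ Fin m → F) → (Fin m ⊕ Fin m → F)} {l μ k : F} {φ : F ≃+* F}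

theorem T_zero (H : Pre T g l μ k φ) : T 0 = 0 := by
  have := H.Ts 0 0
  simpa using this

theorem g_zero (H : Pre T g l μ k φ) : g 0 = 0 := by
  have := H.gs 0 0
  simpa using this

theorem g_inj (H : Pre T g l μ k φ) {v : V} (h : g v = 0) : v = 0 := by
  apply eq_zero_of_forall_sympForm_right
  intro u
  have h1 := H.gf v u
  rw [h, sympForm_zero_left] at h1
  rcases mul_eq_zero.1 h1.symm with h2 | h2
  · exact absurd h2 H.k0
  · exact (map_eq_zero φ).1 h2

theorem T_inj (H : Pre T g l μ k φ) {v : V} (h : T v = 0) : v = 0 := by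
  have h1 := H.TT v
  rw [h, H.T_zero] at h1
  rcases smul_eq_zero.1 h1.symm with h2 | h2
  · exact absurd h2 H.μ0
  · exact h2

theorem dich (H : Pre T g l μ k φ) (hm : 1 ≤ m) : l = μ ∨ l = -μ := by
  obtain ⟨e, e', hee⟩ := exists_hyperbolic (F := F) hm
  have h1 := H.Tf (T e) (T e')
  rw [H.TT, H.TT, H.Tf, sympForm_smul_left, sympForm_smul_right, hee, mul_one, mul_one] at h1
  exact mul_self_eq_mul_self_iff.1 h1.symm

/-- `φ = 1` as soon as some element of the key identity is nontrivial. -/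
theorem phi_eq (H : Pre T g l μ k φ) {v x : V} (hv : f v (T v) = 0)
    (hB : (f x v) • v + (l⁻¹ * f x (T v)) • T v ≠ 0) (c : F) : φ c = c := by
  have h1 := H.key v hv c x
  have h2 := H.key v hv 1 x
  simp only [one_mul] at h2
  have h3 : (c * f x v) • v + (c * l⁻¹ * f x (T v)) • T v =
      c • ((f x v) • v + (l⁻¹ * f x (T v)) • T v) := by
    rw [smul_add, smul_smul, smul_smul, mul_assoc]
  have h4 : (c * f (g x) v) • v + (c * l⁻¹ * f (g x) (T v)) • T v =
      c • ((f (g x) v) • v + (l⁻¹ * f (g x) (T v)) • T v) := by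
    rw [smul_add, smul_smul, smul_smul, mul_assoc]
  rw [h3, h4, H.gs, ← h2] at h1
  have h5 : g ((f x v) • v + (l⁻¹ * f x (T v)) • T v) ≠ 0 := fun h => hB (H.g_inj h)
  have h6 : (φ c - c) • g ((f x v) • v + (l⁻¹ * f x (T v)) • T v) = 0 := by
    rw [sub_smul, h1, sub_self]
  rcases smul_eq_zero.1 h6 with h7 | h7
  · exact sub_eq_zero.1 h7
  · exact absurd h7 h5

/-! ### `T` self-adjoint -/

theorem sa (H : Pre T g l μ k φ) (hl : l = μ) (v : V) : f v (T v) = 0 := by
  have h1 := H.Tf v (T v)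
  rw [H.TT, sympForm_smul_right, sympForm_swap, hl] at h1
  have h2 : 2 * μ * f v (T v) = 0 := by linear_combination -h1
  rcases mul_eq_zero.1 h2 with h3 | h3
  · exact absurd h3 (mul_ne_zero H.two H.μ0)
  · exact h3

theorem sa_phi (H : Pre T g l μ k φ) (hm : 1 ≤ m) (hl : l = μ) (c : F) : φ c = c := by
  obtain ⟨e, e', hee⟩ := exists_hyperbolic (F := F) hm
  have he' : e' ≠ 0 := ne_zero_of_form_right (by rw [hee]; exact one_ne_zero)
  apply H.phi_eq (v := e') (x := e) (H.sa hl e')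
  intro h0
  rw [hee, one_smul] at h0
  by_cases h : ∃ a : F, T e' = a • e'
  · obtain ⟨a, ha⟩ := h
    have h1 := H.TT e'
    rw [ha, H.Ts, ha, smul_smul] at h1
    have h2 : a * a = μ := smul_right_cancel_vec he' h1
    rw [ha, sympForm_smul_right, hee, smul_smul, hl, ← h2] at h0
    have ha0 : a ≠ 0 := by
      rintro rfl
      apply H.μ0
      rw [← h2, zero_mul]
    have h3 : (a * a)⁻¹ * (a * 1) * a = 1 := by field_simp
    rw [h3, one_smul, ← two_smul F] at h0
    rcases smul_eq_zero.1 h0 with h4 | h4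
    · exact H.two h4
    · exact he' h4
  · apply h
    by_cases h1 : l⁻¹ * f e (T e') = 0
    · rw [h1, zero_smul, add_zero] at h0
      exact absurd h0 he'
    · refine ⟨-(l⁻¹ * f e (T e'))⁻¹, ?_⟩
      have h2 : (l⁻¹ * f e (T e')) • T e' = -e' := by
        rw [eq_neg_iff_add_eq_zero, add_comm]
        exact h0
      rw [neg_smul, ← smul_neg, ← h2, smul_smul, inv_mul_cancel₀ h1, one_smul]

/-- `T` self-adjoint: `g² = k`. -/
theorem sa_sq (H : Pre T g l μ k φ) (hl : l = μ) (hφ : ∀ c, φ c = c)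
    (hgT : ∀ v, g (T v) = T (g v)) (v : V) : g (g v) = k • v := by
  have gs' : ∀ (a : F) v, g (a • v) = a • g v := fun a v => by rw [H.gs, hφ]
  by_cases hv : v = 0
  · rw [hv, H.g_zero, H.g_zero, smul_zero]
  by_cases h : ∃ a : F, T v = a • v
  · obtain ⟨a, ha⟩ := h
    have h1 := H.TT v
    rw [ha, H.Ts, ha, smul_smul] at h1
    have h2 : a * a = μ := smul_right_cancel_vec hv h1
    have ha0 : a ≠ 0 := by
      rintro rfl
      apply H.μ0
      rw [← h2, zero_mul]
    obtain ⟨y, hy⟩ := exists_form_eq_one hv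
    have hx : f (-y) v = 1 := by rw [sympForm_neg_left, sympForm_swap, hy, neg_neg]
    generalize -y = x at hx
    have h3 := H.key v (H.sa hl v) 1 x
    rw [ha, sympForm_smul_right, sympForm_smul_right, hx, hl, ← h2, smul_smul, smul_smul,
      ← add_smul, ← add_smul, gs'] at h3
    have e1 : (1 * 1 + 1 * (a * a)⁻¹ * (a * 1) * a : F) = 2 := by
      field_simp
      norm_num
    have e2 : 1 * f (g x) v + 1 * (a * a)⁻¹ * (a * f (g x) v) * a = 2 * f (g x) v := by
      field_simp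
      ring
    rw [e1, e2, mul_smul] at h3
    have h4 : g v = f (g x) v • v := by
      have := congrArg (fun w => (2 : F)⁻¹ • w) h3
      simpa only [smul_smul, inv_mul_cancel₀ H.two, one_smul, ← mul_assoc, one_mul] using this
    have h5 := H.gf x v
    rw [h4, hx, map_one, mul_one, sympForm_smul_right] at h5
    rw [h4, gs', h4, smul_smul, h5]
  · have hTv : T v ≠ 0 := fun h0 => hv (H.T_inj h0)
    have h' : ∀ a : F, v ≠ a • T v := by
      intro a ha
      have ha0 : a ≠ 0 := by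
        rintro rfl
        rw [zero_smul] at ha
        exact hv ha
      exact h ⟨a⁻¹, by
        conv_rhs => rw [ha]
        rw [smul_smul, inv_mul_cancel₀ ha0, one_smul]⟩
    obtain ⟨x, hx, hx'⟩ := exists_sep hTv h'
    have h3 := H.key v (H.sa hl v) 1 x
    rw [hx, hx', mul_zero, zero_smul, add_zero, mul_one, one_smul] at h3
    rw [one_mul, one_mul] at h3
    set α := f (g x) v with hα
    set β := l⁻¹ * f (g x) (T v) with hβ
    have hβ' : f (g x) (T v) = μ * β := by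
      rw [hβ, hl, mul_inv_cancel_left₀ H.μ0]
    have h4 := H.gf x v
    rw [hx, map_one, mul_one, h3, sympForm_add_right, sympForm_smul_right, sympForm_smul_right,
      ← hα, hβ'] at h4
    have h5 := H.gf x (T v)
    rw [hx', map_zero, mul_zero, hgT, h3, H.Ta, H.Ts, H.Ts, H.TT, sympForm_add_right,
      sympForm_smul_right, sympForm_smul_right, sympForm_smul_right, ← hα, hβ'] at h5
    have h6 : α * β = 0 := by
      have h7 : 2 * μ * (α * β) = 0 := by linear_combination h5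
      rcases mul_eq_zero.1 h7 with h8 | h8
      · exact absurd h8 (mul_ne_zero H.two H.μ0)
      · exact h8
    conv_lhs => rw [h3]
    rw [H.ga, gs', gs', hgT, h3, H.Ta, H.Ts, H.Ts, H.TT, smul_add, smul_add, smul_smul, smul_smul,
      smul_smul, smul_smul, smul_smul, h6, mul_comm β α, h6, zero_smul, add_zero, zero_add,
      ← add_smul]
    congr 1
    linear_combination h4

/-! ### `T` skew -/

theorem sym (H : Pre T g l μ k φ) (hl : l = -μ) (u v : V) : f u (T v) = f v (T u) := by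
  have h1 := H.Tf u (T v)
  rw [H.TT, sympForm_smul_right, sympForm_swap, hl] at h1
  have h2 : μ * (f u (T v) - f v (T u)) = 0 := by linear_combination h1
  rcases mul_eq_zero.1 h2 with h3 | h3
  · exact absurd h3 H.μ0
  · exact sub_eq_zero.1 h3

theorem sym_phi (H : Pre T g l μ k φ) {v : V} (hv : f v (T v) = 0)
    (hi : ∀ a : F, T v ≠ a • v) (hv0 : v ≠ 0) (c : F) : φ c = c := by
  obtain ⟨y, hy⟩ := exists_form_eq_one hv0
  have hy' : f y v = -1 := by rw [sympForm_swap, hy]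
  apply H.phi_eq (v := v) (x := y) hv
  intro h0
  rw [hy'] at h0
  by_cases h1 : l⁻¹ * f y (T v) = 0
  · rw [h1, zero_smul, add_zero, smul_eq_zero] at h0
    rcases h0 with h0 | h0
    · exact neg_ne_zero.2 one_ne_zero h0
    · exact hv0 h0
  · apply hi ((l⁻¹ * f y (T v))⁻¹)
    have h2 : v = (l⁻¹ * f y (T v)) • T v := by
      rw [neg_one_smul, neg_add_eq_zero] at h0
      exact h0
    generalize l⁻¹ * f y (T v) = b at h1 h2
    have h3 := congrArg (fun z => b⁻¹ • z) h2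
    simp only [smul_smul, inv_mul_cancel₀ h1, one_smul] at h3
    exact h3.symm

/-- Singular vectors are moved inside `⟨v, Tv⟩`. -/
theorem sym_span (H : Pre T g l μ k φ) {v : V} (hv : f v (T v) = 0)
    (hi : ∀ a : F, T v ≠ a • v) (hv0 : v ≠ 0) : ∃ a b : F, g v = a • v + b • T v := by
  have hTv : T v ≠ 0 := fun h0 => hv0 (H.T_inj h0)
  have h' : ∀ a : F, v ≠ a • T v := by
    intro a ha
    have ha0 : a ≠ 0 := by
      rintro rfl
      rw [zero_smul] at ha
      exact hv0 ha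
    exact hi a⁻¹ (by
      conv_rhs => rw [ha]
      rw [smul_smul, inv_mul_cancel₀ ha0, one_smul])
  obtain ⟨x, hx, hx'⟩ := exists_sep hTv h'
  have h3 := H.key v hv 1 x
  rw [hx, hx', mul_zero, zero_smul, add_zero, mul_one, one_smul] at h3
  exact ⟨_, _, h3⟩

/-- `f(z,Tz)` for `z = u + w`. -/
theorem q_add (H : Pre T g l μ k φ) (hl : l = -μ) (u w : V) :
    f (u + w) (T (u + w)) = f u (T u) + f w (T w) + 2 * f u (T w) := by
  rw [H.Ta, sympForm_add_left, sympForm_add_right, sympForm_add_right, H.sym hl w u]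
  ring

/-- `f(z,Tz)` for `z = a w + b Tw`. -/
theorem q_mul (H : Pre T g l μ k φ) (hl : l = -μ) (a b : F) (w : V) :
    f (a • w + b • T w) (T (a • w + b • T w)) = (a * a - μ * (b * b)) * f w (T w) := by
  have h1 : f (T w) (T (T w)) = - μ * f w (T w) := by rw [H.Tf, hl]
  rw [H.q_add hl, H.Ts, H.Ts, H.TT, sympForm_smul_left, sympForm_smul_right, sympForm_smul_left,
    sympForm_smul_right, sympForm_smul_right, sympForm_smul_left, sympForm_smul_right,
    sympForm_smul_right, sympForm_self, sympForm_swap (T w) w]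
  ring

/-- The case of two eigenspaces. -/
theorem split (H : Pre T g l μ k φ) (hm : 2 ≤ m) (hl : l = -μ) {a : F} (ha : a * a = μ) {e : V}
    (he : T e = a • e) (he0 : e ≠ 0) : ∃ w : V, w ≠ 0 ∧ T w = -(a • w) ∧ f e w = 0 := by
  have ha0 : a ≠ 0 := by
    rintro rfl
    apply H.μ0
    rw [← ha, zero_mul]
  by_contra hcon
  push Not at hcon
  have hcon' : ∀ w : V, T w = -(a • w) → f e w = 0 → w = 0 := by
    intro w h1 h2
    by_contra h3
    exact hcon w h3 h1 h2
  -- isotropy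
  have hiso : ∀ b : F, b * b = μ → ∀ u v, T u = b • u → T v = b • v → f u v = 0 := by
    intro b hb u v hu hv
    have hb0 : b ≠ 0 := by
      rintro rfl
      apply H.μ0
      rw [← hb, zero_mul]
    have h1 := H.sym hl u v
    rw [hu, hv, sympForm_smul_right, sympForm_smul_right, sympForm_swap v u] at h1
    have h2 : 2 * b * f u v = 0 := by linear_combination h1
    rcases mul_eq_zero.1 h2 with h3 | h3
    · exact absurd h3 (mul_ne_zero H.two hb0)
    · exact h3
  -- decomposition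
  have hp : ∀ y : V, T (y + a⁻¹ • T y) = a • (y + a⁻¹ • T y) := by
    intro y
    rw [H.Ta, H.Ts, H.TT, smul_add, smul_smul, smul_smul, mul_inv_cancel₀ ha0, one_smul, ← ha,
      inv_mul_cancel_left₀ ha0, add_comm]
  have hn : ∀ y : V, T (y + -(a⁻¹ • T y)) = -(a • (y + -(a⁻¹ • T y))) := by
    intro y
    have h1 : y + -(a⁻¹ • T y) = y + (-a⁻¹) • T y := by rw [neg_smul]
    rw [h1, H.Ta, H.Ts, H.TT, smul_add, smul_smul, smul_smul, ← ha]
    have e1 : -a⁻¹ * (a * a) = -a := by field_simp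
    have e2 : a * -a⁻¹ = -1 := by field_simp
    rw [e1, e2, neg_smul, neg_smul, one_smul, neg_add, neg_neg, add_comm]
  have hdec : ∀ y : V, (2 : F) • y = (y + a⁻¹ • T y) + (y + -(a⁻¹ • T y)) := by
    intro y
    rw [two_smul]
    abel
  obtain ⟨y, hy⟩ := exists_form_eq_one he0
  obtain ⟨w, hw⟩ : ∃ w : V, w = y + -(a⁻¹ • T y) := ⟨_, rfl⟩
  have hTw : T w = -(a • w) := by rw [hw]; exact hn y
  have hew : f e w = 2 := by
    have h1 := H.sym hl e y
    rw [he, sympForm_smul_right, sympForm_swap y e, hy] at h1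
    rw [hw, sympForm_add_right, sympForm_neg_right, sympForm_smul_right, h1, hy]
    field_simp
    norm_num
  have hw0 : w ≠ 0 := by
    intro h0
    rw [h0, sympForm_zero_right] at hew
    exact H.two hew.symm
  -- the negative space is one-dimensional
  have s2 : ∀ u, T u = -(a • u) → (2 : F) • u = f e u • w := by
    intro u hu
    have h1 := hcon' ((2 : F) • u + -(f e u • w)) (by
      rw [← neg_smul, H.Ta, H.Ts, H.Ts, hu, hTw, smul_add, neg_add, smul_neg, smul_neg, smul_comm,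
        smul_comm (-f e u) a]) (by
      rw [sympForm_add_right, sympForm_neg_right, sympForm_smul_right, sympForm_smul_right, hew]
      ring)
    rwa [add_neg_eq_zero] at h1
  -- the positive space
  have s3 : ∀ u, T u = a • u → (2 : F) • u = -(f w u) • e := by
    intro u hu
    have h1 : (2 : F) • u + f w u • e = 0 := by
      apply eq_zero_of_forall_sympForm_left
      intro z
      have e1 : f (z + a⁻¹ • T z) ((2 : F) • u + f w u • e) = 0 := by
        apply hiso a ha _ _ (hp z)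
        rw [H.Ta, H.Ts, H.Ts, hu, he, smul_add, smul_comm, smul_comm (f w u) a]
      have e2 : f w ((2 : F) • u + f w u • e) = 0 := by
        rw [sympForm_add_right, sympForm_smul_right, sympForm_smul_right, sympForm_swap w e, hew]
        ring
      have e3 : f ((2 : F) • (z + -(a⁻¹ • T z))) ((2 : F) • u + f w u • e) = 0 := by
        rw [s2 _ (hn z), sympForm_smul_left, e2, mul_zero]
      have e4 : f ((2 : F) • ((2 : F) • z)) ((2 : F) • u + f w u • e) = 0 := by
        rw [hdec z, smul_add, sympForm_add_left, e3, sympForm_smul_left, e1, mul_zero, add_zero]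
      rw [sympForm_smul_left, sympForm_smul_left, mul_eq_zero, mul_eq_zero, or_iff_right H.two,
        or_iff_right H.two] at e4
      exact e4
    rw [neg_smul, eq_neg_iff_add_eq_zero, h1]
  -- contradiction
  obtain ⟨x, hx0, hxe, hxw⟩ := exists_perp_pair hm e w
  have h1 : (2 : F) • ((2 : F) • x) = 0 := by
    rw [hdec x, smul_add, s2 _ (hn x), s3 _ (hp x)]
    have e1 : f e (x + -(a⁻¹ • T x)) = 0 := by
      have h2 := H.sym hl e x
      rw [he, sympForm_smul_right, sympForm_swap x e] at h2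
      have h3 : f e x = 0 := by rw [sympForm_swap, hxe, neg_zero]
      rw [sympForm_add_right, sympForm_neg_right, sympForm_smul_right, h2, h3]
      ring
    have e2 : f w (x + a⁻¹ • T x) = 0 := by
      have h2 := H.sym hl w x
      rw [hTw, sympForm_neg_right, sympForm_smul_right, hxw] at h2
      have h3 : f w x = 0 := by rw [sympForm_swap, hxw, neg_zero]
      rw [sympForm_add_right, sympForm_smul_right, h2, h3]
      ring
    rw [e1, e2, neg_zero, zero_smul, zero_smul, add_zero]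
  rw [smul_eq_zero, smul_eq_zero, or_iff_right H.two, or_iff_right H.two] at h1
  exact hx0 h1

end Pre

end Cfsg.Agent.UGT.U2.FOne.PSpLin
end

-- part: UGT/U2/FOne/PSpJ
section
/-!
(f1) of UGT NodeU2 for `PSp_2m(q)`, `q` odd, part 5: the subgroup `J = Sp(H)`, `H` a hyperbolic plane.
-/

set_option autoImplicit false
open Cfsg
open scoped Matrix

namespace Cfsg.Agent.UGT.U2.FOne.PSpJ

open Cfsg.Agent.ClassicalGeometry.SympBasic Cfsg.Agent.ClassicalGeometry.SympAutSemi
open Cfsg.Agent.ClassicalGeometry.SympSiegel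
open Cfsg.Agent.ClassicalGeometry.SympAutExists Cfsg.Agent.ClassicalGeometry.SympGamma
open Cfsg.Agent.UGT.U2.FOne.PSpKey Cfsg.Agent.UGT.U2.FOne.PSpLin

variable {F : Type*} [Field F] {m : ℕ}

local notation "V" => (Fin m ⊕ Fin m → F)
local notation "G" => Matrix.symplecticGroup (Fin m) F
local notation "f" => sympForm m F
local notation "SL" => Matrix.SpecialLinearGroup (Fin 2) F

/-- The action of a 2 × 2 matrix on the plane `⟨u, w⟩`. -/
def act (u w : V) (M : Matrix (Fin 2) (Fin 2) F) (v : V) : V :=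
  v + ((M 0 0 - 1) * f v w + M 0 1 * f u v) • u + (M 1 0 * f v w + (M 1 1 - 1) * f u v) • w

variable {u w : Fin m ⊕ Fin m → F}

theorem act_def (M : Matrix (Fin 2) (Fin 2) F) (v : V) : act u w M v =
  v + ((M 0 0 - 1) * f v w + M 0 1 * f u v) • u + (M 1 0 * f v w + (M 1 1 - 1) * f u v) • w := rfl

theorem act_w (h : f u w = 1) (M : Matrix (Fin 2) (Fin 2) F) (v : V) :
    f (act u w M v) w = M 0 0 * f v w + M 0 1 * f u v := by
  rw [act_def, sympForm_add_left, sympForm_add_left, sympForm_smul_left, sympForm_smul_left, h,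
    sympForm_self]
  ring

theorem act_u (h : f u w = 1) (M : Matrix (Fin 2) (Fin 2) F) (v : V) :
    f u (act u w M v) = M 1 0 * f v w + M 1 1 * f u v := by
  rw [act_def, sympForm_add_right, sympForm_add_right, sympForm_smul_right, sympForm_smul_right, h,
    sympForm_self]
  ring

theorem act_one (v : V) : act u w (1 : Matrix (Fin 2) (Fin 2) F) v = v := by
  rw [act_def]
  simp

theorem act_mul (h : f u w = 1) (M N : Matrix (Fin 2) (Fin 2) F) (v : V) :
    act u w (M * N) v = act u w M (act u w N v) := by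
  rw [act_def M, act_w h, act_u h, act_def (M * N), act_def N]
  simp only [Matrix.mul_apply, Fin.sum_univ_two]
  module

theorem act_form (h : f u w = 1) {M : Matrix (Fin 2) (Fin 2) F} (hM : M.det = 1) (v v' : V) :
    f (act u w M v) (act u w M v') = f v v' := by
  have h' : f w u = -1 := by rw [sympForm_swap, h]
  have e1 : ∀ y : V, f y u = -f u y := fun y => sympForm_swap y u
  have e2 : ∀ y : V, f w y = -f y w := fun y => sympForm_swap w y
  rw [Matrix.det_fin_two] at hM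
  rw [act_def, act_def]
  simp only [sympForm_add_left, sympForm_add_right, sympForm_smul_left, sympForm_smul_right,
    sympForm_self, h, h']
  rw [e1 v, e2 v']
  linear_combination (f v w * f u v' - f u v * f v' w) * hM

theorem act_add (M : Matrix (Fin 2) (Fin 2) F) (v v' : V) :
    act u w M (v + v') = act u w M v + act u w M v' := by
  rw [act_def, act_def, act_def]
  simp only [sympForm_add_left, sympForm_add_right]
  module

theorem act_smul (M : Matrix (Fin 2) (Fin 2) F) (a : F) (v : V) :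
    act u w M (a • v) = a • act u w M v := by
  rw [act_def, act_def]
  simp only [sympForm_smul_left, sympForm_smul_right]
  module

/-- The action as a homomorphism to permutations. -/
def actHom (h : f u w = 1) : SL →* Equiv.Perm V where
  toFun M :=
    { toFun := act u w M.1
      invFun := act u w (M⁻¹).1
      left_inv := fun v => by
        rw [← act_mul h, ← Matrix.SpecialLinearGroup.coe_mul, inv_mul_cancel,
          Matrix.SpecialLinearGroup.coe_one, act_one]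
      right_inv := fun v => by
        rw [← act_mul h, ← Matrix.SpecialLinearGroup.coe_mul, mul_inv_cancel,
          Matrix.SpecialLinearGroup.coe_one, act_one] }
  map_one' := by
    ext1 v
    change act u w ((1 : SL).1) v = v
    rw [Matrix.SpecialLinearGroup.coe_one, act_one]
  map_mul' M N := by
    ext1 v
    change act u w ((M * N : SL).1) v = act u w M.1 (act u w N.1 v)
    rw [Matrix.SpecialLinearGroup.coe_mul, act_mul h]

theorem actHom_mem (h : f u w = 1) (M : SL) : actHom h M ∈ (rho m F).range := by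
  obtain ⟨A, hA⟩ := exists_rho_eq (actHom h M) (fun v v' => act_add M.1 v v')
    (fun a v => act_smul M.1 a v) (fun v v' => act_form h M.2 v v')
  exact ⟨A, hA⟩

/-- `SL₂` acting on the plane `⟨u,w⟩`. -/
noncomputable def phi (h : f u w = 1) : SL →* G :=
  (MonoidHom.ofInjective (rho_injective (m := m) (F := F))).symm.toMonoidHom.comp
    ((actHom h).codRestrict (rho m F).range (actHom_mem h))

theorem rho_phi (h : f u w = 1) (M : SL) (v : V) : rho m F (phi h M) v = act u w M.1 v := by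
  have h1 : MonoidHom.ofInjective (rho_injective (m := m) (F := F)) (phi h M) =
      ((actHom h).codRestrict (rho m F).range (actHom_mem h)) M :=
    (MonoidHom.ofInjective (rho_injective (m := m) (F := F))).apply_symm_apply _
  have h2 := congrArg (fun y : (rho m F).range => (y : Equiv.Perm V) v) h1
  exact h2

/-- The pointwise stabiliser of `⟨u,w⟩^⊥`. -/
theorem mem_range_iff (h : f u w = 1) (A : G) :
    A ∈ (phi h).range ↔ ∀ v, f u v = 0 → f v w = 0 → rho m F A v = v := by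
  constructor
  · rintro ⟨M, rfl⟩ v h1 h2
    rw [rho_phi, act_def, h1, h2]
    module
  · intro hA
    -- vectors orthogonal to `H^⊥` lie in `H`
    have hH : ∀ y : V, (∀ v, f u v = 0 → f v w = 0 → f v y = 0) → y = f y w • u + f u y • w := by
      intro y hy
      have hp : ∀ z : V, f u (z - (f z w • u + f u z • w)) = 0 ∧
          f (z - (f z w • u + f u z • w)) w = 0 := by
        intro z
        rw [sympForm_sub_right, sympForm_sub_left, sympForm_add_left, sympForm_add_right,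
          sympForm_smul_left, sympForm_smul_left, sympForm_smul_right, sympForm_smul_right, h,
          sympForm_self, sympForm_self]
        constructor <;> ring
      rw [← sub_eq_zero]
      apply eq_zero_of_forall_sympForm_left
      intro z
      obtain ⟨h1, h2⟩ := hp z
      obtain ⟨h3, h4⟩ := hp y
      have h5 := hy _ h1 h2
      have e1 : f z (y - (f y w • u + f u y • w)) =
          f (z - (f z w • u + f u z • w)) (y - (f y w • u + f u y • w)) +
          (f z w * f u (y - (f y w • u + f u y • w)) +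
            f u z * f w (y - (f y w • u + f u y • w))) := by
        conv_rhs => rw [sympForm_sub_left, sympForm_add_left, sympForm_smul_left,
          sympForm_smul_left]
        ring
      have h6 : f w (y - (f y w • u + f u y • w)) = 0 := by rw [sympForm_swap, h4, neg_zero]
      have h1' : f (z - (f z w • u + f u z • w)) u = 0 := by rw [sympForm_swap, h1, neg_zero]
      rw [e1, h3, h6, sympForm_sub_right, h5, sympForm_add_right, sympForm_smul_right,
        sympForm_smul_right, h1', h2]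
      ring
    have hinv : ∀ v, f u v = 0 → f v w = 0 → ∀ y, f v (rho m F A y) = f v y := by
      intro v h1 h2 y
      conv_lhs => rw [← hA v h1 h2]
      rw [sympForm_rho]
    have hu := hH (rho m F A u) (fun v h1 h2 => by
      rw [hinv v h1 h2, sympForm_swap, h1, neg_zero])
    have hw := hH (rho m F A w) (fun v h1 h2 => by rw [hinv v h1 h2, h2])
    obtain ⟨a, ha⟩ : ∃ a, a = f (rho m F A u) w := ⟨_, rfl⟩
    obtain ⟨c, hc⟩ : ∃ c, c = f u (rho m F A u) := ⟨_, rfl⟩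
    obtain ⟨b, hb⟩ : ∃ b, b = f (rho m F A w) w := ⟨_, rfl⟩
    obtain ⟨d, hd⟩ : ∃ d, d = f u (rho m F A w) := ⟨_, rfl⟩
    rw [← ha, ← hc] at hu
    rw [← hb, ← hd] at hw
    have hdet : (!![a, b; c, d] : Matrix (Fin 2) (Fin 2) F).det = 1 := by
      have h1 := sympForm_rho A u w
      rw [hu, hw, h, sympForm_add_left, sympForm_add_right, sympForm_add_right,
        sympForm_smul_left, sympForm_smul_left, sympForm_smul_left, sympForm_smul_left,
        sympForm_smul_right, sympForm_smul_right, sympForm_smul_right, sympForm_smul_right,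
        sympForm_self, sympForm_self, h, sympForm_swap w u, h] at h1
      rw [Matrix.det_fin_two]
      simp only [Matrix.of_apply, Matrix.cons_val', Matrix.cons_val_zero, Matrix.cons_val_one,
        Matrix.cons_val_fin_one]
      linear_combination h1
    obtain ⟨M, hM⟩ : ∃ M : SL, M.1 = !![a, b; c, d] := ⟨⟨_, hdet⟩, rfl⟩
    refine ⟨M, ?_⟩
    apply rho_injective
    ext1 v
    rw [rho_phi, act_def, hM]
    simp only [Matrix.of_apply, Matrix.cons_val', Matrix.cons_val_zero, Matrix.cons_val_one,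
      Matrix.cons_val_fin_one]
    have e1 : v = (v - (f v w • u + f u v • w)) + (f v w • u + f u v • w) := by abel
    have e2 : rho m F A (v - (f v w • u + f u v • w)) = v - (f v w • u + f u v • w) := by
      apply hA
      · rw [sympForm_sub_right, sympForm_add_right, sympForm_smul_right, sympForm_smul_right, h,
          sympForm_self]
        ring
      · rw [sympForm_sub_left, sympForm_add_left, sympForm_smul_left, sympForm_smul_left, h,
          sympForm_self]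
        ring
    have e3 : ∀ y y' : V, rho m F A (y + y') = rho m F A y + rho m F A y' := fun y y' => by
      rw [rho_apply, rho_apply, rho_apply, Matrix.mulVec_add]
    have e4 : ∀ (r : F) (y : V), rho m F A (r • y) = r • rho m F A y := fun r y => by
      rw [rho_apply, rho_apply, Matrix.mulVec_smul]
    have e5 : rho m F A v = (v - (f v w • u + f u v • w)) +
        (f v w • (a • u + c • w) + f u v • (b • u + d • w)) := by
      rw [← hu, ← hw, ← e4, ← e4, ← e3]
      conv_lhs => rw [e1, e3, e2]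
    rw [e5]
    module

theorem phi_injective (h : f u w = 1) : Function.Injective (phi h) := by
  rw [injective_iff_map_eq_one]
  intro M hM
  have h1 : ∀ v : V, act u w M.1 v = v := by
    intro v
    rw [← rho_phi h M v, hM, map_one, Equiv.Perm.one_apply]
  have hwu : f w u = -1 := by rw [sympForm_swap, h]
  have a1 := act_w h M.1 u
  have a2 := act_u h M.1 u
  have a3 := act_w h M.1 w
  have a4 := act_u h M.1 w
  rw [h1, h, sympForm_self, mul_one, mul_zero, add_zero] at a1 a2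
  rw [h1, h, sympForm_self, mul_one, mul_zero, zero_add] at a3 a4
  apply Matrix.SpecialLinearGroup.ext
  intro i j
  fin_cases i <;> fin_cases j
  · exact a1.symm
  · exact a3.symm
  · exact a2.symm
  · exact a4.symm

/-- The subgroup `J` of `PSp`. -/
noncomputable def JJ (u w : V) (h : f u w = 1) : Subgroup (PSp m F) :=
  ((QuotientGroup.mk' (Subgroup.center G)).comp (phi h)).range

theorem comp_injective (hm : 2 ≤ m) (h : f u w = 1) :
    Function.Injective ((QuotientGroup.mk' (Subgroup.center G)).comp (phi h)) := by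
  rw [injective_iff_map_eq_one]
  intro M hM
  have h1 : phi h M ∈ Subgroup.center G := by
    rw [← QuotientGroup.eq_one_iff]
    exact hM
  obtain ⟨a, ha⟩ := smul_of_mem_center h1
  obtain ⟨x, hx0, hxu, hxw⟩ := exists_perp_pair hm u w
  have h2 : rho m F (phi h M) x = x := by
    rw [mem_range_iff h _ |>.1 ⟨M, rfl⟩ x (by rw [sympForm_swap, hxu, neg_zero]) hxw]
  have h3 : rho m F (phi h M) x = a • x := ha x
  have h4 : a = 1 := smul_right_cancel_vec hx0 (by rw [← h3, h2, one_smul])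
  apply phi_injective h
  rw [map_one]
  apply rho_injective
  ext1 v
  have h5 : rho m F (phi h M) v = a • v := ha v
  rw [h5, h4, one_smul, map_one, Equiv.Perm.one_apply]

/-- `J` is `SL₂(F)`. -/
noncomputable def equivJJ (hm : 2 ≤ m) (h : f u w = 1) : SL ≃* JJ u w h :=
  MonoidHom.ofInjective (comp_injective hm h)

/-- The involution `z` of `J`. -/
noncomputable def zz (u w : V) (h : f u w = 1) : PSp m F := pr (phi h (-1))

theorem zz_mem (h : f u w = 1) : zz u w h ∈ JJ u w h := ⟨-1, rfl⟩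

theorem phi_neg (h : f u w = 1) (v : V) :
    rho m F (phi h (-1)) v = v + (-2 * f v w) • u + (-2 * f u v) • w := by
  rw [rho_phi, act_def]
  simp only [Matrix.SpecialLinearGroup.coe_neg, Matrix.SpecialLinearGroup.coe_one,
    Matrix.neg_apply, Matrix.one_apply_eq, ne_eq, one_ne_zero, zero_ne_one, not_false_eq_true,
    Matrix.one_apply_ne]
  module

theorem orderOf_zz (hm : 2 ≤ m) (two : (2 : F) ≠ 0) (h : f u w = 1) : orderOf (zz u w h) = 2 := by
  have h1 : zz u w h = ((QuotientGroup.mk' (Subgroup.center G)).comp (phi h)) (-1) := rfl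
  rw [h1, orderOf_injective _ (comp_injective hm h)]
  apply orderOf_eq_prime
  · rw [sq, neg_mul_neg, one_mul]
  · intro h2
    have h3 := congrArg (fun M : SL => M.1 0 0) h2
    simp only [Matrix.SpecialLinearGroup.coe_neg, Matrix.SpecialLinearGroup.coe_one,
      Matrix.neg_apply, Matrix.one_apply_eq] at h3
    apply two
    linear_combination -h3

theorem le_centralizer (h : f u w = 1) :
    JJ u w h ≤ Subgroup.centralizer ({zz u w h} : Set (PSp m F)) := by
  rintro k ⟨M, rfl⟩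
  rw [Subgroup.mem_centralizer_singleton_iff]
  have h1 : zz u w h = ((QuotientGroup.mk' (Subgroup.center G)).comp (phi h)) (-1) := rfl
  rw [h1, ← map_mul, ← map_mul, mul_neg, mul_one, neg_mul, one_mul]

/-- Elements commuting with `z̃` normalise `Sp(H)`. -/
theorem conj_mem (two : (2 : F) ≠ 0) (h : f u w = 1) {A B : G}
    (hA : A * phi h (-1) = phi h (-1) * A) (hB : B ∈ (phi h).range) : A * B * A⁻¹ ∈ (phi h).range := by
  rw [mem_range_iff] at hB ⊢
  -- the fixed vectors of `z̃` are those of `H^⊥`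
  have hfix : ∀ v : V, rho m F (phi h (-1)) v = v ↔ f u v = 0 ∧ f v w = 0 := by
    intro v
    rw [phi_neg]
    constructor
    · intro h1
      have h2 : (-2 * f v w) • u + (-2 * f u v) • w = 0 := by
        rw [add_assoc] at h1
        exact add_eq_left.1 h1
      have h3 := congrArg (fun y => f y w) h2
      have h4 := congrArg (fun y => f u y) h2
      simp only [sympForm_add_left, sympForm_smul_left, sympForm_self, h, sympForm_zero_left,
        sympForm_add_right, sympForm_smul_right, sympForm_zero_right] at h3 h4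
      have h5 : (2 : F) * f v w = 0 := by linear_combination -h3
      have h6 : (2 : F) * f u v = 0 := by linear_combination -h4
      exact ⟨(mul_eq_zero.1 h6).resolve_left two, (mul_eq_zero.1 h5).resolve_left two⟩
    · rintro ⟨h1, h2⟩
      rw [h1, h2]
      module
  intro v h1 h2
  have h3 : rho m F (phi h (-1)) (rho m F A⁻¹ v) = rho m F A⁻¹ v := by
    have h4 : phi h (-1) * A⁻¹ = A⁻¹ * phi h (-1) := by
      have : A * (phi h (-1) * A⁻¹) = A * (A⁻¹ * phi h (-1)) := by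
        rw [← mul_assoc, hA, mul_assoc, mul_inv_cancel, mul_one, mul_inv_cancel_left]
      exact mul_left_cancel this
    have h5 := congrArg (fun C : G => rho m F C v) h4
    simp only [map_mul, Equiv.Perm.mul_apply] at h5
    rw [h5, (hfix v).2 ⟨h1, h2⟩]
  obtain ⟨h4, h5⟩ := (hfix _).1 h3
  have h6 := hB _ h4 h5
  rw [map_mul, map_mul, Equiv.Perm.mul_apply, Equiv.Perm.mul_apply, h6, ← Equiv.Perm.mul_apply,
    ← map_mul, mul_inv_cancel, map_one, Equiv.Perm.one_apply]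

/-- `J` is subnormal in the centraliser of `z`. -/
theorem subnormal (two : (2 : F) ≠ 0) (h : f u w = 1) :
    ((JJ u w h).subgroupOf
      (Subgroup.centralizer ({zz u w h} : Set (PSp m F)))).IsSubnormal := by
  obtain ⟨C, hC⟩ : ∃ C, C = Subgroup.centralizer ({zz u w h} : Set (PSp m F)) := ⟨_, rfl⟩
  obtain ⟨N, hN⟩ : ∃ N : Subgroup (PSp m F), N =
      (Subgroup.centralizer ({phi h (-1)} : Set G)).map (QuotientGroup.mk' _) := ⟨_, rfl⟩
  rw [← hC]
  have hNC : N ≤ C := by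
    rw [hN, hC]
    rintro k ⟨A, hA, rfl⟩
    rw [SetLike.mem_coe, Subgroup.mem_centralizer_singleton_iff] at hA
    rw [Subgroup.mem_centralizer_singleton_iff]
    exact congrArg (QuotientGroup.mk' (Subgroup.center G)) hA
  have hJN : JJ u w h ≤ N := by
    rw [hN]
    rintro k ⟨M, rfl⟩
    refine ⟨phi h M, ?_, rfl⟩
    rw [SetLike.mem_coe, Subgroup.mem_centralizer_singleton_iff, ← map_mul, ← map_mul, mul_neg,
      mul_one, neg_mul, one_mul]
  have hnorm1 : ∀ n ∈ N, ∀ j ∈ JJ u w h, n * j * n⁻¹ ∈ JJ u w h := by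
    intro n hn j hj
    rw [hN] at hn
    obtain ⟨A, hA, rfl⟩ := hn
    rw [SetLike.mem_coe, Subgroup.mem_centralizer_singleton_iff] at hA
    obtain ⟨M, rfl⟩ := hj
    obtain ⟨M', hM'⟩ := conj_mem two h hA ⟨M, rfl⟩
    exact ⟨M', congrArg (QuotientGroup.mk' (Subgroup.center G)) hM'⟩
  have hnorm2 : ∀ c ∈ C, ∀ n ∈ N, c * n * c⁻¹ ∈ N := by
    intro c hc n hn
    obtain ⟨B, rfl⟩ := pr_surj c
    rw [hN] at hn
    obtain ⟨A, hA, rfl⟩ := hn
    rw [SetLike.mem_coe, Subgroup.mem_centralizer_singleton_iff] at hA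
    rw [hC, Subgroup.mem_centralizer_singleton_iff] at hc
    have h1 : pr (B * phi h (-1)) = pr (phi h (-1) * B) := hc
    obtain ⟨s, hs, h2⟩ : ∃ s ∈ Subgroup.center G, phi h (-1) * B = B * phi h (-1) * s :=
      ⟨_, pr_eq_iff.1 h1, by group⟩
    rw [Subgroup.mem_center_iff] at hs
    rw [hN]
    refine ⟨B * A * B⁻¹, ?_, rfl⟩
    rw [SetLike.mem_coe, Subgroup.mem_centralizer_singleton_iff]
    have h3 : B⁻¹ * phi h (-1) * B = phi h (-1) * s := by
      rw [mul_assoc, h2]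
      group
    have h4 : A * (phi h (-1) * s) = (phi h (-1) * s) * A := by
      rw [← mul_assoc, hA, mul_assoc, hs A, mul_assoc]
    calc B * A * B⁻¹ * phi h (-1) = B * (A * (B⁻¹ * phi h (-1) * B)) * B⁻¹ := by group
      _ = B * ((B⁻¹ * phi h (-1) * B) * A) * B⁻¹ := by rw [h3, h4]
      _ = phi h (-1) * (B * A * B⁻¹) := by group
  have s1 : (N.subgroupOf C).Normal := by
    constructor
    intro n hn c
    rw [Subgroup.mem_subgroupOf] at hn ⊢
    exact hnorm2 _ c.2 _ hn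
  refine Subgroup.IsSubnormal.step _ (N.subgroupOf C) ?_ s1.isSubnormal ?_
  · intro a ha
    rw [Subgroup.mem_subgroupOf] at ha ⊢
    exact hJN ha
  · constructor
    intro n hn c
    rw [Subgroup.mem_subgroupOf, Subgroup.mem_subgroupOf] at hn ⊢
    have := c.2
    rw [Subgroup.mem_subgroupOf] at this
    exact hnorm1 _ this _ hn

end Cfsg.Agent.UGT.U2.FOne.PSpJ
end

private theorem dce_7ec2f131dc37 : _root_.True := by
  try have : _root_.True := by simp only [_root_.Cfsg.Agent.UGT.U2.FOne.PSpJ.phi.congr_simp]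
  exact _root_.True.intro
end

-- part: UGT/U2/FOne/PSULin
section
set_option linter.all false
open scoped Cfsg.Agent.FastGrp

-- part: UGT/U2/FOne/PSUBase
section
/-!
# (f1) for `PSU_n(q)`: automorphisms and semi-isometries

* `Rep α T σ` : the automorphism `α` of `PSU n F q` is induced by the semi-isometry `T` with field automorphism `σ`.
* `exists_rep`, `Rep.mul`, `Rep.exists_inv`, `Rep.unique`.
* `Rep.eq_one_iff`, `Rep.act_of_fix`, `Rep.fix_of_act` : `p`-elements.
* `Fixing` : the conclusion of FIX for the semilinear maps.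
-/

set_option autoImplicit false
set_option linter.unusedSectionVars false

namespace Cfsg.Agent.UGT.U2.FOne.PSU

open Cfsg Cfsg.Agent.LieClassical.HermBasic Cfsg.Agent.LieClassical.HermSiegel
  Cfsg.Agent.LieClassical.HermGen Cfsg.Agent.LieClassical.SUBasic Matrix
  Cfsg.Agent.ClassicalGeometry.PSUAutBasic

open Cfsg.Agent.ClassicalGeometry.PSUAutCount (gm semiConj toAut herm_gm act_semiConj herm_semi
  gm_inv_mulVec gm_mulVec_inv eq_of_toAut_eq)

open Cfsg.Agent.KFacts.Unit (sg sg_add sg_smul herm_sg exists_sg exists_GU_of_semi act_semiConj' toAut_eq_conj)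

variable {F : Type*} [Field F] {q n : ℕ}

/-- the automorphism `α` of `PSU n F q` is induced by the semi-isometry `T` -/
structure Rep (α : MulAut (PSU n F q)) (T : (Fin n → F) → (Fin n → F)) (σ : F ≃+* F) : Prop where
  add : ∀ u v, T (u + v) = T u + T v
  smul : ∀ (c : F) v, T (c • v) = σ c • T v
  herm : ∀ u v, hermForm n F q (T u) (T v) = σ (hermForm n F q u v)
  sur : ∀ v, ∃ u, T u = v
  lift : ∀ g : SU n F q, ∃ g' : SU n F q, α (pr n F q g) = pr n F q g' ∧ ∀ v, act g' (T v) = T (act g v)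

namespace Rep

variable {α β : MulAut (PSU n F q)} {T S : (Fin n → F) → (Fin n → F)} {σ τ : F ≃+* F}

theorem zero (h : Rep α T σ) : T 0 = 0 := by
  have h1 := h.smul 0 0
  rwa [zero_smul, map_zero, zero_smul] at h1

theorem neg (h : Rep α T σ) (v : Fin n → F) : T (-v) = -T v := by
  have h1 := h.smul (-1) v
  rwa [neg_one_smul, map_neg, map_one, neg_one_smul] at h1

theorem sub (h : Rep α T σ) (u v : Fin n → F) : T (u - v) = T u - T v := by
  rw [sub_eq_add_neg, h.add, h.neg, ← sub_eq_add_neg]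

theorem mul (h : Rep α T σ) (h' : Rep β S τ) : Rep (α * β) (fun v => T (S v)) (σ * τ) where
  add u v := by rw [h'.add, h.add]
  smul c v := by rw [h'.smul, h.smul]; rfl
  herm u v := by rw [h.herm, h'.herm]; rfl
  sur v := by
    obtain ⟨u, rfl⟩ := h.sur v
    obtain ⟨w, rfl⟩ := h'.sur u
    exact ⟨w, rfl⟩
  lift g := by
    obtain ⟨g', h1, h2⟩ := h'.lift g
    obtain ⟨g'', h3, h4⟩ := h.lift g'
    refine ⟨g'', ?_, fun v => ?_⟩
    · rw [MulAut.mul_apply, h1, h3]
    · rw [h4, h2]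

theorem one : Rep (1 : MulAut (PSU n F q)) (fun v => v) (1 : F ≃+* F) where
  add _ _ := rfl
  smul _ _ := rfl
  herm _ _ := rfl
  sur v := ⟨v, rfl⟩
  lift g := ⟨g, rfl, fun _ => rfl⟩

theorem pow (h : Rep α T σ) (k : ℕ) : Rep (α ^ k) (T^[k]) (σ ^ k) := by
  induction k with
  | zero => exact one
  | succ k ih =>
    have h1 := h.mul ih
    rw [pow_succ', pow_succ']
    convert h1 using 1
    funext v
    rw [Function.iterate_succ_apply']

/-- rescaling -/
theorem smulc (h : Rep α T σ) {c : F} (hc : c * c ^ q = 1) : Rep α (fun v => c • T v) σ where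
  add u v := by rw [h.add, smul_add]
  smul a v := by rw [h.smul, smul_comm]
  herm u v := by
    rw [herm_smul_left, herm_smul_right, h.herm, ← mul_assoc, hc, one_mul]
  sur v := by
    have hc0 : c ≠ 0 := by
      rintro rfl
      rw [zero_mul] at hc
      exact zero_ne_one hc
    obtain ⟨u, hu⟩ := h.sur (c⁻¹ • v)
    exact ⟨u, by rw [hu, smul_smul, mul_inv_cancel₀ hc0, one_smul]⟩
  lift g := by
    obtain ⟨g', h1, h2⟩ := h.lift g
    exact ⟨g', h1, fun v => by rw [act_smul, h2]⟩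

section Fin

variable [Fintype F]

theorem inj (hF : Fintype.card F = q ^ 2) (h : Rep α T σ) {u v : Fin n → F} (huv : T u = T v) : u = v := by
  have h1 : u - v = 0 := by
    refine herm_nondeg hF fun w => ?_
    have h2 := h.herm (u - v) w
    rw [h.sub, huv, sub_self, herm_zero_left] at h2
    exact (map_eq_zero σ).1 h2.symm
  exact sub_eq_zero.1 h1

theorem exists_sg (hF : Fintype.card F = q ^ 2) (h : Rep α T σ) :
    ∃ A : GU n F q, (∀ v, sg A σ v = T v) ∧ α = toAut A σ := by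
  obtain ⟨A, hA⟩ := exists_GU_of_semi hF σ h.add h.smul h.herm
  refine ⟨A, hA, ?_⟩
  ext x
  obtain ⟨g, rfl⟩ := pr_surjective x
  obtain ⟨g', h1, h2⟩ := h.lift g
  rw [h1, Cfsg.Agent.ClassicalGeometry.PSUAutMain.toAut_pr']
  congr 1
  apply ext_act
  intro z
  obtain ⟨y, rfl⟩ := h.sur z
  rw [h2, ← hA y, act_semiConj', hA]

end Fin

end Rep

theorem rep_toAut (A : GU n F q) (σ : F ≃+* F) : Rep (toAut A σ) (sg A σ) σ where
  add := sg_add A σ
  smul := sg_smul A σ
  herm := herm_sg A σ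
  sur := exists_sg A σ
  lift g := ⟨semiConj A σ g, rfl, fun v => act_semiConj' A σ g v⟩

section Fin

variable [Fintype F]

/-- every automorphism is induced by a semi-isometry -/
theorem exists_rep (hF : Fintype.card F = q ^ 2) (hn : 3 ≤ n) (h32 : ¬ (n = 3 ∧ q = 2))
    (α : MulAut (PSU n F q)) : ∃ T σ, Rep α T σ := by
  obtain ⟨A, σ, rfl⟩ := Cfsg.Agent.ClassicalGeometry.PSUAutMain.exists_toAut hF hn h32 α
  exact ⟨_, _, rep_toAut A σ⟩

variable {α β : MulAut (PSU n F q)} {T S T' : (Fin n → F) → (Fin n → F)} {σ τ σ' : F ≃+* F}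

/-- the semi-isometry is unique up to scalars of norm one -/
theorem Rep.unique (hF : Fintype.card F = q ^ 2) (hn : 3 ≤ n) (h : Rep α T σ) (h' : Rep α T' σ') :
    σ' = σ ∧ ∃ c : F, c * c ^ q = 1 ∧ ∀ v, T' v = c • T v := by
  obtain ⟨A, hA, h1⟩ := h.exists_sg hF
  obtain ⟨A', hA', h2⟩ := h'.exists_sg hF
  obtain ⟨h3, c, hc, h4⟩ := eq_of_toAut_eq hF hn (h1.symm.trans h2)
  refine ⟨h3, c, hc, fun v => ?_⟩
  rw [← hA', ← hA]
  subst h3
  change gm A' *ᵥ _ = c • (gm A *ᵥ _)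
  rw [h4, smul_mulVec]

/-- inverses -/
theorem Rep.exists_inv (hF : Fintype.card F = q ^ 2) (h : Rep α T σ) :
    ∃ T', Rep α⁻¹ T' σ⁻¹ ∧ (∀ v, T' (T v) = v) ∧ ∀ v, T (T' v) = v := by
  choose T' hT' using h.sur
  have h1 : ∀ v, T' (T v) = v := fun v => h.inj hF (hT' _)
  refine ⟨T', ?_, h1, hT'⟩
  refine ⟨fun u v => ?_, fun c v => ?_, fun u v => ?_, fun v => ⟨T v, h1 v⟩, fun g => ?_⟩
  · apply h.inj hF
    rw [h.add, hT', hT', hT']
  · apply h.inj hF
    rw [h.smul, hT', hT']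
    congr 1
    exact (σ.apply_symm_apply c).symm
  · apply σ.injective
    rw [← h.herm, hT', hT']
    exact (σ.apply_symm_apply _).symm
  · obtain ⟨A, hA, -⟩ := h.exists_sg hF
    obtain ⟨k, hk⟩ : ∃ k : SU n F q, semiConj A σ k = g := ⟨_, (semiConj A σ).apply_symm_apply g⟩
    have h6 : ∀ v, T (act k v) = act g (T v) := fun v => by
      have h7 := act_semiConj' A σ k v
      rw [hA, hA, hk] at h7
      exact h7.symm
    refine ⟨k, ?_, fun v => ?_⟩
    · obtain ⟨k', h8, h9⟩ := h.lift k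
      have h10 : k' = g := by
        apply ext_act
        intro z
        obtain ⟨y, rfl⟩ := h.sur z
        rw [h9, h6]
      rw [h10] at h8
      rw [← h8, MulAut.inv_apply_self]
    · apply h.inj hF
      rw [hT', h6, hT']

/-- the trivial automorphism -/
theorem Rep.of_one (hF : Fintype.card F = q ^ 2) (hn : 3 ≤ n) (h : Rep (1 : MulAut (PSU n F q)) T σ) :
    σ = 1 ∧ ∃ c : F, c * c ^ q = 1 ∧ ∀ v, T v = c • v :=
  Rep.unique hF hn Rep.one h

/-- scalars induce the trivial automorphism -/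
theorem Rep.eq_one (h : Rep α T σ) {c : F} (hc : c ≠ 0) (hs : ∀ v, T v = c • v) : α = 1 := by
  ext x
  obtain ⟨g, rfl⟩ := pr_surjective x
  obtain ⟨g', h1, h2⟩ := h.lift g
  rw [h1, MulAut.one_apply]
  congr 1
  apply ext_act
  intro v
  have h3 := h2 v
  rw [hs, hs, act_smul] at h3
  exact smul_right_injective _ hc h3

/-- an automorphism commuting with `g` as a semi-isometry fixes `pr g` -/
theorem Rep.fix_of_act (h : Rep α T σ) {g : SU n F q} (hg : ∀ v, T (act g v) = act g (T v)) :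
    α (pr n F q g) = pr n F q g := by
  obtain ⟨g', h1, h2⟩ := h.lift g
  rw [h1]
  congr 1
  apply ext_act
  intro z
  obtain ⟨y, rfl⟩ := h.sur z
  rw [h2, hg]

/-- an automorphism fixing the image of a `p`-element `g` commutes with `g` -/
theorem Rep.act_of_fix (hF : Fintype.card F = q ^ 2) (hn : 3 ≤ n) {p : ℕ} [Fact p.Prime] [CharP F p]
    (h : Rep α T σ) {g : SU n F q} (hgp : ∃ k : ℕ, g ^ p ^ k = 1)
    (hg : α (pr n F q g) = pr n F q g) (v : Fin n → F) : T (act g v) = act g (T v) := by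
  obtain ⟨g', h1, h2⟩ := h.lift g
  obtain ⟨k, hk⟩ := hgp
  have h3 : ∀ m : ℕ, ∀ v, act (g' ^ m) (T v) = T (act (g ^ m) v) := by
    intro m
    induction m with
    | zero => intro v; rw [pow_zero, pow_zero, act_one, act_one]
    | succ m ih => intro v; rw [pow_succ, pow_succ, act_mul, act_mul, h2, ih]
  have h4 : g' ^ p ^ k = 1 := by
    apply ext_act
    intro z
    obtain ⟨y, rfl⟩ := h.sur z
    rw [h3, hk, act_one, act_one]
  have h5 : g' = g := eq_of_pr_eq hF hn (p := p) h4 hk (h1.symm.trans hg)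
  rw [← h2, h5]

/-- **FIX for the semi-isometries**: `S` commutes with all `p`-elements of `SU` commuting with `T`. -/
def Fixing (q p : ℕ) (T S : (Fin n → F) → (Fin n → F)) : Prop :=
  ∀ g : SU n F q, (∃ k : ℕ, g ^ p ^ k = 1) → (∀ v, T (act g v) = act g (T v)) → ∀ v, S (act g v) = act g (S v)

theorem fixing_of (hF : Fintype.card F = q ^ 2) (hn : 3 ≤ n) {p : ℕ} [Fact p.Prime] [CharP F p]
    (h : Rep α T σ) (h' : Rep β S τ)
    (hfix : ∀ x, α x = x → (∃ k : ℕ, x ^ p ^ k = 1) → β x = x) : Fixing q p T S := by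
  intro g hgp hg
  refine h'.act_of_fix hF hn hgp (hfix _ (h.fix_of_act hg) ?_)
  obtain ⟨k, hk⟩ := hgp
  exact ⟨k, by rw [← map_pow, hk, map_one]⟩

/-- FIX applied to a Siegel transformation -/
theorem Fixing.siegel {p : ℕ} [Fact p.Prime] [CharP F p] (hF : Fintype.card F = q ^ 2) (h : Fixing q p T S)
    {u w : Fin n → F} {μ : F} (hs : IsSiegel q u w μ)
    (hT : ∀ v, T (v + hermForm n F q v u • w + (μ * hermForm n F q v u - hermForm n F q v w) • u) =
      T v + hermForm n F q (T v) u • w + (μ * hermForm n F q (T v) u - hermForm n F q (T v) w) • u)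
    (v : Fin n → F) : S (v + hermForm n F q v u • w + (μ * hermForm n F q v u - hermForm n F q v w) • u) =
      S v + hermForm n F q (S v) u • w + (μ * hermForm n F q (S v) u - hermForm n F q (S v) w) • u := by
  have h1 := h (Cfsg.Agent.LieClassical.HermSiegel.siegel hF u w μ hs) (siegel_pow_prime_pow hF p hs) (fun v => by
    rw [act_siegel, act_siegel]; exact hT v) v
  rwa [act_siegel, act_siegel] at h1

end Fin

end Cfsg.Agent.UGT.U2.FOne.PSU
end

-- part: UGT/U2/FOne/PSULin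
section
/-!
# (f1) for `PSU_n(q)`: linear algebra

* `field_eq_one` : a field automorphism of odd order trivial on `F_q` is trivial.
* `scalar_of_iso` : a linear map fixing the isotropic lines of a nondegenerate space is a scalar.
* `eigen_transv` : a semi-isometry commuting with the transvections of centre `u` fixes the line of `u`.
-/

set_option autoImplicit false
set_option linter.unusedSectionVars false

namespace Cfsg.Agent.UGT.U2.FOne.PSU

open Cfsg Cfsg.Agent.LieClassical.HermBasic Cfsg.Agent.LieClassical.HermSiegel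
  Cfsg.Agent.LieClassical.HermGen Cfsg.Agent.LieClassical.SUBasic Matrix
  Cfsg.Agent.ClassicalGeometry.PSUAutBasic Cfsg.Agent.ClassicalGeometry.HermOrtho Module

variable {F : Type*} [Field F] [Fintype F] {q n : ℕ}

/-- A field automorphism of odd order trivial on `F_q` is trivial. -/
theorem field_eq_one (hF : Fintype.card F = q ^ 2) {τ : F ≃+* F} (h : ∀ r : F, r ^ q = r → τ r = r)
    {m : ℕ} (hm : Odd m) (hτ : τ ^ m = 1) : τ = 1 := by
  have h2 : τ ^ 2 = 1 := by
    ext a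
    rw [sq]
    change τ (τ a) = a
    have h1 : (τ a - a) * (τ a - a ^ q) = 0 := by
      have h3 : τ (a + a ^ q) = a + a ^ q := h _ (trace_pow_q hF a)
      have h4 : τ (a * a ^ q) = a * a ^ q := h _ (norm_pow_q hF a)
      rw [map_add] at h3
      rw [map_mul] at h4
      linear_combination (τ a) * h3 - h4
    rcases mul_eq_zero.1 h1 with h3 | h3
    · rw [sub_eq_zero.1 h3, sub_eq_zero.1 h3]
    · rw [sub_eq_zero.1 h3, map_pow, sub_eq_zero.1 h3, pow_q_pow_q hF]
  obtain ⟨k, rfl⟩ := hm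
  rwa [pow_add, pow_mul, h2, one_pow, one_mul, pow_one] at hτ

/-- A linear map on a subspace that fixes the isotropic lines of a nondegenerate subspace of dimension at least two is
a scalar on it. -/
theorem scalar_of_iso (hF : Fintype.card F = q ^ 2) (h2 : (2 : F) ≠ 0) (W : Submodule F (Fin n → F))
    (hW : ∀ u ∈ W, (∀ v ∈ W, hermForm n F q u v = 0) → u = 0) (hk : 2 ≤ finrank F W)
    {S : (Fin n → F) → (Fin n → F)} (hadd : ∀ u v, S (u + v) = S u + S v)
    (hsmul : ∀ (c : F) v, S (c • v) = c • S v)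
    (hiso : ∀ u ∈ W, hermForm n F q u u = 0 → ∃ c : F, S u = c • u) :
    ∃ c : F, ∀ v ∈ W, S v = c • v := by
  obtain ⟨b, hbW, hb⟩ := exists_orthonormal hF W hW rfl
  obtain ⟨β, hβ⟩ := exists_norm_eq hF (c := -1) (by rw [neg_pow_q hF, one_pow])
  obtain ⟨ζ, hζ, hζ2⟩ := Cfsg.Agent.ClassicalGeometry.PSUAutDelta.exists_norm_one_sq_ne hF
  have hβ0 : β ≠ 0 := by
    rintro rfl
    rw [zero_mul] at hβ
    exact one_ne_zero (neg_eq_zero.1 hβ.symm)
  have hneg : ∀ γ : F, γ * γ ^ q = -1 → (-γ) * (-γ) ^ q = -1 := fun γ hγ => by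
    rw [neg_pow_q hF, neg_mul_neg, hγ]
  -- pairs
  have key : ∀ i j, i ≠ j → ∃ c : F, S (b i) = c • b i ∧ S (b j) = c • b j := by
    intro i j hij
    have hii : ∀ i, hermForm n F q (b i) (b i) = 1 := fun i => by rw [hb, if_pos rfl]
    have hijz : hermForm n F q (b i) (b j) = 0 := by rw [hb, if_neg hij]
    have hjiz : hermForm n F q (b j) (b i) = 0 := by rw [hb, if_neg hij.symm]
    have hz : ∀ γ : F, γ * γ ^ q = -1 → ∃ c : F, S (b i) + γ • S (b j) = c • (b i + γ • b j) := by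
      intro γ hγ
      obtain ⟨c, hc⟩ := hiso (b i + γ • b j) (W.add_mem (hbW i) (W.smul_mem _ (hbW j))) (by
        rw [herm_add_left, herm_add_right hF, herm_add_right hF, herm_smul_left, herm_smul_left,
          herm_smul_right, herm_smul_right, hii, hii, hijz, hjiz]
        linear_combination hγ)
      rw [hadd, hsmul] at hc
      exact ⟨c, hc⟩
    have hζβ : (ζ * β) * (ζ * β) ^ q = -1 := by
      rw [mul_pow]
      linear_combination (β * β ^ q) * hζ + hβ
    obtain ⟨c1, h1⟩ := hz β hβ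
    obtain ⟨c2, h3⟩ := hz (-β) (hneg β hβ)
    obtain ⟨c3, h4⟩ := hz (ζ * β) hζβ
    obtain ⟨c4, h5⟩ := hz (-(ζ * β)) (hneg _ hζβ)
    -- coordinates of `S (b i)`, `S (b j)`
    have co : ∀ (γ c : F), S (b i) + γ • S (b j) = c • (b i + γ • b j) →
        hermForm n F q (S (b i)) (b i) + γ * hermForm n F q (S (b j)) (b i) = c ∧
        hermForm n F q (S (b i)) (b j) + γ * hermForm n F q (S (b j)) (b j) = c * γ := by
      intro γ c h
      constructor
      · have := congrArg (fun v => hermForm n F q v (b i)) h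
        simp only [herm_add_left, herm_smul_left, hii, hjiz] at this
        linear_combination this
      · have := congrArg (fun v => hermForm n F q v (b j)) h
        simp only [herm_add_left, herm_smul_left, hii, hijz] at this
        linear_combination this
    obtain ⟨a1, a2⟩ := co _ _ h1
    obtain ⟨a3, a4⟩ := co _ _ h3
    obtain ⟨a5, a6⟩ := co _ _ h4
    obtain ⟨a7, a8⟩ := co _ _ h5
    set p1 := hermForm n F q (S (b i)) (b i)
    set p2 := hermForm n F q (S (b j)) (b i)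
    set p3 := hermForm n F q (S (b i)) (b j)
    set p4 := hermForm n F q (S (b j)) (b j)
    -- `p3 + γ p4 = γ p1 + γ² p2` for the four values
    have e1 : p3 + β * p4 = (p1 + β * p2) * β := by rw [a1, a2]
    have e2 : p3 - β * p4 = -((p1 - β * p2) * β) := by
      have : p3 + -β * p4 = (p1 + -β * p2) * -β := by rw [a3, a4]
      linear_combination this
    have e3 : p3 + ζ * β * p4 = (p1 + ζ * β * p2) * (ζ * β) := by rw [a5, a6]
    have e4 : p3 - ζ * β * p4 = -((p1 - ζ * β * p2) * (ζ * β)) := by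
      have : p3 + -(ζ * β) * p4 = (p1 + -(ζ * β) * p2) * -(ζ * β) := by rw [a7, a8]
      linear_combination this
    have f1 : p3 = β ^ 2 * p2 := by
      have : (2 : F) * p3 = 2 * (β ^ 2 * p2) := by linear_combination e1 + e2
      exact mul_left_cancel₀ h2 this
    have f2 : p3 = ζ ^ 2 * (β ^ 2 * p2) := by
      have : (2 : F) * p3 = 2 * (ζ ^ 2 * (β ^ 2 * p2)) := by linear_combination e3 + e4
      exact mul_left_cancel₀ h2 this
    have hp3 : p3 = 0 := by
      rw [← f1] at f2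
      have : (1 - ζ ^ 2) * p3 = 0 := by linear_combination f2
      rcases mul_eq_zero.1 this with h | h
      · exact absurd (by linear_combination -h) hζ2
      · exact h
    have hp2 : p2 = 0 := by
      rw [hp3] at f1
      rcases mul_eq_zero.1 f1.symm with h | h
      · exact absurd h (pow_ne_zero 2 hβ0)
      · exact h
    -- now `c1 = c2`
    rw [hp2, mul_zero, add_zero] at a1 a3
    refine ⟨c1, ?_, ?_⟩
    · have h6 : (2 : F) • S (b i) = (2 : F) • (c1 • b i) := by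
        have e5 : (2 : F) • S (b i) = (S (b i) + β • S (b j)) + (S (b i) + (-β) • S (b j)) := by
          module
        rw [e5, h1, h3, ← a1, ← a3]
        module
      exact smul_right_injective _ h2 h6
    · have h6 : (2 * β) • S (b j) = (2 * β) • (c1 • b j) := by
        have e5 : (2 * β) • S (b j) = (S (b i) + β • S (b j)) - (S (b i) + (-β) • S (b j)) := by
          module
        rw [e5, h1, h3, ← a1, ← a3]
        module
      exact smul_right_injective _ (mul_ne_zero h2 hβ0) h6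
  -- the same scalar for all
  have hb0 : ∀ i, b i ≠ 0 := by
    intro i h
    have := hb i i
    rw [h, herm_zero_left, if_pos rfl] at this
    exact zero_ne_one this
  set i0 : Fin (finrank F W) := ⟨0, by omega⟩ with hi0
  set i1 : Fin (finrank F W) := ⟨1, by omega⟩ with hi1
  have h01 : i0 ≠ i1 := by simp [hi0, hi1]
  obtain ⟨c, hc0, -⟩ := key i0 i1 h01
  have hall : ∀ i, S (b i) = c • b i := by
    intro i
    by_cases hi : i = i0
    · rw [hi]; exact hc0
    · obtain ⟨c', h3, h4⟩ := key i i0 hi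
      have : c' = c := by
        rw [hc0] at h4
        have h5 : (c - c') • b i0 = 0 := by rw [sub_smul, h4, sub_self]
        rcases smul_eq_zero.1 h5 with h | h
        · exact (sub_eq_zero.1 h).symm
        · exact absurd h (hb0 _)
      rw [h3, this]
  refine ⟨c, fun v hv => ?_⟩
  have hk' : finrank F W = Fintype.card (Fin (finrank F W)) := by simp
  rw [eq_sum_of_orthonormal W hk' hbW hb hv]
  let L : (Fin n → F) →ₗ[F] (Fin n → F) := { toFun := S, map_add' := hadd, map_smul' := hsmul }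
  change L _ = _
  rw [map_sum, Finset.smul_sum]
  refine Finset.sum_congr rfl fun i _ => ?_
  rw [map_smul]
  change _ • S (b i) = _
  rw [hall, smul_comm]

/-- there is an isotropic vector in a nondegenerate subspace of dimension at least two -/
theorem exists_iso (hF : Fintype.card F = q ^ 2) (W : Submodule F (Fin n → F))
    (hW : ∀ u ∈ W, (∀ v ∈ W, hermForm n F q u v = 0) → u = 0) (hk : 2 ≤ finrank F W) :
    ∃ u ∈ W, u ≠ 0 ∧ hermForm n F q u u = 0 := by
  obtain ⟨b, hbW, hb⟩ := exists_orthonormal hF W hW rfl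
  obtain ⟨β, hβ⟩ := exists_norm_eq hF (c := -1) (by rw [neg_pow_q hF, one_pow])
  set i0 : Fin (finrank F W) := ⟨0, by omega⟩ with hi0
  set i1 : Fin (finrank F W) := ⟨1, by omega⟩ with hi1
  have h01 : i0 ≠ i1 := by simp [hi0, hi1]
  refine ⟨b i0 + β • b i1, W.add_mem (hbW _) (W.smul_mem _ (hbW _)), ?_, ?_⟩
  · intro h
    have h1 := congrArg (fun v => hermForm n F q v (b i0)) h
    simp only [herm_add_left, herm_smul_left, hb, if_neg h01.symm, if_pos, herm_zero_left] at h1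
    simp at h1
  · rw [herm_add_left, herm_add_right hF, herm_add_right hF, herm_smul_left, herm_smul_left,
      herm_smul_right, herm_smul_right, hb, hb, hb, hb, if_pos rfl, if_pos rfl, if_neg h01, if_neg h01.symm]
    linear_combination hβ

section Transv

variable {β : MulAut (PSU n F q)} {T S : (Fin n → F) → (Fin n → F)} {τ : F ≃+* F} {p : ℕ} [Fact p.Prime] [CharP F p]

/-- If `S` commutes with the transvections of centre `u` then it fixes the line of `u`. -/
theorem eigen_of_comm (hF : Fintype.card F = q ^ 2) (hS : Rep β S τ) {u : Fin n → F} (hu0 : u ≠ 0)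
    (key' : ∀ lam : F, lam + lam ^ q = 0 → ∀ v, S (v + (lam * hermForm n F q v u) • u) =
      S v + (lam * hermForm n F q (S v) u) • u) :
    ∃ c : F, S u = c • u ∧ ∀ lam : F, lam + lam ^ q = 0 → τ lam * (c * c ^ q) = lam := by
  have key : ∀ lam : F, lam + lam ^ q = 0 → ∀ v,
      (τ (lam * hermForm n F q v u)) • S u = (lam * hermForm n F q (S v) u) • u := by
    intro lam hlam v
    have h1 := key' lam hlam v
    rw [hS.add, hS.smul] at h1
    exact add_left_cancel h1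
  obtain ⟨lam, hlam0, hlam⟩ := exists_trace_zero_ne hF
  obtain ⟨v, hv⟩ := exists_herm_ne_zero hF hu0
  have hvu : hermForm n F q v u ≠ 0 := fun h => hv (herm_eq_zero_swap hF h)
  have hne : τ (lam * hermForm n F q v u) ≠ 0 := (map_ne_zero τ).2 (mul_ne_zero hlam0 hvu)
  obtain ⟨c, hc⟩ : ∃ c : F, S u = c • u := by
    refine ⟨(τ (lam * hermForm n F q v u))⁻¹ * (lam * hermForm n F q (S v) u), ?_⟩
    rw [← smul_smul, ← key lam hlam v, smul_smul, inv_mul_cancel₀ hne, one_smul]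
  refine ⟨c, hc, fun l hl => ?_⟩
  have h1 := key l hl v
  -- `h(S v, u) c^q = τ h(v,u)`
  have h2 : hermForm n F q (S v) u * c ^ q = τ (hermForm n F q v u) := by
    have h3 := hS.herm v u
    rw [hc, herm_smul_right] at h3
    rw [← h3, mul_comm]
  rw [hc, smul_smul] at h1
  have h3 : τ (l * hermForm n F q v u) * c = l * hermForm n F q (S v) u := by
    have h4 : (τ (l * hermForm n F q v u) * c - l * hermForm n F q (S v) u) • u = 0 := by
      rw [sub_smul, h1, sub_self]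
    rcases smul_eq_zero.1 h4 with h5 | h5
    · exact sub_eq_zero.1 h5
    · exact absurd h5 hu0
  have hτ0 : τ (hermForm n F q v u) ≠ 0 := (map_ne_zero τ).2 hvu
  apply mul_right_cancel₀ hτ0
  rw [map_mul] at h3
  calc τ l * (c * c ^ q) * τ (hermForm n F q v u) = (τ l * τ (hermForm n F q v u) * c) * c ^ q := by ring
    _ = l * (hermForm n F q (S v) u * c ^ q) := by rw [h3]; ring
    _ = l * τ (hermForm n F q v u) := by rw [h2]

/-- If `S` commutes with the transvections of centre `u` (by FIX) then it fixes the line of `u`. -/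
theorem eigen_transv (hF : Fintype.card F = q ^ 2) (hS : Rep β S τ) (hfix : Fixing q p T S)
    {u : Fin n → F} (hu : hermForm n F q u u = 0) (hu0 : u ≠ 0)
    (hT : ∀ lam : F, lam + lam ^ q = 0 → ∀ v, T (v + (lam * hermForm n F q v u) • u) =
      T v + (lam * hermForm n F q (T v) u) • u) :
    ∃ c : F, S u = c • u ∧ ∀ lam : F, lam + lam ^ q = 0 → τ lam * (c * c ^ q) = lam := by
  refine eigen_of_comm hF hS hu0 fun lam hlam v => ?_
  have h1 := hfix.siegel hF (isSiegel_zero hu hlam) (fun v => by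
    rw [smul_zero, smul_zero, add_zero, add_zero, herm_zero_right hF, herm_zero_right hF, sub_zero,
      sub_zero]
    exact hT lam hlam v) v
  rwa [smul_zero, smul_zero, add_zero, add_zero, herm_zero_right hF, herm_zero_right hF, sub_zero,
    sub_zero] at h1

/-- the scalar condition gives `τ = 1` -/
theorem field_of_trace (hF : Fintype.card F = q ^ 2) {c : F}
    (h : ∀ lam : F, lam + lam ^ q = 0 → τ lam * (c * c ^ q) = lam)
    {m : ℕ} (hm : Odd m) (hτ : τ ^ m = 1) : τ = 1 := by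
  refine field_eq_one hF (fun r hr => ?_) hm hτ
  obtain ⟨lam, hlam0, hlam⟩ := exists_trace_zero_ne hF
  have h1 := h lam hlam
  have h2 := h (r * lam) (by rw [mul_pow, hr, ← mul_add, hlam, mul_zero])
  rw [map_mul] at h2
  have h3 : τ r * lam = r * lam := by
    calc τ r * lam = τ r * (τ lam * (c * c ^ q)) := by rw [h1]
      _ = r * lam := by rw [← h2]; ring
  exact mul_right_cancel₀ hlam0 h3

end Transv

end Cfsg.Agent.UGT.U2.FOne.PSU
end
end

-- part: UGT/U2/FOne/PSUSemi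
section
prune_inst 0x4345075446d2210000018001262001e62b600049200488800c04003420ec9ec6028034021ba301110801008444038006811880100424800000e000000011d01800000000090480000000000000000400000000000000000000000000000000000000000000
set_option linter.all false
open scoped Cfsg.Agent.FastGrp
/-!
# (f1) for `PSU_n(q)`: semilinear involutions

`T` = the semilinear map of an involutory automorphism `toAut A ρ`, `ρ ≠ 1`, of `PSU_n(q)`, `q` odd; `T² = c = ± 1`.
The automorphisms of odd order fixing all `p`-elements of `C(x)` are trivial.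
-/

set_option autoImplicit false
set_option linter.unusedSectionVars false

namespace Cfsg.Agent.UGT.U2.FOne.PSUSemi

open Matrix Cfsg
open Cfsg.Agent.LieClassical.HermBasic Cfsg.Agent.LieClassical.HermSiegel
open Cfsg.Agent.ClassicalGeometry.PSUAutCount (gm semiConj toAut gm_mul gm_one gm_mul_inv gm_inv_mul eq_of_toAut_eq
  toAut_tau exists_r sc gm_sc_mul toAut_sc_mul herm_gm act_semiConj herm_semi gm_mulVec_inv gm_inv_mulVec)
open Cfsg.Agent.ClassicalGeometry.UnitAutBasic (pr pr_surjective tau tau_def c0 c0_tr c0_ne_zero tau_eq_tau_iff T_eq)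
open Cfsg.Agent.Schreier.PSU (f₁ f₂ toAut_eq mapGU conj_field toAut_pr' gm_mapGU)
open Cfsg.Agent.ClassicalGeometry.PSUAutExt (isSiegel_semi semiConj_siegel)

section Map

variable {F : Type*} [Field F] {q n : ℕ}

/-- The semilinear map `v ↦ A ρ(v)`. -/
def S (A : GU n F q) (ρ : F ≃+* F) (v : Fin n → F) : Fin n → F := gm A *ᵥ fun i => ρ (v i)

theorem S_def (A : GU n F q) (ρ : F ≃+* F) (v : Fin n → F) : S A ρ v = gm A *ᵥ fun i => ρ (v i) := rfl

theorem S_add (A : GU n F q) (ρ : F ≃+* F) (u v : Fin n → F) : S A ρ (u + v) = S A ρ u + S A ρ v := by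
  rw [S_def, S_def, S_def, ← mulVec_add]
  congr 1
  funext i
  exact map_add ρ _ _

theorem S_smul (A : GU n F q) (ρ : F ≃+* F) (a : F) (v : Fin n → F) : S A ρ (a • v) = ρ a • S A ρ v := by
  rw [S_def, S_def, ← mulVec_smul]
  congr 1
  funext i
  exact map_mul ρ _ _

theorem S_herm (A : GU n F q) (ρ : F ≃+* F) (u v : Fin n → F) :
    hermForm n F q (S A ρ u) (S A ρ v) = ρ (hermForm n F q u v) := herm_semi A ρ u v

theorem S_S (A B : GU n F q) (ρ σ : F ≃+* F) (v : Fin n → F) :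
    S A ρ (S B σ v) = S (A * mapGU ρ B) (ρ * σ) v := by
  rw [S_def, S_def, S_def, gm_mul, ← mulVec_mulVec]
  congr 1
  rw [← gm_mapGU]
  rfl

theorem toAut_mul (A B : GU n F q) (ρ σ : F ≃+* F) :
    toAut A ρ * toAut B σ = toAut (A * mapGU ρ B) (ρ * σ) := by
  rw [toAut_eq, toAut_eq, toAut_eq, map_mul, map_mul, ← conj_field]
  group

end Map

section Abs

variable {F : Type*} [Field F] [Fintype F] {q n : ℕ}

/-- `T` is conjugate-semilinear, preserves the form up to conjugation, `T² = c`. -/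
structure Sm (q : ℕ) (T : (Fin n → F) → (Fin n → F)) (c : F) : Prop where
  add : ∀ u v, T (u + v) = T u + T v
  smul : ∀ (a : F) v, T (a • v) = a ^ q • T v
  herm : ∀ u v, hermForm n F q (T u) (T v) = hermForm n F q u v ^ q
  sq : ∀ v, T (T v) = c • v
  norm : c * c ^ q = 1

namespace Sm

variable {T : (Fin n → F) → (Fin n → F)} {c : F}

omit [Fintype F] in
theorem zero (h : Sm q T c) (hq : q ≠ 0) : T 0 = 0 := by
  have h1 := h.smul 0 0
  rwa [zero_smul, zero_pow hq, zero_smul] at h1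

omit [Fintype F] in
theorem c_ne (h : Sm q T c) : c ≠ 0 := by
  intro h0
  have h1 := h.norm
  rw [h0, zero_mul] at h1
  exact zero_ne_one h1

theorem ne_zero (hF : Fintype.card F = q ^ 2) (h : Sm q T c) {v : Fin n → F} (hv : v ≠ 0) : T v ≠ 0 := by
  intro h0
  have h1 := h.sq v
  rw [h0, h.zero (q_pos hF).ne'] at h1
  rcases smul_eq_zero.1 h1.symm with h2 | h2
  · exact h.c_ne h2
  · exact hv h2

theorem c_pow (hF : Fintype.card F = q ^ 2) (h : Sm q T c) {v : Fin n → F} (hv : v ≠ 0) : c ^ q = c := by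
  have h1 := h.sq (T v)
  rw [h.sq v, h.smul, ← sub_eq_zero, ← sub_smul] at h1
  rcases smul_eq_zero.1 h1 with h2 | h2
  · exact sub_eq_zero.1 h2
  · exact absurd h2 (h.ne_zero hF hv)

theorem c_cases (hF : Fintype.card F = q ^ 2) (h : Sm q T c) {v : Fin n → F} (hv : v ≠ 0) : c = 1 ∨ c = -1 := by
  have h1 := h.norm
  rw [h.c_pow hF hv] at h1
  exact mul_self_eq_one_iff.1 h1

/-- the vectors of the `F_q`-form `T v = l v` -/
theorem mem_add (h : Sm q T c) {l : F} {u v : Fin n → F} (hu : T u = l • u) (hv : T v = l • v) :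
    T (u + v) = l • (u + v) := by rw [h.add, hu, hv, smul_add]

theorem mem_smul (h : Sm q T c) {l a : F} (ha : a ^ q = a) {u : Fin n → F} (hu : T u = l • u) :
    T (a • u) = l • (a • u) := by rw [h.smul, hu, ha, smul_comm]

theorem mem_sub (hF : Fintype.card F = q ^ 2) (h : Sm q T c) {l : F} {u v : Fin n → F} (hu : T u = l • u)
    (hv : T v = l • v) : T (u - v) = l • (u - v) := by
  have h1 : u - v = u + (-1 : F) • v := by rw [neg_one_smul, sub_eq_add_neg]
  rw [h1]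
  exact h.mem_add hu (h.mem_smul (by rw [neg_pow_q hF, one_pow]) hv)

/-- the projection to the form -/
theorem mem_pj (h : Sm q T c) {l : F} (hl : l * l ^ q = c) (v : Fin n → F) :
    T (v + l⁻¹ • T v) = l • (v + l⁻¹ • T v) := by
  have hl0 : l ≠ 0 := by
    rintro rfl
    rw [zero_mul] at hl
    exact h.c_ne hl.symm
  have hlq : l ^ q ≠ 0 := pow_ne_zero _ hl0
  rw [h.add, h.smul, h.sq, smul_add, smul_smul, smul_smul, mul_inv_cancel₀ hl0, one_smul, add_comm, ← hl, inv_pow]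
  congr 2
  field_simp

/-- the form spans -/
theorem exists_comb (hF : Fintype.card F = q ^ 2) (h2 : (2 : F) ≠ 0) (h : Sm q T c) {l : F} (hl : l * l ^ q = c)
    (v : Fin n → F) :
    ∃ (a b : F) (x y : Fin n → F), T x = l • x ∧ T y = l • y ∧ v = a • x + b • y := by
  have hl0 : l ≠ 0 := by
    rintro rfl
    rw [zero_mul] at hl
    exact h.c_ne hl.symm
  obtain ⟨t, ht0, ht⟩ := exists_trace_zero_ne hF
  have ht' : t ^ q = -t := by linear_combination ht
  refine ⟨2⁻¹, 2⁻¹ * t⁻¹, _, _, h.mem_pj hl v, h.mem_pj hl (t • v), ?_⟩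
  rw [h.smul, ht']
  funext i
  simp only [Pi.add_apply, Pi.smul_apply, smul_eq_mul]
  field_simp
  ring

/-- two maps equal up to a scalar on the form -/
theorem ext_form (hF : Fintype.card F = q ^ 2) (h2 : (2 : F) ≠ 0) (h : Sm q T c) {l : F} (hl : l * l ^ q = c)
    {M : Matrix (Fin n) (Fin n) F} {k : F} (hM : ∀ v, T v = l • v → M *ᵥ v = k • v) (v : Fin n → F) :
    M *ᵥ v = k • v := by
  obtain ⟨a, b, x, y, hx, hy, rfl⟩ := h.exists_comb hF h2 hl v
  rw [mulVec_add, mulVec_smul, mulVec_smul, hM x hx, hM y hy, smul_add, smul_comm a, smul_comm b]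

/-- a vector orthogonal to the form is zero -/
theorem eq_zero_of_orth (hF : Fintype.card F = q ^ 2) (h2 : (2 : F) ≠ 0) (h : Sm q T c) {l : F} (hl : l * l ^ q = c)
    {u : Fin n → F} (hu : ∀ v, T v = l • v → hermForm n F q u v = 0) : u = 0 := by
  apply herm_nondeg hF
  intro v
  obtain ⟨a, b, x, y, hx, hy, rfl⟩ := h.exists_comb hF h2 hl v
  rw [herm_add_right hF, herm_smul_right, herm_smul_right, hu x hx, hu y hy, mul_zero, mul_zero, add_zero]

/-- values of the form -/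
theorem herm_form (h : Sm q T c) {l : F} (hl : l * l ^ q = c)
    {u v : Fin n → F} (hu : T u = l • u) (hv : T v = l • v) :
    hermForm n F q u v ^ q = c * hermForm n F q u v := by
  rw [← h.herm, hu, hv, herm_smul_left, herm_smul_right, ← mul_assoc, hl]

end Sm

/-- There is a vector of the form outside a given line. -/
theorem Sm.exists_indep (hF : Fintype.card F = q ^ 2) (h2 : (2 : F) ≠ 0) (hn : 2 ≤ n)
    {T : (Fin n → F) → (Fin n → F)} {c : F} (h : Sm q T c) {l : F} (hl : l * l ^ q = c)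
    (u : Fin n → F) : ∃ w, T w = l • w ∧ ∀ a : F, w ≠ a • u := by
  by_contra hcon
  push Not at hcon
  have h1 : ∀ v : Fin n → F, ∃ a : F, v = a • u := by
    intro v
    obtain ⟨a, b, x, y, hx, hy, rfl⟩ := h.exists_comb hF h2 hl v
    obtain ⟨a', ha⟩ := hcon x hx
    obtain ⟨b', hb⟩ := hcon y hy
    exact ⟨a * a' + b * b', by rw [ha, hb, smul_smul, smul_smul, ← add_smul]⟩
  obtain ⟨a, ha⟩ := h1 (Pi.single ⟨0, by omega⟩ 1)
  obtain ⟨b, hb⟩ := h1 (Pi.single ⟨1, by omega⟩ 1)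
  have e1 := congrFun ha ⟨0, by omega⟩
  have e2 := congrFun ha ⟨1, by omega⟩
  have e3 := congrFun hb ⟨0, by omega⟩
  have e4 := congrFun hb ⟨1, by omega⟩
  simp at e1 e2 e3 e4
  have ha0 : a ≠ 0 := by rintro rfl; simp at e1
  have hb0 : b ≠ 0 := by rintro rfl; simp at e4
  rcases e2 with e2 | e2
  · exact ha0 e2
  · rw [e2, mul_zero] at e4; exact one_ne_zero e4

/-- A semilinear map with all the vectors of the form as eigenvectors is a scalar on the form. -/
theorem Sm.uniform (hF : Fintype.card F = q ^ 2) (h2 : (2 : F) ≠ 0) (hn : 2 ≤ n)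
    {T : (Fin n → F) → (Fin n → F)} {c : F} (h : Sm q T c) {l : F} (hl : l * l ^ q = c)
    {R : (Fin n → F) → (Fin n → F)} {σ : F ≃+* F} (hadd : ∀ u v, R (u + v) = R u + R v)
    (hsmul : ∀ (a : F) v, R (a • v) = σ a • R v) (hinj : ∀ v, v ≠ 0 → R v ≠ 0)
    (heig : ∀ v, T v = l • v → v ≠ 0 → ∃ k : F, R v = k • v) :
    (∀ a : F, a ^ q = a → σ a = a) ∧ ∃ k : F, ∀ v, T v = l • v → R v = k • v := by
  have hR0 : R 0 = 0 := by
    have := hsmul 0 0
    rwa [zero_smul, map_zero, zero_smul] at this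
  -- independent vectors have the same eigenvalue
  have key : ∀ u v, T u = l • u → T v = l • v → u ≠ 0 → (∀ a : F, v ≠ a • u) → ∀ k k' : F,
      R u = k • u → R v = k' • v → k = k' := by
    intro u v hu hv hu0 hv0 k k' hk hk'
    have hne : u + v ≠ 0 := by
      intro h0
      apply hv0 (-1)
      rw [neg_one_smul, eq_neg_iff_add_eq_zero, add_comm]
      exact h0
    obtain ⟨k'', hk''⟩ := heig (u + v) (h.mem_add hu hv) hne
    rw [hadd, hk, hk', smul_add] at hk''
    have h1 : (k' - k'') • v = (k'' - k) • u := by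
      rw [sub_smul, sub_smul, sub_eq_sub_iff_add_eq_add, add_comm, hk'', add_comm]
    have h3 : k' - k'' = 0 := by
      by_contra h4
      apply hv0 ((k' - k'')⁻¹ * (k'' - k))
      rw [← smul_smul, ← h1, smul_smul, inv_mul_cancel₀ h4, one_smul]
    rw [h3, zero_smul] at h1
    rcases smul_eq_zero.1 h1.symm with h4 | h4
    · rw [← sub_eq_zero.1 h4, ← sub_eq_zero.1 h3]
    · exact absurd h4 hu0
  obtain ⟨u, hu, hu1⟩ := h.exists_indep hF h2 hn hl 0
  have hu0 : u ≠ 0 := fun h0 => hu1 0 (by rw [h0, smul_zero])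
  obtain ⟨k, hk⟩ := heig u hu hu0
  obtain ⟨w, hw, hw1⟩ := h.exists_indep hF h2 hn hl u
  have hw0 : w ≠ 0 := fun h0 => hw1 0 (by rw [h0, zero_smul])
  obtain ⟨k', hk'⟩ := heig w hw hw0
  have e1 := key u w hu hw hu0 hw1 k k' hk hk'
  subst e1
  have hall : ∀ v, T v = l • v → R v = k • v := by
    intro v hv
    by_cases hv0 : v = 0
    · rw [hv0, hR0, smul_zero]
    obtain ⟨k'', hk''⟩ := heig v hv hv0
    by_cases hvu : ∃ a : F, v = a • u
    · obtain ⟨a, rfl⟩ := hvu
      have ha0 : a ≠ 0 := by rintro rfl; exact hv0 (zero_smul _ _)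
      have h3 : ∀ b : F, w ≠ b • (a • u) := fun b hb => hw1 (b * a) (by rw [hb, smul_smul])
      have h4 := key (a • u) w hv hw hv0 h3 k'' k hk'' hk'
      rw [hk'', h4]
    · push Not at hvu
      have h4 := key u v hu hv hu0 hvu k k'' hk hk''
      rw [hk'', h4]
  refine ⟨?_, k, hall⟩
  intro a ha
  have h3 := hall (a • u) (h.mem_smul ha hu)
  rw [hsmul, hk, smul_smul, smul_smul] at h3
  have h4 : (σ a * k - k * a) • u = 0 := by rw [sub_smul, h3, sub_self]
  have hk0 : k ≠ 0 := by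
    rintro rfl
    exact hinj u hu0 (by rw [hk, zero_smul])
  rcases smul_eq_zero.1 h4 with h5 | h5
  · have h6 : (σ a - a) * k = 0 := by linear_combination h5
    exact sub_eq_zero.1 ((mul_eq_zero.1 h6).resolve_right hk0)
  · exact absurd h5 hu0

/-- A field automorphism trivial on `F_q` has square `1`. -/
theorem sq_of_fix (hF : Fintype.card F = q ^ 2) {σ : F ≃+* F} (h : ∀ a : F, a ^ q = a → σ a = a) : σ * σ = 1 := by
  apply RingEquiv.ext
  intro x
  show σ (σ x) = x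
  have h1 := h (x + x ^ q) (trace_pow_q hF x)
  have h3 := h (x * x ^ q) (norm_pow_q hF x)
  rw [map_add] at h1
  rw [map_mul] at h3
  have h4 : (σ x - x) * (σ x - x ^ q) = 0 := by linear_combination σ x * h1 - h3
  have e : σ (x ^ q) = x + x ^ q - σ x := by linear_combination h1
  rcases mul_eq_zero.1 h4 with h5 | h5
  · rw [sub_eq_zero.1 h5, sub_eq_zero.1 h5]
  · have h6 : σ x = x ^ q := sub_eq_zero.1 h5
    rw [h6, e, h6]
    ring

end Abs

section Data

variable {F : Type*} [Field F] [Fintype F] {q n : ℕ}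

theorem S_ne_zero (A : GU n F q) (ρ : F ≃+* F) {v : Fin n → F} (hv : v ≠ 0) : S A ρ v ≠ 0 := by
  intro h
  apply hv
  have h1 := congrArg (fun w => gm A⁻¹ *ᵥ w) h
  simp only [S_def, gm_inv_mulVec, mulVec_zero] at h1
  funext i
  have := congrFun h1 i
  simpa using this

/-- The data of a semilinear involution. -/
theorem data (hF : Fintype.card F = q ^ 2) (hn : 3 ≤ n) {A : GU n F q} {s : F ≃+* F} (hs : s ≠ 1)
    (hx : toAut A s * toAut A s = 1) : s = conj hF ∧ ∃ c, Sm q (S A s) c := by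
  have e1 : toAut (1 : GU n F q) 1 = toAut (A * mapGU s A) (s * s) := by
    rw [← toAut_mul, hx]
    exact map_one f₁
  obtain ⟨hρ, c, hcq, hc⟩ := eq_of_toAut_eq hF hn e1
  have hs' : s = conj hF := Cfsg.Agent.Cit.FourU.eq_conj hF hρ hs
  subst hs'
  refine ⟨rfl, c, ⟨fun u v => S_add _ _ u v, fun a v => S_smul _ _ a v, fun u v => S_herm _ _ u v, ?_, hcq⟩⟩
  intro v
  rw [S_S, S_def, hc, hρ, gm_one, smul_mulVec, one_mulVec]
  rfl

/-- eigenvectors from fixed transvections -/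
theorem eig_of_tau (hF : Fintype.card F = q ^ 2) (hn : 3 ≤ n) {B : GU n F q} {σ : F ≃+* F} {v : Fin n → F}
    (hv : hermForm n F q v v = 0) (h0 : v ≠ 0) (h : toAut B σ (tau hF v) = tau hF v) : ∃ k : F, S B σ v = k • v := by
  obtain ⟨r, hr0, hr⟩ := exists_r hF σ
  rw [toAut_tau hF B σ hr hv, eq_comm, tau_eq_tau_iff hF hn hv
    (by rw [herm_smul_left, herm_smul_right, herm_semi, hv, map_zero, mul_zero, mul_zero]) h0] at h
  obtain ⟨z, -, hz⟩ := h
  refine ⟨r⁻¹ * z, ?_⟩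
  rw [← smul_smul, ← hz, smul_smul, inv_mul_cancel₀ hr0, one_smul]
  rfl

theorem tau_pow (hF : Fintype.card F = q ^ 2) (p : ℕ) [Fact p.Prime] [CharP F p] {v : Fin n → F}
    (hv : hermForm n F q v v = 0) : ∃ k : ℕ, tau hF v ^ p ^ k = 1 := by
  rw [tau_def, T_eq hF hv]
  obtain ⟨k, hk⟩ := Cfsg.Agent.ClassicalGeometry.PSUAutBasic.siegel_pow_prime_pow hF p
    (u := v) (w := 0) (μ := c0 hF) ⟨hv, herm_zero_left v, by rw [herm_zero_left, add_zero]; exact c0_tr hF⟩
  exact ⟨k, by rw [← map_pow, hk, map_one]⟩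

/-- **The case `T² = -1`.** -/
theorem key_neg (hF : Fintype.card F = q ^ 2) (hn : 3 ≤ n) (h2 : (2 : F) ≠ 0) (p : ℕ) [Fact p.Prime] [CharP F p]
    {A : GU n F q} (hT : Sm q (S A (conj hF)) (-1 : F)) {l : F} (hl : l * l ^ q = -1) {B : GU n F q} {σ : F ≃+* F}
    (hfix : ∀ v, toAut A (conj hF) v = v → (∃ k, v ^ p ^ k = 1) → toAut B σ v = v) :
    (∀ a : F, a ^ q = a → σ a = a) ∧ ∃ k : F, ∀ v, S A (conj hF) v = l • v → S B σ v = k • v := by
  refine hT.uniform hF h2 (by omega) hl (fun u v => S_add _ _ u v) (fun a v => S_smul _ _ a v)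
    (fun v hv => S_ne_zero _ _ hv) ?_
  intro v hv hv0
  have hiso : hermForm n F q v v = 0 := by
    have h1 := hT.herm_form hl hv hv
    rw [herm_self_pow hF] at h1
    have h3 : (2 : F) * hermForm n F q v v = 0 := by linear_combination h1
    exact (mul_eq_zero.1 h3).resolve_left h2
  have hl0 : l ≠ 0 := by
    rintro rfl
    rw [zero_mul] at hl
    exact one_ne_zero (by linear_combination hl : (1 : F) = 0)
  have hr : c0 hF * (l⁻¹ * l⁻¹ ^ q) = conj hF (c0 hF) := by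
    have h3 : l⁻¹ * l⁻¹ ^ q = -1 := by
      rw [inv_pow, ← mul_inv, hl]; norm_num
    rw [h3, conj_apply]
    linear_combination -c0_tr hF
  refine eig_of_tau hF hn hiso hv0 (hfix _ ?_ (tau_pow hF p hiso))
  rw [toAut_tau hF A (conj hF) hr hiso]
  congr 1
  rw [← S_def, hv, smul_smul, inv_mul_cancel₀ hl0, one_smul]

end Data

end Cfsg.Agent.UGT.U2.FOne.PSUSemi
end

-- part: UGT/U2/FOne/FFourComb
section
prune_inst 0x4147065441d22120000000012200000043c00049000400800184005420906d2620d42600048201d1208028c802800002000980010407000000e0004000005012080a95206b348010424000f803007180c00000000000000000000000000041000000000000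
set_option linter.all false
open scoped Cfsg.Agent.FastGrp

/-!
# `A₂`-pairs in root systems without `G₂`, and the root combinatorics of `F₄` (for (f1), `F₄(q)`)

* `a2_of_noThree` : in a root system without `G₂`, two roots with `⟨x, y^∨⟩ = ⟨y, x^∨⟩ = -1` are an `A2`-pair;
* `rep_wJ` : the longest element of a commuting parabolic subgroup acts on a root orthogonal to all `α_i`, `j ≠ i ∈ J`,
  as the reflection `s_j`;
* `sigma_matrix` : the permutation of the types induced by an automorphism of `W` preserves the Coxeter matrix;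
* `F₄` (coordinates of `chevF4`: the nodes `0, 1` short, `2, 3` long): `noThree`, `exists_pair`, `sigma_cases`.
-/

set_option autoImplicit false
set_option linter.unusedSectionVars false

namespace Cfsg.Agent.UGT.U2.FOne.FFour

open CoxeterSystem Cfsg.Agent.ChevalleyStructure.CoxeterGeom Cfsg.Agent.Tits.Roots Cfsg.Agent.Tits.Core
  Cfsg.Agent.Tits Cfsg.Agent.Tits.RootComb Cfsg.Agent.Nodes.Comb Cfsg.Agent.Nodes.Reps Cfsg.Agent.Nodes.Coroot
  Cfsg.Agent.Nodes.PosPair Cfsg.Agent.KFacts.RgdSL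

section Abs

variable {I W : Type*} [Fintype I] [DecidableEq I] [Group W] {M : CoxeterMatrix I}
  {cs : CoxeterSystem M W} {A : I → I → ℤ} {h : IsCartan M A}

/-- No two roots span a `G₂`. -/
def NoThree (cs : CoxeterSystem M W) (h : IsCartan M A) : Prop :=
  ∀ x y, IsRoot cs h x → IsRoot cs h y → cpr cs h x y * cpr cs h y x ≠ 3

/-- the numerical part -/
theorem num {P Q P' Q' S : ℤ} (hS : S = P * P + P * Q + Q * Q) (h1 : 0 < 2 * P + Q) (h2 : 0 < P + 2 * Q)
    (hP : 3 * P = P' * S) (hQ : 3 * Q = Q' * S) (hb : -2 ≤ P ∧ P ≤ 2) (hb' : -2 ≤ Q ∧ Q ≤ 2)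
    (h3 : P * P' ≠ 3) (h4 : Q * Q' ≠ 3) : P = 1 ∧ Q = 1 := by
  obtain ⟨b1, b2⟩ := hb
  obtain ⟨b3, b4⟩ := hb'
  have hp : P = -2 ∨ P = -1 ∨ P = 0 ∨ P = 1 ∨ P = 2 := by omega
  have hq : Q = -2 ∨ Q = -1 ∨ Q = 0 ∨ Q = 1 ∨ Q = 2 := by omega
  subst hS
  rcases hp with rfl | rfl | rfl | rfl | rfl <;> rcases hq with rfl | rfl | rfl | rfl | rfl <;> (clear * - h1 h4 hQ h2 h3 hP; omega)

theorem abs_cpr_le [Finite W] (h3 : NoThree cs h) {x y : I → ℤ} (hx : IsRoot cs h x) (hy : IsRoot cs h y)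
    (hxy : x ≠ y) (hxy' : x ≠ -y) : -2 ≤ cpr cs h x y ∧ cpr cs h x y ≤ 2 := by
  have := Fintype.ofFinite W
  have h1 := cpr_mul_lt hx hy hxy hxy'
  have h2 := h3 x y hx hy
  have e1 := two_form_cpr cs h x hy
  have e2 := two_form_cpr cs h y hx
  have e3 := form_comm cs h x y
  have p1 := form_pos cs h hx.ne_zero
  have p2 := form_pos cs h hy.ne_zero
  -- same sign
  generalize cpr cs h x y = c at *
  generalize cpr cs h y x = c' at *
  have h4 : c * form cs h y y = c' * form cs h x x := by linarith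
  by_contra hcon
  have hc : 3 ≤ c ∨ c ≤ -3 := by omega
  have hc0 : c' ≠ 0 := by
    rintro rfl
    rw [zero_mul] at h4
    rcases mul_eq_zero.1 h4 with h5 | h5
    · omega
    · omega
  rcases hc with hc | hc
  · have : 0 < c' := by
      by_contra h5
      have h6 : c' * form cs h x x ≤ 0 := mul_nonpos_of_nonpos_of_nonneg (by omega) p1.le
      have h7 : 0 < c * form cs h y y := mul_pos (by omega) p2
      omega
    have h8 : 3 ≤ c * c' := by nlinarith only [hc, this]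
    omega
  · have : c' < 0 := by
      by_contra h5
      have h6 : 0 ≤ c' * form cs h x x := mul_nonneg (by omega) p1.le
      have h7 : c * form cs h y y < 0 := mul_neg_of_neg_of_pos (by omega) p2
      omega
    have h8 : 3 ≤ c * c' := by nlinarith only [hc, this]
    omega

/-- the length relations -/
theorem core [Fintype W] (h3 : NoThree cs h) {x y z : I → ℤ} (hx : IsRoot cs h x) (hy : IsRoot cs h y)
    (hxy : x ≠ y) (hxy' : x ≠ -y) (hN : form cs h x x = form cs h y y) (hz : Btwn cs h x y z) :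
    ∃ m a b : ℤ, 0 < m ∧ 0 < a ∧ 0 < b ∧ m • z = a • x + b • y ∧
      m * cpr cs h z x = 2 * a + b * cpr cs h y x ∧ m * cpr cs h z y = a * cpr cs h x y + 2 * b ∧
      (-2 ≤ cpr cs h z x ∧ cpr cs h z x ≤ 2) ∧ (-2 ≤ cpr cs h z y ∧ cpr cs h z y ≤ 2) ∧
      cpr cs h z x * cpr cs h x z ≠ 3 ∧ cpr cs h z y * cpr cs h y z ≠ 3 ∧
      2 * m = a * cpr cs h x z + b * cpr cs h y z ∧
      cpr cs h z x * form cs h x x = cpr cs h x z * form cs h z z ∧
      cpr cs h z y * form cs h x x = cpr cs h y z * form cs h z z ∧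
      0 < form cs h x x ∧ 0 < form cs h z z := by
  obtain ⟨hzr, m, a, b, hm, ha, hb, he⟩ := hz
  have e1 : m * cpr cs h z x = 2 * a + b * cpr cs h y x := by
    rw [← cpr_smul cs h m z hx, he, cpr_add cs h _ _ hx, cpr_smul cs h a x hx, cpr_smul cs h b y hx,
      cpr_self cs h hx]; ring
  have e2 : m * cpr cs h z y = a * cpr cs h x y + 2 * b := by
    rw [← cpr_smul cs h m z hy, he, cpr_add cs h _ _ hy, cpr_smul cs h a x hy, cpr_smul cs h b y hy,
      cpr_self cs h hy]; ring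
  have e3 : 2 * m = a * cpr cs h x z + b * cpr cs h y z := by
    have h1 := cpr_smul cs h m z hzr
    rw [he, cpr_add cs h _ _ hzr, cpr_smul cs h a x hzr, cpr_smul cs h b y hzr, cpr_self cs h hzr] at h1
    linarith
  have hlin : ∀ c : ℤ, z ≠ c • x := by
    rintro c rfl
    have h1 : (m * c - a) • x = b • y := by
      rw [sub_smul, mul_smul, he]; abel
    by_cases h2 : m * c - a = 0
    · rw [h2, zero_smul] at h1
      exact hy.ne_zero ((smul_eq_zero.1 h1.symm).resolve_left hb.ne')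
    · rcases eq_or_eq_neg_of_smul cs h hx hy h2 h1 with h3 | h3
      · exact hxy h3
      · exact hxy' h3
  have hlin' : ∀ c : ℤ, z ≠ c • y := by
    rintro c rfl
    have h1 : a • x = (m * c - b) • y := by
      rw [sub_smul, mul_smul, he]; abel
    rcases eq_or_eq_neg_of_smul cs h hx hy ha.ne' h1 with h3 | h3
    · exact hxy h3
    · exact hxy' h3
  have f1 := two_form_cpr cs h z hx
  have f2 := two_form_cpr cs h x hzr
  have f3 := two_form_cpr cs h z hy
  have f4 := two_form_cpr cs h y hzr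
  have g1 := form_comm cs h z x
  have g2 := form_comm cs h z y
  refine ⟨m, a, b, hm, ha, hb, he, e1, e2,
    abs_cpr_le h3 hzr hx (by simpa using hlin 1) (by simpa using hlin (-1)),
    abs_cpr_le h3 hzr hy (by simpa using hlin' 1) (by simpa using hlin' (-1)),
    h3 z x hzr hx, h3 z y hzr hy, e3, by linarith only [f1, f2, g1], ?_, form_pos cs h hx.ne_zero, form_pos cs h hzr.ne_zero⟩
  rw [hN]; linarith

theorem form_eq_of [Fintype W] {x y : I → ℤ} (hx : IsRoot cs h x) (hy : IsRoot cs h y)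
    (hc : cpr cs h x y = cpr cs h y x) (h0 : cpr cs h x y ≠ 0) : form cs h x x = form cs h y y := by
  have e1 := two_form_cpr cs h x hy
  have e2 := two_form_cpr cs h y hx
  have e3 := form_comm cs h x y
  rw [← hc] at e2
  have : cpr cs h x y * form cs h y y = cpr cs h x y * form cs h x x := by linarith
  exact (mul_left_cancel₀ h0 this).symm

/-- at 120 degrees -/
theorem btwn_120 [Finite W] (h3 : NoThree cs h) {x y z : I → ℤ} (hx : IsRoot cs h x) (hy : IsRoot cs h y)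
    (hc : cpr cs h x y = -1) (hc' : cpr cs h y x = -1) (hz : Btwn cs h x y z) : z = x + y := by
  have := Fintype.ofFinite W
  have hxy : x ≠ y := by
    rintro rfl
    rw [cpr_self cs h hx] at hc; omega
  have hxy' : x ≠ -y := by
    rintro rfl
    rw [cpr_neg_left _ hy, cpr_self cs h hy] at hc
    omega
  obtain ⟨m, a, b, hm, ha, hb, he, e1, e2, b1, b2, n1, n2, e3, f1, f2, N0, Z0⟩ :=
    core h3 hx hy hxy hxy' (form_eq_of hx hy (by rw [hc, hc']) (by rw [hc]; norm_num)) hz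
  rw [hc'] at e1
  rw [hc] at e2
  generalize cpr cs h z x = P at *
  generalize cpr cs h z y = Q at *
  generalize cpr cs h x z = P' at *
  generalize cpr cs h y z = Q' at *
  generalize form cs h x x = N at *
  generalize form cs h z z = Z at *
  have g1 : 3 * a = m * (2 * P + Q) := by linarith
  have g2 : 3 * b = m * (P + 2 * Q) := by linarith only [e1, e2]
  -- `3 Z = N S`
  have g3 : 3 * Z = N * (P * P + P * Q + Q * Q) := by
    have k1 : 2 * m * Z = N * (a * P + b * Q) := by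
      calc 2 * m * Z = (a * P' + b * Q') * Z := by rw [e3]
        _ = a * (P' * Z) + b * (Q' * Z) := by ring
        _ = _ := by rw [← f1, ← f2]; ring
    have k2 : (2 * m) * (3 * Z) = (2 * m) * (N * (P * P + P * Q + Q * Q)) := by
      calc (2 * m) * (3 * Z) = 3 * (2 * m * Z) := by ring
        _ = N * ((3 * a) * P + (3 * b) * Q) := by rw [k1]; ring
        _ = _ := by rw [g1, g2]; ring
    exact mul_left_cancel₀ (by omega) k2
  have g4 : 3 * P = P' * (P * P + P * Q + Q * Q) := by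
    have k : N * (3 * P) = N * (P' * (P * P + P * Q + Q * Q)) := by
      calc N * (3 * P) = 3 * (P * N) := by ring
        _ = P' * (3 * Z) := by rw [f1]; ring
        _ = _ := by rw [g3]; ring
    exact mul_left_cancel₀ N0.ne' k
  have g5 : 3 * Q = Q' * (P * P + P * Q + Q * Q) := by
    have k : N * (3 * Q) = N * (Q' * (P * P + P * Q + Q * Q)) := by
      calc N * (3 * Q) = 3 * (Q * N) := by ring
        _ = Q' * (3 * Z) := by rw [f2]; ring
        _ = _ := by rw [g3]; ring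
    exact mul_left_cancel₀ N0.ne' k
  have q1 : 0 < 2 * P + Q := by
    have : 0 < m * (2 * P + Q) := by rw [← g1]; omega
    exact (mul_pos_iff_of_pos_left hm).1 this
  have q2 : 0 < P + 2 * Q := by
    have : 0 < m * (P + 2 * Q) := by rw [← g2]; omega
    exact (mul_pos_iff_of_pos_left hm).1 this
  obtain ⟨rfl, rfl⟩ := num rfl q1 q2 g4 g5 b1 b2 n1 n2
  have h1 : a = m := by linarith only [e1, e2]
  have h2 : b = m := by linarith
  rw [h1, h2, ← smul_add] at he
  exact smul_right_injective _ hm.ne' he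

/-- at 60 degrees -/
theorem not_btwn_60 [Finite W] (h3 : NoThree cs h) {x y z : I → ℤ} (hx : IsRoot cs h x) (hy : IsRoot cs h y)
    (hc : cpr cs h x y = 1) (hc' : cpr cs h y x = 1) : ¬ Btwn cs h x y z := by
  intro hz
  have := Fintype.ofFinite W
  have hxy : x ≠ y := by
    rintro rfl
    rw [cpr_self cs h hx] at hc; omega
  have hxy' : x ≠ -y := by
    rintro rfl
    rw [cpr_neg_left _ hy, cpr_self cs h hy] at hc
    omega
  obtain ⟨m, a, b, hm, ha, hb, he, e1, e2, b1, b2, n1, n2, e3, f1, f2, N0, Z0⟩ :=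
    core h3 hx hy hxy hxy' (form_eq_of hx hy (by rw [hc, hc']) (by rw [hc]; norm_num)) hz
  rw [hc'] at e1
  rw [hc] at e2
  generalize cpr cs h z x = P at *
  generalize cpr cs h z y = Q at *
  generalize cpr cs h x z = P' at *
  generalize cpr cs h y z = Q' at *
  generalize form cs h x x = N at *
  generalize form cs h z z = Z at *
  have g1 : 3 * a = m * (2 * P - Q) := by linarith only [e1, e2]
  have g2 : 3 * b = m * (2 * Q - P) := by linarith only [e1, e2]
  have g3 : 3 * Z = N * (P * P - P * Q + Q * Q) := by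
    have k1 : 2 * m * Z = N * (a * P + b * Q) := by
      calc 2 * m * Z = (a * P' + b * Q') * Z := by rw [e3]
        _ = a * (P' * Z) + b * (Q' * Z) := by ring
        _ = _ := by rw [← f1, ← f2]; ring
    have k2 : (2 * m) * (3 * Z) = (2 * m) * (N * (P * P - P * Q + Q * Q)) := by
      calc (2 * m) * (3 * Z) = 3 * (2 * m * Z) := by ring
        _ = N * ((3 * a) * P + (3 * b) * Q) := by rw [k1]; ring
        _ = _ := by rw [g1, g2]; ring
    exact mul_left_cancel₀ (by omega) k2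
  have g4 : 3 * P = P' * (P * P - P * Q + Q * Q) := by
    have k : N * (3 * P) = N * (P' * (P * P - P * Q + Q * Q)) := by
      calc N * (3 * P) = 3 * (P * N) := by ring
        _ = P' * (3 * Z) := by rw [f1]; ring
        _ = _ := by rw [g3]; ring
    exact mul_left_cancel₀ N0.ne' k
  have q1 : 0 < 2 * P - Q := by
    have : 0 < m * (2 * P - Q) := by rw [← g1]; omega
    exact (mul_pos_iff_of_pos_left hm).1 this
  have q2 : 0 < 2 * Q - P := by
    have : 0 < m * (2 * Q - P) := by rw [← g2]; omega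
    exact (mul_pos_iff_of_pos_left hm).1 this
  obtain ⟨b1, b1'⟩ := b1
  obtain ⟨b2, b2'⟩ := b2
  have hp : P = -2 ∨ P = -1 ∨ P = 0 ∨ P = 1 ∨ P = 2 := by omega
  have hq : Q = -2 ∨ Q = -1 ∨ Q = 0 ∨ Q = 1 ∨ Q = 2 := by omega
  rcases hp with rfl | rfl | rfl | rfl | rfl <;> rcases hq with rfl | rfl | rfl | rfl | rfl <;> omega

/-- **`A₂`-pairs in root systems without `G₂`.** -/
theorem a2_of_noThree [Finite W] (h3 : NoThree cs h) {x y : I → ℤ} (hx : IsRoot cs h x) (hy : IsRoot cs h y)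
    (hc : cpr cs h x y = -1) (hc' : cpr cs h y x = -1) : A2 cs h x y := by
  have := Fintype.ofFinite W
  have hr := isRoot_add hx hy hc
  have hN := form_eq_of hx hy (by rw [hc, hc']) (by rw [hc]; norm_num)
  have e1 := two_form_cpr cs h x hy
  have e3 := form_comm cs h x y
  rw [hc] at e1
  have key : ∀ u, IsRoot cs h u → form cs h u u = form cs h x x → 2 * form cs h (x + y) u = form cs h x x →
      cpr cs h (x + y) u = 1 ∧ cpr cs h u (x + y) = 1 := by
    intro u hu hu1 hu2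
    have k1 : form cs h (x + y) (x + y) = form cs h x x := by
      rw [form_add_left, form_comm cs h x (x + y), form_comm cs h y (x + y), form_add_left, form_add_left,
        form_comm cs h y x]
      linarith
    have p1 := form_pos cs h hx.ne_zero
    refine ⟨?_, ?_⟩
    · have := two_form_cpr cs h (x + y) hu
      rw [hu1, hu2] at this
      have : 1 * form cs h x x = cpr cs h (x + y) u * form cs h x x := by rw [one_mul]; exact this
      exact (mul_right_cancel₀ p1.ne' this).symm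
    · have := two_form_cpr cs h u hr
      rw [form_comm cs h u (x + y), hu2, k1] at this
      have : 1 * form cs h x x = cpr cs h u (x + y) * form cs h x x := by rw [one_mul]; exact this
      exact (mul_right_cancel₀ p1.ne' this).symm
  have kx := key x hx rfl (by rw [form_add_left, form_comm cs h y x]; linarith)
  have ky := key y hy hN.symm (by rw [form_add_left]; linarith)
  refine ⟨hx, hy, hc, hc', fun z hz => btwn_120 h3 hx hy hc hc' hz, ?_, ?_, ?_, ?_, ?_⟩
  · intro z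
    exact not_btwn_60 h3 hx.neg hy (by rw [cpr_neg_left _ hy, hc]; rfl)
      (by rw [cpr_neg_right cs h _ hx, hc']; rfl)
  · intro z hz
    have h1 := btwn_120 h3 hx.neg hr (by rw [cpr_neg_left _ hr, kx.2])
      (by rw [cpr_neg_right cs h _ hx, kx.1]) hz
    rw [h1]; abel
  · intro z hz
    have h1 := btwn_120 h3 hy.neg hr (by rw [cpr_neg_left _ hr, ky.2])
      (by rw [cpr_neg_right cs h _ hy, ky.1]) hz
    rw [h1]; abel
  · intro z
    exact not_btwn_60 h3 hr hy ky.1 ky.2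
  · intro z
    exact not_btwn_60 h3 hr hx kx.1 kx.2

/-! ### The longest element of a commuting parabolic -/

theorem exists_decomp {J : Set I} (hJ : ∀ i ∈ J, ∀ j ∈ J, cs.simple i * cs.simple j = cs.simple j * cs.simple i)
    {j : I} (hj : j ∈ J) {w : W} (hw : w ∈ WJ cs J) :
    ∃ v ∈ WJ cs (J \ {j}), w = v ∨ w = cs.simple j * v := by
  have hcom : ∀ v ∈ WJ cs (J \ {j}), cs.simple j * v = v * cs.simple j := by
    intro v hv
    have h1 : WJ cs (J \ {j}) ≤ Subgroup.centralizer ({cs.simple j} : Set W) := by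
      unfold WJ
      rw [Subgroup.closure_le]
      rintro _ ⟨i, hi, rfl⟩
      rw [SetLike.mem_coe, Subgroup.mem_centralizer_iff]
      rintro _ rfl
      exact hJ j hj i hi.1
    exact Subgroup.mem_centralizer_iff.1 (h1 hv) _ rfl
  unfold WJ at hw
  refine Subgroup.closure_induction (p := fun w _ => ∃ v ∈ WJ cs (J \ {j}), w = v ∨ w = cs.simple j * v)
    ?_ ?_ ?_ ?_ hw
  · rintro _ ⟨i, hi, rfl⟩
    by_cases hij : i = j
    · subst hij
      exact ⟨1, one_mem _, Or.inr (mul_one _).symm⟩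
    · exact ⟨cs.simple i, Subgroup.subset_closure ⟨i, ⟨hi, hij⟩, rfl⟩, Or.inl rfl⟩
  · exact ⟨1, one_mem _, Or.inl rfl⟩
  · rintro a b _ _ ⟨u, hu, ha⟩ ⟨v, hv, hb⟩
    refine ⟨u * v, mul_mem hu hv, ?_⟩
    rcases ha with rfl | rfl <;> rcases hb with rfl | rfl
    · exact Or.inl rfl
    · right; rw [← mul_assoc, ← hcom _ hu, mul_assoc]
    · right; rw [mul_assoc]
    · left
      calc cs.simple j * u * (cs.simple j * v) = cs.simple j * (u * cs.simple j) * v := by group
        _ = cs.simple j * cs.simple j * (u * v) := by rw [← hcom _ hu]; group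
        _ = u * v := by rw [cs.simple_mul_simple_self, one_mul]
  · rintro a _ ⟨u, hu, ha⟩
    refine ⟨u⁻¹, inv_mem hu, ?_⟩
    rcases ha with rfl | rfl
    · exact Or.inl rfl
    · right
      rw [mul_inv_rev, cs.inv_simple, hcom _ (inv_mem hu)]

/-- `w_J` acts on roots orthogonal to `α_i`, `i ∈ J`, `i ≠ j`, as `s_j`. -/
theorem rep_wJ [Finite W] {J : Set I}
    (hJ : ∀ i ∈ J, ∀ j ∈ J, cs.simple i * cs.simple j = cs.simple j * cs.simple i) {j : I} (hj : j ∈ J) {r : I → ℤ}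
    (hr : ∀ i ∈ J, i ≠ j → cpr cs h r (sr i) = 0) :
    rep cs h (wJ cs J) r = r - cpr cs h r (sr j) • sr j := by
  have F : OppRes.Cox cs := inferInstance
  obtain ⟨v, hv, hw⟩ := exists_decomp hJ hj (F.wJ_mem J)
  have hfix : ∀ v ∈ WJ cs (J \ {j}), rep cs h v r = r := by
    intro v hv
    unfold WJ at hv
    refine Subgroup.closure_induction (p := fun v _ => rep cs h v r = r) ?_ ?_ ?_ ?_ hv
    · rintro _ ⟨i, hi, rfl⟩
      rw [rep_simple_eq, ← cpr_sr cs h r i, hr i hi.1 hi.2, zero_smul, sub_zero]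
    · rw [map_one, Module.End.one_apply]
    · intro a b _ _ ha hb
      rw [rep_mul_apply, hb, ha]
    · intro a _ ha
      conv_lhs => rw [← ha]
      rw [rep_inv_apply]
  rcases hw with hw | hw
  · exfalso
    have h1 := F.len_wJ_mul (J := J) (Exchange.simple_mem_WJ cs hj)
    rw [cs.length_simple] at h1
    have h2 : j ∈ J \ {j} := F.descent_mem _ _ hv j (by rw [← hw]; omega)
    exact h2.2 rfl
  · rw [hw, rep_mul_apply, hfix v hv, rep_simple_eq, ← cpr_sr cs h r j]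

/-- The type permutation of an automorphism of `W` preserves the Coxeter matrix. -/
theorem sigma_matrix [Finite W] {φ : W ≃* W} {σ : I → I} (hφ : ∀ i, φ (cs.simple i) = cs.simple (σ i)) (i j : I) :
    M (σ i) (σ j) = M i j := by
  rw [← LieRecognition.CoxForm.orderOf_eq cs (σ i) (σ j), ← LieRecognition.CoxForm.orderOf_eq cs i j, ← hφ, ← hφ, ← map_mul]
  exact orderOf_injective φ.toMonoidHom φ.injective _

end Abs

/-! ### `F₄` -/

section F4

open Cfsg.Lie Cfsg.Agent.ChevalleyStructure Cfsg.Agent.ChevalleyStructure.CoxeterGeomTypes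
  Cfsg.Agent.Nodes.RGDChev Cfsg.Agent.Nodes.KindF Cfsg.Agent.Nodes.KindChev

variable {W : Type*} [Group W] (cs : CoxeterSystem CoxeterMatrix.F₄ W)

/-- the Cartan matrix -/
abbrev AF : Fin 4 → Fin 4 → ℤ := cartanOf chevF4 4

theorem norm_root {x : Fin 4 → ℤ} (hx : IsRoot cs isType.isCartan x) : qf AF d x x = 2 ∨ qf AF d x x = 4 := by
  obtain ⟨w, i, rfl⟩ := hx
  rw [qf_root cs _ kd.hd]
  fin_cases i <;> simp [d]

theorem noThree : NoThree cs isType.isCartan := by
  intro x y hx hy h3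
  have : Finite W := finite_W isType cs
  have e1 := cpr_mul_qf cs isType.isCartan kd.hd x hy
  have e2 := cpr_mul_qf cs isType.isCartan kd.hd y hx
  rw [qf_comm kd.hd y x] at e2
  obtain ⟨q, hq⟩ : ∃ q, q = qf (cartanOf chevF4 4) d x y := ⟨_, rfl⟩
  rw [← hq] at e1 e2
  have e3 : 3 * (qf (cartanOf chevF4 4) d y y * qf (cartanOf chevF4 4) d x x) = 4 * (q * q) := by
    rw [← h3]
    linear_combination e1 * cpr cs isType.isCartan y x * qf (cartanOf chevF4 4) d x x + 2 * q * e2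
  have key : ∀ k : ℤ, q * q = k → k < 16 → k = 3 ∨ k = 6 ∨ k = 12 → False := by
    intro k hk h16 hk'
    have h1 : q < 4 := by nlinarith only [hk, h16]
    have h2 : -4 < q := by nlinarith only [hk, h16]
    interval_cases q <;> omega
  rcases norm_root cs hx with h | h <;> rcases norm_root cs hy with h' | h' <;> rw [h, h'] at e3
  · exact key 3 (by omega) (by norm_num) (by norm_num)
  · exact key 6 (by omega) (by norm_num) (by norm_num)
  · exact key 6 (by omega) (by norm_num) (by norm_num)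
  · exact key 12 (by omega) (by norm_num) (by norm_num)

theorem cpr_of {x y : Fin 4 → ℤ} (hy : IsRoot cs isType.isCartan y) {c n : ℤ} (hn : qf AF d y y = n)
    (hc : 2 * qf AF d x y = c * n) : cpr cs isType.isCartan x y = c := by
  have : Finite W := finite_W isType cs
  have e1 := cpr_mul_qf cs isType.isCartan kd.hd x hy
  have hn' : qf (cartanOf chevF4 4) d y y = n := hn
  have hc' : 2 * qf (cartanOf chevF4 4) d x y = c * n := hc
  rw [hn', hc'] at e1
  have h0 : n ≠ 0 := by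
    rintro rfl
    rcases norm_root cs hy with h | h
    · rw [hn] at h; omega
    · rw [hn] at h; omega
  exact mul_right_cancel₀ h0 e1

theorem a2_of {x y : Fin 4 → ℤ} (hx : IsRoot cs isType.isCartan x) (hy : IsRoot cs isType.isCartan y) {n : ℤ}
    (h1 : qf AF d x x = n) (h2 : qf AF d y y = n) (h3 : 2 * qf AF d x y = -1 * n) :
    A2 cs isType.isCartan x y := by
  have : Finite W := finite_W isType cs
  refine a2_of_noThree (noThree cs) hx hy (cpr_of cs hy h2 h3) (cpr_of cs hx h1 ?_)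
  rw [show qf AF d y x = qf AF d x y from qf_comm kd.hd y x]
  exact h3

/-- the root `0111` -/
def r0 : Fin 4 → ℤ := ![0, 1, 1, 1]

set_option backward.isDefEq.respectTransparency false in
theorem vec_r0 : vec chevF4 4 29 = r0 := by decide +kernel

theorem isRoot_r0 : IsRoot cs isType.isCartan r0 := by
  rw [← vec_r0]
  exact isRoot_vec isType cs (by decide +kernel)

/-- adjacent nodes do not commute -/
theorem not_comm {i j : Fin 4} (h : CoxeterMatrix.F₄ i j = 3 ∨ CoxeterMatrix.F₄ i j = 4) :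
    cs.simple i * cs.simple j ≠ cs.simple j * cs.simple i := by
  intro h1
  have : Finite W := finite_W isType cs
  have h2 := LieRecognition.CoxForm.orderOf_eq cs i j
  have h3 : (cs.simple i * cs.simple j) ^ 2 = 1 := by
    rw [pow_two]
    calc cs.simple i * cs.simple j * (cs.simple i * cs.simple j)
        = cs.simple i * cs.simple j * (cs.simple j * cs.simple i) := by rw [← h1]
      _ = cs.simple i * (cs.simple j * cs.simple j) * cs.simple i := by group
      _ = 1 := by rw [cs.simple_mul_simple_self, mul_one, cs.simple_mul_simple_self]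
  have h4 := orderOf_dvd_of_pow_eq_one h3
  rw [h2] at h4
  have h5 := Nat.le_of_dvd (by norm_num) h4
  omega

/-- **The partner of a node of `J`.** -/
theorem exists_pair {J : Set (Fin 4)} (hJ : J.Nonempty)
    (hc : ∀ i ∈ J, ∀ j ∈ J, cs.simple i * cs.simple j = cs.simple j * cs.simple i) :
    ∃ j ∈ J, ∃ r, A2 cs isType.isCartan (sr j) r ∧ ∀ i ∈ J, i ≠ j → cpr cs isType.isCartan r (sr i) = 0 := by
  have hW : Finite W := finite_W isType cs
  have n01 : ¬ (0 ∈ J ∧ 1 ∈ J) := fun h => not_comm cs (Or.inl (by decide +kernel)) (hc 0 h.1 1 h.2)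
  have n12 : ¬ (1 ∈ J ∧ 2 ∈ J) := fun h => not_comm cs (Or.inr (by decide +kernel)) (hc 1 h.1 2 h.2)
  have n23 : ¬ (2 ∈ J ∧ 3 ∈ J) := fun h => not_comm cs (Or.inl (by decide +kernel)) (hc 2 h.1 3 h.2)
  have R := isRoot_sr cs isType.isCartan
  by_cases h0 : (0 : Fin 4) ∈ J
  · have h1 : (1 : Fin 4) ∉ J := fun h => n01 ⟨h0, h⟩
    by_cases h2 : (2 : Fin 4) ∈ J
    · have h3 : (3 : Fin 4) ∉ J := fun h => n23 ⟨h2, h⟩
      refine ⟨0, h0, r0, a2_of cs (R 0) (isRoot_r0 cs) (n := 2) (by decide +kernel) (by decide +kernel)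
        (by decide +kernel), ?_⟩
      intro i hi hi0
      have : i = 2 := by
        fin_cases i
        · exact absurd rfl hi0
        · exact absurd hi h1
        · rfl
        · exact absurd hi h3
      subst this
      exact cpr_of cs (R 2) (n := 4) (by decide +kernel) (by decide +kernel)
    · refine ⟨0, h0, sr 1, a2_of cs (R 0) (R 1) (n := 2) (by decide +kernel) (by decide +kernel)
        (by decide +kernel), ?_⟩
      intro i hi hi0
      have : i = 3 := by
        fin_cases i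
        · exact absurd rfl hi0
        · exact absurd hi h1
        · exact absurd hi h2
        · rfl
      subst this
      exact cpr_of cs (R 3) (n := 4) (by decide +kernel) (by decide +kernel)
  by_cases h1 : (1 : Fin 4) ∈ J
  · have h2 : (2 : Fin 4) ∉ J := fun h => n12 ⟨h1, h⟩
    refine ⟨1, h1, sr 0, a2_of cs (R 1) (R 0) (n := 2) (by decide +kernel) (by decide +kernel)
      (by decide +kernel), ?_⟩
    intro i hi hi0
    have : i = 3 := by
      fin_cases i
      · exact absurd hi h0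
      · exact absurd rfl hi0
      · exact absurd hi h2
      · rfl
    subst this
    exact cpr_of cs (R 3) (n := 4) (by decide +kernel) (by decide +kernel)
  by_cases h2 : (2 : Fin 4) ∈ J
  · have h3 : (3 : Fin 4) ∉ J := fun h => n23 ⟨h2, h⟩
    refine ⟨2, h2, sr 3, a2_of cs (R 2) (R 3) (n := 4) (by decide +kernel) (by decide +kernel)
      (by decide +kernel), ?_⟩
    intro i hi hi0
    exfalso
    fin_cases i
    · exact h0 hi
    · exact h1 hi
    · exact hi0 rfl
    · exact h3 hi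
  · obtain ⟨i, hi⟩ := hJ
    have h3 : (3 : Fin 4) ∈ J := by
      fin_cases i
      · exact absurd hi h0
      · exact absurd hi h1
      · exact absurd hi h2
      · exact hi
    refine ⟨3, h3, sr 2, a2_of cs (R 3) (R 2) (n := 4) (by decide +kernel) (by decide +kernel)
      (by decide +kernel), ?_⟩
    intro i hi hi0
    exfalso
    fin_cases i
    · exact h0 hi
    · exact h1 hi
    · exact h2 hi
    · exact hi0 rfl

/-- the Coxeter matrix -/
def mF : Fin 4 → Fin 4 → ℕ := ![![1, 3, 2, 2], ![3, 1, 4, 2], ![2, 4, 1, 3], ![2, 2, 3, 1]]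

theorem mF_eq (i j : Fin 4) : CoxeterMatrix.F₄ i j = mF i j := by
  fin_cases i <;> fin_cases j <;> rfl

theorem sigma_aux : ∀ a b c e : Fin 4, mF a b = 3 → mF b c = 4 → mF c e = 3 → mF a c = 2 → mF b e = 2 →
    (a = 0 ∧ b = 1 ∧ c = 2 ∧ e = 3) ∨ (a = 3 ∧ b = 2 ∧ c = 1 ∧ e = 0) := by decide +kernel

theorem sigma_cases {φ : W ≃* W} {σ : Fin 4 → Fin 4} (hφ : ∀ i, φ (cs.simple i) = cs.simple (σ i)) :
    (∀ i, σ i = i) ∨ ∀ i, σ i = 3 - i := by
  have : Finite W := finite_W isType cs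
  have h : ∀ i j, mF (σ i) (σ j) = mF i j := fun i j => by
    rw [← mF_eq, ← mF_eq]
    exact sigma_matrix hφ i j
  rcases sigma_aux (σ 0) (σ 1) (σ 2) (σ 3) (h 0 1) (h 1 2) (h 2 3) (h 0 2) (h 1 3) with
    ⟨h0, h1, h2, h3⟩ | ⟨h0, h1, h2, h3⟩
  · left
    intro i
    fin_cases i <;> assumption
  · right
    intro i
    fin_cases i <;> assumption

end F4

end Cfsg.Agent.UGT.U2.FOne.FFour

private theorem dce_fca745c167ed : _root_.True := by
  try have : _root_.True := by simp only [_root_.Cfsg.Agent.Nodes.KindF.d.eq_1]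
  exact _root_.True.intro
end

-- part: OddHalf/D6/Harada
section
set_option linter.all false
open scoped Cfsg.Agent.FastGrp

set_option autoImplicit false

/-!
# Harada's theorem in the form used for standard components with `|Q| = 2`

`x` an involution of `G`, `T` a Sylow 2-subgroup of `C_G(x)`.  If `T/⟨x⟩` is dihedral or quasi-dihedral and `T`
contains an elementary abelian subgroup of order 8 through `x`, then `G` has sectional 2-rank at most 4.
-/

namespace Cfsg.Agent.OddHalf.D6.Harada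

open Cfsg Subgroup

/-- A Sylow 2-subgroup with a self-centralising elementary abelian subgroup of order 8. -/
theorem rank_of_self {G : Type*} [Group G] [Finite G] (S : Sylow 2 G) (E : Subgroup G)
    (hES : E ≤ (S : Subgroup G)) (hc : ∀ a ∈ E, ∀ b ∈ E, a * b = b * a) (h2 : ∀ a ∈ E, a * a = 1)
    (h8 : Nat.card E = 8)
    (hC : ∀ s ∈ (S : Subgroup G), (∀ e ∈ E, s * e = e * s) → s ∈ E) :
    SectionalPRankLE 2 4 G := by
  rw [← GH.Rank.sylow_iff S]
  refine Cfsg.Agent.S1232.result (S := ↥(S : Subgroup G)) S.isPGroup' (E.subgroupOf S) ⟨?_, ?_⟩ ?_ ?_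
  · refine ⟨⟨?_⟩⟩
    rintro ⟨⟨a, ha⟩, ha'⟩ ⟨⟨b, hb⟩, hb'⟩
    apply Subtype.ext; apply Subtype.ext
    exact hc a (mem_subgroupOf.1 ha') b (mem_subgroupOf.1 hb')
  · rintro ⟨a, ha⟩ ha'
    apply Subtype.ext
    show a ^ 2 = 1
    rw [pow_two]; exact h2 a (mem_subgroupOf.1 ha')
  · rw [Nat.card_congr (Subgroup.subgroupOfEquivOfLe hES).toEquiv, h8]
  · ext ⟨s, hs⟩
    rw [mem_centralizer_iff, mem_subgroupOf]
    constructor
    · intro h
      refine hC s hs fun e he => ?_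
      exact (congrArg Subtype.val (h ⟨e, hES he⟩ (mem_subgroupOf.2 he))).symm
    · rintro h ⟨e, he⟩ he'
      apply Subtype.ext
      exact hc e (mem_subgroupOf.1 he') s h

/-- A Sylow 2-subgroup of the centraliser of `x` is the centraliser of `x` in any Sylow group over it. -/
theorem mem_of_comm {G : Type*} [Group G] [Finite G] {x : G} {T : Subgroup G}
    (hTx : T ≤ centralizer ({x} : Set G)) (hodd : Odd (T.relIndex (centralizer ({x} : Set G))))
    (S : Sylow 2 G) (hTS : T ≤ (S : Subgroup G)) {s : G} (hs : s ∈ (S : Subgroup G))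
    (hsx : s * x = x * s) : s ∈ T := by
  set U : Subgroup G := (S : Subgroup G) ⊓ centralizer ({x} : Set G) with hU
  have hTU : T ≤ U := le_inf hTS hTx
  have hUp : IsPGroup 2 U := S.isPGroup'.to_le inf_le_left
  have h1 : T.relIndex U ∣ T.relIndex (centralizer ({x} : Set G)) := by
    rw [← relIndex_mul_relIndex T U _ hTU inf_le_right]
    exact dvd_mul_right _ _
  have h2 : Odd (T.relIndex U) := Odd.of_dvd_nat hodd h1
  obtain ⟨n, hn⟩ : ∃ n, T.relIndex U = 2 ^ n := by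
    have h3 : (T.subgroupOf U).index ∣ Nat.card U := index_dvd_card _
    obtain ⟨m, hm⟩ := IsPGroup.iff_card.1 hUp
    rw [hm] at h3
    obtain ⟨k, _, hk⟩ := (Nat.dvd_prime_pow Nat.prime_two).1 h3
    exact ⟨k, hk⟩
  have h3 : T.relIndex U = 1 := by
    rcases Nat.eq_zero_or_pos n with h | h
    · rw [hn, h, pow_zero]
    · exfalso
      rw [hn] at h2
      exact (Nat.not_even_iff_odd.2 h2) ((Nat.even_pow.2 ⟨even_two, h.ne'⟩))
  rw [relIndex_eq_one] at h3
  refine h3 (mem_inf.2 ⟨hs, ?_⟩)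
  rw [mem_centralizer_singleton_iff]
  exact hsx.symm ▸ rfl

/-- **Harada.** `x` an involution, `T` a Sylow 2-subgroup of `C_G(x)`, `T/⟨x⟩` dihedral or quasi-dihedral,
`E ≤ T` elementary abelian of order 8 containing `x`: sectional 2-rank at most 4. -/
theorem rank_of_dihedral {G : Type*} [Group G] [Finite G] {x : G} (hx : orderOf x = 2)
    {T : Subgroup G} (hTp : IsPGroup 2 T) (hTx : T ≤ centralizer ({x} : Set G))
    (hodd : Odd (T.relIndex (centralizer ({x} : Set G)))) (hxT : x ∈ T)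
    (hn : (zpowers (⟨x, hxT⟩ : T)).Normal)
    (hq : (∃ m : ℕ, 2 ≤ m ∧ Nonempty (↥T ⧸ zpowers (⟨x, hxT⟩ : T) ≃* DihedralGroup m)) ∨
      IsQuasiDihedral (↥T ⧸ zpowers (⟨x, hxT⟩ : T)))
    (E : Subgroup G) (hET : E ≤ T) (hc : ∀ a ∈ E, ∀ b ∈ E, a * b = b * a)
    (h2 : ∀ a ∈ E, a * a = 1) (h8 : Nat.card E = 8) (hxE : x ∈ E) :
    SectionalPRankLE 2 4 G := by
  obtain ⟨S, hTS⟩ := hTp.exists_le_sylow
  refine rank_of_self S E (hET.trans hTS) hc h2 h8 ?_
  intro s hs hsE
  have hsT : s ∈ T := mem_of_comm hTx hodd S hTS hs (hsE x hxE)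
  have hxo : orderOf (⟨x, hxT⟩ : T) = 2 := by
    rw [← hx]; exact (Subgroup.orderOf_coe (⟨x, hxT⟩ : T)).symm
  have hxz : (⟨x, hxT⟩ : T) ∈ center T := by
    rw [mem_center_iff]
    rintro ⟨g, hg⟩
    apply Subtype.ext
    have := hTx hg
    rw [mem_centralizer_singleton_iff] at this
    exact this
  have key := Cfsg.Agent.S1236.result (R := T) ⟨x, hxT⟩ hxo hxz hq (E.subgroupOf T) ⟨⟨⟨?_⟩⟩, ?_⟩ ?_ ?_
  · have h3 : (⟨s, hsT⟩ : T) ∈ centralizer ((E.subgroupOf T : Subgroup T) : Set T) := by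
      rw [mem_centralizer_iff]
      rintro ⟨e, he⟩ he'
      apply Subtype.ext
      exact (hsE e (mem_subgroupOf.1 he')).symm
    rw [key] at h3
    exact mem_subgroupOf.1 h3
  · rintro ⟨⟨a, ha⟩, ha'⟩ ⟨⟨b, hb⟩, hb'⟩
    apply Subtype.ext; apply Subtype.ext
    exact hc a (mem_subgroupOf.1 ha') b (mem_subgroupOf.1 hb')
  · rintro ⟨a, ha⟩ ha'
    apply Subtype.ext
    show a ^ 2 = 1
    rw [pow_two]; exact h2 a (mem_subgroupOf.1 ha')
  · rw [Nat.card_congr (Subgroup.subgroupOfEquivOfLe hET).toEquiv, h8]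
  · exact mem_subgroupOf.2 hxE

end Cfsg.Agent.OddHalf.D6.Harada
end

-- part: KFacts/He/TwoAAut
section
prune_inst 0x4347075447d2212000018001262003e66fe000592006b8801d9400f420ecfff632d476721fef01f128912aef4683a806811980159427800002e008e00411d01a084ab72e6b37cbd0435000fc0f807580c00000000000000000000000000041000000000000
set_option linter.all false
open scoped Cfsg.Agent.FastGrp

/-!
# Automorphisms of the Held group trivial on the component `L` of `C(a)`

`aut_eq`: an endomorphism of the Held group trivial on `L = ⟨c, d, e, f, g⟩` is the conjugation by an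
element of `Z(L)`.
-/

set_option autoImplicit false

namespace Cfsg.Agent.KFacts.He.TwoAAut

open Subgroup Cfsg
open Cfsg.Spor Cfsg.Spor.He Cfsg.Agent.SporadicB.HePerm Cfsg.Agent.FixBN.HeStab
open Cfsg.Agent.KFacts.He.Lv Cfsg.Agent.KFacts.He.TwoAData Cfsg.Agent.KFacts.He.TwoAChk
open Cfsg.Agent.KFacts.He.TwoACent

/-- endomorphisms which agree on the generators are equal -/
theorem ext_gn {α β : Cfsg.Spor.He →* Cfsg.Spor.He} (h : ∀ m : Gen, α (gn m) = β (gn m)) (x : Cfsg.Spor.He) :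
    α x = β x := DFunLike.congr_fun (PresentedGroup.ext h : α = β) x

/-- the centralizer of `a, d, e, f, g` -/
theorem cent_D {y : Cfsg.Spor.He} (h : ∀ m ∈ [Gen.a, .d, .e, .f, .g], y * gn m = gn m * y) :
    ∃ w ∈ [[], [.a], vW, vW ++ ([.a] : List Cfsg.Spor.He.Gen), [.b, .a, .b], ([.b, .a, .b] : List Cfsg.Spor.He.Gen) ++ ([.a] : List Cfsg.Spor.He.Gen), vW ++ ([.b, .a, .b] : List Cfsg.Spor.He.Gen),
      vW ++ ([.b, .a, .b] : List Cfsg.Spor.He.Gen) ++ [Gen.a]], y = wd w := by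
  have h1 : Pr lvD y := mem_of_chk chkD h (by intro f hf; exact absurd hf List.not_mem_nil)
  obtain ⟨x1, hx1, x2', ⟨x2, hx2, x3', ⟨x3, hx3, x4', ⟨x4, hx4, x5, hx5, rfl⟩, rfl⟩, rfl⟩, rfl⟩ := h1
  rw [show x5 = 1 from hx5]
  have e3 : x3 = [] := by simpa [lvD] using hx3
  have e4 : x4 = [] := by simpa [lvD] using hx4
  rw [e3, e4, wd_nil, mul_one, mul_one, mul_one, ← wd_append]
  have e1 : x1 = vW ++ ([.b, .a, .b] : List Cfsg.Spor.He.Gen) ∨ x1 = [] ∨ x1 = vW ∨ x1 = [.b, .a, .b] := by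
    simpa [lvD, vW] using hx1
  have e2 : x2 = [] ∨ x2 = [.a] := by simpa [lvD] using hx2
  refine ⟨x1 ++ x2, ?_, rfl⟩
  rcases e1 with rfl | rfl | rfl | rfl <;> rcases e2 with rfl | rfl <;>
    simp only [List.append_nil, List.nil_append, List.mem_cons, true_or, or_true]

/-- an endomorphism trivial on `L` and on `s` -/
theorem core {α : Cfsg.Spor.He →* Cfsg.Spor.He} (hL : ∀ l ∈ L, α l = l) (hs : α s = s) :
    (∀ x, α x = x) ∨ (∀ x, α x = gn .a * x * (gn .a)⁻¹) := by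
  have hbb := gn_mul_self .b
  have hββ : α (gn .b) * α (gn .b) = 1 := by rw [← map_mul, hbb, map_one]
  have hsw : s = gn .b * gn .a * gn .b := by
    show wd [.b, .a, .b] = _
    rw [wd_cons, wd_cons, wd_one, mul_assoc]
  have hα : α (gn .b) * gn .a * α (gn .b) = gn .b * gn .a * gn .b := by
    rw [hsw, map_mul, map_mul, hL _ a_mem_L] at hs
    exact hs
  obtain ⟨y, hy⟩ : ∃ y, y = gn .b * α (gn .b) := ⟨_, rfl⟩
  have hαy : α (gn .b) = gn .b * y := by rw [hy, ← mul_assoc, hbb, one_mul]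
  have hcomm : ∀ m ∈ [Gen.a, .d, .e, .f, .g], y * gn m = gn m * y := by
    have key : ∀ m : Gen, gn m ∈ L → gn .b * gn m = gn m * gn .b → y * gn m = gn m * y := by
      intro m hm hbm
      have h2 : α (gn .b) * gn m = gn m * α (gn .b) := by
        have h3 := congrArg α hbm
        rw [map_mul, map_mul, hL _ hm] at h3
        exact h3
      rw [hy, mul_assoc, h2, ← mul_assoc, hbm, mul_assoc]
    have kb : ∀ m : Gen, chkB [.b, m] [m, .b] = true → gn .b * gn m = gn m * gn .b := by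
      intro m hm
      have h := eq_of_chkB hm
      rwa [wd_cons, wd_one, wd_cons, wd_one] at h
    intro m hm
    simp only [List.mem_cons, List.not_mem_nil, or_false] at hm
    rcases hm with rfl | rfl | rfl | rfl | rfl
    · have h3 : y * gn .a * α (gn .b) = gn .a * gn .b := by
        calc y * gn .a * α (gn .b) = gn .b * (α (gn .b) * gn .a * α (gn .b)) := by rw [hy]; group
          _ = gn .b * gn .b * (gn .a * gn .b) := by rw [hα]; group
          _ = gn .a * gn .b := by rw [hbb, one_mul]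
      calc y * gn .a = y * gn .a * α (gn .b) * α (gn .b) := by rw [mul_assoc _ _ (α (gn .b)), hββ, mul_one]
        _ = gn .a * y := by rw [h3, hy, mul_assoc]
    · exact key .d (gn_mem_L (by simp)) (kb .d (by decide +kernel))
    · exact key .e (gn_mem_L (by simp)) (kb .e (by decide +kernel))
    · exact key .f (gn_mem_L (by simp)) (kb .f (by decide +kernel))
    · exact key .g (gn_mem_L (by simp)) (kb .g (by decide +kernel))
  obtain ⟨w, hw, hyw⟩ := cent_D hcomm
  have hsq : wd (([.b] : List Cfsg.Spor.He.Gen) ++ w ++ (([.b] : List Cfsg.Spor.He.Gen) ++ w)) = wd [] := by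
    rw [wd_append, wd_append, wd_one, ← hyw, ← hαy, hββ, wd_nil]
  have hbad : ∀ {w : List Gen}, Nat.beq (act (([.b] : List Cfsg.Spor.He.Gen) ++ w ++ (([.b] : List Cfsg.Spor.He.Gen) ++ w)) 8) 8 = false →
      wd (([.b] : List Cfsg.Spor.He.Gen) ++ w ++ (([.b] : List Cfsg.Spor.He.Gen) ++ w)) ≠ wd [] := fun {w} h => ne_of_act 8 h
  simp only [List.mem_cons, List.not_mem_nil, or_false] at hw
  rcases hw with rfl | rfl | rfl | rfl | rfl | rfl | rfl | rfl
  · left
    have hb : α (gn .b) = gn .b := by rw [hαy, hyw, wd_nil, mul_one]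
    refine ext_gn (β := MonoidHom.id _) fun m => ?_
    show α (gn m) = gn m
    cases m
    · exact hL _ a_mem_L
    · exact hb
    all_goals exact hL _ (gn_mem_L (by simp))
  · exact absurd hsq (hbad (by decide +kernel))
  · exact absurd hsq (hbad (by decide +kernel))
  · exact absurd hsq (hbad (by decide +kernel))
  · exact absurd hsq (hbad (by decide +kernel))
  · right
    have hb : α (gn .b) = gn .a * gn .b * (gn .a)⁻¹ := by
      rw [hαy, hyw, gn_inv, ← wd_one, ← wd_append, ← wd_one, ← wd_append, ← wd_append]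
      exact eq_of_chkB (by decide +kernel)
    refine ext_gn (β := (MulAut.conj (gn .a)).toMonoidHom) fun m => ?_
    show α (gn m) = gn .a * gn m * (gn .a)⁻¹
    have key : ∀ m : Gen, gn m ∈ L → α (gn m) = gn .a * gn m * (gn .a)⁻¹ := by
      intro m hm
      rw [hL _ hm, ← L_comm_a hm, mul_inv_cancel_right]
    cases m
    · exact key _ a_mem_L
    · exact hb
    all_goals exact key _ (gn_mem_L (by simp))
  · exact absurd hsq (hbad (by decide +kernel))
  · exact absurd hsq (hbad (by decide +kernel))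

/-- **An endomorphism of the Held group trivial on `L` is the conjugation by an element of `V = Z(L)`.** -/
theorem end_eq {α : Cfsg.Spor.He →* Cfsg.Spor.He} (hL : ∀ l ∈ L, α l = l) :
    ∃ z ∈ V, ∀ x, α x = z * x * z⁻¹ := by
  have hV : s⁻¹ * α s ∈ V := by
    rw [mem_V]
    intro l hl
    have h1 : s * l * s⁻¹ ∈ L := by rw [s_inv]; exact s_conj_mem hl
    have h2 := hL _ h1
    rw [map_mul, map_mul, map_inv, hL _ hl] at h2
    have h3 : α s * l = s * l * s⁻¹ * α s := by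
      rw [← h2]; group
    calc l * (s⁻¹ * α s) = s⁻¹ * (s * l * s⁻¹ * α s) := by group
      _ = s⁻¹ * (α s * l) := by rw [h3]
      _ = s⁻¹ * α s * l := by group
  have hss : α s * α s = 1 := by rw [← map_mul, s_mul_self, map_one]
  have hsv : s * v * s = gn .a * v := by
    have h1 := s_conj_v
    rw [s_inv] at h1
    rw [← h1]; group
  have hvs : v * s * v = s * gn .a := by
    have h1 : s * v * s * v = gn .a := by rw [hsv, mul_assoc, v_mul_self, mul_one]
    calc v * s * v = 1 * (v * s * v) := by group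
      _ = s * (s * v * s * v) := by rw [← s_mul_self]; group
      _ = s * gn .a := by rw [h1]
  rcases V_eq hV with h | h | h | h
  · have h1 : α s = s := by rw [← mul_inv_cancel_left s (α s), h, mul_one]
    rcases core hL h1 with h2 | h2
    · exact ⟨1, V.one_mem, fun x => by rw [h2, one_mul, inv_one, mul_one]⟩
    · exact ⟨gn .a, a_mem_V, h2⟩
  · -- `α s = s a = v s v`
    have h1 : α s = s * gn .a := by rw [← h, mul_inv_cancel_left]
    have vi : v⁻¹ = v := inv_eq_of_mul_eq_one_left v_mul_self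
    have hβL : ∀ l ∈ L, ((MulAut.conj v).toMonoidHom.comp α) l = l := by
      intro l hl
      show v * α l * v⁻¹ = l
      rw [hL _ hl, ← L_comm_v hl, mul_inv_cancel_right]
    have hβs : ((MulAut.conj v).toMonoidHom.comp α) s = s := by
      show v * α s * v⁻¹ = s
      rw [h1, ← hvs, vi]
      calc v * (v * s * v) * v = (v * v) * s * (v * v) := by group
        _ = s := by rw [v_mul_self, one_mul, mul_one]
    have key : ∀ x, α x = v * ((MulAut.conj v).toMonoidHom.comp α) x * v⁻¹ := by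
      intro x
      show α x = v * (v * α x * v⁻¹) * v⁻¹
      rw [vi]
      calc α x = 1 * α x * 1 := by group
        _ = (v * v) * α x * (v * v) := by rw [v_mul_self]
        _ = v * (v * α x * v) * v := by group
    rcases core hβL hβs with h2 | h2
    · exact ⟨v, v_mem_V, fun x => by rw [key x, h2]⟩
    · refine ⟨v * gn .a, va_mem_V, fun x => ?_⟩
      rw [key x, h2, mul_inv_rev]
      group
  · exfalso
    have h1 : α s = s * v := by rw [← h, mul_inv_cancel_left]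
    rw [h1] at hss
    have h2 : s * v * s * v = 1 := by rw [← hss]; group
    rw [hsv, mul_assoc, v_mul_self, mul_one] at h2
    exact a_ne_one h2
  · exfalso
    have h1 : α s = s * (v * gn .a) := by rw [← h, mul_inv_cancel_left]
    rw [h1] at hss
    have h2 : s * v * s * v = 1 := by
      have c1 : gn .a * s = s * gn .a := s_comm_a.symm
      have c2 : gn .a * v = v * gn .a := (L_comm_a v_mem_L).symm
      calc s * v * s * v = s * v * s * v * 1 := by group
        _ = s * v * s * v * (gn .a * gn .a) := by rw [gn_mul_self]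
        _ = s * v * s * (v * gn .a) * gn .a := by group
        _ = s * v * s * (gn .a * v) * gn .a := by rw [c2]
        _ = s * v * (s * gn .a) * v * gn .a := by group
        _ = s * v * (gn .a * s) * v * gn .a := by rw [c1]
        _ = s * (v * gn .a) * (s * (v * gn .a)) := by group
        _ = 1 := hss
    rw [hsv, mul_assoc, v_mul_self, mul_one] at h2
    exact a_ne_one h2

/-- **An automorphism of the Held group trivial on `L` is the conjugation by an element of `Z(L)`.** -/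
theorem aut_eq {α : Cfsg.Spor.He ≃* Cfsg.Spor.He} (hL : ∀ l ∈ L, α l = l) :
    ∃ z ∈ V, ∀ x, α x = z * x * z⁻¹ := end_eq (α := α.toMonoidHom) hL

end Cfsg.Agent.KFacts.He.TwoAAut

private theorem dce_194b9b889379 : _root_.True := by
  try have : _root_.True := by simp only [_root_.Cfsg.Agent.KFacts.He.TwoAData.lvD.eq_1]
  exact _root_.True.intro
end

-- part: UGT/I34/KF
section
set_option linter.all false
open scoped Cfsg.Agent.FastGrp

/-!
# THEOREM I34, part [A]: the facts on `K = 4₁.L₃(4)`, `4₂.L₃(4)` used in section 5 (record)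

`NInv t`: `t` is a noncentral involution; `Y t`: the elements of `C(t)` which commute with `C(t)` modulo `Z(K)` (in
coordinates with `t = x₀₂(1)`: `⟨i⟩ Y = Φ(C(t))`, of order 16); `fx φ`: the fixed points of an automorphism.
`Facts K τ` (`τ = true`: `4₁`, `τ = false`: `4₂`).
-/

set_option autoImplicit false

open Cfsg Subgroup
open Cfsg.Agent.SignalizersComponents Cfsg.Agent.Lib
open Cfsg.Agent.SignalizersComponents.IntrinsicBasic
open Cfsg.Agent.SignalizersComponents.PLayerAut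
open Cfsg.Agent.Intrinsic.Basic Cfsg.Agent.Intrinsic.Cen
open scoped commutatorElement

namespace Cfsg.Agent.UGT.I34.KF

variable {K : Type*} [Group K]

/-- noncentral involution -/
def NInv (t : K) : Prop := t * t = 1 ∧ t ∉ center K

/-- the elements of `C(t)` commuting with `C(t)` modulo `Z(K)` -/
def Y (t : K) : Subgroup K where
  carrier := {y | y * t = t * y ∧ ∀ b, b * t = t * b → ⁅y, b⁆ ∈ center K}
  mul_mem' := by
    rintro x y ⟨hx, hx'⟩ ⟨hy, hy'⟩
    refine ⟨by rw [mul_assoc, hy, ← mul_assoc, hx, mul_assoc], fun b hb => ?_⟩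
    have h1 := mem_center_iff.mp (hy' b hb)
    have e : ⁅x * y, b⁆ = ⁅x, b⁆ * ⁅y, b⁆ := by
      have e1 : ⁅x * y, b⁆ = x * ⁅y, b⁆ * x⁻¹ * ⁅x, b⁆ := by
        rw [commutatorElement_def, commutatorElement_def, commutatorElement_def]; group
      rw [e1, h1 x, mul_assoc, mul_assoc, ← mul_assoc x, mul_inv_cancel, one_mul, ← h1]
    rw [e]
    exact mul_mem (hx' b hb) (hy' b hb)
  one_mem' := ⟨by rw [one_mul, mul_one], fun b _ => by
    rw [commutatorElement_def, one_mul, inv_one, mul_one, mul_inv_cancel]; exact one_mem _⟩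
  inv_mem' := by
    rintro x ⟨hx, hx'⟩
    have h0 : x⁻¹ * t = t * x⁻¹ := by
      rw [inv_mul_eq_iff_eq_mul, ← mul_assoc, hx, mul_inv_cancel_right]
    refine ⟨h0, fun b hb => ?_⟩
    have h1 := mem_center_iff.mp (hx' b hb)
    have e : ⁅x⁻¹, b⁆ = ⁅x, b⁆⁻¹ := by
      have e1 : ⁅x⁻¹, b⁆ = x⁻¹ * ⁅x, b⁆⁻¹ * x := by
        rw [commutatorElement_def, commutatorElement_def]; group
      have h2 := mem_center_iff.mp (inv_mem (hx' b hb))
      rw [e1, h2 x⁻¹, mul_assoc, inv_mul_cancel, mul_one]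
    rw [e]
    exact inv_mem (hx' b hb)

theorem mem_Y {t y : K} : y ∈ Y t ↔ y * t = t * y ∧ ∀ b, b * t = t * b → ⁅y, b⁆ ∈ center K := Iff.rfl

/-- fixed points -/
def fx (φ : MulAut K) : Subgroup K where
  carrier := {k | φ k = k}
  mul_mem' := by
    intro a b ha hb
    show φ (a * b) = a * b
    rw [map_mul, show φ a = a from ha, show φ b = b from hb]
  one_mem' := map_one φ
  inv_mem' := by
    intro a ha
    show φ a⁻¹ = a⁻¹
    rw [map_inv, show φ a = a from ha]

theorem mem_fx {φ : MulAut K} {k : K} : k ∈ fx φ ↔ φ k = k := Iff.rfl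

/-- The facts on `K = 4₁.L₃(4)` (`τ = true`), `4₂.L₃(4)` (`τ = false`). -/
structure Facts (K : Type*) [Group K] (τ : Bool) : Prop where
  exists_i : ∃ i : K, orderOf i = 4 ∧ center K = zpowers i
  exists_t : ∃ t : K, NInv t
  conj : ∀ {s t : K}, NInv s → NInv t → ∃ g, g * s * g⁻¹ = t
  card_C : ∀ {t : K}, NInv t → Nat.card (centralizer ({t} : Set K)) = 128
  /-- `[x_a(1), x_g(w)] = u` -/
  moved : ∀ {t : K}, NInv t → ∃ s w, s * t = t * s ∧ w ∈ Y t ∧ w * w = 1 ∧ s * w ≠ w * s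
  /-- `|Y t : Z(K)| = 4` -/
  Y_cases : ∀ {t w y : K}, NInv t → w ∈ Y t → (∀ c ∈ center K, w ≠ c ∧ w ≠ t * c) → y ∈ Y t →
    ∃ c ∈ center K, y = c ∨ y = t * c ∨ y = w * c ∨ y = t * w * c
  /-- `Y t ≤ Φ(C(t))` -/
  Y_sq : ∀ {t y : K}, NInv t → y ∈ Y t → y ∈ closure {s : K | ∃ x, x * t = t * x ∧ s = x * x}
  /-- `C(t)' ≤ Y t` -/
  comm_Y : ∀ {t a b : K}, NInv t → a * t = t * a → b * t = t * b → ⁅a, b⁆ ∈ Y t
  sq_Y : ∀ {t a : K}, NInv t → a * t = t * a → a * a ∈ Y t
  /-- (k2) -/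
  norm : ∀ {t : K}, NInv t → ∀ N : Subgroup K, t ∈ N → (∀ n ∈ N, n * t = t * n) →
    (∀ n ∈ N, ∀ b, b * t = t * b → b * n * b⁻¹ ∈ N) → (∀ n ∈ N, n ∈ center K → n = 1) →
    Nat.card N ≤ 4 ∧ (τ = false → Nat.card N ≤ 2) ∧ ∀ n ∈ N, n ∈ Y t → n = 1 ∨ n = t
  /-- `w̄` an involution of `C(t) / Z(K)` with `⟨t̄, w̄⟩` normal in `C(t) / Z(K)`: `w̄ ∈ Ȳ` -/
  four : ∀ {t w : K}, NInv t → w * t = t * w → w * w ∈ center K →
    (∀ c ∈ center K, w ≠ c ∧ w ≠ t * c) →
    (∀ b, b * t = t * b → ∃ c ∈ center K, ⁅w, b⁆ = c ∨ ⁅w, b⁆ = t * c ∨ ⁅w, b⁆ = w * c ∨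
      ⁅w, b⁆ = t * w * c) → w ∈ Y t
  /-- (5.2), inner case: `b̄` an involution of `C(t) / Z(K)` commuting with `j̄`, `j̄ ^ 2 = t̄` -/
  inner : ∀ {t b j : K}, NInv t → b * t = t * b → b * b ∈ center K → j * t = t * j →
    (∃ c ∈ center K, j * j = t * c) → ⁅b, j⁆ ∈ center K → b ∈ Y t
  /-- (5.4): `κ` trivial on `Y t / Z(K)`, `κ ^ 4 = t̄` -/
  eight : ∀ {t : K}, NInv t → ∀ κ : MulAut K, κ t = t → (∀ y ∈ Y t, ∃ c ∈ center K, κ y = y * c) →
    κ * κ * (κ * κ) = MulAut.conj t → Nat.card {α : MulAut K // α t = t ∧ α * κ = κ * α} ≤ 32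
  /-- (5.4): no such `s` -/
  noSq : ∀ {t s i : K}, NInv t → orderOf i = 4 → i ∈ center K → s * t = t * s →
    (∀ x, x * t = t * x → ⁅s, x⁆ = 1 ∨ ⁅s, x⁆ = t) → s * s ≠ i ∧ s * s ≠ i * t
  /-- squares of automorphisms of 2-power order are inner -/
  sq_inner : ∀ (α : MulAut K) (n : ℕ), α ^ 2 ^ n = 1 → ∃ k, α * α = MulAut.conj k
  /-- (5.2), outer case: `φ` an outer involution, `φ t = t`, trivial on `Y t / Z(K)` (type `g`): `C_K(φ)` has a
  nonabelian simple normal subgroup `E` (`= A₅`) not centralised by `t` -/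
  gtype : ∀ {t : K}, NInv t → ∀ φ : MulAut K, φ * φ = 1 → φ t = t →
    (∀ y ∈ Y t, ∃ c ∈ center K, φ y = y * c) → (∀ k, φ ≠ MulAut.conj k) →
    ∃ E : Subgroup K, E ≤ fx φ ∧ (∀ g ∈ fx φ, ∀ k ∈ E, g * k * g⁻¹ ∈ E) ∧ IsSimpleGroup ↥E ∧
      2 ∣ Nat.card E ∧ (∃ a ∈ E, ∃ b ∈ E, a * b ≠ b * a) ∧ ∃ k ∈ E, t * k ≠ k * t

end Cfsg.Agent.UGT.I34.KF
end

-- part: UGT/I34/Loc
section
prune_inst 0x4147075441d2212000018001260003e46ee000590002b8801d9000f420686ff230d036720fc801f020902aa64003a8028118800594050000024008600411d01a084aa72c63340b10425000fc0f807580c00000000000000000000000000041000000000000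
set_option linter.all false
open scoped Cfsg.Agent.FastGrp

/-!
# THEOREM I34, part [A], section 5: the local theory

`R`: a 2-group (in use: a Sylow 2-subgroup of `C(z, e)`), `z`, `e` central involutions of `R`.
`Side R K z e`: `S = R ∩ L_z`, `j : S → K = L_z / O(L_z)` injective with image `C_K(e)`, `ρ : R → Aut(K)`.
`A : Side R K₁ z e`, `B : Side R K₂ e z`.

* `norm`: `N = S ∩ ker ρ_B` has order `≤ 4` (`≤ 2` for `4₂`), `N ∩ Y = {1, e}`
* `fix_two`: (5.2)
* `no_sq`: (5.4)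
* `ker_card`: (5.5), first half
-/

set_option autoImplicit false
set_option linter.unusedSectionVars false

open Cfsg Subgroup
open Cfsg.Agent.UGT.I34.KF
open scoped commutatorElement

namespace Cfsg.Agent.UGT.I34.Loc

/-! ### general facts -/

section gen

variable {K : Type*} [Group K] {t : K}

theorem conj_eq_one_iff {k : K} : MulAut.conj k = 1 ↔ k ∈ center K := by
  rw [mem_center_iff]
  constructor
  · intro h g
    have h1 := DFunLike.congr_fun h g
    rw [MulAut.conj_apply, MulAut.one_apply, mul_inv_eq_iff_eq_mul] at h1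
    exact h1.symm
  · intro h
    ext g
    rw [MulAut.conj_apply, MulAut.one_apply, ← h g, mul_inv_cancel_right]

theorem conj_eq_iff {a b : K} : MulAut.conj a = MulAut.conj b ↔ ∃ c ∈ center K, a = b * c := by
  constructor
  · intro h
    refine ⟨b⁻¹ * a, ?_, by group⟩
    rw [← conj_eq_one_iff, map_mul, map_inv, h, inv_mul_cancel]
  · rintro ⟨c, hc, rfl⟩
    rw [map_mul, conj_eq_one_iff.mpr hc, mul_one]

theorem map_center (φ : MulAut K) {c : K} (hc : c ∈ center K) : φ c ∈ center K := by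
  rw [mem_center_iff] at hc ⊢
  intro g
  have h := hc (φ.symm g)
  have h1 := congrArg φ h
  rw [map_mul, map_mul, MulEquiv.apply_symm_apply] at h1
  exact h1

theorem center_le_Y : center K ≤ Y t := by
  intro c hc
  have h := mem_center_iff.mp hc
  refine ⟨(h t).symm, fun b _ => ?_⟩
  rw [commutatorElement_def, ← h b, mul_assoc, mul_assoc, ← mul_assoc c, mul_inv_cancel, one_mul,
    mul_inv_cancel]
  exact one_mem _

theorem self_mem_Y : t ∈ Y t := by
  refine ⟨rfl, fun b hb => ?_⟩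
  rw [commutatorElement_def, ← hb, mul_assoc, mul_assoc, ← mul_assoc t, mul_inv_cancel, one_mul,
    mul_inv_cancel]
  exact one_mem _

theorem Y_map (φ : MulAut K) (hφ : φ t = t) {y : K} (hy : y ∈ Y t) : φ y ∈ Y t := by
  obtain ⟨h1, h2⟩ := hy
  refine ⟨?_, fun b hb => ?_⟩
  · have := congrArg φ h1
    rwa [map_mul, map_mul, hφ] at this
  · have h3 : φ.symm b * t = t * φ.symm b := by
      apply φ.injective
      rw [map_mul, map_mul, hφ, MulEquiv.apply_symm_apply, hb]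
    have h4 := map_center φ (h2 _ h3)
    rwa [map_commutatorElement, MulEquiv.apply_symm_apply] at h4

theorem Facts.Y_comm {τ : Bool} (F : Facts K τ) (ht : NInv t) {x y : K} (hx : x ∈ Y t) (hy : y ∈ Y t) :
    x * y = y * x := by
  by_cases h : ∀ c ∈ center K, x ≠ c ∧ x ≠ t * c
  · obtain ⟨c, hc, h1⟩ := F.Y_cases ht hx h hy
    have hc' := mem_center_iff.mp hc
    rcases h1 with rfl | rfl | rfl | rfl
    · exact hc' x
    · rw [← mul_assoc, hx.1, mul_assoc, hc' x, ← mul_assoc]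
    · rw [← mul_assoc, mul_assoc, mul_assoc, hc' x]
    · calc x * (t * x * c) = x * t * x * c := by group
        _ = t * x * (x * c) := by rw [hx.1]; group
        _ = t * x * (c * x) := by rw [hc' x]
        _ = t * x * c * x := by group
  · push Not at h
    obtain ⟨c, hc, h1⟩ := h
    have hc' := mem_center_iff.mp hc
    by_cases h2 : x = c
    · rw [h2]; exact (hc' y).symm
    · rw [h1 h2]
      calc t * c * y = t * (c * y) := by group
        _ = t * (y * c) := by rw [hc' y]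
        _ = t * y * c := by group
        _ = y * (t * c) := by rw [← hy.1]; group

theorem comm_center_sq {y b : K} (h : ⁅y, b⁆ ∈ center K) (hy : y * y = 1) : ⁅y, b⁆ * ⁅y, b⁆ = 1 := by
  have h1 := mem_center_iff.mp h
  have e1 : ⁅y * y, b⁆ = y * ⁅y, b⁆ * y⁻¹ * ⁅y, b⁆ := by
    rw [commutatorElement_def, commutatorElement_def]; group
  rw [h1 y, mul_inv_cancel_right, hy, commutatorElement_def, one_mul, inv_one, mul_one,
    mul_inv_cancel] at e1
  exact e1.symm

/-- the central involution is `i * i` -/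
theorem Facts.inv_eq [Finite K] {τ : Bool} (F : Facts K τ) {i c : K} (hi : orderOf i = 4) (hic : i ∈ center K)
    (hc : c ∈ center K) (hcc : c * c = 1) (hc1 : c ≠ 1) : c = i * i := by
  obtain ⟨i0, hi0, hz⟩ := F.exists_i
  rw [hz] at hc hic
  have key : ∀ {a : K}, a ∈ zpowers i0 → a * a = 1 → a ≠ 1 → a = i0 ^ 2 := by
    intro a ha haa ha1
    classical
    rw [mem_zpowers_iff_mem_range_orderOf, hi0] at ha
    simp only [Finset.mem_image, Finset.mem_range] at ha
    obtain ⟨n, hn, rfl⟩ := ha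
    have h2 : ∀ m : ℕ, i0 ^ m = 1 → 4 ∣ m := fun m hm => by
      rw [← hi0]; exact orderOf_dvd_of_pow_eq_one hm
    interval_cases n
    · exact absurd (pow_zero i0) ha1
    · rw [← pow_add] at haa
      have := h2 _ haa
      omega
    · rfl
    · rw [← pow_add] at haa
      have := h2 _ haa
      omega
  have hi4 : i ^ 4 = 1 := by rw [← hi, pow_orderOf_eq_one]
  rw [key hc hcc hc1, key (mul_mem hic hic) (by rw [← hi4]; simp only [pow_succ, pow_zero, one_mul, mul_assoc]) (fun h => by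
    have h1 := orderOf_dvd_of_pow_eq_one (show i ^ 2 = 1 by rw [pow_two, h])
    rw [hi] at h1
    omega)]

/-- an element of the centre whose square is `1` or which has the central involution as a power -/
theorem Facts.center_pow [Finite K] {τ : Bool} (F : Facts K τ) {c u : K} (hc : c ∈ center K) (hu : u ∈ center K)
    (huu : u * u = 1) (hu1 : u ≠ 1) (hc1 : c ≠ 1) : ∃ n : ℕ, c ^ n = u := by
  obtain ⟨i, hi, hz⟩ := F.exists_i
  have hic : i ∈ center K := by rw [hz]; exact mem_zpowers i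
  have hui := Facts.inv_eq F hi hic hu huu hu1
  rw [hz] at hc
  classical
  rw [mem_zpowers_iff_mem_range_orderOf, hi] at hc
  simp only [Finset.mem_image, Finset.mem_range] at hc
  obtain ⟨n, hn, rfl⟩ := hc
  have hi4 : i ^ 4 = 1 := by rw [← hi, pow_orderOf_eq_one]
  interval_cases n
  · exact absurd (pow_zero i) hc1
  · exact ⟨2, by rw [hui, pow_one, pow_two]⟩
  · exact ⟨1, by rw [hui, pow_one, pow_two]⟩
  · refine ⟨2, ?_⟩
    rw [hui, ← pow_mul, show 3 * 2 = 4 + 2 by rfl, pow_add, hi4, one_mul, pow_two]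

end gen

/-! ### sides -/

/-- One side of the configuration. -/
structure Side (R : Type*) [Group R] (K : Type*) [Group K] (z e : R) where
  /-- `R ∩ L_z` -/
  S : Subgroup R
  normal : S.Normal
  zS : z ∈ S
  eS : e ∈ S
  /-- the map to `L_z / O(L_z)` -/
  j : ↥S →* K
  inj : Function.Injective j
  jz : j ⟨z, zS⟩ ∈ center K
  je : NInv (j ⟨e, eS⟩)
  surj : ∀ k : K, k * j ⟨e, eS⟩ = j ⟨e, eS⟩ * k → ∃ s, j s = k
  /-- the action -/
  ρ : R →* MulAut K
  ρ_j : ∀ (r : R) (s : ↥S), ρ r (j s) = j ⟨r * s * r⁻¹, normal.conj_mem s s.2 r⟩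
  ρ_S : ∀ s : ↥S, ρ s = MulAut.conj (j s)

/-- The 2-group `R` with the central involutions `z ≠ e`. -/
structure Cen (R : Type*) [Group R] (z e : R) : Prop where
  two : IsPGroup 2 R
  cz : ∀ r : R, r * z = z * r
  ce : ∀ r : R, r * e = e * r
  zz : z * z = 1
  ee : e * e = 1
  z1 : z ≠ 1
  e1 : e ≠ 1
  ze : z ≠ e

namespace Cen

theorem symm {R : Type*} [Group R] {z e : R} (C : Cen R z e) : Cen R e z :=
  ⟨C.two, C.ce, C.cz, C.ee, C.zz, C.e1, C.z1, C.ze.symm⟩

end Cen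

namespace Side

section one

variable {R : Type*} [Group R] {K : Type*} [Group K] [Finite K] {z e : R} (A : Side R K z e)

/-- the noncentral involution `e` of `K` -/
def t : K := A.j ⟨e, A.eS⟩

theorem ht : NInv A.t := A.je

/-- the elements of `S` over `Y` -/
def Yr : Subgroup R := ((Y A.t).comap A.j).map A.S.subtype

theorem mem_Yr {y : R} : y ∈ A.Yr ↔ ∃ hy : y ∈ A.S, A.j ⟨y, hy⟩ ∈ Y A.t := by
  constructor
  · rintro ⟨s, hs, rfl⟩
    exact ⟨s.2, hs⟩
  · rintro ⟨hy, h⟩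
    exact ⟨⟨y, hy⟩, h, rfl⟩

theorem Yr_le : A.Yr ≤ A.S := fun _ hy => (A.mem_Yr.mp hy).1

theorem j_mul {a b : R} (ha : a ∈ A.S) (hb : b ∈ A.S) :
    A.j ⟨a * b, mul_mem ha hb⟩ = A.j ⟨a, ha⟩ * A.j ⟨b, hb⟩ := by
  rw [← map_mul]; rfl

theorem j_one (h : (1 : R) ∈ A.S := one_mem _) : A.j ⟨1, h⟩ = 1 := map_one A.j

theorem j_inj {a b : R} (ha : a ∈ A.S) (hb : b ∈ A.S) (h : A.j ⟨a, ha⟩ = A.j ⟨b, hb⟩) : a = b :=
  congrArg Subtype.val (A.inj h)

theorem j_comm {a b : R} (ha : a ∈ A.S) (hb : b ∈ A.S) (h : ⁅a, b⁆ ∈ A.S) :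
    A.j ⟨⁅a, b⁆, h⟩ = ⁅A.j ⟨a, ha⟩, A.j ⟨b, hb⟩⁆ := by
  rw [← map_commutatorElement]; rfl

theorem comm_mem {a b : R} (ha : a ∈ A.S) (hb : b ∈ A.S) : ⁅a, b⁆ ∈ A.S := by
  rw [commutatorElement_def]
  exact mul_mem (mul_mem (mul_mem ha hb) (inv_mem ha)) (inv_mem hb)

/-- elements of `S` commute with `e` -/
theorem j_t (C : Cen R z e) {s : R} (hs : s ∈ A.S) : A.j ⟨s, hs⟩ * A.t = A.t * A.j ⟨s, hs⟩ := by
  rw [t, ← A.j_mul hs A.eS, ← A.j_mul A.eS hs]
  congr 1
  exact Subtype.ext (C.ce s)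

theorem ρ_t (C : Cen R z e) (r : R) : A.ρ r A.t = A.t := by
  rw [t, A.ρ_j]
  congr 1
  apply Subtype.ext
  change r * e * r⁻¹ = e
  rw [C.ce, mul_inv_cancel_right]

theorem conj_Yr (C : Cen R z e) (r : R) {y : R} (hy : y ∈ A.Yr) : r * y * r⁻¹ ∈ A.Yr := by
  obtain ⟨hyS, h⟩ := A.mem_Yr.mp hy
  refine A.mem_Yr.mpr ⟨A.normal.conj_mem y hyS r, ?_⟩
  have := Y_map (A.ρ r) (A.ρ_t C r) h
  rwa [A.ρ_j] at this

theorem mem_Yr_of_center {c : R} (hc : c ∈ A.S) (h : A.j ⟨c, hc⟩ ∈ center K) : c ∈ A.Yr :=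
  A.mem_Yr.mpr ⟨hc, center_le_Y h⟩

theorem z_mem : z ∈ A.Yr := A.mem_Yr_of_center A.zS A.jz

theorem e_mem : e ∈ A.Yr := A.mem_Yr.mpr ⟨A.eS, self_mem_Y⟩

variable {τ : Bool} (F : Facts K τ) (C : Cen R z e)
include F C

theorem comm_Yr {a b : R} (ha : a ∈ A.S) (hb : b ∈ A.S) : ⁅a, b⁆ ∈ A.Yr := by
  refine A.mem_Yr.mpr ⟨A.comm_mem ha hb, ?_⟩
  rw [A.j_comm ha hb]
  exact F.comm_Y A.ht (A.j_t C ha) (A.j_t C hb)

theorem sq_Yr {a : R} (ha : a ∈ A.S) : a * a ∈ A.Yr := by
  refine A.mem_Yr.mpr ⟨mul_mem ha ha, ?_⟩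
  rw [A.j_mul ha ha]
  exact F.sq_Y A.ht (A.j_t C ha)

theorem jz_ne : A.j ⟨z, A.zS⟩ ≠ 1 := by
  rw [← A.j_one]
  exact fun h => C.z1 (A.j_inj A.zS (one_mem _) h)

theorem jzz : A.j ⟨z, A.zS⟩ * A.j ⟨z, A.zS⟩ = 1 := by
  rw [← A.j_mul A.zS A.zS, ← A.j_one]
  congr 1
  exact Subtype.ext C.zz

/-- `Y ≤ Φ(S)` -/
theorem Yr_le_sq {y : R} (hy : y ∈ A.Yr) : y ∈ closure {s : R | ∃ x ∈ A.S, s = x * x} := by
  obtain ⟨hyS, h⟩ := A.mem_Yr.mp hy
  have h1 := F.Y_sq A.ht h
  have h2 : ∀ k ∈ closure {s : K | ∃ x, x * A.t = A.t * x ∧ s = x * x}, ∃ (s : R) (hs : s ∈ A.S),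
      s ∈ closure {s : R | ∃ x ∈ A.S, s = x * x} ∧ A.j ⟨s, hs⟩ = k := by
    intro k hk
    induction hk using closure_induction with
    | mem k hk =>
      obtain ⟨x, hx, rfl⟩ := hk
      obtain ⟨⟨s, hs⟩, hsx⟩ := A.surj x hx
      exact ⟨s * s, mul_mem hs hs, subset_closure ⟨s, hs, rfl⟩, by rw [A.j_mul hs hs, hsx]⟩
    | one => exact ⟨1, one_mem _, one_mem _, A.j_one⟩
    | mul a b _ _ ha hb =>
      obtain ⟨s, hs, h1, h2⟩ := ha
      obtain ⟨s', hs', h1', h2'⟩ := hb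
      exact ⟨s * s', mul_mem hs hs', mul_mem h1 h1', by rw [A.j_mul hs hs', h2, h2']⟩
    | inv a _ ha =>
      obtain ⟨s, hs, h1, h2⟩ := ha
      refine ⟨s⁻¹, inv_mem hs, inv_mem h1, ?_⟩
      rw [← h2, ← map_inv]; rfl
  obtain ⟨s, hs, h3, h4⟩ := h2 _ h1
  rwa [A.j_inj hs hyS h4] at h3

/-- involutions of `Y`: with `w ∉ ⟨z, e⟩` -/
theorem Yr_cases {w f : R} (hw : w ∈ A.Yr) (hww : w * w = 1) (h1 : w ≠ 1) (hz : w ≠ z) (he : w ≠ e)
    (hze : w ≠ e * z) (hf : f ∈ A.Yr) (hff : f * f = 1) :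
    f = 1 ∨ f = z ∨ f = e ∨ f = e * z ∨ f = w ∨ f = w * z ∨ f = e * w ∨ f = e * w * z := by
  obtain ⟨hwS, hw'⟩ := A.mem_Yr.mp hw
  obtain ⟨hfS, hf'⟩ := A.mem_Yr.mp hf
  obtain ⟨i, hi, hzi⟩ := F.exists_i
  have hic : i ∈ center K := by rw [hzi]; exact mem_zpowers i
  have hzi' := Facts.inv_eq F hi hic A.jz (A.jzz F C) (A.jz_ne F C)
  -- central elements with square `1`
  have hcen : ∀ c ∈ center K, c * c = 1 → c = A.j ⟨1, one_mem _⟩ ∨ c = A.j ⟨z, A.zS⟩ := by
    intro c hc hcc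
    by_cases hc1 : c = 1
    · left; rw [hc1, A.j_one]
    · right; rw [hzi']; exact Facts.inv_eq F hi hic hc hcc hc1
  have hww' : A.j ⟨w, hwS⟩ * A.j ⟨w, hwS⟩ = 1 := by
    rw [← A.j_mul hwS hwS, ← A.j_one]; congr 1; exact Subtype.ext hww
  have hff' : A.j ⟨f, hfS⟩ * A.j ⟨f, hfS⟩ = 1 := by
    rw [← A.j_mul hfS hfS, ← A.j_one]; congr 1; exact Subtype.ext hff
  have htt : A.t * A.t = 1 := A.ht.1
  have hwt := hw'.1
  obtain ⟨c, hc, h2⟩ := F.Y_cases A.ht hw' (by
    intro c hc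
    have hc' := mem_center_iff.mp hc
    constructor
    · intro h
      rcases hcen c hc (by rw [← h]; exact hww') with h3 | h3
      · exact h1 (A.j_inj _ _ (h.trans h3))
      · exact hz (A.j_inj _ _ (h.trans h3))
    · intro h
      have h4 : c * c = 1 := by
        have e1 : A.t * c * (A.t * c) = A.t * A.t * (c * c) := by
          calc A.t * c * (A.t * c) = A.t * (c * A.t) * c := by group
            _ = A.t * (A.t * c) * c := by rw [hc' A.t]
            _ = A.t * A.t * (c * c) := by group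
        rw [← h, hww', htt, one_mul] at e1
        exact e1.symm
      rcases hcen c hc h4 with h3 | h3
      · apply he
        rw [h3, A.j_one, mul_one] at h
        exact A.j_inj _ _ h
      · apply hze
        rw [h3, t, ← A.j_mul A.eS A.zS] at h
        exact A.j_inj _ _ h) hf'
  have hc' := mem_center_iff.mp hc
  have hcc : c * c = 1 := by
    have key : ∀ {a : K}, a * a = 1 → A.j ⟨f, hfS⟩ = a * c → c * c = 1 := by
      intro a haa h
      have e1 : a * c * (a * c) = a * a * (c * c) := by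
        calc a * c * (a * c) = a * (c * a) * c := by group
          _ = a * (a * c) * c := by rw [hc' a]
          _ = a * a * (c * c) := by group
      rw [← h, hff', haa, one_mul] at e1
      exact e1.symm
    rcases h2 with h | h | h | h
    · exact key (one_mul 1) (by rw [one_mul]; exact h)
    · exact key htt h
    · exact key hww' h
    · refine key (a := A.t * A.j ⟨w, hwS⟩) ?_ h
      calc A.t * A.j ⟨w, hwS⟩ * (A.t * A.j ⟨w, hwS⟩) = A.t * (A.j ⟨w, hwS⟩ * A.t) * A.j ⟨w, hwS⟩ := by group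
        _ = A.t * (A.t * A.j ⟨w, hwS⟩) * A.j ⟨w, hwS⟩ := by rw [hwt]
        _ = (A.t * A.t) * (A.j ⟨w, hwS⟩ * A.j ⟨w, hwS⟩) := by group
        _ = 1 := by rw [htt, hww', one_mul]
  rcases hcen c hc hcc with rfl | rfl
  · rw [A.j_one] at h2
    rcases h2 with h | h | h | h
    · left; rw [← A.j_one] at h; exact A.j_inj _ _ h
    · right; right; left; rw [mul_one] at h; exact A.j_inj _ _ h
    · right; right; right; right; left; rw [mul_one] at h; exact A.j_inj _ _ h
    · right; right; right; right; right; right; left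
      rw [mul_one, t, ← A.j_mul A.eS hwS] at h; exact A.j_inj _ _ h
  · rcases h2 with h | h | h | h
    · right; left; exact A.j_inj _ _ h
    · right; right; right; left
      rw [t, ← A.j_mul A.eS A.zS] at h; exact A.j_inj _ _ h
    · right; right; right; right; right; left
      rw [← A.j_mul hwS A.zS] at h; exact A.j_inj _ _ h
    · right; right; right; right; right; right; right
      rw [t, ← A.j_mul A.eS hwS, ← A.j_mul (mul_mem A.eS hwS) A.zS] at h; exact A.j_inj _ _ h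

theorem Yr_comm {x y : R} (hx : x ∈ A.Yr) (hy : y ∈ A.Yr) : x * y = y * x := by
  obtain ⟨hxS, hx'⟩ := A.mem_Yr.mp hx
  obtain ⟨hyS, hy'⟩ := A.mem_Yr.mp hy
  have h := Facts.Y_comm F A.ht hx' hy'
  rw [← A.j_mul hxS hyS, ← A.j_mul hyS hxS] at h
  exact A.j_inj _ _ h

/-- some `s ∈ S` moves some involution `w ∈ Y`: `[s, w] = z` -/
theorem exists_moved : ∃ s ∈ A.S, ∃ w ∈ A.Yr, w * w = 1 ∧ ⁅w, s⁆ = z ∧ w ≠ 1 ∧ w ≠ z ∧ w ≠ e ∧ w ≠ e * z := by
  obtain ⟨s, w, hs, hw, hww, hne⟩ := F.moved A.ht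
  obtain ⟨⟨s, hsS⟩, rfl⟩ := A.surj s hs
  obtain ⟨⟨w, hwS⟩, rfl⟩ := A.surj w hw.1
  have hww' : w * w = 1 := by
    rw [← A.j_mul hwS hwS, ← A.j_one] at hww
    exact A.j_inj _ _ hww
  have hne' : s * w ≠ w * s := fun h => hne (by
    rw [← A.j_mul hsS hwS, ← A.j_mul hwS hsS]; congr 1; exact Subtype.ext h)
  have h1 := comm_center_sq (hw.2 _ hs) hww
  have h2 : ⁅A.j ⟨w, hwS⟩, A.j ⟨s, hsS⟩⁆ ≠ 1 := by
    rw [Ne, commutatorElement_eq_one_iff_mul_comm]
    exact fun h => hne h.symm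
  obtain ⟨i, hi, hzi⟩ := F.exists_i
  have hic : i ∈ center K := by rw [hzi]; exact mem_zpowers i
  have h3 := (Facts.inv_eq F hi hic (hw.2 _ hs) h1 h2).trans
    (Facts.inv_eq F hi hic A.jz (A.jzz F C) (A.jz_ne F C)).symm
  rw [← A.j_comm hwS hsS (A.comm_mem hwS hsS)] at h3
  refine ⟨s, hsS, w, A.mem_Yr.mpr ⟨hwS, hw⟩, hww', A.j_inj _ _ h3, ?_, ?_, ?_, ?_⟩
  · rintro rfl; exact hne' (by rw [mul_one, one_mul])
  · rintro rfl; exact hne' (C.cz s)
  · rintro rfl; exact hne' (C.ce s)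
  · rintro rfl; exact hne' (by rw [← mul_assoc, C.ce, mul_assoc, C.cz, ← mul_assoc])

end one

section two

variable {R : Type*} [Group R] [Finite R] {K₁ K₂ : Type*} [Group K₁] [Group K₂] [Finite K₁] [Finite K₂]
  {z e : R} (A : Side R K₁ z e) (B : Side R K₂ e z) {τ : Bool}

/-- `N = S ∩ ker ρ_B` -/
def N : Subgroup R := A.S ⊓ B.ρ.ker

theorem mem_N {n : R} : n ∈ N A B ↔ n ∈ A.S ∧ B.ρ n = 1 := Iff.rfl

variable (C : Cen R z e)

include C in
/-- elements which are inner on `K₂` act as elements of `S'` -/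
theorem exists_inner {r : R} {k : K₂} (h : B.ρ r = MulAut.conj k) :
    ∃ (s : R) (hs : s ∈ B.S), B.j ⟨s, hs⟩ = k ∧ B.ρ s = B.ρ r := by
  have h1 := B.ρ_t C.symm r
  rw [h, MulAut.conj_apply, mul_inv_eq_iff_eq_mul] at h1
  obtain ⟨⟨s, hs⟩, hk⟩ := B.surj k h1
  refine ⟨s, hs, hk, ?_⟩
  have h2 := B.ρ_S ⟨s, hs⟩
  rw [hk] at h2
  exact h2.trans h.symm

include C in
theorem ρ_e : B.ρ e = 1 := by
  have h := B.ρ_S ⟨e, B.zS⟩
  rw [conj_eq_one_iff.mpr B.jz] at h
  exact h

include C in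
theorem ρ_z_ne : B.ρ z ≠ 1 := by
  intro h
  have h1 := B.ρ_S ⟨z, B.eS⟩
  have h2 : B.ρ ((⟨z, B.eS⟩ : ↥B.S) : R) = 1 := h
  rw [h2] at h1
  exact B.ht.2 (conj_eq_one_iff.mp h1.symm)

theorem ρ_z : B.ρ z = MulAut.conj B.t := B.ρ_S ⟨z, B.eS⟩

variable (F₁ : Facts K₁ τ) (F₂ : Facts K₂ τ)

include C F₁ F₂ in
/-- elements of `Y` are inner on `K₂` -/
theorem inner_of_Yr {y : R} (hy : y ∈ A.Yr) : ∃ k, B.ρ y = MulAut.conj k := by
  have h := A.Yr_le_sq F₁ C hy
  clear hy
  induction h using closure_induction with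
  | mem y hy =>
    obtain ⟨x, hx, rfl⟩ := hy
    obtain ⟨n, hn⟩ := C.two x
    rw [map_mul]
    exact F₂.sq_inner (B.ρ x) n (by rw [← map_pow, hn, map_one])
  | one => exact ⟨1, by rw [map_one, map_one]⟩
  | mul a b _ _ ha hb =>
    obtain ⟨k, hk⟩ := ha
    obtain ⟨l, hl⟩ := hb
    exact ⟨k * l, by rw [map_mul, hk, hl, map_mul]⟩
  | inv a _ ha =>
    obtain ⟨k, hk⟩ := ha
    exact ⟨k⁻¹, by rw [map_inv, hk, map_inv]⟩

include C in
theorem N_conj (r : R) {n : R} (hn : n ∈ N A B) : r * n * r⁻¹ ∈ N A B := by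
  obtain ⟨h1, h2⟩ := (mem_N A B).mp hn
  refine (mem_N A B).mpr ⟨A.normal.conj_mem n h1 r, ?_⟩
  rw [map_mul, map_mul, h2, mul_one, ← map_mul, mul_inv_cancel, map_one]

include C F₁ in
/-- **(5.1)** -/
theorem N_facts : Nat.card (N A B) ≤ 4 ∧ (τ = false → Nat.card (N A B) ≤ 2) ∧
    ∀ n ∈ N A B, n ∈ A.Yr → n = 1 ∨ n = e := by
  obtain ⟨N', hN'⟩ : ∃ N' : Subgroup K₁, N' = ((N A B).subgroupOf A.S).map A.j := ⟨_, rfl⟩
  have hmem : ∀ {k}, k ∈ N' ↔ ∃ (n : R) (hn : n ∈ A.S), n ∈ N A B ∧ A.j ⟨n, hn⟩ = k := by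
    intro k
    rw [hN']
    constructor
    · rintro ⟨⟨n, hn⟩, h, rfl⟩
      exact ⟨n, hn, h, rfl⟩
    · rintro ⟨n, hn, h, rfl⟩
      exact ⟨⟨n, hn⟩, h, rfl⟩
  have hcard : Nat.card N' = Nat.card (N A B) := by
    rw [hN', card_map_of_injective A.inj]
    exact Nat.card_congr (subgroupOfEquivOfLe inf_le_left).toEquiv
  have h := F₁.norm A.ht N' (hmem.mpr ⟨e, A.eS, (mem_N A B).mpr ⟨A.eS, ρ_e B C⟩, rfl⟩) (by
      intro k hk
      obtain ⟨n, hn, -, rfl⟩ := hmem.mp hk
      exact A.j_t C hn) (by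
      intro k hk b hb
      obtain ⟨n, hn, h1, rfl⟩ := hmem.mp hk
      obtain ⟨⟨s, hs⟩, rfl⟩ := A.surj b hb
      refine hmem.mpr ⟨s * n * s⁻¹, A.normal.conj_mem n hn s, N_conj A B C s h1, ?_⟩
      rw [← map_inv, ← map_mul, ← map_mul]
      rfl) (by
      intro k hk hkc
      obtain ⟨n, hn, h1, rfl⟩ := hmem.mp hk
      by_contra h2
      obtain ⟨m, hm⟩ := Facts.center_pow F₁ hkc A.jz (A.jzz F₁ C) (A.jz_ne F₁ C) h2
      have h3 : n ^ m = z := by
        rw [← map_pow] at hm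
        exact congrArg Subtype.val (A.inj hm)
      apply ρ_z_ne B C
      have h4 : B.ρ (n ^ m) = 1 := by rw [map_pow, ((mem_N A B).mp h1).2, one_pow]
      exact (congrArg B.ρ h3).symm.trans h4)
  rw [hcard] at h
  refine ⟨h.1, h.2.1, fun n hn hnY => ?_⟩
  obtain ⟨hnS, hnY'⟩ := A.mem_Yr.mp hnY
  rcases h.2.2 _ (hmem.mpr ⟨n, hnS, hn, rfl⟩) hnY' with h1 | h1
  · left; rw [← A.j_one] at h1; exact A.j_inj _ _ h1
  · right; exact A.j_inj _ _ h1

include C F₁ in
theorem eq_of_ρ {a b : R} (ha : a ∈ A.Yr) (hb : b ∈ A.Yr) (h : B.ρ a = B.ρ b) : a = b ∨ a = e * b := by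
  have h1 : a * b⁻¹ ∈ N A B := (mem_N A B).mpr ⟨A.Yr_le (mul_mem ha (inv_mem hb)), by
    rw [map_mul, map_inv, h, mul_inv_cancel]⟩
  rcases (N_facts A B C F₁).2.2 _ h1 (mul_mem ha (inv_mem hb)) with h2 | h2
  · left; rwa [mul_inv_eq_one] at h2
  · right; rwa [mul_inv_eq_iff_eq_mul] at h2

include C F₁ F₂ in
/-- **(5.1)**: `ρ(F) ≤ Ȳ'` -/
theorem Y_image {w : R} (hw : w ∈ A.Yr) (hww : w * w = 1) (h1 : w ≠ 1) (hz : w ≠ z) (he : w ≠ e)
    (hze : w ≠ e * z) : ∃ (w' : R) (hw' : w' ∈ B.S), B.j ⟨w', hw'⟩ ∈ Y B.t ∧ B.ρ w' = B.ρ w ∧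
      ∀ c ∈ center K₂, B.j ⟨w', hw'⟩ ≠ c ∧ B.j ⟨w', hw'⟩ ≠ B.t * c := by
  obtain ⟨k, hk⟩ := inner_of_Yr A B C F₁ F₂ hw
  obtain ⟨w', hw', hjw, hρ⟩ := exists_inner B C hk
  have hρk : B.ρ w' = MulAut.conj (B.j ⟨w', hw'⟩) := B.ρ_S ⟨w', hw'⟩
  have hex : ∀ c ∈ center K₂, B.j ⟨w', hw'⟩ ≠ c ∧ B.j ⟨w', hw'⟩ ≠ B.t * c := by
    intro c hc
    constructor
    · intro h
      rw [h, conj_eq_one_iff.mpr hc, hρ] at hρk
      rcases (N_facts A B C F₁).2.2 _ ((mem_N A B).mpr ⟨A.Yr_le hw, hρk⟩) hw with h2 | h2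
      · exact h1 h2
      · exact he h2
    · intro h
      rw [h, map_mul, conj_eq_one_iff.mpr hc, mul_one, ← ρ_z B, hρ] at hρk
      rcases eq_of_ρ A B C F₁ hw A.z_mem hρk with h2 | h2
      · exact hz h2
      · exact hze h2
  refine ⟨w', hw', F₂.four B.ht (B.j_t C.symm hw') ?_ hex ?_, hρ, hex⟩
  · rw [← conj_eq_one_iff, map_mul, ← hρk, hρ, ← map_mul, hww, map_one]
  · intro b hb
    obtain ⟨⟨b', hb'⟩, rfl⟩ := B.surj b hb
    -- `f = [w, b']`
    obtain ⟨f, hf⟩ : ∃ f, f = ⁅w, b'⁆ := ⟨_, rfl⟩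
    have hfe : f = w * (b' * w * b'⁻¹)⁻¹ := by rw [hf, commutatorElement_def]; group
    have hwb := A.conj_Yr C b' hw
    have hfY : f ∈ A.Yr := by rw [hfe]; exact mul_mem hw (inv_mem hwb)
    have hwb2 : b' * w * b'⁻¹ * (b' * w * b'⁻¹) = 1 := by
      rw [show b' * w * b'⁻¹ * (b' * w * b'⁻¹) = b' * (w * w) * b'⁻¹ by group, hww]; group
    have hff : f * f = 1 := by
      rw [hfe, inv_eq_of_mul_eq_one_left hwb2]
      have hc := A.Yr_comm F₁ C hw hwb
      rw [mul_assoc, ← mul_assoc _ w, ← hc, mul_assoc w _ (b' * w * b'⁻¹), hwb2, mul_one, hww]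
    have hρf : MulAut.conj ⁅B.j ⟨w', hw'⟩, B.j ⟨b', hb'⟩⁆ = B.ρ f := by
      rw [hf, map_commutatorElement, map_commutatorElement, ← hρ, hρk]
      congr 1
      exact (B.ρ_S ⟨b', hb'⟩).symm
    have hkey : ∀ (g : K₂) (r : R), B.ρ r = MulAut.conj g → f = r →
        ∃ c ∈ center K₂, ⁅B.j ⟨w', hw'⟩, B.j ⟨b', hb'⟩⁆ = g * c := by
      intro g r hg hfr
      rw [hfr, hg] at hρf
      exact conj_eq_iff.mp hρf
    have hρw : B.ρ w = MulAut.conj (B.j ⟨w', hw'⟩) := hρ ▸ hρk
    have hρz := ρ_z B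
    have hρe := ρ_e B C
    rcases A.Yr_cases F₁ C hw hww h1 hz he hze hfY hff with h | h | h | h | h | h | h | h
    · obtain ⟨c, hc, h2⟩ := hkey 1 1 (by rw [map_one, map_one]) h
      exact ⟨c, hc, Or.inl (by rw [h2, one_mul])⟩
    · obtain ⟨c, hc, h2⟩ := hkey B.t z hρz h
      exact ⟨c, hc, Or.inr (Or.inl h2)⟩
    · obtain ⟨c, hc, h2⟩ := hkey 1 e (by rw [hρe, map_one]) h
      exact ⟨c, hc, Or.inl (by rw [h2, one_mul])⟩
    · obtain ⟨c, hc, h2⟩ := hkey B.t (e * z) (by rw [map_mul, hρe, one_mul, hρz]) h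
      exact ⟨c, hc, Or.inr (Or.inl h2)⟩
    · obtain ⟨c, hc, h2⟩ := hkey (B.j ⟨w', hw'⟩) w hρw h
      exact ⟨c, hc, Or.inr (Or.inr (Or.inl h2))⟩
    · obtain ⟨c, hc, h2⟩ := hkey (B.t * B.j ⟨w', hw'⟩) (w * z) (by
        rw [C.cz w, map_mul, hρz, hρw, ← map_mul]) h
      exact ⟨c, hc, Or.inr (Or.inr (Or.inr h2))⟩
    · obtain ⟨c, hc, h2⟩ := hkey (B.j ⟨w', hw'⟩) (e * w) (by rw [map_mul, hρe, one_mul, hρw]) h
      exact ⟨c, hc, Or.inr (Or.inr (Or.inl h2))⟩
    · obtain ⟨c, hc, h2⟩ := hkey (B.t * B.j ⟨w', hw'⟩) (e * w * z) (by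
        rw [C.cz (e * w), map_mul, map_mul, hρe, one_mul, hρz, hρw, ← map_mul]) h
      exact ⟨c, hc, Or.inr (Or.inr (Or.inr h2))⟩

/-- elements of `R ∩ K_z` centralise `S` -/
theorem comm_S {x s : R} (hx : A.ρ x = 1) (hs : s ∈ A.S) : x * s = s * x := by
  have h := A.ρ_j x ⟨s, hs⟩
  rw [hx, MulAut.one_apply] at h
  have h1 := A.j_inj hs (A.normal.conj_mem s hs x) h
  rw [eq_mul_inv_iff_mul_eq] at h1
  exact h1.symm

include C F₁ in
theorem exists_i : ∃ (i : R) (hi : i ∈ A.S), orderOf (A.j ⟨i, hi⟩) = 4 ∧ A.j ⟨i, hi⟩ ∈ center K₁ ∧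
    i ∈ A.Yr ∧ i * i = z := by
  obtain ⟨i, hi, hz⟩ := F₁.exists_i
  have hic : i ∈ center K₁ := by rw [hz]; exact mem_zpowers i
  obtain ⟨⟨i', hi'⟩, rfl⟩ := A.surj i (mem_center_iff.mp hic _).symm
  have h1 := Facts.inv_eq F₁ hi hic A.jz (A.jzz F₁ C) (A.jz_ne F₁ C)
  rw [← A.j_mul hi' hi'] at h1
  exact ⟨i', hi', hi, hic, A.mem_Yr_of_center hi' hic, (A.j_inj _ _ h1).symm⟩

include C F₁ F₂ in
/-- elements of `R ∩ K_z` are trivial on `Ȳ'` -/
theorem triv_Y {x : R} (hx : A.ρ x = 1) {y : K₂} (hy : y ∈ Y B.t) : ∃ c ∈ center K₂, B.ρ x y = y * c := by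
  obtain ⟨s, hs, w, hw, hww, hsw, h1, hz, he, hze⟩ := A.exists_moved F₁ C
  obtain ⟨w', hw', hY, hρ, hex⟩ := Y_image A B C F₁ F₂ hw hww h1 hz he hze
  -- `x` maps `w'` to `w' c`
  have hxw := comm_S A hx (A.Yr_le hw)
  have h2 : ∃ c ∈ center K₂, B.ρ x (B.j ⟨w', hw'⟩) = B.j ⟨w', hw'⟩ * c := by
    have hρw : B.ρ w = MulAut.conj (B.j ⟨w', hw'⟩) := by rw [← hρ]; exact B.ρ_S ⟨w', hw'⟩
    apply conj_eq_iff.mp
    have h3 : MulAut.conj (B.ρ x (B.j ⟨w', hw'⟩)) = B.ρ x * MulAut.conj (B.j ⟨w', hw'⟩) * (B.ρ x)⁻¹ := by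
      ext g
      simp only [MulAut.mul_apply, MulAut.conj_apply, map_mul, MulAut.apply_inv_self, map_inv]
    rw [h3, ← hρw, ← map_mul, hxw, map_mul, mul_inv_cancel_right]
  have hφt : B.ρ x B.t = B.t := B.ρ_t C.symm x
  have key : ∀ {a c d : K₂}, c ∈ center K₂ → d ∈ center K₂ → B.ρ x a = a * d →
      ∃ c' ∈ center K₂, B.ρ x (a * c) = a * c * c' := by
    intro a c d hc hd h
    refine ⟨c⁻¹ * (d * B.ρ x c), mul_mem (inv_mem hc) (mul_mem hd (map_center _ hc)), ?_⟩
    rw [map_mul, h]; group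
  obtain ⟨d, hd, h3⟩ := h2
  obtain ⟨c, hc, h4⟩ := F₂.Y_cases B.ht hY hex hy
  rcases h4 with h | h | h | h
  · obtain ⟨c', hc', h5⟩ := key (a := 1) hc (one_mem _) (by rw [map_one, mul_one])
    rw [one_mul] at h5
    exact ⟨c', hc', by rw [h, h5]⟩
  · obtain ⟨c', hc', h5⟩ := key hc (one_mem _) (by rw [hφt, mul_one])
    exact ⟨c', hc', by rw [h, h5]⟩
  · obtain ⟨c', hc', h5⟩ := key hc hd h3
    exact ⟨c', hc', by rw [h, h5]⟩
  · obtain ⟨c', hc', h5⟩ := key (a := B.t * B.j ⟨w', hw'⟩) hc hd (by rw [map_mul, hφt, h3, mul_assoc])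
    exact ⟨c', hc', by rw [h, h5]⟩

include C F₁ F₂ in
/-- **(5.2)**, local part -/
theorem fix_two {x : R} (hx : A.ρ x = 1) (hxx : x * x = 1) :
    B.ρ x = 1 ∨ B.ρ (x * z) = 1 ∨ ∀ k, B.ρ x ≠ MulAut.conj k := by
  by_cases hinn : ∃ k, B.ρ x = MulAut.conj k
  swap
  · right; right
    exact fun k hk => hinn ⟨k, hk⟩
  obtain ⟨b, hb⟩ := hinn
  obtain ⟨x', hx', hjb, -⟩ := exists_inner B C hb
  obtain ⟨i, hiS, -, hic, hiY, hii⟩ := exists_i A C F₁
  obtain ⟨k, hk⟩ := inner_of_Yr A B C F₁ F₂ hiY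
  obtain ⟨i', hi', hji, -⟩ := exists_inner B C hk
  obtain ⟨s, hs, w, hw, hww, hsw, h1, hz, he, hze⟩ := A.exists_moved F₁ C
  obtain ⟨w', hw', hY, hρ, hex⟩ := Y_image A B C F₁ F₂ hw hww h1 hz he hze
  have hbY : b ∈ Y B.t := by
    refine F₂.inner B.ht (j := k) ?_ ?_ ?_ ?_ ?_
    · rw [← hjb]; exact B.j_t C.symm hx'
    · rw [← conj_eq_one_iff, map_mul, ← hb, ← map_mul, hxx, map_one]
    · rw [← hji]; exact B.j_t C.symm hi'
    · apply conj_eq_iff.mp
      rw [map_mul, ← hk, ← map_mul, hii, ρ_z B]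
    · rw [← conj_eq_one_iff, map_commutatorElement, ← hb, ← hk, ← map_commutatorElement,
        commutatorElement_eq_one_iff_mul_comm.mpr (comm_S A hx hiS), map_one]
  have hρw : B.ρ w = MulAut.conj (B.j ⟨w', hw'⟩) := by rw [← hρ]; exact B.ρ_S ⟨w', hw'⟩
  have hne : ∀ y : R, (∀ r : R, r * y = y * r) → B.ρ x = B.ρ (w * y) → False := by
    intro y hy h
    have hxs := comm_S A hx hs
    have h2 : B.ρ ⁅w * y, s⁆ = 1 := by
      rw [map_commutatorElement, ← h, ← map_commutatorElement,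
        commutatorElement_eq_one_iff_mul_comm.mpr hxs, map_one]
    have h3 : ⁅w * y, s⁆ = ⁅w, s⁆ := by
      rw [commutatorElement_def, commutatorElement_def, mul_inv_rev]
      calc w * y * s * (y⁻¹ * w⁻¹) * s⁻¹ = w * (y * s) * y⁻¹ * w⁻¹ * s⁻¹ := by group
        _ = w * (s * y) * y⁻¹ * w⁻¹ * s⁻¹ := by rw [hy s]
        _ = _ := by group
    rw [h3] at h2
    exact ρ_z_ne B C ((congrArg B.ρ hsw).symm.trans h2)
  obtain ⟨c, hc, h4⟩ := F₂.Y_cases B.ht hY hex hbY
  have hcc := conj_eq_one_iff.mpr hc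
  rcases h4 with h | h | h | h
  · left; rw [hb, h, hcc]
  · right; left
    rw [map_mul, hb, h, map_mul, hcc, mul_one, ρ_z B, ← map_mul, B.ht.1, map_one]
  · exfalso
    refine hne 1 (fun r => by rw [mul_one, one_mul]) ?_
    rw [mul_one, hb, h, map_mul, hcc, mul_one, hρw]
  · exfalso
    refine hne z C.cz ?_
    rw [hb, h, map_mul, map_mul, hcc, mul_one, C.cz w, map_mul, ρ_z B, hρw]

include B C F₁ F₂ in
/-- **(5.4)** -/
theorem no_sq {k i : R} (hk : A.ρ k = 1) (hi : i ∈ A.S) (hi4 : orderOf (A.j ⟨i, hi⟩) = 4)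
    (hic : A.j ⟨i, hi⟩ ∈ center K₁) (hki : k * k = i) : False := by
  have hiY := A.mem_Yr_of_center hi hic
  have hii : i * i = z := by
    have h1 := Facts.inv_eq F₁ hi4 hic A.jz (A.jzz F₁ C) (A.jz_ne F₁ C)
    rw [← A.j_mul hi hi] at h1
    exact (A.j_inj _ _ h1).symm
  obtain ⟨κ, hκ⟩ : ∃ κ, κ = B.ρ k := ⟨_, rfl⟩
  have h4 : κ * κ * (κ * κ) = MulAut.conj B.t := by
    rw [hκ, ← map_mul, hki, ← map_mul, hii, ρ_z B]
  have hle := F₂.eight B.ht κ (by rw [hκ]; exact B.ρ_t C.symm k)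
    (fun y hy => by rw [hκ]; exact triv_Y A B C F₁ F₂ hk hy) h4
  -- the subgroup `{α | α t = t, α κ = κ α}`
  obtain ⟨H, hH⟩ : ∃ H : Subgroup (MulAut K₂), ∀ α, α ∈ H ↔ α B.t = B.t ∧ α * κ = κ * α := by
    refine ⟨MulAction.stabilizer (MulAut K₂) B.t ⊓ centralizer {κ}, fun α => ?_⟩
    rw [mem_inf, MulAction.mem_stabilizer_iff, mem_centralizer_singleton_iff]
    rfl
  have hHcard : Nat.card H ≤ 32 := by
    refine le_trans (le_of_eq (Nat.card_congr ?_)) hle
    exact Equiv.subtypeEquivRight hH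
  let f : ↥A.S →* MulAut K₂ := B.ρ.comp A.S.subtype
  have hfH : f.range ≤ H := by
    rintro _ ⟨⟨s, hs⟩, rfl⟩
    rw [hH]
    refine ⟨B.ρ_t C.symm s, ?_⟩
    change B.ρ s * κ = κ * B.ρ s
    rw [hκ, ← map_mul, ← map_mul, comm_S A hk hs]
  have hS : Nat.card A.S = 128 := by
    have h1 := F₁.card_C A.ht
    rw [← h1]
    refine Nat.card_congr (Equiv.ofBijective (fun s : ↥A.S => (⟨A.j s, mem_centralizer_singleton_iff.mpr
      (A.j_t C s.2)⟩ : ↥(centralizer ({A.t} : Set K₁)))) ⟨fun a b h => A.inj (congrArg Subtype.val h), ?_⟩)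
    rintro ⟨b, hb⟩
    obtain ⟨s, rfl⟩ := A.surj b (mem_centralizer_singleton_iff.mp hb)
    exact ⟨s, rfl⟩
  have hker : Nat.card f.ker = Nat.card (N A B) := by
    have h1 : f.ker.map A.S.subtype = N A B := by
      ext n
      rw [mem_N]
      constructor
      · rintro ⟨⟨n, hn⟩, h, rfl⟩
        exact ⟨hn, h⟩
      · rintro ⟨hn, h⟩
        exact ⟨⟨n, hn⟩, h, rfl⟩
    rw [← h1, card_map_of_injective A.S.subtype_injective]
  have hN := (N_facts A B C F₁).1
  have hprod : Nat.card f.ker * Nat.card f.range = 128 := by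
    rw [← hS, ← Nat.card_congr (QuotientGroup.quotientKerEquivRange f).toEquiv, mul_comm]
    exact (Subgroup.card_eq_card_quotient_mul_card_subgroup f.ker).symm
  have hr : f.range = H := by
    apply Subgroup.eq_of_le_of_card_ge hfH
    have h1 : 0 < Nat.card f.ker := Nat.card_pos
    rw [hker] at h1 hprod
    by_contra hlt
    push Not at hlt
    have h2 : Nat.card f.range ≤ 31 := by omega
    have h3 : Nat.card (N A B) * Nat.card f.range ≤ 4 * 31 := Nat.mul_le_mul hN h2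
    omega
  have hκH : κ ∈ H := by
    rw [hH]
    exact ⟨by rw [hκ]; exact B.ρ_t C.symm k, rfl⟩
  rw [← hr] at hκH
  obtain ⟨⟨s, hs⟩, hsκ⟩ := hκH
  have hsκ' : B.ρ s = B.ρ k := by rw [← hκ]; exact hsκ
  have hcomm : ∀ x ∈ A.S, ⁅s, x⁆ = 1 ∨ ⁅s, x⁆ = e := by
    intro x hx
    refine (N_facts A B C F₁).2.2 _ ((mem_N A B).mpr ⟨A.comm_mem hs hx, ?_⟩) (A.comm_Yr F₁ C hs hx)
    rw [map_commutatorElement, hsκ', ← map_commutatorElement,
      commutatorElement_eq_one_iff_mul_comm.mpr (comm_S A hk hx), map_one]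
  have hsq : s * s = i ∨ s * s = e * i := by
    refine eq_of_ρ A B C F₁ (A.sq_Yr F₁ C hs) hiY ?_
    rw [map_mul, hsκ', ← map_mul, hki]
  obtain ⟨h5, h6⟩ := F₁.noSq (t := A.t) (s := A.j ⟨s, hs⟩) A.ht hi4 hic (A.j_t C hs) (by
    intro x hx
    obtain ⟨⟨x, hxS⟩, rfl⟩ := A.surj x hx
    rw [← A.j_comm hs hxS (A.comm_mem hs hxS)]
    rcases hcomm x hxS with h | h
    · left; rw [← A.j_one]; exact congrArg A.j (Subtype.ext h)
    · right; exact congrArg A.j (Subtype.ext h))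
  rcases hsq with h | h
  · apply h5
    rw [← A.j_mul hs hs]
    exact congrArg A.j (Subtype.ext h)
  · apply h6
    rw [← A.j_mul hs hs, (mem_center_iff.mp hic A.t).symm, t, ← A.j_mul A.eS hi]
    exact congrArg A.j (Subtype.ext h)

/-! ### (5.5), first half -/

include B C F₁ F₂ in
/-- `R ∩ K_z = ⟨i⟩` if it has a unique involution -/
theorem ker_le (hu : ∀ x : R, A.ρ x = 1 → x * x = 1 → x ≠ 1 → x = z) {x : R} (hx : A.ρ x = 1) :
    ∃ hx : x ∈ A.S, A.j ⟨x, hx⟩ ∈ center K₁ := by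
  obtain ⟨i, hiS, hi4, hic, hiY, hii⟩ := exists_i A C F₁
  have hρi : A.ρ i = 1 := by
    have h := A.ρ_S ⟨i, hiS⟩
    rw [conj_eq_one_iff.mpr hic] at h
    exact h
  by_contra hcon
  -- an element `y` outside with square inside
  obtain ⟨T, hT⟩ : ∃ T : Subgroup R, T = ((center K₁).comap A.j).map A.S.subtype := ⟨_, rfl⟩
  have hmem : ∀ {y}, y ∈ T ↔ ∃ hy : y ∈ A.S, A.j ⟨y, hy⟩ ∈ center K₁ := by
    intro y
    rw [hT]
    constructor
    · rintro ⟨s, hs, rfl⟩
      exact ⟨s.2, hs⟩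
    · rintro ⟨hy, h⟩
      exact ⟨⟨y, hy⟩, h, rfl⟩
  rw [← hmem] at hcon
  obtain ⟨m, hm⟩ := C.two x
  classical
  have hex : ∃ k : ℕ, x ^ 2 ^ k ∈ T := ⟨m, by rw [hm]; exact one_mem _⟩
  obtain ⟨l, hl⟩ : ∃ l, Nat.find hex = l + 1 := by
    refine Nat.exists_eq_succ_of_ne_zero fun h3 => ?_
    have h4 := Nat.find_spec hex
    rw [h3, pow_zero, pow_one] at h4
    exact hcon h4
  obtain ⟨y, hy⟩ : ∃ y, y = x ^ 2 ^ l := ⟨_, rfl⟩
  have hyT : y ∉ T := by rw [hy]; exact Nat.find_min hex (by omega)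
  have hyyT : y * y ∈ T := by
    have h4 := Nat.find_spec hex
    rwa [hl, pow_succ, pow_mul, ← hy, pow_two] at h4
  have hρy : A.ρ y = 1 := by rw [hy, map_pow, hx, one_pow]
  have hone : (1 : R) ∈ T := one_mem _
  have hzT : z ∈ T := hmem.mpr ⟨A.zS, A.jz⟩
  have hiT : i ∈ T := hmem.mpr ⟨hiS, hic⟩
  have hsq1 : ∀ a : R, A.ρ a = 1 → a * a = 1 → a ∈ T := by
    intro a ha haa
    by_cases ha1 : a = 1
    · rw [ha1]; exact hone
    · rw [hu a ha haa ha1]; exact hzT
  obtain ⟨hyyS, hyyc⟩ := hmem.mp hyyT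
  by_cases h1 : y * y = 1
  · exact hyT (hsq1 y hρy h1)
  by_cases hsq : y * y * (y * y) = 1
  · -- `y * y = z`
    have h2 := hu (y * y) (by rw [map_mul, hρy, one_mul]) hsq h1
    have hyi := comm_S A hρy hiS
    have h3 : y * i * (y * i) = 1 := by
      calc y * i * (y * i) = y * (i * y) * i := by group
        _ = y * (y * i) * i := by rw [hyi]
        _ = (y * y) * (i * i) := by group
        _ = z * z := by rw [h2, hii]
        _ = 1 := C.zz
    have h4 := hsq1 (y * i) (by rw [map_mul, hρy, hρi, one_mul]) h3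
    apply hyT
    have h5 := T.mul_mem h4 (T.inv_mem hiT)
    rwa [mul_inv_cancel_right] at h5
  · -- `y * y` has order 4
    refine no_sq A B C F₁ F₂ hρy hyyS ?_ hyyc rfl
    obtain ⟨i0, hi0, hz0⟩ := F₁.exists_i
    have h5 := hyyc
    rw [hz0, mem_zpowers_iff_mem_range_orderOf, hi0] at h5
    simp only [Finset.mem_image, Finset.mem_range] at h5
    obtain ⟨n, hn, hn'⟩ := h5
    have hne : A.j ⟨y * y, hyyS⟩ * A.j ⟨y * y, hyyS⟩ ≠ 1 := by
      rw [← A.j_mul hyyS hyyS, ← A.j_one]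
      exact fun h => hsq (A.j_inj _ _ h)
    have hi04 : i0 ^ 4 = 1 := by rw [← hi0, pow_orderOf_eq_one]
    rw [← hn'] at hne ⊢
    interval_cases n
    · rw [pow_zero, mul_one] at hne; exact absurd rfl hne
    · rw [pow_one, hi0]
    · rw [← pow_add, hi04] at hne; exact absurd rfl hne
    · rw [orderOf_pow' i0 (by norm_num), hi0]; norm_num

include C F₁ F₂ in
/-- **(5.5)**, first half: `R ∩ K_z` and `R ∩ K_e` have unique involutions: `|N| = 4` and `τ = true`. -/
theorem ker_card (hu : ∀ x : R, A.ρ x = 1 → x * x = 1 → x ≠ 1 → x = z)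
    (hv : ∀ x : R, B.ρ x = 1 → x * x = 1 → x ≠ 1 → x = e) :
    τ = true ∧ Nat.card (N A B) = 4 ∧ ∀ x, B.ρ x = 1 → x ∈ A.S := by
  obtain ⟨i, hiS, hi4, hic, hiY, hii⟩ := exists_i B C.symm F₂
  -- `i₂ ∈ S`
  have hi1 : i ∈ A.S := by
    obtain ⟨k, hk⟩ := inner_of_Yr B A C.symm F₂ F₁ hiY
    obtain ⟨s, hs, -, hρ⟩ := exists_inner A C.symm hk
    obtain ⟨h1, -⟩ := ker_le A B C F₁ F₂ hu (x := i * s⁻¹) (by rw [map_mul, map_inv, hρ, mul_inv_cancel])
    have h2 := mul_mem h1 hs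
    rwa [inv_mul_cancel_right] at h2
  have hle : ∀ x, B.ρ x = 1 → x ∈ zpowers i := by
    intro x hx
    obtain ⟨hxS, hxc⟩ := ker_le B A C.symm F₂ F₁ hv hx
    obtain ⟨i0, hi0, hz0⟩ := F₂.exists_i
    have hord : zpowers (B.j ⟨i, hiS⟩) = center K₂ := by
      apply Subgroup.eq_of_le_of_card_ge
      · rw [zpowers_le]; exact hic
      · rw [Nat.card_zpowers, hi4, hz0, Nat.card_zpowers, hi0]
    rw [← hord] at hxc
    obtain ⟨n, hn⟩ := mem_zpowers_iff.mp hxc
    rw [← map_zpow] at hn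
    exact mem_zpowers_iff.mpr ⟨n, congrArg Subtype.val (B.inj hn)⟩
  have hρi : B.ρ i = 1 := by
    have h := B.ρ_S ⟨i, hiS⟩
    rw [conj_eq_one_iff.mpr hic] at h
    exact h
  have hN : N A B = zpowers i := by
    apply le_antisymm
    · intro n hn
      exact hle n ((mem_N A B).mp hn).2
    · rw [zpowers_le]
      exact (mem_N A B).mpr ⟨hi1, hρi⟩
  have hoi : orderOf i = 4 := by
    rw [← hi4]
    have h1 := orderOf_injective B.j B.inj ⟨i, hiS⟩
    rw [h1, Subgroup.orderOf_mk]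
  have hcard : Nat.card (N A B) = 4 := by rw [hN, Nat.card_zpowers, hoi]
  refine ⟨?_, hcard, fun x hx => ?_⟩
  · by_contra hτ
    have h2 := (N_facts A B C F₁).2.1 (by simpa using hτ)
    omega
  · exact (zpowers_le.mpr hi1) (hle x hx)

end two

end Side

end Cfsg.Agent.UGT.I34.Loc

private theorem dce_831d791bda90 : _root_.True := by
  try have : _root_.True := by simp only [_root_.Cfsg.Agent.UGT.I34.Loc.Side.t.eq_1]
  exact _root_.True.intro
end

-- part: UGT/Cov/KFPure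
section
set_option linter.all false
open scoped Cfsg.Agent.FastGrp

-- part: UGT/Cov/FourK
section
/-!
# UGT N1 (I34): the K-facts (k1), (k2) for `4₁.L₃(4)` and `4₂.L₃(4)` (helper281)

`A : StdL34.Cov L` (see `StdL34.exists_cov`), `A.ty = true` : type `4₁`, `A.ty = false` : type `4₂`; `t = x₀₂(1)`,
`S = C_L(t)` (order 128), `Y = x₀₂(F₄)`, `YS = ⟨s⟩ Y` (`Φ(S)`, order 16), `F = ⟨s²⟩ Y = Ω₁(YS)` (order 8),
`AF = C_S(F) = {a = b}` (order 64), `S' = {x₀₂(c) s^k : k ≡ Tr c}` (order 8, not `F`).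

* `mem_S`, `card_S`, `S_le_T`, `center_S`, `center_T`, `comm_mem_D`, `D_le_comm`, `sq_mem_YS`, `YS_le_sq`,
  `mem_F_iff`, `cent_F`, `card_AF`, `AF_comm`, `AF_four`, `AF_two`, `inv_S`, `fuse` : (k1)
* `normal_small`, `normal_card_two`, `normal_card_four` : (k2)
* `no_root` : the check of (5.4)
-/

set_option autoImplicit false

namespace Cfsg.Agent.UGT.Cov.FourK

open Cfsg.Agent.SporadicA.FieldFour Cfsg.Agent.StdL34
open scoped commutatorElement

/-! ### Codes -/

/-- commutator of codes -/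
def cc (ty : Bool) (p q : Code) : Code := cmul ty (cmul ty p q) (cmul ty (cinv ty p) (cinv ty q))

/-- the codes over the centre of the image -/
def yk (p : Code) : Prop := p.a = 0 ∧ p.b = 0

instance (p : Code) : Decidable (yk p) := by unfold yk; infer_instance

/-- the codes of `F` -/
def fk (p : Code) : Prop := p.a = 0 ∧ p.b = 0 ∧ (p.k = 0 ∨ p.k = 2)

instance (p : Code) : Decidable (fk p) := by unfold fk; infer_instance

/-- the codes of `S'` -/
def dk (p : Code) : Prop := p.a = 0 ∧ p.b = 0 ∧ (trF p.c = true ↔ (p.k = 1 ∨ p.k = 3))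

instance (p : Code) : Decidable (dk p) := by unfold dk; infer_instance

/-- the codes of `AF` -/
def ak (p : Code) : Prop := p.a = p.b

instance (p : Code) : Decidable (ak p) := by unfold ak; infer_instance

/-- the code of `t` -/
def ct : Code := ⟨0, 0, 1, 0⟩

theorem cc_nk (ty : Bool) (p q : Code) : cc ty p q = cc ty (nk p) (nk q) := by
  obtain ⟨a, b, c, k⟩ := p
  obtain ⟨a', b', c', k'⟩ := q
  simp only [cc, cmul, cinv, nk, Code.mk.injEq, true_and]
  abel

theorem tr_add : ∀ a b : F4, trF a = false → trF b = false → trF (a + b) = false := by decide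

theorem t0_mul (ty : Bool) (p q : Code) (hp : t0 p) (hq : t0 q) : t0 (cmul ty p q) := by
  unfold t0 at hp hq ⊢
  have := tr_add _ _ hp hq
  show trF (p.a + q.a + (p.b + q.b)) = false
  have e : p.a + q.a + (p.b + q.b) = p.a + p.b + (q.a + q.b) := by ring
  rw [e]; exact this

theorem yk_inv (ty : Bool) (p : Code) (hp : yk p) : yk (cinv ty p) := hp

theorem ak_inv (ty : Bool) (p : Code) (hp : ak p) : ak (cinv ty p) := hp

theorem yk_mul (ty : Bool) (p q : Code) (hp : yk p) (hq : yk q) : yk (cmul ty p q) :=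
  ⟨by show p.a + q.a = 0; rw [hp.1, hq.1]; rfl, by show p.b + q.b = 0; rw [hp.2, hq.2]; rfl⟩

theorem ak_mul (ty : Bool) (p q : Code) (hp : ak p) (hq : ak q) : ak (cmul ty p q) := by
  show p.a + q.a = p.b + q.b
  rw [show p.a = p.b from hp, show q.a = q.b from hq]

theorem t0_inv (ty : Bool) (p : Code) (hp : t0 p) : t0 (cinv ty p) := hp

private noncomputable def _root_.Cfsg.Agent.KO1a14772.k0 : ((x0 : Prop) → ((@Decidable @x0) → @Bool)) := @(fun (x0 : Prop) (x1 : @Decidable @x0) => @Decidable.rec.{1} @x0 @(fun (x2 : @Decidable @x0) => @Bool) @(fun (x2 : @Not @x0) => @Bool.false) @(fun (x2 : x0) => @Bool.true) @x1)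
private theorem _root_.Cfsg.Agent.KO1a14772.e0 : @Decidable.decide = @_root_.Cfsg.Agent.KO1a14772.k0 := by delta _root_.Cfsg.Agent.KO1a14772.k0; rfl'
private noncomputable def _root_.Cfsg.Agent.KO1a14772.k1 : (by first | exact type_of% @Cfsg.Agent.SporadicA.FieldFour.F4.add | exact Unit : Sort _) := by first | (refine @Subtype.val _ (fun g => @Cfsg.Agent.SporadicA.FieldFour.F4.add = @g) (@Subtype.mk _ _ (@(fun (x0 : @Cfsg.Agent.SporadicA.FieldFour.F4) (x1 : @Cfsg.Agent.SporadicA.FieldFour.F4) => @Cfsg.Agent.SporadicA.FieldFour.F4.rec.{1} @(fun (x2 : @Cfsg.Agent.SporadicA.FieldFour.F4) => @Cfsg.Agent.SporadicA.FieldFour.F4) @x1 (@Cfsg.Agent.SporadicA.FieldFour.F4.rec.{1} @(fun (x2 : @Cfsg.Agent.SporadicA.FieldFour.F4) => @Cfsg.Agent.SporadicA.FieldFour.F4) @Cfsg.Agent.SporadicA.FieldFour.F4.o @Cfsg.Agent.SporadicA.FieldFour.F4.z @Cfsg.Agent.SporadicA.FieldFour.F4.v @Cfsg.Agent.SporadicA.FieldFour.F4.w @x1) (@Cfsg.Agent.SporadicA.FieldFour.F4.rec.{1}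 @(fun (x2 : @Cfsg.Agent.SporadicA.FieldFour.F4) => @Cfsg.Agent.SporadicA.FieldFour.F4) @Cfsg.Agent.SporadicA.FieldFour.F4.w @Cfsg.Agent.SporadicA.FieldFour.F4.v @Cfsg.Agent.SporadicA.FieldFour.F4.z @Cfsg.Agent.SporadicA.FieldFour.F4.o @x1) (@Cfsg.Agent.SporadicA.FieldFour.F4.rec.{1} @(fun (x2 : @Cfsg.Agent.SporadicA.FieldFour.F4) => @Cfsg.Agent.SporadicA.FieldFour.F4) @Cfsg.Agent.SporadicA.FieldFour.F4.v @Cfsg.Agent.SporadicA.FieldFour.F4.w @Cfsg.Agent.SporadicA.FieldFour.F4.o @Cfsg.Agent.SporadicA.FieldFour.F4.z @x1) @x0)) ?_); rfl') | exact @Cfsg.Agent.SporadicA.FieldFour.F4.add | exact ()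
private theorem _root_.Cfsg.Agent.KO1a14772.e1 : (by first | exact @Cfsg.Agent.SporadicA.FieldFour.F4.add = @_root_.Cfsg.Agent.KO1a14772.k1 | exact True : Prop) := by first | (delta _root_.Cfsg.Agent.KO1a14772.k1; exact @Subtype.property _ (fun g => @Cfsg.Agent.SporadicA.FieldFour.F4.add = @g) _) | rfl | trivial
private noncomputable def _root_.Cfsg.Agent.KO1a14772.k2 : (by first | exact type_of% @Cfsg.Agent.SporadicA.FieldFour.F4.mul | exact Unit : Sort _) := by first | (refine @Subtype.val _ (fun g => @Cfsg.Agent.SporadicA.FieldFour.F4.mul = @g) (@Subtype.mk _ _ (@(fun (x0 : @Cfsg.Agent.SporadicA.FieldFour.F4) (x1 : @Cfsg.Agent.SporadicA.FieldFour.F4) => @Cfsg.Agent.SporadicA.FieldFour.F4.rec.{1} @(fun (x2 : @Cfsg.Agent.SporadicA.FieldFour.F4) => @Cfsg.Agent.SporadicA.FieldFour.F4) @Cfsg.Agent.SporadicA.FieldFour.F4.z @x1 (@Cfsg.Agent.SporadicA.FieldFour.F4.rec.{1} @(fun (x2 : @Cfsg.Agent.SporadicA.FieldFour.F4) => @Cfsg.Agent.SporadicA.FieldFour.F4)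 @Cfsg.Agent.SporadicA.FieldFour.F4.z @Cfsg.Agent.SporadicA.FieldFour.F4.w @Cfsg.Agent.SporadicA.FieldFour.F4.v @Cfsg.Agent.SporadicA.FieldFour.F4.o @x1) (@Cfsg.Agent.SporadicA.FieldFour.F4.rec.{1} @(fun (x2 : @Cfsg.Agent.SporadicA.FieldFour.F4) => @Cfsg.Agent.SporadicA.FieldFour.F4) @Cfsg.Agent.SporadicA.FieldFour.F4.z @Cfsg.Agent.SporadicA.FieldFour.F4.v @Cfsg.Agent.SporadicA.FieldFour.F4.o @Cfsg.Agent.SporadicA.FieldFour.F4.w @x1) @x0)) ?_); rfl') | exact @Cfsg.Agent.SporadicA.FieldFour.F4.mul | exact ()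
private theorem _root_.Cfsg.Agent.KO1a14772.e2 : (by first | exact @Cfsg.Agent.SporadicA.FieldFour.F4.mul = @_root_.Cfsg.Agent.KO1a14772.k2 | exact True : Prop) := by first | (delta _root_.Cfsg.Agent.KO1a14772.k2; exact @Subtype.property _ (fun g => @Cfsg.Agent.SporadicA.FieldFour.F4.mul = @g) _) | rfl | trivial
private noncomputable def _root_.Cfsg.Agent.KO1a14772.k3 : ((x0 : @Nat) → ((@Fin @x0) → ((@Fin @x0) → @Fin @x0))) := @(fun (x0 : @Nat) (x1 : @Fin @x0) (x2 : @Fin @x0) => @Fin.rec.{1} @x0 @(fun (x3 : @Fin @x0) => @Fin @x0) @(fun (x3 : @Nat) (x4 : @LT.lt.{0} @Nat @instLTNat @x3 @x0) => @Fin.rec.{1} @x0 @(fun (x5 : @Fin @x0) => @Fin @x0) @(fun (x5 : @Nat) (x6 : @LT.lt.{0} @Nat @instLTNat @x5 @x0) => @Fin.mk @x0 (@Nat.mod (@Nat.add @x3 @x5) @x0) (@Fin.add._proof_3 @x0 @x3 @x4 @x5)) @x2) @x1)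
private theorem _root_.Cfsg.Agent.KO1a14772.e3 : @Fin.add = @_root_.Cfsg.Agent.KO1a14772.k3 := by delta _root_.Cfsg.Agent.KO1a14772.k3; rfl'
private noncomputable def _root_.Cfsg.Agent.KO1a14772.k4 : ((x0 : @Nat) → ((@Fin @x0) → ((@Fin @x0) → @Fin @x0))) := @(fun (x0 : @Nat) (x1 : @Fin @x0) (x2 : @Fin @x0) => @Fin.rec.{1} @x0 @(fun (x3 : @Fin @x0) => @Fin @x0) @(fun (x3 : @Nat) (x4 : @LT.lt.{0} @Nat @instLTNat @x3 @x0) => @Fin.rec.{1} @x0 @(fun (x5 : @Fin @x0) => @Fin @x0) @(fun (x5 : @Nat) (x6 : @LT.lt.{0} @Nat @instLTNat @x5 @x0) => @Fin.mk @x0 (@Nat.mod (@Nat.add (@Nat.sub @x0 @x5) @x3) @x0) (@Fin.sub._proof_1 @x0 @x3 @x4 @x5)) @x2) @x1)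
private theorem _root_.Cfsg.Agent.KO1a14772.e4 : @Fin.sub = @_root_.Cfsg.Agent.KO1a14772.k4 := by delta _root_.Cfsg.Agent.KO1a14772.k4; rfl'
private noncomputable def _root_.Cfsg.Agent.KO1a14772.k7 : (by first | exact type_of% @Cfsg.Agent.StdL34.cmul | exact Unit : Sort _) := by first | (refine @Subtype.val _ (fun g => @Cfsg.Agent.StdL34.cmul = @g) (@Subtype.mk _ _ (@(fun (x0 : @Bool) (x1 : @Cfsg.Agent.StdL34.Code) (x2 : @Cfsg.Agent.StdL34.Code) => @Cfsg.Agent.StdL34.Code.mk (@Cfsg.Agent.KO1a14772.k1 (@Cfsg.Agent.StdL34.Code.a @x1) (@Cfsg.Agent.StdL34.Code.a @x2)) (@Cfsg.Agent.KO1a14772.k1 (@Cfsg.Agent.StdL34.Code.b @x1) (@Cfsg.Agent.StdL34.Code.b @x2)) (@Cfsg.Agent.KO1a14772.k1 (@Cfsg.Agent.KO1a14772.k1 (@Cfsg.Agent.KO1a14772.k2 (@Cfsg.Agent.StdL34.Code.a @x2) (@Cfsg.Agent.StdL34.Code.b @x1)) (@Cfsg.Agent.StdL34.Code.c @x1)) (@Cfsg.Agent.StdL34.Code.c @x2)) (@Cfsg.Agent.KO1a14772.k3 (nat_lit 4) (@Cfsg.Agent.KO1a14772.k3 (nat_lit 4) (@Cfsg.Agent.KO1a14772.k4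 (nat_lit 4) (@Cfsg.Agent.KO1a14772.k3 (nat_lit 4) (@Cfsg.Agent.StdL34.Code.k @x1) (@Cfsg.Agent.StdL34.Code.k @x2)) (@Cfsg.Agent.StdL34.gx @x0 (@Cfsg.Agent.KO1a14772.k2 (@Cfsg.Agent.StdL34.Code.a @x2) (@Cfsg.Agent.KO1a14772.k2 (@Cfsg.Agent.StdL34.Code.b @x1) (@Cfsg.Agent.StdL34.Code.b @x1))))) (@Cfsg.Agent.StdL34.t2 (@Cfsg.Agent.KO1a14772.k2 (@Cfsg.Agent.StdL34.Code.c @x1) (@Cfsg.Agent.StdL34.Code.a @x2)))) (@Cfsg.Agent.StdL34.t2 (@Cfsg.Agent.KO1a14772.k2 (@Cfsg.Agent.KO1a14772.k1 (@Cfsg.Agent.KO1a14772.k2 (@Cfsg.Agent.StdL34.Code.a @x2) (@Cfsg.Agent.StdL34.Code.b @x1)) (@Cfsg.Agent.StdL34.Code.c @x1)) (@Cfsg.Agent.StdL34.Code.b @x2)))))) ?_); rewrite [← Cfsg.Agent.KO1a14772.e1, ← Cfsg.Agent.KO1a14772.e2, ← Cfsg.Agent.KO1a14772.e3, ← Cfsg.Agent.KO1a14772.e4]; rfl') | exact @Cfsg.Agent.StdL34.cmul | exact ()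
private theorem _root_.Cfsg.Agent.KO1a14772.e7 : (by first | exact @Cfsg.Agent.StdL34.cmul = @_root_.Cfsg.Agent.KO1a14772.k7 | exact True : Prop) := by first | (delta _root_.Cfsg.Agent.KO1a14772.k7; exact @Subtype.property _ (fun g => @Cfsg.Agent.StdL34.cmul = @g) _) | rfl | trivial
private noncomputable def _root_.Cfsg.Agent.KO1a14772.k8 : ((x0 : (@Bool → Prop)) → ((@DecidablePred.{1} @Bool @x0) → @Decidable ((x2 : @Bool) → @x0 @x2))) := @(fun (x0 : (@Bool → Prop)) (x1 : @DecidablePred.{1} @Bool @x0) => @Decidable.rec.{1} (@x0 @Bool.true) @(fun (x2 : @Decidable (@x0 @Bool.true)) => @Decidable ((x3 : @Bool) → @x0 @x3)) @(fun (x2 : @Not (@x0 @Bool.true)) => @Decidable.isFalse ((x3 : @Bool) → @x0 @x3) (@Bool.instDecidableForallOfDecidablePred._proof_1 @x0 @x2)) @(fun (x2 : @x0 @Bool.true) => @Decidable.rec.{1} (@x0 @Bool.false) @(fun (x3 : @Decidable (@x0 @Bool.false)) => @Decidable ((x4 : @Bool) → @x0 @x4)) @(fun (x3 : @Not (@x0 @Bool.false))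 => @Decidable.isFalse ((x4 : @Bool) → @x0 @x4) (@Bool.instDecidableForallOfDecidablePred._proof_2 @x0 @x3)) @(fun (x3 : @x0 @Bool.false) => @Decidable.isTrue ((x4 : @Bool) → @x0 @x4) (@Bool.instDecidableForallOfDecidablePred._proof_3 @x0 @x2 @x3)) (@x1 @Bool.false)) (@x1 @Bool.true))
private theorem _root_.Cfsg.Agent.KO1a14772.e8 : @Bool.instDecidableForallOfDecidablePred = @_root_.Cfsg.Agent.KO1a14772.k8 := by delta _root_.Cfsg.Agent.KO1a14772.k8; rfl'
private noncomputable def _root_.Cfsg.Agent.KO1a14772.k22 : ((x0 : Prop) → ((x1 : Prop) → ((@Decidable @x0) → ((@Decidable @x1) → @Decidable (@Iff @x0 @x1))))) := @(fun (x0 : Prop) (x1 : Prop) (x2 : @Decidable @x0) (x3 : @Decidable @x1) => @Decidable.rec.{1} @x0 @(fun (x4 : @Decidable @x0) => @Decidable (@Iff @x0 @x1)) @(fun (x4 : @Not @x0) => @Decidable.rec.{1} @x1 @(fun (x5 : @Decidable @x1) => @Decidable (@Iff @x0 @x1)) @(fun (x5 : @Not @x1) => @Decidable.isTrue (@Iff @x0 @x1) (@instDecidableIff._proof_4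 @x0 @x1 @x4 @x5)) @(fun (x5 : x1) => @Decidable.isFalse (@Iff @x0 @x1) (@instDecidableIff._proof_3 @x0 @x1 @x4 @x5)) @x3) @(fun (x4 : x0) => @Decidable.rec.{1} @x1 @(fun (x5 : @Decidable @x1) => @Decidable (@Iff @x0 @x1)) @(fun (x5 : @Not @x1) => @Decidable.isFalse (@Iff @x0 @x1) (@instDecidableIff._proof_2 @x0 @x1 @x4 @x5)) @(fun (x5 : x1) => @Decidable.isTrue (@Iff @x0 @x1) (@instDecidableIff._proof_1 @x0 @x1 @x4 @x5)) @x3) @x2)
private theorem _root_.Cfsg.Agent.KO1a14772.e22 : @instDecidableIff = @_root_.Cfsg.Agent.KO1a14772.k22 := by delta _root_.Cfsg.Agent.KO1a14772.k22; rfl'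

private noncomputable def _root_.Cfsg.Agent.LsF.f990225_0 : {f // @Cfsg.Agent.StdL34.t2 = f} := ⟨_, by first | (delta Cfsg.Agent.StdL34.t2; rewrite [Cfsg.Agent.LsF.dBoolEq_eq, Cfsg.Agent.LsF.ite_eq]; exact rfl) | exact rfl⟩
private noncomputable def _root_.Cfsg.Agent.LsF.f990225_1 : {f // @Cfsg.Agent.KO1a14772.k7 = f} := ⟨_, by first | (delta Cfsg.Agent.KO1a14772.k7; rewrite [Cfsg.Agent.LsF.f990225_0.2]; exact rfl) | exact rfl⟩
private noncomputable def _root_.Cfsg.Agent.LsF.f990225_3 : {f // @Cfsg.Agent.StdL34.instDecidableForallOfDecidablePredCode = f} := ⟨_, by first | (delta Cfsg.Agent.StdL34.instDecidableForallOfDecidablePredCode; rewrite [Cfsg.Agent.LsF.dForall_eq, Cfsg.Agent.LsF.dIff_eq, Cfsg.Agent.LsF.dForallFin_eq]; exact rfl) | exact rfl⟩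
private noncomputable def _root_.Cfsg.Agent.LsF.f990225_2 : {f // @Cfsg.Agent.SporadicA.FieldFour.F4.decEq = f} := ⟨_, by first | (delta Cfsg.Agent.SporadicA.FieldFour.F4.decEq; rewrite [Cfsg.Agent.LsF.instDecEq_eq, Cfsg.Agent.LsF.dite_eq]; exact rfl) | exact rfl⟩
private noncomputable def _root_.Cfsg.Agent.LsF.f990225_4 : {f // @Cfsg.Agent.StdL34.instDecidableEqCode.decEq = f} := ⟨_, by first | (delta Cfsg.Agent.StdL34.instDecidableEqCode.decEq; rewrite [Cfsg.Agent.LsF.f990225_2.2, Cfsg.Agent.LsF.dFinEq_eq, Cfsg.Agent.LsF.dite_eq]; (try delta Cfsg.Agent.StdL34.instDecidableEqCode.decEq.match_1); (try delta Cfsg.Agent.StdL34.Code.casesOn); exact rfl) | exact rfl⟩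
private noncomputable def _root_.Cfsg.Agent.LsF.f990225_5 : {f // @Cfsg.Agent.StdL34.instDecidableEqCode = f} := ⟨_, by first | (delta Cfsg.Agent.StdL34.instDecidableEqCode; rewrite [Cfsg.Agent.LsF.f990225_4.2]; exact rfl) | exact rfl⟩
theorem comm_t : ∀ ty p, cmul ty p ct = cmul ty ct p ↔ t0 p := by (refine of_decide_eq_true ?_; rewrite [Cfsg.Agent.KO1a14772.e0, Cfsg.Agent.KO1a14772.e7, Cfsg.Agent.KO1a14772.e8, Cfsg.Agent.KO1a14772.e22]; ((try (rewrite [Cfsg.Agent.LsF.f990225_1.2, Cfsg.Agent.LsF.f990225_3.2, Cfsg.Agent.LsF.f990225_5.2])); decide +kernel))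

private noncomputable def _root_.Cfsg.Agent.LsF.f990225_7 : {f // @Cfsg.Agent.StdL34.cmul = f} := ⟨_, by first | (delta Cfsg.Agent.StdL34.cmul; rewrite [Cfsg.Agent.LsF.f990225_0.2, Cfsg.Agent.LsF.fadd_pat, Cfsg.Agent.LsF.fsub_pat]; exact rfl) | exact rfl⟩
private def h89t (j : Fin 4) (r : Code) : Code := ⟨r.a, r.b, r.c, r.k + j⟩

private theorem h89t_mul (ty : Bool) (a b c : F4) (k : Fin 4) (a' b' c' : F4) (k' : Fin 4) :
    cmul ty ⟨a, b, c, k⟩ ⟨a', b', c', k'⟩ = h89t (k + k') (cmul ty ⟨a, b, c, 0⟩ ⟨a', b', c', 0⟩) := by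
  simp only [cmul, h89t, Code.mk.injEq, true_and]
  abel

private theorem h89d (ty : Bool) (p q : Code) : cmul ty p q = cmul ty q p ↔
    cmul ty ⟨p.a, p.b, p.c, 0⟩ ⟨q.a, q.b, q.c, 0⟩ = cmul ty ⟨q.a, q.b, q.c, 0⟩ ⟨p.a, p.b, p.c, 0⟩ := by
  obtain ⟨a, b, c, k⟩ := p
  obtain ⟨a', b', c', k'⟩ := q
  rw [h89t_mul ty a b c k, h89t_mul ty a' b' c' k', add_comm k' k]
  refine ⟨fun h => ?_, congrArg _⟩
  have h4 : _ + (k + k') = _ + (k + k') := congrArg Code.k h
  have e : ∀ r s : Code, r.a = s.a → r.b = s.b → r.c = s.c → r.k = s.k → r = s := by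
    rintro ⟨⟩ ⟨⟩ ⟨⟩ ⟨⟩ ⟨⟩ ⟨⟩; rfl
  exact e _ _ (congrArg Code.a h :) (congrArg Code.b h :) (congrArg Code.c h :) (add_right_cancel h4)

attribute [local instance high] _root_.List.decidableBAll in
theorem comm_S : ∀ ty, ∀ p : Code, (∀ q ∈ T0, cmul ty p q = cmul ty q p) → p.a = 0 ∧ p.b = 0 ∧
    (p.c = 0 ∨ p.c = 1) := by
  have h : ∀ ty (a b c : F4), (∀ q ∈ T0, cmul ty ⟨a, b, c, 0⟩ ⟨q.a, q.b, q.c, 0⟩ = cmul ty ⟨q.a, q.b, q.c, 0⟩ ⟨a, b, c, 0⟩) →
      a = 0 ∧ b = 0 ∧ (c = 0 ∨ c = 1) := by decide +kernel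
  exact fun ty p g => h ty p.a p.b p.c fun q hq => (h89d ty p q).1 (g q hq)

private noncomputable def _root_.Cfsg.Agent.KO1a14772.k26.{ku0} : ((x0 : Sort ku0) → ((x1 : @Bool) → ((x2 : @Bool) → ((@Eq.{1} @Bool @x1 @x2) → @Bool.noConfusionType.{ku0} @x0 @x1 @x2)))) := @(fun (x0 : Sort ku0) (x1 : @Bool) (x2 : @Bool) (x3 : @Eq.{1} @Bool @x1 @x2) => @Eq.rec.{ku0, 1} @Bool @x1 @(fun (x4 : @Bool) (x5 : @Eq.{1} @Bool @x1 @x4) => @Bool.noConfusionType.{ku0} @x0 @x1 @x4) (@Bool.rec.{ku0} @(fun (x4 : @Bool) => @Bool.noConfusionType.{ku0} @x0 @x4 @x4) @(fun (x4 : x0) => x4) @(fun (x4 : x0) => x4) @x1) @x2 @x3)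
private theorem _root_.Cfsg.Agent.KO1a14772.e26.{ku0} : @Bool.noConfusion.{ku0} = @_root_.Cfsg.Agent.KO1a14772.k26.{ku0} := by delta _root_.Cfsg.Agent.KO1a14772.k26; rfl'
private noncomputable def _root_.Cfsg.Agent.KO1a14772.k27 : ((x0 : @Bool) → ((x1 : @Bool) → @Decidable (@Eq.{1} @Bool @x0 @x1))) := @(fun (x0 : @Bool) (x1 : @Bool) => @Bool.rec.{1} @(fun (x2 : @Bool) => @Decidable (@Eq.{1} @Bool @x2 @x1)) (@Bool.rec.{1} @(fun (x2 : @Bool) => @Decidable (@Eq.{1} @Bool @Bool.false @x2)) (@Decidable.isTrue (@Eq.{1} @Bool @Bool.false @Bool.false) (@rfl.{1} @Bool @Bool.false)) (@Decidable.isFalse (@Eq.{1} @Bool @Bool.false @Bool.true) @(fun (x2 : @Eq.{1} @Bool @Bool.false @Bool.true) => @Cfsg.Agent.KO1a14772.k26.{0} @False @Bool.false @Bool.true @x2)) @x1) (@Bool.rec.{1} @(fun (x2 : @Bool) => @Decidable (@Eq.{1} @Bool @Bool.true @x2)) (@Decidable.isFalse (@Eq.{1} @Bool @Bool.true @Bool.false) @(fun (x2 : @Eq.{1} @Bool @Bool.true @Bool.false)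 => @Cfsg.Agent.KO1a14772.k26.{0} @False @Bool.true @Bool.false @x2)) (@Decidable.isTrue (@Eq.{1} @Bool @Bool.true @Bool.true) (@rfl.{1} @Bool @Bool.true)) @x1) @x0)
private theorem _root_.Cfsg.Agent.KO1a14772.e27 : @Bool.decEq = @_root_.Cfsg.Agent.KO1a14772.k27 := by delta _root_.Cfsg.Agent.KO1a14772.k27; rewrite [← Cfsg.Agent.KO1a14772.e26.{0}]; rfl'
private noncomputable def _root_.Cfsg.Agent.KO1a14772.k30 : ((x0 : Prop) → ((x1 : (x0 → Prop)) → ((@Decidable @x0) → (((x3 : x0) → @Decidable (@x1 @x3)) → @Decidable ((x4 : x0) → @x1 @x4))))) := @(fun (x0 : Prop) (x1 : (x0 → Prop)) (x2 : @Decidable @x0) (x3 : ((x3 : x0) → @Decidable (@x1 @x3))) => @Decidable.rec.{1} @x0 @(fun (x4 : @Decidable @x0) => @Decidable ((x5 : x0) → @x1 @x5)) @(fun (x4 : @Not @x0) => @Decidable.isTrue ((x5 : x0) → @x1 @x5) (@forall_prop_decidable._proof_2 @x0 @x1 @x4)) @(fun (x4 : x0) => @Decidable.rec.{1} (@x1 @x4) @(fun (x5 : @Decidable (@x1 @x4)) => @Decidable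 ((x6 : x0) → @x1 @x6)) @(fun (x5 : @Not (@x1 @x4)) => @Decidable.isFalse ((x6 : x0) → @x1 @x6) (@decidable_of_decidable_of_iff._proof_1 (@x1 @x4) ((x6 : x0) → @x1 @x6) (@forall_prop_decidable._proof_1 @x0 @x1 @x4) @x5)) @(fun (x5 : @x1 @x4) => @Decidable.isTrue ((x6 : x0) → @x1 @x6) (@Iff.mp (@x1 @x4) ((x6 : x0) → @x1 @x6) (@forall_prop_decidable._proof_1 @x0 @x1 @x4) @x5)) (@x3 @x4)) @x2)
private theorem _root_.Cfsg.Agent.KO1a14772.e30 : @forall_prop_decidable = @_root_.Cfsg.Agent.KO1a14772.k30 := by delta _root_.Cfsg.Agent.KO1a14772.k30; rfl'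
private noncomputable def _root_.Cfsg.Agent.KO1a14772.k33 : ((x0 : Prop) → ((x1 : Prop) → ((@Decidable @x0) → ((@Decidable @x1) → @Decidable (@And @x0 @x1))))) := @(fun (x0 : Prop) (x1 : Prop) (x2 : @Decidable @x0) (x3 : @Decidable @x1) => @Decidable.rec.{1} @x0 @(fun (x4 : @Decidable @x0) => @Decidable (@And @x0 @x1)) @(fun (x4 : @Not @x0) => @Decidable.isFalse (@And @x0 @x1) (@instDecidableAnd._proof_2 @x0 @x1 @x4)) @(fun (x4 : x0) => @Decidable.rec.{1} @x1 @(fun (x5 : @Decidable @x1) => @Decidable (@And @x0 @x1)) @(fun (x5 : @Not @x1) => @Decidable.isFalse (@And @x0 @x1) (@instDecidableAnd._proof_1 @x0 @x1 @x5)) @(fun (x5 : x1) => @Decidable.isTrue (@And @x0 @x1) (@And.intro @x0 @x1 @x4 @x5)) @x3) @x2)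
private theorem _root_.Cfsg.Agent.KO1a14772.e33 : @instDecidableAnd = @_root_.Cfsg.Agent.KO1a14772.k33 := by delta _root_.Cfsg.Agent.KO1a14772.k33; rfl'

attribute [local instance high] _root_.List.decidableBAll in
theorem comm_P : ∀ ty, ∀ p : Code, (∀ q ∈ (⟨0, F4.w, 0, 0⟩ :: T0), cmul ty p q = cmul ty q p) → p.a = 0 ∧ p.b = 0 ∧
    p.c = 0 := by
  have h : ∀ ty (a b c : F4), (∀ q ∈ ((⟨0, F4.w, 0, 0⟩ : Code) :: T0),
      cmul ty ⟨a, b, c, 0⟩ ⟨q.a, q.b, q.c, 0⟩ = cmul ty ⟨q.a, q.b, q.c, 0⟩ ⟨a, b, c, 0⟩) → a = 0 ∧ b = 0 ∧ c = 0 := by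
    decide +kernel
  exact fun ty p g => h ty p.a p.b p.c fun q hq => (h89d ty p q).1 (g q hq)

attribute [local instance high] _root_.List.decidableBAll in
theorem T0_t0 : ∀ q ∈ T0, t0 q := by decide +kernel

private noncomputable def _root_.Cfsg.Agent.KO1a14772.k19.{ku0} : ((x0 : Sort (ku0+1)) → ((x1 : (x0 → Prop)) → ((@DecidablePred.{(ku0+1)} @x0 @x1) → ((@Fintype.{ku0} @x0) → @Decidable ((x4 : x0) → @x1 @x4))))) := @(fun (x0 : Sort (ku0+1)) (x1 : (x0 → Prop)) (x2 : @DecidablePred.{(ku0+1)} @x0 @x1) (x3 : @Fintype.{ku0} @x0) => @Decidable.rec.{1} ((x4 : x0) → ((@Membership.mem.{ku0, ku0} @x0 (@Finset.{ku0} @x0) (@SetLike.instMembership.{ku0, ku0} (@Finset.{ku0} @x0) @x0 (@Finset.instSetLike.{ku0} @x0)) (@Finset.univ.{ku0} @x0 @x3) @x4) → @x1 @x4)) @(fun (x4 : @Decidable ((x4 : x0) → ((@Membership.mem.{ku0, ku0} @x0 (@Finset.{ku0} @x0) (@SetLike.instMembership.{ku0, ku0} (@Finset.{ku0} @x0) @x0 (@Finset.instSetLike.{ku0} @x0)) (@Finset.univ.{ku0}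 @x0 @x3) @x4) → @x1 @x4))) => @Decidable ((x5 : x0) → @x1 @x5)) @(fun (x4 : @Not ((x4 : x0) → ((@Membership.mem.{ku0, ku0} @x0 (@Finset.{ku0} @x0) (@SetLike.instMembership.{ku0, ku0} (@Finset.{ku0} @x0) @x0 (@Finset.instSetLike.{ku0} @x0)) (@Finset.univ.{ku0} @x0 @x3) @x4) → @x1 @x4))) => @Decidable.isFalse ((x5 : x0) → @x1 @x5) (@decidable_of_decidable_of_iff._proof_1 ((x5 : x0) → ((@Membership.mem.{ku0, ku0} @x0 (@Finset.{ku0} @x0) (@SetLike.instMembership.{ku0, ku0} (@Finset.{ku0} @x0) @x0 (@Finset.instSetLike.{ku0} @x0)) (@Finset.univ.{ku0} @x0 @x3) @x5) → @x1 @x5)) ((x5 : x0) → @x1 @x5) (@Fintype.decidableForallFintype._proof_1.{ku0} @x0 @x1 @x3) @x4)) @(fun (x4 : ((x4 : x0) → ((@Membership.mem.{ku0, ku0} @x0 (@Finset.{ku0} @x0) (@SetLike.instMembership.{ku0, ku0} (@Finset.{ku0} @x0) @x0 (@Finset.instSetLike.{ku0} @x0)) (@Finset.univ.{ku0} @x0 @x3) @x4) → @x1 @x4))) => @Decidable.isTrue ((x5 : x0) → @x1 @x5) (@Iff.mp ((x5 : x0) →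 ((@Membership.mem.{ku0, ku0} @x0 (@Finset.{ku0} @x0) (@SetLike.instMembership.{ku0, ku0} (@Finset.{ku0} @x0) @x0 (@Finset.instSetLike.{ku0} @x0)) (@Finset.univ.{ku0} @x0 @x3) @x5) → @x1 @x5)) ((x5 : x0) → @x1 @x5) (@Fintype.decidableForallFintype._proof_1.{ku0} @x0 @x1 @x3) @x4)) (@Finset.decidableDforallFinset.{ku0} @x0 (@Fintype.elems.{ku0} @x0 @x3) @(fun (x4 : x0) (x5 : @Membership.mem.{ku0, ku0} @x0 (@Finset.{ku0} @x0) (@SetLike.instMembership.{ku0, ku0} (@Finset.{ku0} @x0) @x0 (@Finset.instSetLike.{ku0} @x0)) (@Finset.univ.{ku0} @x0 @x3) @x4) => @x1 @x4) @(fun (x4 : x0) (x5 : @Membership.mem.{ku0, ku0} @x0 (@Finset.{ku0} @x0) (@SetLike.instMembership.{ku0, ku0} (@Finset.{ku0} @x0) @x0 (@Finset.instSetLike.{ku0} @x0)) (@Finset.univ.{ku0} @x0 @x3) @x4) => @x2 @x4)))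
private theorem _root_.Cfsg.Agent.KO1a14772.e19.{ku0} : @Fintype.decidableForallFintype.{ku0} = @_root_.Cfsg.Agent.KO1a14772.k19.{ku0} := by delta _root_.Cfsg.Agent.KO1a14772.k19; rfl'
private noncomputable def _root_.Cfsg.Agent.KO1a14772.k35 : (by first | exact type_of% @Cfsg.Agent.StdL34.trF | exact Unit : Sort _) := by first | (refine @Subtype.val _ (fun g => @Cfsg.Agent.StdL34.trF = @g) (@Subtype.mk _ _ (@(fun (x0 : @Cfsg.Agent.SporadicA.FieldFour.F4) => @Cfsg.Agent.SporadicA.FieldFour.F4.rec.{1} @(fun (x1 : @Cfsg.Agent.SporadicA.FieldFour.F4) => @Bool) @Bool.false @Bool.false @Bool.true @Bool.true @x0)) ?_); rfl') | exact @Cfsg.Agent.StdL34.trF | exact ()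
private theorem _root_.Cfsg.Agent.KO1a14772.e35 : (by first | exact @Cfsg.Agent.StdL34.trF = @_root_.Cfsg.Agent.KO1a14772.k35 | exact True : Prop) := by first | (delta _root_.Cfsg.Agent.KO1a14772.k35; exact @Subtype.property _ (fun g => @Cfsg.Agent.StdL34.trF = @g) _) | rfl | trivial
private noncomputable def _root_.Cfsg.Agent.KO1a14772.k38 : (by first | exact type_of% @Cfsg.Agent.UGT.Cov.FourK.cc | exact Unit : Sort _) := by first | (refine @Subtype.val _ (fun g => @Cfsg.Agent.UGT.Cov.FourK.cc = @g) (@Subtype.mk _ _ (@(fun (x0 : @Bool) (x1 : @Cfsg.Agent.StdL34.Code) (x2 : @Cfsg.Agent.StdL34.Code) => @Cfsg.Agent.KO1a14772.k7 @x0 (@Cfsg.Agent.KO1a14772.k7 @x0 @x1 @x2) (@Cfsg.Agent.KO1a14772.k7 @x0 (@Cfsg.Agent.StdL34.cinv @x0 @x1) (@Cfsg.Agent.StdL34.cinv @x0 @x2)))) ?_); rewrite [← Cfsg.Agent.KO1a14772.e7]; (try delta Cfsg.Agent.UGT.Cov.FourK.cc); (try generalize @Cfsg.Agent.StdL34.cmul = g0); (try generalize @Cfsg.Agent.StdL34.cinv =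 g1); rfl') | exact @Cfsg.Agent.UGT.Cov.FourK.cc | exact ()
private theorem _root_.Cfsg.Agent.KO1a14772.e38 : (by first | exact @Cfsg.Agent.UGT.Cov.FourK.cc = @_root_.Cfsg.Agent.KO1a14772.k38 | exact True : Prop) := by first | (delta _root_.Cfsg.Agent.KO1a14772.k38; exact @Subtype.property _ (fun g => @Cfsg.Agent.UGT.Cov.FourK.cc = @g) _) | rfl | trivial
private noncomputable def _root_.Cfsg.Agent.KO1a14772.k39 : @DecidableEq.{1} @Bool := @Cfsg.Agent.KO1a14772.k27
private theorem _root_.Cfsg.Agent.KO1a14772.e39 : @instDecidableEqBool = @_root_.Cfsg.Agent.KO1a14772.k39 := by delta _root_.Cfsg.Agent.KO1a14772.k39; rewrite [← Cfsg.Agent.KO1a14772.e27]; rfl'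

private noncomputable def _root_.Cfsg.Agent.LsF.f990225_8 : {f // @Cfsg.Agent.StdL34.cinv = f} := ⟨_, by first | (delta Cfsg.Agent.StdL34.cinv; rewrite [Cfsg.Agent.LsF.f990225_0.2, Cfsg.Agent.LsF.fadd_pat, Cfsg.Agent.LsF.fsub_pat]; exact rfl) | exact rfl⟩
private noncomputable def _root_.Cfsg.Agent.LsF.f990225_9 : {f // @Cfsg.Agent.KO1a14772.k38 = f} := ⟨_, by first | (delta Cfsg.Agent.KO1a14772.k38; rewrite [Cfsg.Agent.LsF.f990225_1.2, Cfsg.Agent.LsF.f990225_8.2]; exact rfl) | exact rfl⟩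
private noncomputable def _root_.Cfsg.Agent.LsF.f990225_10 : {f // @Cfsg.Agent.UGT.Cov.FourK.instDecidableDk = f} := ⟨_, by first | (delta Cfsg.Agent.UGT.Cov.FourK.instDecidableDk; rewrite [Cfsg.Agent.LsF.f990225_2.2, Cfsg.Agent.LsF.dAnd_eq, Cfsg.Agent.LsF.dOr_eq, Cfsg.Agent.LsF.dFinEq_eq, Cfsg.Agent.LsF.dBoolEq_eq]; exact rfl) | exact rfl⟩
theorem cc_S : ∀ ty a b c a' b' c', trF (a + b) = false → trF (a' + b') = false →
    dk (cc ty ⟨a, b, c, 0⟩ ⟨a', b', c', 0⟩) := by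
  have h : ∀ ty a b, trF (a + b) = false → ∀ a' b', trF (a' + b') = false → ∀ c c',
      dk (cc ty ⟨a, b, c, 0⟩ ⟨a', b', c', 0⟩) := by (refine of_decide_eq_true ?_; rewrite [Cfsg.Agent.KO1a14772.e0, Cfsg.Agent.KO1a14772.e35, Cfsg.Agent.KO1a14772.e38, Cfsg.Agent.KO1a14772.e8, Cfsg.Agent.KO1a14772.e19.{0}, Cfsg.Agent.KO1a14772.e30, Cfsg.Agent.KO1a14772.e39]; ((try (delta Cfsg.Agent.KO1a14772.k19; rewrite [Cfsg.Agent.LsF.f990225_9.2, Cfsg.Agent.LsF.f990225_10.2, Cfsg.Agent.LsF.dDforall_eq])); decide +kernel))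
  exact fun ty a b c a' b' c' h1 h2 => h ty a b h1 a' b' h2 c c'

theorem sq_S : ∀ ty p, t0 p → yk (cmul ty p p) := by decide +kernel


theorem comm_F : ∀ ty p, (∀ c ∈ ([1, F4.w] : List F4), cmul ty p ⟨0, 0, c, 0⟩ = cmul ty ⟨0, 0, c, 0⟩ p) → ak p := by
  have h : ∀ ty (a b c : F4), cmul ty ⟨a, b, c, 0⟩ ⟨0, 0, 1, 0⟩ = cmul ty ⟨0, 0, 1, 0⟩ ⟨a, b, c, 0⟩ →
      cmul ty ⟨a, b, c, 0⟩ ⟨0, 0, F4.w, 0⟩ = cmul ty ⟨0, 0, F4.w, 0⟩ ⟨a, b, c, 0⟩ → a = b := by decide +kernel
  exact fun ty p g => h ty p.a p.b p.c ((h89d ty p ⟨0, 0, 1, 0⟩).1 (g _ List.mem_cons_self))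
    ((h89d ty p ⟨0, 0, F4.w, 0⟩).1 (g _ (List.mem_cons_of_mem _ List.mem_cons_self)))

theorem comm_F' : ∀ ty p c, ak p → cmul ty p ⟨0, 0, c, 0⟩ = cmul ty ⟨0, 0, c, 0⟩ p := by
  have h : ∀ ty (a c c' : F4), cmul ty ⟨a, a, c', 0⟩ ⟨0, 0, c, 0⟩ = cmul ty ⟨0, 0, c, 0⟩ ⟨a, a, c', 0⟩ := by decide +kernel
  rintro ty ⟨a, b, c', k⟩ c (rfl : a = b)
  exact (h89d ty ⟨a, a, c', k⟩ ⟨0, 0, c, 0⟩).2 (h ty a c c')

theorem inv_yk : ∀ ty p, yk p → (cmul ty p p = cone ↔ fk p) := by decide +kernel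

private noncomputable def _root_.Cfsg.Agent.KO1a14772.k34 : ((x0 : Prop) → ((x1 : Prop) → ((@Decidable @x0) → ((@Decidable @x1) → @Decidable (@Or @x0 @x1))))) := @(fun (x0 : Prop) (x1 : Prop) (x2 : @Decidable @x0) (x3 : @Decidable @x1) => @Decidable.rec.{1} @x0 @(fun (x4 : @Decidable @x0) => @Decidable (@Or @x0 @x1)) @(fun (x4 : @Not @x0) => @Decidable.rec.{1} @x1 @(fun (x5 : @Decidable @x1) => @Decidable (@Or @x0 @x1)) @(fun (x5 : @Not @x1) => @Decidable.isFalse (@Or @x0 @x1) (@instDecidableOr._proof_1 @x0 @x1 @x4 @x5)) @(fun (x5 : x1) => @Decidable.isTrue (@Or @x0 @x1) (@Or.inr @x0 @x1 @x5)) @x3) @(fun (x4 : x0) => @Decidable.isTrue (@Or @x0 @x1) (@Or.inl @x0 @x1 @x4)) @x2)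
private theorem _root_.Cfsg.Agent.KO1a14772.e34 : @instDecidableOr = @_root_.Cfsg.Agent.KO1a14772.k34 := by delta _root_.Cfsg.Agent.KO1a14772.k34; rfl'

theorem pow_four : ∀ ty p, t0 p → cmul ty (cmul ty p p) (cmul ty p p) = cone ∨
    cmul ty (cmul ty p p) (cmul ty p p) = ⟨0, 0, 0, 2⟩ := by (first | (refine of_decide_eq_true ?_; rewrite [Cfsg.Agent.KO1a14772.e0, Cfsg.Agent.KO1a14772.e7, Cfsg.Agent.KO1a14772.e8, Cfsg.Agent.KO1a14772.e30, Cfsg.Agent.KO1a14772.e34]; decide +kernel) | decide +kernel)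

private noncomputable def _root_.Cfsg.Agent.KO1a14772.k20l (n : Nat) (P : ∀ k, k < n → Prop) (H : ∀ k h, Decidable (P k h)) (m : Nat) : m ≤ n → Bool := @Nat.rec (fun m => m ≤ n → Bool) (fun _ => true) (fun k ih h => @Decidable.rec (P k h) (fun _ => Bool) (fun _ => false) (fun _ => ih (Nat.le_of_succ_le h)) (H k h)) m
private theorem _root_.Cfsg.Agent.KO1a14772.k20ls (n : Nat) (P : ∀ k, k < n → Prop) (H : ∀ k h, Decidable (P k h)) (m : Nat) : ∀ h : m ≤ n, _root_.Cfsg.Agent.KO1a14772.k20l n P H m h = true ↔ ∀ k (g : k < m), P k (Nat.lt_of_lt_of_le g h) := by induction m with | zero => exact fun _ => ⟨fun _ _ g => absurd g (Nat.not_lt_zero _), fun _ => rfl⟩ | succ m ih => intro h; show @Decidable.rec (P m h) (fun _ => Bool) (fun _ => false) (fun _ => _root_.Cfsg.Agent.KO1a14772.k20l n P H m (Nat.le_of_succ_le h)) (H m h) = true ↔ _; cases H m h with | isFalse q => exact ⟨fun g => absurd g Bool.false_ne_true, fun g => absurd (g m (Nat.lt_succ_self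 m)) q⟩ | isTrue q => exact ⟨fun g k hk => (Nat.lt_succ_iff_lt_or_eq.1 hk).elim ((ih _).1 g k) fun e => by subst e; exact q, fun g => (ih _).2 fun k hk => g k (Nat.lt_succ_of_lt hk)⟩
private noncomputable def _root_.Cfsg.Agent.KO1a14772.k20 (n : Nat) (P : ∀ k, k < n → Prop) (H : ∀ k h, Decidable (P k h)) : Decidable (∀ k h, P k h) := @Bool.rec (fun b => _root_.Cfsg.Agent.KO1a14772.k20l n P H n (Nat.le_refl n) = b → Decidable (∀ k h, P k h)) (fun g => isFalse fun q => Bool.false_ne_true (g.symm.trans ((_root_.Cfsg.Agent.KO1a14772.k20ls n P H n _).2 fun k h => q k h))) (fun g => isTrue fun k h => (_root_.Cfsg.Agent.KO1a14772.k20ls n P H n _).1 g k h) (_root_.Cfsg.Agent.KO1a14772.k20l n P H n (Nat.le_refl n)) rfl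
private theorem _root_.Cfsg.Agent.KO1a14772.e20 : @Nat.decidableBallLT = @_root_.Cfsg.Agent.KO1a14772.k20 := funext fun _ => funext fun _ => funext fun _ => Subsingleton.elim _ _
private noncomputable def _root_.Cfsg.Agent.KO1a14772.k21 : ((x0 : @Nat) → ((x1 : ((@Fin @x0) → Prop)) → ((@DecidablePred.{1} (@Fin @x0) @x1) → @Decidable ((x3 : @Fin @x0) → @x1 @x3)))) := @(fun (x0 : @Nat) (x1 : ((@Fin @x0) → Prop)) (x2 : @DecidablePred.{1} (@Fin @x0) @x1) => @Decidable.rec.{1} ((x3 : @Nat) → ((x4 : @LT.lt.{0} @Nat @instLTNat @x3 @x0) → @x1 (@Fin.mk @x0 @x3 @x4))) @(fun (x3 : @Decidable ((x3 : @Nat) → ((x4 : @LT.lt.{0} @Nat @instLTNat @x3 @x0) → @x1 (@Fin.mk @x0 @x3 @x4)))) => @Decidable ((x4 : @Fin @x0) → @x1 @x4)) @(fun (x3 : @Not ((x3 : @Nat) → ((x4 : @LT.lt.{0} @Nat @instLTNat @x3 @x0) → @x1 (@Fin.mk @x0 @x3 @x4)))) => @Decidable.isFalse ((x4 : @Fin @x0) → @x1 @x4) (@decidable_of_decidable_of_iff._proof_1 ((x4 : @Nat) → ((x5 : @LT.lt.{0}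 @Nat @instLTNat @x4 @x0) → @x1 (@Fin.mk @x0 @x4 @x5))) ((x4 : @Fin @x0) → @x1 @x4) (@Nat.decidableForallFin._proof_1 @x0 @x1) @x3)) @(fun (x3 : ((x3 : @Nat) → ((x4 : @LT.lt.{0} @Nat @instLTNat @x3 @x0) → @x1 (@Fin.mk @x0 @x3 @x4)))) => @Decidable.isTrue ((x4 : @Fin @x0) → @x1 @x4) (@Iff.mp ((x4 : @Nat) → ((x5 : @LT.lt.{0} @Nat @instLTNat @x4 @x0) → @x1 (@Fin.mk @x0 @x4 @x5))) ((x4 : @Fin @x0) → @x1 @x4) (@Nat.decidableForallFin._proof_1 @x0 @x1) @x3)) (@Cfsg.Agent.KO1a14772.k20 @x0 @(fun (x3 : @Nat) (x4 : @LT.lt.{0} @Nat @instLTNat @x3 @x0) => @x1 (@Fin.mk @x0 @x3 @x4)) @(fun (x3 : @Nat) (x4 : @LT.lt.{0} @Nat @instLTNat @x3 @x0) => @x2 (@Fin.mk @x0 @x3 @x4))))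
private theorem _root_.Cfsg.Agent.KO1a14772.e21 : @Nat.decidableForallFin = @_root_.Cfsg.Agent.KO1a14772.k21 := by delta _root_.Cfsg.Agent.KO1a14772.k21; rewrite [← Cfsg.Agent.KO1a14772.e20]; rfl'

theorem z_comm : ∀ ty c k a b c' k', trF (a + b) = false → trF c = false →
    cmul ty ⟨0, 0, c, k⟩ ⟨a, b, c', k'⟩ = cmul ty ⟨a, b, c', k'⟩ ⟨0, 0, c, k⟩ := by
  have h : ∀ ty (c : F4), trF c = false → ∀ a b : F4, trF (a + b) = false → ∀ c' : F4,
      cmul ty ⟨0, 0, c, 0⟩ ⟨a, b, c', 0⟩ = cmul ty ⟨a, b, c', 0⟩ ⟨0, 0, c, 0⟩ := by decide +kernel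
  exact fun ty c k a b c' k' h1 h2 => (h89d ty ⟨0, 0, c, k⟩ ⟨a, b, c', k'⟩).2 (h ty c h2 a b h1 c')


theorem k2_code : ∀ ty p, t0 p → (∀ q ∈ T0, cc ty p q = cone ∨ cc ty p q = ct) →
    (p.a = 0 ∧ p.b = 0 ∧ (p.c = 0 ∨ p.c = 1)) ∨ (ty = true ∧ p.a = 1 ∧ p.b = 1) := by
  have h : ∀ ty (a b : F4), trF (a + b) = false → ∀ c : F4,
      (T0.all fun q => decide (cc ty ⟨a, b, c, 0⟩ (nk q) = cone ∨ cc ty ⟨a, b, c, 0⟩ (nk q) = ct)) = true →
      (a = 0 ∧ b = 0 ∧ (c = 0 ∨ c = 1)) ∨ (ty = true ∧ a = 1 ∧ b = 1) := by decide +kernel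
  exact fun ty p h0 g => h ty p.a p.b h0 p.c (List.all_eq_true.2 fun q hq =>
    decide_eq_true ((g q hq).imp (cc_nk ty p q).symm.trans (cc_nk ty p q).symm.trans))


/-- the check of (5.4) -/
theorem k54_code : ∀ ty p, t0 p → (∀ q ∈ T0, cc ty p q = cone ∨ cc ty p q = ct) →
    (cmul ty p p).k = 0 ∨ (cmul ty p p).k = 2 := by
  have h1 : ∀ ty (c : F4) (k : Fin 4), (cmul ty ⟨0, 0, c, k⟩ ⟨0, 0, c, k⟩).k = 0 ∨ (cmul ty ⟨0, 0, c, k⟩ ⟨0, 0, c, k⟩).k = 2 := by
    decide +kernel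
  have h2 : ∀ (c : F4) (k : Fin 4), (cmul true ⟨1, 1, c, k⟩ ⟨1, 1, c, k⟩).k = 0 ∨ (cmul true ⟨1, 1, c, k⟩ ⟨1, 1, c, k⟩).k = 2 := by
    decide +kernel
  rintro ty ⟨a, b, c, k⟩ h0 g
  rcases k2_code ty _ h0 g with ⟨rfl : a = 0, rfl : b = 0, -⟩ | ⟨rfl, rfl : a = 1, rfl : b = 1⟩
  · exact h1 ty c k
  · exact h2 c k

/-! ### Subgroups given by codes -/

variable {L : Type*} [Group L] (A : StdL34.Cov L)

/-- the subgroup of the codes with a property -/
def sub (Q : Code → Prop) (h1 : Q cone) (hm : ∀ p q, Q p → Q q → Q (cmul A.ty p q))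
    (hi : ∀ p, Q p → Q (cinv A.ty p)) : Subgroup L where
  carrier := {l | ∃ p, Q p ∧ l = A.el p}
  one_mem' := ⟨cone, h1, A.el_one.symm⟩
  mul_mem' := by
    rintro _ _ ⟨p, hp, rfl⟩ ⟨q, hq, rfl⟩
    exact ⟨_, hm p q hp hq, A.el_mul p q⟩
  inv_mem' := by
    rintro _ ⟨p, hp, rfl⟩
    exact ⟨_, hi p hp, A.el_inv p⟩

theorem el_mem_sub {Q : Code → Prop} {h1 hm hi} {p : Code} : A.el p ∈ sub A Q h1 hm hi ↔ Q p := by
  constructor
  · rintro ⟨q, hq, h⟩
    rwa [A.inj h]
  · exact fun h => ⟨p, h, rfl⟩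

/-- `Code` as a product -/
def codeProd : Code ≃ F4 × F4 × F4 × Fin 4 where
  toFun p := (p.a, p.b, p.c, p.k)
  invFun t := ⟨t.1, t.2.1, t.2.2.1, t.2.2.2⟩
  left_inv _ := rfl
  right_inv _ := rfl

instance : Fintype Code := Fintype.ofEquiv _ codeProd.symm

theorem card_sub {Q : Code → Prop} [DecidablePred Q] {h1 hm hi} :
    Nat.card (sub A Q h1 hm hi) = ((Finset.univ : Finset Code).filter Q).card := by
  rw [← Fintype.card_subtype, ← Nat.card_eq_fintype_card]
  symm
  apply Nat.card_congr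
  refine Equiv.ofBijective (fun p : {p // Q p} => ⟨A.el p, ⟨p, p.2, rfl⟩⟩) ⟨?_, ?_⟩
  · intro p q h
    exact Subtype.ext (A.inj (congrArg Subtype.val h))
  · rintro ⟨_, p, hp, rfl⟩
    exact ⟨⟨p, hp⟩, rfl⟩

/-- `t = x₀₂(1)` -/
def t : L := A.x 0 2 1

theorem t_eq : t A = A.el ct := (A.el_x02 1).symm

/-- `S = C_L(t)` -/
def S : Subgroup L := sub A t0 (by decide) (t0_mul A.ty) (t0_inv A.ty)

/-- `Φ(S) = ⟨s⟩ Y` -/
def YS : Subgroup L := sub A yk (by decide) (yk_mul A.ty) (yk_inv A.ty)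

theorem fk_mul : ∀ ty c k c' k', fk ⟨0, 0, c, k⟩ → fk ⟨0, 0, c', k'⟩ →
    fk (cmul ty ⟨0, 0, c, k⟩ ⟨0, 0, c', k'⟩) := by decide +kernel

theorem fk_inv : ∀ ty c k, fk ⟨0, 0, c, k⟩ → fk (cinv ty ⟨0, 0, c, k⟩) := by decide +kernel

theorem dk_mul : ∀ ty c k c' k', dk ⟨0, 0, c, k⟩ → dk ⟨0, 0, c', k'⟩ →
    dk (cmul ty ⟨0, 0, c, k⟩ ⟨0, 0, c', k'⟩) := by decide +kernel

theorem dk_inv : ∀ ty c k, dk ⟨0, 0, c, k⟩ → dk (cinv ty ⟨0, 0, c, k⟩) := by decide +kernel

/-- `F = ⟨s²⟩ Y` -/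
def F : Subgroup L := sub A fk (by decide)
  (by
    rintro ⟨a, b, c, k⟩ ⟨a', b', c', k'⟩ hp hq
    obtain ⟨rfl, rfl, -⟩ := id hp
    obtain ⟨rfl, rfl, -⟩ := id hq
    exact fk_mul _ _ _ _ _ hp hq)
  (by
    rintro ⟨a, b, c, k⟩ hp
    obtain ⟨rfl, rfl, -⟩ := id hp
    exact fk_inv _ _ _ hp)

/-- `S'` -/
def D : Subgroup L := sub A dk (by decide)
  (by
    rintro ⟨a, b, c, k⟩ ⟨a', b', c', k'⟩ hp hq
    obtain ⟨rfl, rfl, -⟩ := id hp
    obtain ⟨rfl, rfl, -⟩ := id hq
    exact dk_mul _ _ _ _ _ hp hq)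
  (by
    rintro ⟨a, b, c, k⟩ hp
    obtain ⟨rfl, rfl, -⟩ := id hp
    exact dk_inv _ _ _ hp)

/-- `C_S(F) = {a = b}` -/
def AF : Subgroup L := sub A ak (by decide) (ak_mul A.ty) (ak_inv A.ty)

theorem S_le_T : S A ≤ A.T := by
  rintro _ ⟨p, -, rfl⟩
  exact A.el_mem p

theorem el_mem_S {p : Code} : A.el p ∈ S A ↔ t0 p := el_mem_sub A

theorem mem_S {l : L} : l ∈ S A ↔ l * t A = t A * l := by
  constructor
  · rintro ⟨p, hp, rfl⟩
    rw [t_eq, A.el_mul, A.el_mul, (comm_t A.ty p).2 hp]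
  · intro h
    obtain ⟨p, rfl⟩ := A.cent l h
    change A.el p * t A = t A * A.el p at h
    show A.el p ∈ S A
    rw [t_eq, A.el_mul, A.el_mul] at h
    exact (el_mem_S A).2 ((comm_t A.ty p).1 (A.inj h))

theorem card_S : Nat.card (S A) = 128 := by
  rw [S, card_sub]; decide +kernel

theorem card_F : Nat.card (F A) = 8 := by
  rw [F, card_sub]; decide +kernel

theorem t_mem_S : t A ∈ S A := (mem_S A).2 rfl

theorem t_sq : t A * t A = 1 := A.x_sq 0 2 (by decide) 1

omit [Group L] in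
/-- at most two elements -/
theorem ncard_pair (x y : L) : Set.ncard ({x, y} : Set L) ≤ 2 := by
  have := Set.ncard_insert_le x ({y} : Set L)
  rw [Set.ncard_singleton] at this
  exact this

/-- `Z(S) = ⟨t⟩ × ⟨s⟩` -/
theorem center_S {l : L} (hl : l ∈ S A) (h : ∀ y ∈ S A, l * y = y * l) : ∃ k, l = A.sp k ∨ l = t A * A.sp k := by
  obtain ⟨p, hp, rfl⟩ := hl
  have h1 : ∀ q ∈ T0, cmul A.ty p q = cmul A.ty q p := by
    intro q hq
    have := h (A.el q) ((el_mem_S A).2 (T0_t0 q hq))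
    rw [A.el_mul, A.el_mul] at this
    exact A.inj this
  obtain ⟨ha, hb, hc⟩ := comm_S A.ty p h1
  obtain ⟨a, b, c, k⟩ := p
  simp only at ha hb hc
  subst ha hb
  refine ⟨k, ?_⟩
  rcases hc with rfl | rfl
  · left; exact A.el_sp k
  · right
    rw [t_eq, ← A.el_sp, A.el_mul]
    congr 1
    clear * -
    generalize A.ty = ty
    revert ty k; decide +kernel

/-- the centre of the Sylow 2-subgroup -/
theorem center_T {l : L} (hl : l ∈ A.T) (h : ∀ y ∈ A.T, l * y = y * l) : ∃ k, l = A.sp k := by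
  obtain ⟨p, rfl⟩ := hl
  have h1 : ∀ q ∈ (⟨0, F4.w, 0, 0⟩ :: T0 : List Code), cmul A.ty p q = cmul A.ty q p := by
    intro q hq
    have := h (A.el q) (A.el_mem q)
    rw [A.el_mul, A.el_mul] at this
    exact A.inj this
  obtain ⟨ha, hb, hc⟩ := comm_P A.ty p h1
  obtain ⟨a, b, c, k⟩ := p
  simp only at ha hb hc
  subst ha hb hc
  exact ⟨k, A.el_sp k⟩

theorem el_cc (p q : Code) : ⁅A.el p, A.el q⁆ = A.el (cc A.ty p q) := by
  rw [commutatorElement_def, A.el_inv, A.el_inv, mul_assoc (A.el p * A.el q), A.el_mul, A.el_mul, A.el_mul]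
  rfl

/-- commutators of `S` -/
theorem comm_mem_D {x y : L} (hx : x ∈ S A) (hy : y ∈ S A) : ⁅x, y⁆ ∈ D A := by
  obtain ⟨p, hp, rfl⟩ := hx
  obtain ⟨q, hq, rfl⟩ := hy
  rw [el_cc, cc_nk]
  exact (el_mem_sub A).2 (cc_S A.ty _ _ _ _ _ _ hp hq)

theorem D_le_YS : D A ≤ YS A := by
  rintro _ ⟨p, ⟨h1, h2, -⟩, rfl⟩
  exact ⟨p, ⟨h1, h2⟩, rfl⟩

theorem F_le_YS : F A ≤ YS A := by
  rintro _ ⟨p, ⟨h1, h2, -⟩, rfl⟩
  exact ⟨p, ⟨h1, h2⟩, rfl⟩

theorem YS_le_S : YS A ≤ S A := by
  rintro _ ⟨p, ⟨h1, h2⟩, rfl⟩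
  rw [el_mem_S]
  unfold t0
  rw [h1, h2]; rfl

/-- squares of elements of `S` -/
theorem sq_mem_YS {x : L} (hx : x ∈ S A) : x * x ∈ YS A := by
  obtain ⟨p, hp, rfl⟩ := hx
  rw [A.el_mul]
  exact (el_mem_sub A).2 (sq_S A.ty p hp)

/-- some codes -/
def QL : List Code := [⟨0, 0, 0, 0⟩, ⟨0, 0, 0, 1⟩, ⟨1, 1, 0, 0⟩, ⟨1, 1, 0, 1⟩, ⟨F4.w, F4.w, 0, 0⟩,
  ⟨F4.w, F4.w, 0, 1⟩, ⟨F4.v, F4.v, 0, 0⟩, ⟨F4.v, F4.v, 0, 1⟩, ⟨F4.w, F4.v, 0, 0⟩, ⟨F4.w, F4.v, 0, 1⟩]

attribute [local instance high] _root_.List.decidableBAll in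
theorem QL_t0 : ∀ q ∈ QL, t0 q := by decide +kernel

attribute [local instance high] _root_.List.decidableBEx in
theorem YS_gen : ∀ ty c k, ∃ q ∈ QL, ∃ r ∈ QL,
    (⟨0, 0, c, k⟩ : Code) = cmul ty (cmul ty q q) (cmul ty r r) := by decide +kernel

/-- every element of `YS` is a product of two squares of elements of `S` -/
theorem YS_sq {x : L} (hx : x ∈ YS A) : ∃ y ∈ S A, ∃ w ∈ S A, x = y * y * (w * w) := by
  obtain ⟨⟨a, b, c, k⟩, ⟨h1, h2⟩, rfl⟩ := hx
  simp only at h1 h2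
  subst h1 h2
  obtain ⟨q, hq, r, hr, h⟩ := YS_gen A.ty c k
  refine ⟨A.el q, (el_mem_S A).2 (QL_t0 q hq), A.el r, (el_mem_S A).2 (QL_t0 r hr), ?_⟩
  rw [A.el_mul, A.el_mul, A.el_mul, ← h]

theorem x02_mem_F (c : F4) : A.x 0 2 c ∈ F A := by
  rw [← A.el_x02]; exact (el_mem_sub A).2 (by revert c; decide)

/-- `C_S(F) = AF` (even `C_T(Y) = AF`) -/
theorem cent_F {x : L} : x ∈ AF A ↔ x ∈ A.T ∧ ∀ y ∈ F A, x * y = y * x := by
  constructor
  · rintro ⟨p, hp, rfl⟩
    refine ⟨A.el_mem p, ?_⟩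
    rintro _ ⟨⟨a, b, c, k⟩, ⟨h1, h2, -⟩, rfl⟩
    simp only at h1 h2
    subst h1 h2
    have e : A.el ⟨0, 0, c, k⟩ = A.el ⟨0, 0, c, 0⟩ * A.sp k := by
      rw [← A.el_sp, A.el_mul]
      congr 1
      clear * -
      generalize A.ty = ty
      revert ty c k; decide +kernel
    have e2 := comm_F' A.ty p c hp
    rw [e]
    calc A.el p * (A.el ⟨0, 0, c, 0⟩ * A.sp k) = (A.el p * A.el ⟨0, 0, c, 0⟩) * A.sp k := by group
      _ = (A.el ⟨0, 0, c, 0⟩ * A.el p) * A.sp k := by rw [A.el_mul, A.el_mul, e2]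
      _ = A.el ⟨0, 0, c, 0⟩ * (A.sp k * A.el p) := by rw [A.sp_cen]; group
      _ = _ := by group
  · rintro ⟨⟨p, rfl⟩, h⟩
    refine ⟨p, comm_F A.ty p ?_, rfl⟩
    intro c _
    have := h (A.el ⟨0, 0, c, 0⟩) (by rw [A.el_x02]; exact x02_mem_F A c)
    rw [A.el_mul, A.el_mul] at this
    exact A.inj this

/-- `[x₀₁(1), x₀₂(ω)] = z` -/
theorem fuse : A.x 0 1 1 * A.x 0 2 F4.w = A.x 0 2 F4.w * A.x 0 1 1 * A.z := by
  rw [A.z_eq, ← A.el_x01, ← A.el_x02, ← A.el_sp, A.el_mul, A.el_mul, A.el_mul]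
  congr 1
  generalize A.ty = ty
  revert ty; decide +kernel

/-! ### (k2) -/

/-- the elements of a normal subgroup `N` of `S` with `N ∩ Z(S) ≤ ⟨t⟩` -/
theorem normal_small {N : Subgroup L} (hN : N ≤ S A) (hn : ∀ n ∈ N, ∀ y ∈ S A, y * n * y⁻¹ ∈ N)
    (hz : ∀ n ∈ N, (∀ y ∈ S A, n * y = y * n) → n = 1 ∨ n = t A) {n : L} (h : n ∈ N) :
    n = 1 ∨ n = t A ∨ (A.ty = true ∧ n * n = t A ∧ ∃ c k, n = A.el ⟨1, 1, c, k⟩) := by
  -- elements of `N` over the centre
  have key : ∀ c k, A.el ⟨0, 0, c, k⟩ ∈ N → A.el ⟨0, 0, c, k⟩ = 1 ∨ A.el ⟨0, 0, c, k⟩ = t A := by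
    intro c k hck
    by_cases hc : trF c = false
    · apply hz _ hck
      rintro _ ⟨q, hq, rfl⟩
      rw [A.el_mul, A.el_mul]
      congr 1
      obtain ⟨a, b, c', k'⟩ := q
      exact z_comm _ _ _ _ _ _ _ hq hc
    · exfalso
      have hc' : trF c = true := by simpa using hc
      -- the commutator with `x₀₁(1)` is `z`
      have h1 := hn _ hck (A.el ⟨1, 0, 0, 0⟩) ((el_mem_S A).2 (by decide))
      have h2 := mul_mem h1 (inv_mem hck)
      have h3 : A.el ⟨1, 0, 0, 0⟩ * A.el ⟨0, 0, c, k⟩ * (A.el ⟨1, 0, 0, 0⟩)⁻¹ * (A.el ⟨0, 0, c, k⟩)⁻¹ = A.sp 2 := by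
        have := el_cc A ⟨1, 0, 0, 0⟩ ⟨0, 0, c, k⟩
        rw [commutatorElement_def] at this
        rw [this, ← A.el_sp]
        congr 1
        clear * - hc'
        generalize A.ty = ty
        revert ty c k; decide +kernel
      rw [h3] at h2
      have h4 := hz _ h2 (fun y _ => A.sp_cen 2 y)
      rw [← A.el_sp] at h4
      rcases h4 with h4 | h4
      · rw [← A.el_one] at h4
        exact absurd (A.inj h4) (by decide)
      · rw [t_eq] at h4
        exact absurd (A.inj h4) (by decide)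
  obtain ⟨p, hp, rfl⟩ := hN h
  -- commutators
  have hcm : ∀ q, t0 q → cc A.ty p q = cone ∨ cc A.ty p q = ct := by
    intro q hq
    have h1 := hn _ (inv_mem h) (A.el q) ((el_mem_S A).2 hq)
    have h2 := mul_mem h h1
    have h3 : A.el p * (A.el q * (A.el p)⁻¹ * (A.el q)⁻¹) = A.el (cc A.ty p q) := by
      rw [← el_cc, commutatorElement_def]; group
    rw [h3] at h2
    have h4 : dk (cc A.ty p q) := by
      rw [cc_nk]
      exact cc_S A.ty _ _ _ _ _ _ hp hq
    rcases hr : cc A.ty p q with ⟨a, b, c, k⟩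
    rw [hr] at h2 h4
    obtain ⟨ha, hb, -⟩ := h4
    simp only at ha hb
    subst ha hb
    rcases key c k h2 with h5 | h5
    · left; exact A.inj (h5.trans A.el_one.symm)
    · right; exact A.inj (h5.trans (t_eq A))
  rcases k2_code A.ty p hp (fun q hq => hcm q (T0_t0 q hq)) with ⟨ha, hb, -⟩ | ⟨hty, ha, hb⟩
  · obtain ⟨a, b, c, k⟩ := p
    simp only at ha hb
    subst ha hb
    rcases key c k h with h5 | h5
    · exact Or.inl h5
    · exact Or.inr (Or.inl h5)
  · right; right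
    refine ⟨hty, ?_, ?_⟩
    · have h1 := mul_mem h h
      rw [A.el_mul] at h1 ⊢
      have h2 : ∀ ty p, p.a = 1 → p.b = 1 → (cmul ty p p).a = 0 ∧ (cmul ty p p).b = 0 ∧ (cmul ty p p).c = 1 := by
        decide +kernel
      obtain ⟨e1, e2, e3⟩ := h2 A.ty p ha hb
      rcases hr : cmul A.ty p p with ⟨a, b, c, k⟩
      rw [hr] at e1 e2 e3 h1
      simp only at e1 e2 e3
      subst e1 e2 e3
      rcases key 1 k h1 with h5 | h5
      · exfalso
        rw [← A.el_one] at h5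
        have := A.inj h5
        rw [cone, Code.mk.injEq] at this
        exact absurd this.2.2.1 (by decide)
      · exact h5
    · obtain ⟨a, b, c, k⟩ := p
      simp only at ha hb
      subst ha hb
      exact ⟨c, k, rfl⟩

/-- (k2), type `4₂` : `|N| ≤ 2` -/
theorem normal_card_two (hty : A.ty = false) {N : Subgroup L} (hN : N ≤ S A)
    (hn : ∀ n ∈ N, ∀ y ∈ S A, y * n * y⁻¹ ∈ N)
    (hz : ∀ n ∈ N, (∀ y ∈ S A, n * y = y * n) → n = 1 ∨ n = t A) : Nat.card N ≤ 2 := by
  have h1 : (N : Set L) ⊆ ({1, t A} : Set L) := by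
    intro n h
    rcases normal_small A hN hn hz h with h1 | h1 | h1
    · exact Or.inl h1
    · exact Or.inr h1
    · rw [hty] at h1; exact absurd h1.1 (by decide)
  calc Nat.card N = Set.ncard (N : Set L) := Nat.card_coe_set_eq _
    _ ≤ Set.ncard ({1, t A} : Set L) := Set.ncard_le_ncard h1 (Set.toFinite _)
    _ ≤ 2 := ncard_pair _ _

/-- (k2) : `|N| ≤ 4` -/
theorem normal_card_four {N : Subgroup L} (hN : N ≤ S A)
    (hn : ∀ n ∈ N, ∀ y ∈ S A, y * n * y⁻¹ ∈ N)
    (hz : ∀ n ∈ N, (∀ y ∈ S A, n * y = y * n) → n = 1 ∨ n = t A) : Nat.card N ≤ 4 := by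
  by_cases hex : ∃ n ∈ N, n ≠ 1 ∧ n ≠ t A
  · obtain ⟨n, hnN, hn1, hnt⟩ := hex
    obtain ⟨-, hsq, c, k, hck⟩ := ((normal_small A hN hn hz hnN).resolve_left hn1).resolve_left hnt
    have h1 : (N : Set L) ⊆ ({1, t A, n, n * t A} : Set L) := by
      intro m hm
      rcases normal_small A hN hn hz hm with h1 | h1 | ⟨-, -, c', k', h1⟩
      · exact Or.inl h1
      · exact Or.inr (Or.inl h1)
      · -- `n⁻¹ m` is over the centre
        have h2 := mul_mem (inv_mem hnN) hm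
        have h3 : ∀ ty c k c' k', (cmul ty (cinv ty ⟨1, 1, c, k⟩) ⟨1, 1, c', k'⟩).a = 0 := by decide +kernel
        rcases normal_small A hN hn hz h2 with h4 | h4 | ⟨-, -, c'', k'', h4⟩
        · right; right; left
          exact (inv_mul_eq_one.1 h4).symm
        · right; right; right
          exact inv_mul_eq_iff_eq_mul.1 h4
        · exfalso
          rw [h1, hck, A.el_inv, A.el_mul] at h4
          have h5 := A.inj h4
          have h6 := h3 A.ty c k c' k'
          rw [h5] at h6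
          exact absurd (show (1 : F4) = 0 from h6) (by decide)
    calc Nat.card N = Set.ncard (N : Set L) := Nat.card_coe_set_eq _
      _ ≤ Set.ncard ({1, t A, n, n * t A} : Set L) := Set.ncard_le_ncard h1 (Set.toFinite _)
      _ ≤ 4 := by
        refine (Set.ncard_insert_le _ _).trans ?_
        refine (Nat.add_le_add_right (Set.ncard_insert_le _ _) 1).trans ?_
        have := ncard_pair n (n * t A)
        omega
  · push Not at hex
    have h1 : (N : Set L) ⊆ ({1, t A} : Set L) := by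
      intro n h
      by_cases h1 : n = 1
      · exact Or.inl h1
      · exact Or.inr (hex n h h1)
    calc Nat.card N = Set.ncard (N : Set L) := Nat.card_coe_set_eq _
      _ ≤ Set.ncard ({1, t A} : Set L) := Set.ncard_le_ncard h1 (Set.toFinite _)
      _ ≤ 2 := ncard_pair _ _
      _ ≤ 4 := by norm_num

/-- the check of (5.4): no `x ∈ S` with `[x, S] ≤ ⟨t⟩` and `x² ∈ s^{±1} ⟨t⟩` -/
theorem no_root {x : L} (hx : x ∈ S A) (h : ∀ y ∈ S A, ⁅x, y⁆ = 1 ∨ ⁅x, y⁆ = t A) :
    x * x ≠ A.s ∧ x * x ≠ A.s⁻¹ ∧ x * x ≠ A.s * t A ∧ x * x ≠ A.s⁻¹ * t A := by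
  obtain ⟨p, hp, rfl⟩ := hx
  have h1 : ∀ q ∈ T0, cc A.ty p q = cone ∨ cc A.ty p q = ct := by
    intro q hq
    have := h (A.el q) ((el_mem_S A).2 (T0_t0 q hq))
    rw [el_cc, t_eq, ← A.el_one] at this
    exact this.imp A.inj A.inj
  have h2 := k54_code A.ty p hp h1
  have e1 : A.s = A.el ⟨0, 0, 0, 1⟩ := by rw [A.el_sp, A.sp_one]
  have e2 : A.s⁻¹ = A.el ⟨0, 0, 0, 3⟩ := by
    rw [A.el_sp, ← A.sp_one, A.sp_neg]; rfl
  have key : ∀ q : Code, q.k = 1 ∨ q.k = 3 → A.el p * A.el p ≠ A.el q := by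
    intro q hq he
    rw [A.el_mul] at he
    rw [A.inj he] at h2
    rcases h2 with h3 | h3 <;> rcases hq with h4 | h4 <;> rw [h3] at h4 <;> exact absurd h4 (by decide)
  refine ⟨?_, ?_, ?_, ?_⟩
  · rw [e1]; exact key _ (by decide)
  · rw [e2]; exact key _ (by decide)
  · rw [e1, t_eq, A.el_mul ⟨0, 0, 0, 1⟩ ct]
    apply key
    generalize A.ty = ty
    revert ty; decide +kernel
  · rw [e2, t_eq, A.el_mul ⟨0, 0, 0, 3⟩ ct]
    apply key
    generalize A.ty = ty
    revert ty; decide +kernel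

end Cfsg.Agent.UGT.Cov.FourK
end

-- part: UGT/Cov/KFPure
section
/-!
# UGT N1 (I34): the fields of `I34.KF.Facts` concerning the Sylow 2-subgroup (helper281)

`A : StdL34.Cov L` with `center L = zpowers A.s`, `orderOf A.s = 4`.
-/

set_option autoImplicit false
set_option linter.constructorNameAsVariable false

namespace Cfsg.Agent.UGT.Cov.KFPure

open Cfsg.Agent.SporadicA.FieldFour Cfsg.Agent.StdL34 Subgroup
open Cfsg.Agent.UGT.Cov.FourK
open Cfsg.Agent.UGT.I34.KF (NInv Y mem_Y)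
open Cfsg.Agent.ONType.Psl (kap)
open scoped commutatorElement

/-! ### Transport of coordinates -/

/-- transport of coordinates along an isomorphism -/
def mapC {L M : Type*} [Group L] [Group M] (A : StdL34.Cov L) (e : L ≃* M) : StdL34.Cov M where
  s := e A.s
  x i j u := e (A.x i j u)
  h := e A.h
  ty := A.ty
  s_cen m := by
    have := congrArg e (A.s_cen (e.symm m))
    rwa [map_mul, map_mul, e.apply_symm_apply] at this
  s_pow := by rw [← map_pow, A.s_pow, map_one]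
  x_add i j h u v := by rw [← map_mul, A.x_add i j h]
  x_row i j k h1 h2 h3 u v := by
    rw [← map_mul, A.x_row i j k h1 h2 h3, map_mul, map_mul, map_pow]
  x_col i j k h1 h2 h3 u v := by
    rw [← map_mul, A.x_col i j k h1 h2 h3, map_mul, map_mul, map_pow]
  x_sum i j k h1 h2 h3 u v := by
    rw [← map_mul, A.x_sum i j k h1 h2 h3, map_mul, map_mul, map_mul, map_pow]
  x_wey i j k l h1 h2 u := by
    rw [← map_mul, ← map_mul, ← map_inv, ← map_mul, ← map_mul, A.x_wey i j k l h1 h2]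
  h_pow := by rw [← map_pow, A.h_pow, map_one]
  h_x i j h u := by rw [← map_inv, ← map_mul, ← map_mul, A.h_x i j h]
  h_eq i j h := by
    simp only [← map_mul]
    rw [A.h_eq i j h]
  el_inj := by
    intro p q h
    apply A.el_inj
    apply e.injective
    unfold elx at h ⊢
    simpa only [map_mul, map_pow] using h
  gen := by
    have h1 : {y | ∃ i j u, i ≠ j ∧ y = e (A.x i j u)} = e '' {y | ∃ i j u, i ≠ j ∧ y = A.x i j u} := by
      ext y
      constructor
      · rintro ⟨i, j, u, h, rfl⟩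
        exact ⟨_, ⟨i, j, u, h, rfl⟩, rfl⟩
      · rintro ⟨_, ⟨i, j, u, h, rfl⟩, rfl⟩
        exact ⟨i, j, u, h, rfl⟩
    rw [h1]
    have := (MonoidHom.map_closure e.toMonoidHom {y | ∃ i j u, i ≠ j ∧ y = A.x i j u})
    rw [A.gen] at this
    change _ = Subgroup.closure (e '' _) at this
    rw [← this, Subgroup.map_top_of_surjective _ e.surjective]
  odd_index := by
    obtain ⟨T, hT, hodd⟩ := A.odd_index
    refine ⟨T.map e.toMonoidHom, ?_, ?_⟩
    · intro l
      constructor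
      · rintro ⟨m, hm, rfl⟩
        obtain ⟨p, rfl⟩ := (hT m).1 hm
        refine ⟨p, ?_⟩
        show e (elx A.x A.s p) = _
        unfold elx
        simp only [map_mul, map_pow]
      · rintro ⟨p, rfl⟩
        refine ⟨elx A.x A.s p, (hT _).2 ⟨p, rfl⟩, ?_⟩
        show e (elx A.x A.s p) = _
        unfold elx
        simp only [map_mul, map_pow]
    · have := Subgroup.index_map_equiv T e
      change (T.map e.toMonoidHom).index = _ at this
      rwa [this]
  cent l hl := by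
    have h1 : e.symm l * A.x 0 2 1 = A.x 0 2 1 * e.symm l := by
      apply e.injective
      rw [map_mul, map_mul, e.apply_symm_apply, hl]
    obtain ⟨p, hp⟩ := A.cent _ h1
    refine ⟨p, ?_⟩
    rw [← e.apply_symm_apply l, hp]
    unfold elx
    simp only [map_mul, map_pow]
  r_ne n := by
    rw [← map_mul, ← map_pow]
    intro h
    exact A.r_ne n (e.injective (by rw [h, map_one]))
  outer α := by
    obtain ⟨l, τ, h⟩ := A.outer ((e.trans α).trans e.symm)
    refine ⟨e l, τ, fun i j hij u => ?_⟩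
    have h1 := congrArg e (h i j hij u)
    rw [map_mul, map_mul, map_inv] at h1
    have h2 : e (((e.trans α).trans e.symm) (A.x i j u)) = α (e (A.x i j u)) := by
      simp
    rw [h2] at h1
    rw [h1]
    unfold imgx
    split <;> rfl

variable {L : Type*} [Group L] (A : StdL34.Cov L)

/-! ### Conjugacy of the noncentral involutions -/

/-- inverse in `F4` -/
def fi (u : F4) : F4 := u * u

/-- conjugation of codes -/
def cj (ty : Bool) (q p : Code) : Code := cmul ty (cmul ty q p) (cinv ty q)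

/-- the codes of root elements times `1, z` -/
def RootCode (p : Code) : Prop :=
  (p.k = 0 ∨ p.k = 2) ∧ ((p.a ≠ 0 ∧ p.b = 0 ∧ p.c = 0) ∨ (p.a = 0 ∧ p.b ≠ 0 ∧ p.c = 0) ∨ (p.a = 0 ∧ p.b = 0 ∧ p.c ≠ 0))

instance (p : Code) : Decidable (RootCode p) := by unfold RootCode; infer_instance

/-- the conjugating code -/
def qc (p : Code) : Code := if p.a = 0 then ⟨fi p.b * p.c, 0, 0, 0⟩ else ⟨0, fi p.a * p.c, 0, 0⟩

private noncomputable def _root_.Cfsg.Agent.LsF.f990225_14 : {f // @Cfsg.Agent.UGT.Cov.KFPure.cj = f} := ⟨_, by first | (delta Cfsg.Agent.UGT.Cov.KFPure.cj; rewrite [Cfsg.Agent.LsF.f990225_7.2, Cfsg.Agent.LsF.f990225_8.2]; exact rfl) | exact rfl⟩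
private noncomputable def _root_.Cfsg.Agent.LsF.f990225_15 : {f // @Cfsg.Agent.UGT.Cov.KFPure.qc = f} := ⟨_, by first | (delta Cfsg.Agent.UGT.Cov.KFPure.qc; rewrite [Cfsg.Agent.LsF.f990225_2.2, Cfsg.Agent.LsF.ite_eq]; exact rfl) | exact rfl⟩
private noncomputable def _root_.Cfsg.Agent.LsF.f990225_16 : {f // @Cfsg.Agent.UGT.Cov.KFPure.instDecidableRootCode = f} := ⟨_, by first | (delta Cfsg.Agent.UGT.Cov.KFPure.instDecidableRootCode; rewrite [Cfsg.Agent.LsF.f990225_2.2, Cfsg.Agent.LsF.dAnd_eq, Cfsg.Agent.LsF.dOr_eq, Cfsg.Agent.LsF.dNot_eq, Cfsg.Agent.LsF.dFinEq_eq]; exact rfl) | exact rfl⟩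
theorem inv_root : ∀ ty p, cmul ty p p = cone → (p.a = 0 ∧ p.b = 0 ∧ p.c = 0) ∨ RootCode (cj ty (qc p) p) := by
  (refine of_decide_eq_true ?_; (try (rewrite [Cfsg.Agent.LsF.f990225_7.2, Cfsg.Agent.LsF.f990225_14.2, Cfsg.Agent.LsF.f990225_15.2, Cfsg.Agent.LsF.f990225_3.2, Cfsg.Agent.LsF.f990225_5.2, Cfsg.Agent.LsF.f990225_2.2, Cfsg.Agent.LsF.f990225_16.2, Cfsg.Agent.LsF.dAnd_eq, Cfsg.Agent.LsF.dOr_eq, Cfsg.Agent.LsF.decide_eq])); decide +kernel)

theorem el_cj (q p : Code) : A.el q * A.el p * (A.el q)⁻¹ = A.el (cj A.ty q p) := by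
  rw [A.el_inv, A.el_mul, A.el_mul]; rfl

/-- an involution has a conjugate in `T` -/
theorem conj_mem_T {s : L} (hs : s * s = 1) : ∃ g, g⁻¹ * s * g ∈ A.T := by
  have h2 : IsPGroup 2 (zpowers s) := by
    intro x
    refine ⟨1, ?_⟩
    obtain ⟨x, hx⟩ := x
    obtain ⟨k, rfl⟩ := mem_zpowers_iff.1 hx
    apply Subtype.ext
    show (s ^ k) ^ 2 ^ 1 = 1
    rw [pow_one, ← zpow_natCast, ← zpow_mul, mul_comm, zpow_mul, zpow_natCast, pow_two, hs, one_zpow]
  have h3 : ¬ 2 ∣ Nat.card (L ⧸ A.T) := A.T_index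
  have : Finite (L ⧸ A.T) := by
    apply Nat.finite_of_card_ne_zero
    intro h0
    rw [h0] at h3
    exact h3 (dvd_zero _)
  obtain ⟨x, hx⟩ := h2.nonempty_fixed_point_of_prime_not_dvd_card (L ⧸ A.T) h3
  induction x using QuotientGroup.induction_on with
  | H g =>
    refine ⟨g, ?_⟩
    have h4 := hx ⟨s, mem_zpowers s⟩
    change ((s * g : L) : L ⧸ A.T) = (g : L ⧸ A.T) at h4
    have h5 := (QuotientGroup.eq.1 h4.symm)
    rwa [← mul_assoc] at h5

/-- conjugacy -/
abbrev Cj (x y : L) : Prop := ∃ g : L, g * x * g⁻¹ = y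

omit A in
theorem Cj.trans' {x y w : L} (h1 : Cj x y) (h2 : Cj y w) : Cj x w := by
  obtain ⟨g, rfl⟩ := h1
  obtain ⟨h, rfl⟩ := h2
  exact ⟨h * g, by group⟩

omit A in
theorem Cj.symm' {x y : L} (h1 : Cj x y) : Cj y x := by
  obtain ⟨g, rfl⟩ := h1
  exact ⟨g⁻¹, by group⟩

theorem Cj.sp {x y : L} (h : Cj x y) (k : Fin 4) : Cj (x * A.sp k) (y * A.sp k) := by
  obtain ⟨g, rfl⟩ := h
  refine ⟨g, ?_⟩
  calc g * (x * A.sp k) * g⁻¹ = g * x * (A.sp k * g⁻¹) := by group
    _ = _ := by rw [A.sp_cen]; group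

/-- root elements of the six root subgroups -/
theorem root_wey (i j : Fin 3) (h : i ≠ j) (u : F4) : Cj (A.x i j u) (A.x 0 2 u) := by
  have key : ∀ i j k l : Fin 3, i ≠ j → k ≠ l → ∀ u,
      Cj (A.x k l u) (A.x (Equiv.swap i j k) (Equiv.swap i j l) u) := by
    intro i j k l h1 h2 u
    exact ⟨(A.x i j 1 * A.x j i 1 * A.x i j 1)⁻¹, by rw [inv_inv]; exact A.x_wey i j k l h1 h2 u⟩
  have h02 : Cj (A.x 0 2 u) (A.x 0 2 u) := ⟨1, by group⟩
  have e20 : Cj (A.x 2 0 u) (A.x 0 2 u) := by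
    have := key 0 2 2 0 (by decide) (by decide) u
    simpa using this
  have e01 : Cj (A.x 0 1 u) (A.x 0 2 u) := by
    have := key 1 2 0 1 (by decide) (by decide) u
    rwa [show Equiv.swap (1 : Fin 3) 2 0 = 0 by decide, show Equiv.swap (1 : Fin 3) 2 1 = 2 by decide] at this
  have e12 : Cj (A.x 1 2 u) (A.x 0 2 u) := by
    have := key 0 1 1 2 (by decide) (by decide) u
    rwa [show Equiv.swap (0 : Fin 3) 1 1 = 0 by decide, show Equiv.swap (0 : Fin 3) 1 2 = 2 by decide] at this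
  have e21 : Cj (A.x 2 1 u) (A.x 0 2 u) := by
    have := key 0 1 2 1 (by decide) (by decide) u
    rw [show Equiv.swap (0 : Fin 3) 1 1 = 0 by decide, show Equiv.swap (0 : Fin 3) 1 2 = 2 by decide] at this
    exact this.trans' e20
  have e10 : Cj (A.x 1 0 u) (A.x 0 2 u) := by
    have := key 0 1 1 0 (by decide) (by decide) u
    rw [show Equiv.swap (0 : Fin 3) 1 1 = 0 by decide, show Equiv.swap (0 : Fin 3) 1 0 = 1 by decide] at this
    exact this.trans' e01
  revert h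
  fin_cases i <;> fin_cases j <;> intro h
  · exact absurd rfl h
  · exact e01
  · exact h02
  · exact e10
  · exact absurd rfl h
  · exact e12
  · exact e20
  · exact e21
  · exact absurd rfl h

/-- `x₀₂(u)` is conjugate to `x₀₂(1)` -/
theorem x02_one (u : F4) (h : u ≠ 0) : Cj (A.x 0 2 u) (t A) := by
  have h1 : ∀ u, Cj (A.x 0 2 u) (A.x 0 2 (kap 0 2 * u)) := by
    intro u
    exact ⟨A.h⁻¹, by rw [inv_inv]; exact A.h_x 0 2 (by decide) u⟩
  have h2 := h1 u
  have h3 := h1 (kap 0 2 * u)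
  have : ∀ u : F4, u ≠ 0 → u = 1 ∨ kap 0 2 * u = 1 ∨ kap 0 2 * (kap 0 2 * u) = 1 := by decide
  rcases this u h with h4 | h4 | h4
  · rw [h4]; exact ⟨1, by rw [t]; group⟩
  · rw [h4] at h2; exact h2
  · rw [h4] at h3; exact h2.trans' h3

/-- `t z` is conjugate to `t` -/
theorem tz : Cj (t A * A.z) (t A) := by
  have h1 : Cj (A.x 0 2 F4.w * A.z) (A.x 0 2 F4.w) := by
    refine Cj.symm' ⟨A.x 0 1 1, ?_⟩
    rw [fuse A, A.z_eq]
    calc A.x 0 2 F4.w * A.x 0 1 1 * A.sp 2 * (A.x 0 1 1)⁻¹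
        = A.x 0 2 F4.w * (A.x 0 1 1 * A.sp 2) * (A.x 0 1 1)⁻¹ := by group
      _ = A.x 0 2 F4.w * (A.sp 2 * A.x 0 1 1) * (A.x 0 1 1)⁻¹ := by rw [← A.sp_cen]
      _ = _ := by group
  have h2 := x02_one A F4.w (by decide)
  have h3 : Cj (A.x 0 2 F4.w * A.z) (t A * A.z) := by
    have := Cj.sp A h2 2
    rwa [← A.z_eq] at this
  exact (h3.symm'.trans' h1).trans' h2

theorem cen_sp (hc : center L = zpowers A.s) {c : L} (h : c ∈ center L) : ∃ k, c = A.sp k := by
  rw [hc] at h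
  obtain ⟨n, rfl⟩ := mem_zpowers_iff.1 h
  have h4 : A.s ^ (4 : ℤ) = 1 := by
    have := A.s_pow
    exact_mod_cast this
  refine ⟨⟨(n % 4).toNat, by omega⟩, ?_⟩
  show A.s ^ n = A.s ^ ((n % 4).toNat)
  rw [← zpow_natCast, Int.toNat_of_nonneg (by omega)]
  conv_lhs => rw [← Int.emod_add_mul_ediv n 4]
  rw [zpow_add, zpow_mul, h4, one_zpow, mul_one]

theorem sp_mem (k : Fin 4) : A.sp k ∈ center L := by
  rw [mem_center_iff]
  exact fun g => (A.sp_cen k g).symm

/-- every noncentral involution is conjugate to `t` -/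
theorem conj_t {s : L} (hs : NInv s) : Cj s (t A) := by
  obtain ⟨h1, h2⟩ := hs
  obtain ⟨g, hg⟩ := conj_mem_T A h1
  obtain ⟨p, hp⟩ := (A.mem_T).1 hg
  have e1 : Cj s (A.el p) := ⟨g⁻¹, by rw [inv_inv]; exact hp.symm⟩
  have h3 : cmul A.ty p p = cone := by
    apply A.inj
    rw [← A.el_mul, hp, A.el_one]
    calc g⁻¹ * s * g * (g⁻¹ * s * g) = g⁻¹ * (s * s) * g := by group
      _ = 1 := by rw [h1]; group
  rcases inv_root A.ty p h3 with ⟨ha, hb, hcc⟩ | h4
  · exfalso
    obtain ⟨a, b, c, k⟩ := p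
    simp only at ha hb hcc
    subst ha hb hcc
    rw [A.el_sp] at hp
    apply h2
    have : s = A.sp k := by
      have : s = g * A.sp k * g⁻¹ := by rw [hp]; group
      rw [this, ← A.sp_cen]; group
    rw [this]
    exact sp_mem A k
  · have e2 : Cj (A.el p) (A.el (cj A.ty (qc p) p)) := ⟨_, el_cj A _ _⟩
    refine (e1.trans' e2).trans' ?_
    generalize cj A.ty (qc p) p = q at h4
    have e3 : ∃ u, u ≠ 0 ∧ Cj (A.el q) (A.x 0 2 u * A.sp q.k) := by
      obtain ⟨-, h4⟩ := h4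
      obtain ⟨a, b, c, k⟩ := q
      simp only at h4 ⊢
      rcases h4 with ⟨h5, rfl, rfl⟩ | ⟨rfl, h5, rfl⟩ | ⟨rfl, rfl, h5⟩
      · refine ⟨a, h5, ?_⟩
        have := Cj.sp A (root_wey A 0 1 (by decide) a) k
        rwa [A.el_eq, show A.x 1 2 0 = 1 from A.x_zero 1 2 (by decide),
          show A.x 0 2 0 = 1 from A.x_zero 0 2 (by decide), mul_one, mul_one]
      · refine ⟨b, h5, ?_⟩
        have := Cj.sp A (root_wey A 1 2 (by decide) b) k
        rwa [A.el_eq, show A.x 0 1 0 = 1 from A.x_zero 0 1 (by decide),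
          show A.x 0 2 0 = 1 from A.x_zero 0 2 (by decide), one_mul, mul_one]
      · refine ⟨c, h5, ?_⟩
        have := Cj.sp A (root_wey A 0 2 (by decide) c) k
        rwa [A.el_eq, show A.x 0 1 0 = 1 from A.x_zero 0 1 (by decide),
          show A.x 1 2 0 = 1 from A.x_zero 1 2 (by decide), one_mul, one_mul]
    obtain ⟨u, hu, e3⟩ := e3
    refine (e3.trans' (Cj.sp A (x02_one A u hu) q.k)).trans' ?_
    rcases h4.1 with hk | hk <;> rw [hk]
    · rw [A.sp_zero, mul_one]; exact ⟨1, by group⟩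
    · rw [← A.z_eq]; exact tz A

theorem t_NInv (hc : center L = zpowers A.s) : NInv (t A) := by
  refine ⟨t_sq A, fun h => ?_⟩
  obtain ⟨k, hk⟩ := cen_sp A hc h
  rw [t_eq, ← A.el_sp] at hk
  have h1 : (1 : F4) = 0 := congrArg Code.c (A.inj hk)
  exact absurd h1 (by decide)

/-- coordinates with a given noncentral involution -/
theorem exists_cov_t {s : L} (hs : NInv s) :
    ∃ B : StdL34.Cov L, B.s = A.s ∧ B.ty = A.ty ∧ t B = s := by
  obtain ⟨g, hg⟩ := (conj_t A hs).symm'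
  refine ⟨mapC A (MulAut.conj g), ?_, rfl, ?_⟩
  · show g * A.s * g⁻¹ = A.s
    rw [← A.s_cen]; group
  · exact hg

/-! ### The fields at `t = x₀₂(1)` -/

/-- code of an element of the centre -/
def zk (p : Code) : Prop := p.a = 0 ∧ p.b = 0 ∧ p.c = 0

instance (p : Code) : Decidable (zk p) := by unfold zk; infer_instance

theorem el_mem_cen (hc : center L = zpowers A.s) {p : Code} : A.el p ∈ center L ↔ zk p := by
  constructor
  · intro h
    obtain ⟨k, hk⟩ := cen_sp A hc h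
    rw [← A.el_sp] at hk
    have := A.inj hk
    rw [this]
    exact ⟨rfl, rfl, rfl⟩
  · obtain ⟨a, b, c, k⟩ := p
    rintro ⟨rfl, rfl, rfl⟩
    rw [A.el_sp]
    exact sp_mem A k

attribute [local instance high] _root_.List.decidableBAll in
theorem Y_code : ∀ ty p, t0 p → (∀ q ∈ T0, zk (cc ty p q)) → yk p := by
  have h : ∀ ty (a b : F4), trF (a + b) = false → ∀ c : F4, (∀ q ∈ T0, zk (cc ty ⟨a, b, c, 0⟩ (nk q))) → a = 0 ∧ b = 0 := by
    decide +kernel
  exact fun ty p h0 g => h ty p.a p.b h0 p.c fun q hq => (congrArg zk (cc_nk ty p q)).mp (g q hq)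

private noncomputable def _root_.Cfsg.Agent.KO1a14772.k54 : (by first | exact type_of% @Cfsg.Agent.UGT.Cov.KFPure.instDecidableZk | exact Unit : Sort _) := by first | (refine @Subtype.val _ (fun g => @Cfsg.Agent.UGT.Cov.KFPure.instDecidableZk = @g) (@Subtype.mk _ _ (@(fun (x0 : @Cfsg.Agent.StdL34.Code) => @Cfsg.Agent.KO1a14772.k33 (@Eq.{1} @Cfsg.Agent.SporadicA.FieldFour.F4 (@Cfsg.Agent.StdL34.Code.a @x0) (@OfNat.ofNat.{0} @Cfsg.Agent.SporadicA.FieldFour.F4 (nat_lit 0) (@Zero.toOfNat0.{0} @Cfsg.Agent.SporadicA.FieldFour.F4 @Cfsg.Agent.SporadicA.FieldFour.F4.instZero))) (@And (@Eq.{1} @Cfsg.Agent.SporadicA.FieldFour.F4 (@Cfsg.Agent.StdL34.Code.b @x0) (@OfNat.ofNat.{0} @Cfsg.Agent.SporadicA.FieldFour.F4 (nat_lit 0) (@Zero.toOfNat0.{0} @Cfsg.Agent.SporadicA.FieldFour.F4 @Cfsg.Agent.SporadicA.FieldFour.F4.instZero))) (@Eq.{1} @Cfsg.Agent.SporadicA.FieldFour.F4 (@Cfsg.Agent.StdL34.Code.c @x0) (@OfNat.ofNat.{0} @Cfsg.Agent.SporadicA.FieldFour.F4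 (nat_lit 0) (@Zero.toOfNat0.{0} @Cfsg.Agent.SporadicA.FieldFour.F4 @Cfsg.Agent.SporadicA.FieldFour.F4.instZero)))) (@Cfsg.Agent.SporadicA.FieldFour.F4.decEq (@Cfsg.Agent.StdL34.Code.a @x0) @Cfsg.Agent.SporadicA.FieldFour.F4.z) (@Cfsg.Agent.KO1a14772.k33 (@Eq.{1} @Cfsg.Agent.SporadicA.FieldFour.F4 (@Cfsg.Agent.StdL34.Code.b @x0) (@OfNat.ofNat.{0} @Cfsg.Agent.SporadicA.FieldFour.F4 (nat_lit 0) (@Zero.toOfNat0.{0} @Cfsg.Agent.SporadicA.FieldFour.F4 @Cfsg.Agent.SporadicA.FieldFour.F4.instZero))) (@Eq.{1} @Cfsg.Agent.SporadicA.FieldFour.F4 (@Cfsg.Agent.StdL34.Code.c @x0) (@OfNat.ofNat.{0} @Cfsg.Agent.SporadicA.FieldFour.F4 (nat_lit 0) (@Zero.toOfNat0.{0} @Cfsg.Agent.SporadicA.FieldFour.F4 @Cfsg.Agent.SporadicA.FieldFour.F4.instZero))) (@Cfsg.Agent.SporadicA.FieldFour.F4.decEq (@Cfsg.Agent.StdL34.Code.b @x0) @Cfsg.Agent.SporadicA.FieldFour.F4.z) (@Cfsg.Agent.SporadicA.FieldFour.F4.decEq (@Cfsg.Agent.StdL34.Code.c @x0) @Cfsg.Agent.SporadicA.FieldFour.F4.z))))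 ?_); rewrite [← Cfsg.Agent.KO1a14772.e33]; rfl') | exact @Cfsg.Agent.UGT.Cov.KFPure.instDecidableZk | exact ()
private theorem _root_.Cfsg.Agent.KO1a14772.e54 : (by first | exact @Cfsg.Agent.UGT.Cov.KFPure.instDecidableZk = @_root_.Cfsg.Agent.KO1a14772.k54 | exact True : Prop) := by first | (delta _root_.Cfsg.Agent.KO1a14772.k54; exact @Subtype.property _ (fun g => @Cfsg.Agent.UGT.Cov.KFPure.instDecidableZk = @g) _) | rfl | trivial

theorem Y_code' : ∀ ty c a b c', trF (a + b) = false → zk (cc ty ⟨0, 0, c, 0⟩ ⟨a, b, c', 0⟩) := by (first | (refine of_decide_eq_true ?_; rewrite [Cfsg.Agent.KO1a14772.e0, Cfsg.Agent.KO1a14772.e35, Cfsg.Agent.KO1a14772.e38, Cfsg.Agent.KO1a14772.e8, Cfsg.Agent.KO1a14772.e19.{0}, Cfsg.Agent.KO1a14772.e30, Cfsg.Agent.KO1a14772.e39, Cfsg.Agent.KO1a14772.e54]; decide +kernel) | decide +kernel)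

/-- `Y t = ⟨s⟩ Y` -/
theorem Y_eq (hc : center L = zpowers A.s) : Y (t A) = YS A := by
  ext y
  rw [mem_Y, ← mem_S]
  constructor
  · rintro ⟨hy, h⟩
    obtain ⟨p, hp, rfl⟩ := hy
    refine (el_mem_sub A).2 (Y_code A.ty p hp fun q hq => ?_)
    rw [← el_mem_cen A hc, ← el_cc]
    exact h _ ((mem_S A).1 ((el_mem_S A).2 (T0_t0 q hq)))
  · intro hy
    refine ⟨YS_le_S A hy, fun b hb => ?_⟩
    obtain ⟨⟨a, b', c, k⟩, ⟨h1, h2⟩, rfl⟩ := hy
    simp only at h1 h2
    subst h1 h2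
    obtain ⟨q, hq, rfl⟩ := (mem_S A).2 hb
    rw [el_cc, el_mem_cen A hc, cc_nk]
    exact Y_code' _ _ _ _ _ hq

theorem moved (hc : center L = zpowers A.s) :
    ∃ s w, s * t A = t A * s ∧ w ∈ Y (t A) ∧ w * w = 1 ∧ s * w ≠ w * s := by
  refine ⟨A.x 0 1 1, A.x 0 2 F4.w, ?_, ?_, A.x_sq 0 2 (by decide) _, ?_⟩
  · rw [← mem_S, ← A.el_x01, el_mem_S]; decide
  · rw [Y_eq A hc, ← A.el_x02]
    exact (el_mem_sub A).2 ⟨rfl, rfl⟩
  · rw [fuse A]
    intro h
    have h1 : A.z = 1 := by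
      have : A.x 0 2 F4.w * A.x 0 1 1 * A.z = A.x 0 2 F4.w * A.x 0 1 1 * 1 := by rw [h, mul_one]
      exact mul_left_cancel this
    rw [A.z_eq, ← A.el_sp, ← A.el_one] at h1
    exact absurd (A.inj h1) (by decide)

private theorem _root_.Cfsg.Agent.KO1a14772.e47.{ku} {M : Nat → Sort ku} (φ : ∀ n, M n) {z : M Nat.zero} {s : ∀ n, M n → M (Nat.succ n)} (h0 : φ Nat.zero = z) (hs : ∀ n, φ (Nat.succ n) = s n (φ n)) (n : Nat) : φ n = @Nat.rec M z s n := Nat.rec h0 (fun n ih => (hs n).trans (congrArg (s n) ih)) n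
private noncomputable def _root_.Cfsg.Agent.KO1a14772.k48 : ((x0 : (@Nat → Prop)) → ((@DecidablePred.{1} @Nat @x0) → @DecidablePred.{1} @Nat @(fun (x2 : @Nat) => @Exists.{1} @Nat @(fun (x3 : @Nat) => @And (@LT.lt.{0} @Nat @instLTNat @x3 @x2) (@x0 @x3))))) := @(fun (x0 : (@Nat → Prop)) (x1 : @DecidablePred.{1} @Nat @x0) (x2 : @Nat) => @Nat.rec.{1} @(fun (x3 : @Nat) => @Decidable (@Exists.{1} @Nat @(fun (x4 : @Nat) => @And (@LT.lt.{0} @Nat @instLTNat @x4 @x3) (@x0 @x4)))) (@Decidable.isFalse (@Exists.{1} @Nat @(fun (x3 : @Nat) => @And (@LT.lt.{0} @Nat @instLTNat @x3 (@OfNat.ofNat.{0} @Nat (nat_lit 0) (@instOfNatNat (nat_lit 0)))) (@x0 @x3))) (@Nat.decidableExistsLT._proof_5 @x0)) @(fun (x3 : @Nat) (x4 : @Decidable (@Exists.{1} @Nat @(fun (x4 : @Nat) => @And (@LT.lt.{0} @Nat @instLTNat @x4 @x3) (@x0 @x4)))) => @Decidable.rec.{1} (@Or (@Exists.{1} @Nat @(fun (x5 : @Nat) => @And (@LT.lt.{0} @Nat @instLTNat @x5 @x3) (@x0 @x5))) (@x0 @x3)) @(fun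 (x5 : @Decidable (@Or (@Exists.{1} @Nat @(fun (x5 : @Nat) => @And (@LT.lt.{0} @Nat @instLTNat @x5 @x3) (@x0 @x5))) (@x0 @x3))) => @Decidable (@Exists.{1} @Nat @(fun (x6 : @Nat) => @And (@LT.lt.{0} @Nat @instLTNat @x6 (@HAdd.hAdd.{0, 0, 0} @Nat @Nat @Nat (@instHAdd.{0} @Nat @instAddNat) @x3 (@OfNat.ofNat.{0} @Nat (nat_lit 1) (@instOfNatNat (nat_lit 1))))) (@x0 @x6)))) @(fun (x5 : @Not (@Or (@Exists.{1} @Nat @(fun (x5 : @Nat) => @And (@LT.lt.{0} @Nat @instLTNat @x5 @x3) (@x0 @x5))) (@x0 @x3))) => @Decidable.isFalse (@Exists.{1} @Nat @(fun (x6 : @Nat) => @And (@LT.lt.{0} @Nat @instLTNat @x6 (@HAdd.hAdd.{0, 0, 0} @Nat @Nat @Nat (@instHAdd.{0} @Nat @instAddNat) @x3 (@OfNat.ofNat.{0} @Nat (nat_lit 1) (@instOfNatNat (nat_lit 1))))) (@x0 @x6))) (@decidable_of_decidable_of_iff._proof_1 (@Or (@Exists.{1} @Nat @(fun (x6 : @Nat) => @And (@LT.lt.{0} @Nat @instLTNat @x6 @x3) (@x0 @x6))) (@x0 @x3)) (@Exists.{1} @Nat @(fun (x6 : @Nat) => @And (@LT.lt.{0}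 @Nat @instLTNat @x6 (@HAdd.hAdd.{0, 0, 0} @Nat @Nat @Nat (@instHAdd.{0} @Nat @instAddNat) @x3 (@OfNat.ofNat.{0} @Nat (nat_lit 1) (@instOfNatNat (nat_lit 1))))) (@x0 @x6))) (@Nat.decidableExistsLT._proof_10 @x0 @x3) @x5)) @(fun (x5 : @Or (@Exists.{1} @Nat @(fun (x5 : @Nat) => @And (@LT.lt.{0} @Nat @instLTNat @x5 @x3) (@x0 @x5))) (@x0 @x3)) => @Decidable.isTrue (@Exists.{1} @Nat @(fun (x6 : @Nat) => @And (@LT.lt.{0} @Nat @instLTNat @x6 (@HAdd.hAdd.{0, 0, 0} @Nat @Nat @Nat (@instHAdd.{0} @Nat @instAddNat) @x3 (@OfNat.ofNat.{0} @Nat (nat_lit 1) (@instOfNatNat (nat_lit 1))))) (@x0 @x6))) (@Iff.mp (@Or (@Exists.{1} @Nat @(fun (x6 : @Nat) => @And (@LT.lt.{0} @Nat @instLTNat @x6 @x3) (@x0 @x6))) (@x0 @x3)) (@Exists.{1} @Nat @(fun (x6 : @Nat) => @And (@LT.lt.{0} @Nat @instLTNat @x6 (@HAdd.hAdd.{0, 0, 0} @Nat @Nat @Nat (@instHAdd.{0} @Nat @instAddNat) @x3 (@OfNat.ofNat.{0} @Nat (nat_lit 1) (@instOfNatNat (nat_lit 1))))) (@x0 @x6))) (@Nat.decidableExistsLT._proof_10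 @x0 @x3) @x5)) (@Cfsg.Agent.KO1a14772.k34 (@Exists.{1} @Nat @(fun (x5 : @Nat) => @And (@LT.lt.{0} @Nat @instLTNat @x5 @x3) (@x0 @x5))) (@x0 @x3) @x4 (@x1 @x3))) @x2)
private theorem _root_.Cfsg.Agent.KO1a14772.e48 : @Nat.decidableExistsLT = @_root_.Cfsg.Agent.KO1a14772.k48 := by delta _root_.Cfsg.Agent.KO1a14772.k48; rewrite [← Cfsg.Agent.KO1a14772.e34]; funext a0 a1 a2; refine (_root_.Cfsg.Agent.KO1a14772.e47 (fun a2 => @Nat.decidableExistsLT a0 a1 a2) ?_ (fun c0 => ?_) a2 :) <;> (rfl')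
private noncomputable def _root_.Cfsg.Agent.KO1a14772.k49 : ((x0 : @Nat) → ((x1 : @Nat) → @Decidable (@LE.le.{0} @Nat @instLENat @x0 @x1))) := @(fun (x0 : @Nat) (x1 : @Nat) => @Decidable.rec.{1} (@Eq.{1} @Bool (@Nat.ble @x0 @x1) @Bool.true) @(fun (x2 : @Decidable (@Eq.{1} @Bool (@Nat.ble @x0 @x1) @Bool.true)) => @Decidable (@LE.le.{0} @Nat @instLENat @x0 @x1)) @(fun (x2 : @Not (@Eq.{1} @Bool (@Nat.ble @x0 @x1) @Bool.true)) => @Decidable.isFalse (@LE.le.{0} @Nat @instLENat @x0 @x1) (@Nat.not_le_of_not_ble_eq_true @x0 @x1 @x2)) @(fun (x2 : @Eq.{1} @Bool (@Nat.ble @x0 @x1) @Bool.true) => @Decidable.isTrue (@LE.le.{0} @Nat @instLENat @x0 @x1) (@Nat.le_of_ble_eq_true @x0 @x1 @x2)) (@Cfsg.Agent.KO1a14772.k27 (@Nat.ble @x0 @x1) @Bool.true))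
private theorem _root_.Cfsg.Agent.KO1a14772.e49 : @Nat.decLe = @_root_.Cfsg.Agent.KO1a14772.k49 := by delta _root_.Cfsg.Agent.KO1a14772.k49; rewrite [← Cfsg.Agent.KO1a14772.e27]; rfl'
private noncomputable def _root_.Cfsg.Agent.KO1a14772.k50 : ((x0 : @Nat) → ((x1 : ((@Fin @x0) → Prop)) → ((@DecidablePred.{1} (@Fin @x0) @x1) → @Decidable (@Exists.{1} (@Fin @x0) @(fun (x3 : @Fin @x0) => @x1 @x3))))) := @(fun (x0 : @Nat) (x1 : ((@Fin @x0) → Prop)) (x2 : @DecidablePred.{1} (@Fin @x0) @x1) => @Decidable.rec.{1} (@Exists.{1} @Nat @(fun (x3 : @Nat) => @And (@LT.lt.{0} @Nat @instLTNat @x3 @x0) ((x4 : @LT.lt.{0} @Nat @instLTNat @x3 @x0) → @x1 (@Fin.mk @x0 @x3 @x4)))) @(fun (x3 : @Decidable (@Exists.{1} @Nat @(fun (x3 : @Nat) => @And (@LT.lt.{0} @Nat @instLTNat @x3 @x0) ((x4 : @LT.lt.{0} @Nat @instLTNat @x3 @x0) → @x1 (@Fin.mk @x0 @x3 @x4))))) => @Decidable (@Exists.{1} (@Fin @x0) @(fun (x4 : @Fin @x0) => @x1 @x4))) @(fun (x3 : @Not (@Exists.{1}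 @Nat @(fun (x3 : @Nat) => @And (@LT.lt.{0} @Nat @instLTNat @x3 @x0) ((x4 : @LT.lt.{0} @Nat @instLTNat @x3 @x0) → @x1 (@Fin.mk @x0 @x3 @x4))))) => @Decidable.isFalse (@Exists.{1} (@Fin @x0) @(fun (x4 : @Fin @x0) => @x1 @x4)) (@decidable_of_decidable_of_iff._proof_1 (@Exists.{1} @Nat @(fun (x4 : @Nat) => @And (@LT.lt.{0} @Nat @instLTNat @x4 @x0) ((x5 : @LT.lt.{0} @Nat @instLTNat @x4 @x0) → @x1 (@Fin.mk @x0 @x4 @x5)))) (@Exists.{1} (@Fin @x0) @(fun (x4 : @Fin @x0) => @x1 @x4)) (@Nat.decidableExistsFin._proof_1 @x0 @x1) @x3)) @(fun (x3 : @Exists.{1} @Nat @(fun (x3 : @Nat) => @And (@LT.lt.{0} @Nat @instLTNat @x3 @x0) ((x4 : @LT.lt.{0} @Nat @instLTNat @x3 @x0) → @x1 (@Fin.mk @x0 @x3 @x4)))) => @Decidable.isTrue (@Exists.{1} (@Fin @x0) @(fun (x4 : @Fin @x0) => @x1 @x4)) (@Iff.mp (@Exists.{1} @Nat @(fun (x4 : @Nat) => @And (@LT.lt.{0} @Nat @instLTNat @x4 @x0) ((x5 : @LT.lt.{0} @Nat @instLTNat @x4 @x0) → @x1 (@Fin.mk @x0 @x4 @x5)))) (@Exists.{1}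 (@Fin @x0) @(fun (x4 : @Fin @x0) => @x1 @x4)) (@Nat.decidableExistsFin._proof_1 @x0 @x1) @x3)) (@Cfsg.Agent.KO1a14772.k48 @(fun (x3 : @Nat) => ((x4 : @LT.lt.{0} @Nat @instLTNat @x3 @x0) → @x1 (@Fin.mk @x0 @x3 @x4))) @(fun (x3 : @Nat) => @Decidable.rec.{1} (@LT.lt.{0} @Nat @instLTNat @x3 @x0) @(fun (x4 : @Decidable (@LT.lt.{0} @Nat @instLTNat @x3 @x0)) => @Decidable ((x5 : @LT.lt.{0} @Nat @instLTNat @x3 @x0) → @x1 (@Fin.mk @x0 @x3 @x5))) @(fun (x4 : @Not (@LT.lt.{0} @Nat @instLTNat @x3 @x0)) => @Decidable.isTrue ((x5 : @LT.lt.{0} @Nat @instLTNat @x3 @x0) → @x1 (@Fin.mk @x0 @x3 @x5)) (@forall_prop_decidable._proof_2 (@LT.lt.{0} @Nat @instLTNat @x3 @x0) @(fun (x5 : @LT.lt.{0} @Nat @instLTNat @x3 @x0) => @x1 (@Fin.mk @x0 @x3 @x5)) @x4)) @(fun (x4 : @LT.lt.{0} @Nat @instLTNat @x3 @x0) => @Decidable.rec.{1} (@x1 (@Fin.mk @x0 @x3 @x4)) @(fun (x5 : @Decidable (@x1 (@Fin.mk @x0 @x3 @x4))) => @Decidable ((x6 : @LT.lt.{0} @Nat @instLTNat @x3 @x0)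 → @x1 (@Fin.mk @x0 @x3 @x6))) @(fun (x5 : @Not (@x1 (@Fin.mk @x0 @x3 @x4))) => @Decidable.isFalse ((x6 : @LT.lt.{0} @Nat @instLTNat @x3 @x0) → @x1 (@Fin.mk @x0 @x3 @x6)) (@decidable_of_decidable_of_iff._proof_1 (@x1 (@Fin.mk @x0 @x3 @x4)) ((x6 : @LT.lt.{0} @Nat @instLTNat @x3 @x0) → @x1 (@Fin.mk @x0 @x3 @x6)) (@forall_prop_decidable._proof_1 (@LT.lt.{0} @Nat @instLTNat @x3 @x0) @(fun (x6 : @LT.lt.{0} @Nat @instLTNat @x3 @x0) => @x1 (@Fin.mk @x0 @x3 @x6)) @x4) @x5)) @(fun (x5 : @x1 (@Fin.mk @x0 @x3 @x4)) => @Decidable.isTrue ((x6 : @LT.lt.{0} @Nat @instLTNat @x3 @x0) → @x1 (@Fin.mk @x0 @x3 @x6)) (@Iff.mp (@x1 (@Fin.mk @x0 @x3 @x4)) ((x6 : @LT.lt.{0} @Nat @instLTNat @x3 @x0) → @x1 (@Fin.mk @x0 @x3 @x6)) (@forall_prop_decidable._proof_1 (@LT.lt.{0} @Nat @instLTNat @x3 @x0) @(fun (x6 : @LT.lt.{0} @Nat @instLTNat @x3 @x0) => @x1 (@Fin.mk @x0 @x3 @x6)) @x4) @x5)) (@x2 (@Fin.mk @x0 @x3 @x4))) (@Cfsg.Agent.KO1a14772.k49 (@Nat.succ @x3) @x0))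 @x0))
private theorem _root_.Cfsg.Agent.KO1a14772.e50 : @Nat.decidableExistsFin = @_root_.Cfsg.Agent.KO1a14772.k50 := by delta _root_.Cfsg.Agent.KO1a14772.k50; rewrite [← Cfsg.Agent.KO1a14772.e48, ← Cfsg.Agent.KO1a14772.e49]; rfl'
private noncomputable def _root_.Cfsg.Agent.KO1a14772.k56 : ((x0 : Prop) → ((@Decidable @x0) → @Decidable (@Not @x0))) := @(fun (x0 : Prop) (x1 : @Decidable @x0) => @Decidable.rec.{1} @x0 @(fun (x2 : @Decidable @x0) => @Decidable (@Not @x0)) @(fun (x2 : @Not @x0) => @Decidable.isTrue (@Not @x0) @x2) @(fun (x2 : x0) => @Decidable.isFalse (@Not @x0) (@absurd.{0} @x0 @False @x2)) @x1)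
private theorem _root_.Cfsg.Agent.KO1a14772.e56 : @instDecidableNot = @_root_.Cfsg.Agent.KO1a14772.k56 := by delta _root_.Cfsg.Agent.KO1a14772.k56; rfl'

theorem YC_code : ∀ ty c k c' k', c ≠ 0 → c ≠ 1 → ∃ l : Fin 4, (⟨0, 0, c', k'⟩ : Code) = ⟨0, 0, 0, l⟩ ∨
    (⟨0, 0, c', k'⟩ : Code) = cmul ty ct ⟨0, 0, 0, l⟩ ∨ (⟨0, 0, c', k'⟩ : Code) = cmul ty ⟨0, 0, c, k⟩ ⟨0, 0, 0, l⟩ ∨
    (⟨0, 0, c', k'⟩ : Code) = cmul ty (cmul ty ct ⟨0, 0, c, k⟩) ⟨0, 0, 0, l⟩ := by (first | (refine of_decide_eq_true ?_; rewrite [Cfsg.Agent.KO1a14772.e0, Cfsg.Agent.KO1a14772.e7, Cfsg.Agent.KO1a14772.e8, Cfsg.Agent.KO1a14772.e19.{0}, Cfsg.Agent.KO1a14772.e21, Cfsg.Agent.KO1a14772.e30, Cfsg.Agent.KO1a14772.e56, Cfsg.Agent.KO1a14772.e50, Cfsg.Agent.KO1a14772.e34]; decide +kernel) | decide +kernel)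

theorem ne_code : ∀ ty c k, c = 0 ∨ c = 1 → ∃ l : Fin 4, (⟨0, 0, c, k⟩ : Code) = ⟨0, 0, 0, l⟩ ∨
    (⟨0, 0, c, k⟩ : Code) = cmul ty ct ⟨0, 0, 0, l⟩ := by decide +kernel

/-- `w` not in `⟨t, s⟩` -/
theorem c_ne {c : F4} {k : Fin 4}
    (h : ∀ d ∈ center L, A.el ⟨0, 0, c, k⟩ ≠ d ∧ A.el ⟨0, 0, c, k⟩ ≠ t A * d) : c ≠ 0 ∧ c ≠ 1 := by
  by_contra h0
  have h1 : c = 0 ∨ c = 1 := by tauto
  obtain ⟨l, hl⟩ := ne_code A.ty c k h1
  have h2 := h (A.sp l) (sp_mem A l)
  rw [t_eq, ← A.el_sp, A.el_mul] at h2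
  rcases hl with hl | hl
  · exact h2.1 (by rw [hl])
  · exact h2.2 (by rw [hl])

theorem Y_cases (hc : center L = zpowers A.s) {w y : L} (hw : w ∈ Y (t A))
    (hne : ∀ c ∈ center L, w ≠ c ∧ w ≠ t A * c) (hy : y ∈ Y (t A)) :
    ∃ c ∈ center L, y = c ∨ y = t A * c ∨ y = w * c ∨ y = t A * w * c := by
  rw [Y_eq A hc] at hw hy
  obtain ⟨⟨a, b, c, k⟩, ⟨h1, h2⟩, rfl⟩ := hw
  obtain ⟨⟨a', b', c', k'⟩, ⟨h3, h4⟩, rfl⟩ := hy
  simp only at h1 h2 h3 h4
  subst h1 h2 h3 h4
  obtain ⟨h5, h6⟩ := c_ne A hne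
  obtain ⟨l, hl⟩ := YC_code A.ty c k c' k' h5 h6
  refine ⟨A.sp l, sp_mem A l, ?_⟩
  rw [t_eq, ← A.el_sp, A.el_mul, A.el_mul, A.el_mul, A.el_mul]
  rcases hl with hl | hl | hl | hl
  · left; rw [← hl]
  · right; left; rw [← hl]
  · right; right; left; rw [← hl]
  · right; right; right; rw [← hl]

theorem Y_sq (hc : center L = zpowers A.s) {y : L} (hy : y ∈ Y (t A)) :
    y ∈ closure {s : L | ∃ x, x * t A = t A * x ∧ s = x * x} := by
  rw [Y_eq A hc] at hy
  obtain ⟨a, ha, b, hb, rfl⟩ := YS_sq A hy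
  exact mul_mem (subset_closure ⟨a, (mem_S A).1 ha, rfl⟩) (subset_closure ⟨b, (mem_S A).1 hb, rfl⟩)

theorem comm_Y (hc : center L = zpowers A.s) {a b : L} (ha : a * t A = t A * a) (hb : b * t A = t A * b) :
    ⁅a, b⁆ ∈ Y (t A) := by
  rw [Y_eq A hc]
  exact D_le_YS A (comm_mem_D A ((mem_S A).2 ha) ((mem_S A).2 hb))

theorem sq_Y (hc : center L = zpowers A.s) {a : L} (ha : a * t A = t A * a) : a * a ∈ Y (t A) := by
  rw [Y_eq A hc]
  exact sq_mem_YS A ((mem_S A).2 ha)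

theorem norm (hc : center L = zpowers A.s) (N : Subgroup L) (htN : t A ∈ N) (hN : ∀ n ∈ N, n * t A = t A * n)
    (hn : ∀ n ∈ N, ∀ b, b * t A = t A * b → b * n * b⁻¹ ∈ N) (hz : ∀ n ∈ N, n ∈ center L → n = 1) :
    Nat.card N ≤ 4 ∧ (A.ty = false → Nat.card N ≤ 2) ∧ ∀ n ∈ N, n ∈ Y (t A) → n = 1 ∨ n = t A := by
  have h1 : N ≤ S A := fun n h => (mem_S A).2 (hN n h)
  have h2 : ∀ n ∈ N, ∀ y ∈ S A, y * n * y⁻¹ ∈ N := fun n h y hy => hn n h y ((mem_S A).1 hy)
  have h3 : ∀ n ∈ N, (∀ y ∈ S A, n * y = y * n) → n = 1 ∨ n = t A := by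
    intro n h hy
    obtain ⟨k, hk | hk⟩ := center_S A (h1 h) hy
    · left
      exact hz n h (by rw [hk]; exact sp_mem A k)
    · right
      have h4 : t A * n = A.sp k := by rw [hk, ← mul_assoc, t_sq, one_mul]
      have h5 := hz _ (mul_mem htN h) (by rw [h4]; exact sp_mem A k)
      calc n = t A * t A * n := by rw [t_sq, one_mul]
        _ = t A * (t A * n) := by rw [mul_assoc]
        _ = t A := by rw [h5, mul_one]
  refine ⟨normal_card_four A h1 h2 h3, fun h => normal_card_two A h h1 h2 h3, ?_⟩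
  intro n h hY
  rw [Y_eq A hc] at hY
  rcases normal_small A h1 h2 h3 h with h4 | h4 | ⟨-, -, c, k, h4⟩
  · exact Or.inl h4
  · exact Or.inr h4
  · exfalso
    rw [h4] at hY
    have h5 : yk ⟨1, 1, c, k⟩ := (el_mem_sub A).1 hY
    exact absurd (show (1 : F4) = 0 from h5.1) (by decide)

attribute [local instance high] _root_.List.decidableBAll in
theorem four_code : ∀ ty p, t0 p → zk (cmul ty p p) → (∀ q ∈ T0, zk (cc ty p q) ∨ zk (cmul ty ct (cc ty p q)) ∨
    zk (cmul ty (cinv ty p) (cc ty p q)) ∨ zk (cmul ty (cinv ty (cmul ty ct p)) (cc ty p q))) → yk p := by decide +kernel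

theorem four (hc : center L = zpowers A.s) {w : L} (hw : w * t A = t A * w) (hww : w * w ∈ center L)
    (h : ∀ b, b * t A = t A * b → ∃ c ∈ center L, ⁅w, b⁆ = c ∨ ⁅w, b⁆ = t A * c ∨ ⁅w, b⁆ = w * c ∨
      ⁅w, b⁆ = t A * w * c) : w ∈ Y (t A) := by
  obtain ⟨p, hp, rfl⟩ := (mem_S A).2 hw
  rw [Y_eq A hc]
  refine (el_mem_sub A).2 (four_code A.ty p hp ?_ ?_)
  · rwa [A.el_mul, el_mem_cen A hc] at hww
  · intro q hq
    obtain ⟨c, hcc, h1⟩ := h (A.el q) ((mem_S A).1 ((el_mem_S A).2 (T0_t0 q hq)))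
    rw [el_cc] at h1
    rcases h1 with h1 | h1 | h1 | h1
    · left
      rw [← el_mem_cen A hc, h1]; exact hcc
    · right; left
      rw [← el_mem_cen A hc, ← A.el_mul, h1, ← t_eq, ← mul_assoc, t_sq, one_mul]; exact hcc
    · right; right; left
      rw [← el_mem_cen A hc, ← A.el_mul, h1, ← A.el_inv, inv_mul_cancel_left]; exact hcc
    · right; right; right
      rw [← el_mem_cen A hc, ← A.el_mul, h1, ← A.el_inv, ← A.el_mul, ← t_eq, inv_mul_cancel_left]; exact hcc

private noncomputable def _root_.Cfsg.Agent.KO1a14772.k55 : (by first | exact type_of% @Cfsg.Agent.UGT.Cov.FourK.instDecidableYk | exact Unit : Sort _) := by first | (refine @Subtype.val _ (fun g => @Cfsg.Agent.UGT.Cov.FourK.instDecidableYk = @g) (@Subtype.mk _ _ (@(fun (x0 : @Cfsg.Agent.StdL34.Code) => @Cfsg.Agent.KO1a14772.k33 (@Eq.{1} @Cfsg.Agent.SporadicA.FieldFour.F4 (@Cfsg.Agent.StdL34.Code.a @x0) (@OfNat.ofNat.{0} @Cfsg.Agent.SporadicA.FieldFour.F4 (nat_lit 0) (@Zero.toOfNat0.{0}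 @Cfsg.Agent.SporadicA.FieldFour.F4 @Cfsg.Agent.SporadicA.FieldFour.F4.instZero))) (@Eq.{1} @Cfsg.Agent.SporadicA.FieldFour.F4 (@Cfsg.Agent.StdL34.Code.b @x0) (@OfNat.ofNat.{0} @Cfsg.Agent.SporadicA.FieldFour.F4 (nat_lit 0) (@Zero.toOfNat0.{0} @Cfsg.Agent.SporadicA.FieldFour.F4 @Cfsg.Agent.SporadicA.FieldFour.F4.instZero))) (@Cfsg.Agent.SporadicA.FieldFour.F4.decEq (@Cfsg.Agent.StdL34.Code.a @x0) @Cfsg.Agent.SporadicA.FieldFour.F4.z) (@Cfsg.Agent.SporadicA.FieldFour.F4.decEq (@Cfsg.Agent.StdL34.Code.b @x0) @Cfsg.Agent.SporadicA.FieldFour.F4.z))) ?_); rewrite [← Cfsg.Agent.KO1a14772.e33]; rfl') | exact @Cfsg.Agent.UGT.Cov.FourK.instDecidableYk | exact ()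
private theorem _root_.Cfsg.Agent.KO1a14772.e55 : (by first | exact @Cfsg.Agent.UGT.Cov.FourK.instDecidableYk = @_root_.Cfsg.Agent.KO1a14772.k55 | exact True : Prop) := by first | (delta _root_.Cfsg.Agent.KO1a14772.k55; exact @Subtype.property _ (fun g => @Cfsg.Agent.UGT.Cov.FourK.instDecidableYk = @g) _) | rfl | trivial

private noncomputable def _root_.Cfsg.Agent.LsF.f990225_20 : {f // @Cfsg.Agent.KO1a14772.k54 = f} := ⟨_, by first | (delta Cfsg.Agent.KO1a14772.k54; rewrite [Cfsg.Agent.LsF.f990225_2.2]; exact rfl) | exact rfl⟩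
private noncomputable def _root_.Cfsg.Agent.LsF.f990225_21 : {f // @Cfsg.Agent.KO1a14772.k55 = f} := ⟨_, by first | (delta Cfsg.Agent.KO1a14772.k55; rewrite [Cfsg.Agent.LsF.f990225_2.2]; exact rfl) | exact rfl⟩
theorem inner_code : ∀ ty b, t0 b → zk (cmul ty b b) → yk b ∨ ∀ a b' c, trF (a + b') = false →
    zk (cmul ty ct (cmul ty ⟨a, b', c, 0⟩ ⟨a, b', c, 0⟩)) → ¬ zk (cc ty b ⟨a, b', c, 0⟩) := by
  (refine of_decide_eq_true ?_; rewrite [Cfsg.Agent.KO1a14772.e0, Cfsg.Agent.KO1a14772.e7, Cfsg.Agent.KO1a14772.e35, Cfsg.Agent.KO1a14772.e38, Cfsg.Agent.KO1a14772.e8, Cfsg.Agent.KO1a14772.e30, Cfsg.Agent.KO1a14772.e54, Cfsg.Agent.KO1a14772.e34, Cfsg.Agent.KO1a14772.e55, Cfsg.Agent.KO1a14772.e19.{0}, Cfsg.Agent.KO1a14772.e39, Cfsg.Agent.KO1a14772.e56]; ((try (delta Cfsg.Agent.KO1a14772.k19; rewrite [Cfsg.Agent.LsF.f990225_1.2, Cfsg.Agent.LsF.f990225_9.2, Cfsg.Agent.LsF.f990225_3.2, Cfsg.Agent.LsF.f990225_20.2, Cfsg.Agent.LsF.f990225_21.2, Cfsg.Agent.LsF.dDforall_eq]));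 decide +kernel))

theorem sq_nk : ∀ ty a b c k, zk (cmul ty ct (cmul ty ⟨a, b, c, k⟩ ⟨a, b, c, k⟩)) →
    zk (cmul ty ct (cmul ty ⟨a, b, c, 0⟩ ⟨a, b, c, 0⟩)) := by
  intro ty a b c k h
  exact h

theorem cc_zk (ty : Bool) (p : Code) (a b c : F4) (k : Fin 4) (h : zk (cc ty p ⟨a, b, c, k⟩)) :
    zk (cc ty p ⟨a, b, c, 0⟩) := h

theorem inner (hc : center L = zpowers A.s) {b j : L} (hb : b * t A = t A * b) (hbb : b * b ∈ center L)
    (hj : j * t A = t A * j) (hjj : ∃ c ∈ center L, j * j = t A * c) (hbj : ⁅b, j⁆ ∈ center L) : b ∈ Y (t A) := by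
  obtain ⟨p, hp, rfl⟩ := (mem_S A).2 hb
  obtain ⟨q, hq, rfl⟩ := (mem_S A).2 hj
  rw [Y_eq A hc]
  refine (el_mem_sub A).2 ?_
  rw [A.el_mul, el_mem_cen A hc] at hbb
  rw [el_cc, el_mem_cen A hc] at hbj
  obtain ⟨c, hcc, hjj⟩ := hjj
  have h1 : zk (cmul A.ty ct (cmul A.ty q q)) := by
    rw [← el_mem_cen A hc, ← A.el_mul, ← A.el_mul, hjj, ← t_eq, ← mul_assoc, t_sq, one_mul]; exact hcc
  obtain ⟨a', b', c', k'⟩ := q
  rcases inner_code A.ty p hp hbb with h2 | h2
  · exact h2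
  · exact absurd (cc_zk _ _ _ _ _ _ hbj) (h2 a' b' c' hq (sq_nk _ _ _ _ _ h1))

theorem ord_s {i : L} (hc : center L = zpowers A.s) (ho : orderOf i = 4) (hi : i ∈ center L) :
    i = A.s ∨ i = A.s⁻¹ := by
  obtain ⟨k, rfl⟩ := cen_sp A hc hi
  have h2 : ∀ k : Fin 4, k = 1 ∨ k = 3 ∨ k + k = 0 := by decide
  rcases h2 k with rfl | rfl | h
  · left; exact A.sp_one
  · right
    rw [← A.sp_one, A.sp_neg]; rfl
  · exfalso
    have h3 : A.sp k ^ 2 = 1 := by rw [pow_two, A.sp_add, h, A.sp_zero]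
    have h4 := orderOf_dvd_of_pow_eq_one h3
    rw [ho] at h4
    omega

theorem noSq (hc : center L = zpowers A.s) {s i : L} (ho : orderOf i = 4) (hi : i ∈ center L)
    (hs : s * t A = t A * s) (h : ∀ x, x * t A = t A * x → ⁅s, x⁆ = 1 ∨ ⁅s, x⁆ = t A) :
    s * s ≠ i ∧ s * s ≠ i * t A := by
  obtain ⟨h1, h2, h3, h4⟩ := no_root A ((mem_S A).2 hs) (fun y hy => h y ((mem_S A).1 hy))
  rcases ord_s A hc ho hi with rfl | rfl
  · exact ⟨h1, h3⟩
  · exact ⟨h2, h4⟩

theorem card_C : Nat.card (centralizer ({t A} : Set L)) = 128 := by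
  have : centralizer ({t A} : Set L) = S A := by
    ext x
    rw [mem_centralizer_singleton_iff, mem_S]
  rw [this, card_S]

/-! ### Assembly -/

/-- **The record `I34.KF.Facts`**, given its three fields on automorphisms at `t = x₀₂(1)` (for all coordinates). -/
theorem facts (hc : center L = zpowers A.s) (ho : orderOf A.s = 4)
    (height : ∀ B : StdL34.Cov L, center L = zpowers B.s → B.ty = A.ty → ∀ κ : MulAut L, κ (t B) = t B →
      (∀ y ∈ Y (t B), ∃ c ∈ center L, κ y = y * c) → κ * κ * (κ * κ) = MulAut.conj (t B) →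
      Nat.card {α : MulAut L // α (t B) = t B ∧ α * κ = κ * α} ≤ 32)
    (hsq : ∀ (α : MulAut L) (n : ℕ), α ^ 2 ^ n = 1 → ∃ k, α * α = MulAut.conj k)
    (hg : ∀ B : StdL34.Cov L, center L = zpowers B.s → B.ty = A.ty → ∀ φ : MulAut L, φ * φ = 1 → φ (t B) = t B →
      (∀ y ∈ Y (t B), ∃ c ∈ center L, φ y = y * c) → (∀ k, φ ≠ MulAut.conj k) →
      ∃ E : Subgroup L, E ≤ I34.KF.fx φ ∧ (∀ g ∈ I34.KF.fx φ, ∀ k ∈ E, g * k * g⁻¹ ∈ E) ∧
        IsSimpleGroup ↥E ∧ 2 ∣ Nat.card E ∧ (∃ a ∈ E, ∃ b ∈ E, a * b ≠ b * a) ∧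
        ∃ k ∈ E, t B * k ≠ k * t B) : I34.KF.Facts L A.ty where
  exists_i := ⟨A.s, ho, hc⟩
  exists_t := ⟨t A, t_NInv A hc⟩
  conj {s t} hs ht := (conj_t A hs).trans' (conj_t A ht).symm'
  card_C {t} ht := by
    obtain ⟨B, h1, h2, rfl⟩ := exists_cov_t A ht
    exact card_C B
  moved {t} ht := by
    obtain ⟨B, h1, h2, rfl⟩ := exists_cov_t A ht
    rw [← h1] at hc
    exact moved B hc
  Y_cases {t w y} ht hw hne hy := by
    obtain ⟨B, h1, h2, rfl⟩ := exists_cov_t A ht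
    rw [← h1] at hc
    exact Y_cases B hc hw hne hy
  Y_sq {t y} ht hy := by
    obtain ⟨B, h1, h2, rfl⟩ := exists_cov_t A ht
    rw [← h1] at hc
    exact Y_sq B hc hy
  comm_Y {t a b} ht ha hb := by
    obtain ⟨B, h1, h2, rfl⟩ := exists_cov_t A ht
    rw [← h1] at hc
    exact comm_Y B hc ha hb
  sq_Y {t a} ht ha := by
    obtain ⟨B, h1, h2, rfl⟩ := exists_cov_t A ht
    rw [← h1] at hc
    exact sq_Y B hc ha
  norm {t} ht N htN hN hn hz := by
    obtain ⟨B, h1, h2, rfl⟩ := exists_cov_t A ht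
    rw [← h1] at hc
    rw [← h2]
    exact norm B hc N htN hN hn hz
  four {t w} ht hw hww _ h := by
    obtain ⟨B, h1, h2, rfl⟩ := exists_cov_t A ht
    rw [← h1] at hc
    exact four B hc hw hww h
  inner {t b j} ht hb hbb hj hjj hbj := by
    obtain ⟨B, h1, h2, rfl⟩ := exists_cov_t A ht
    rw [← h1] at hc
    exact inner B hc hb hbb hj hjj hbj
  eight {t} ht κ hκ hY h4 := by
    obtain ⟨B, h1, h2, rfl⟩ := exists_cov_t A ht
    rw [← h1] at hc
    exact height B hc h2 κ hκ hY h4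
  noSq {t s i} ht ho' hi hs h := by
    obtain ⟨B, h1, h2, rfl⟩ := exists_cov_t A ht
    rw [← h1] at hc
    exact noSq B hc ho' hi hs h
  sq_inner := hsq
  gtype {t} ht φ h1 h2 h3 h4 := by
    obtain ⟨B, h5, h6, rfl⟩ := exists_cov_t A ht
    rw [← h5] at hc
    exact hg B hc h6 φ h1 h2 h3 h4

end Cfsg.Agent.UGT.Cov.KFPure
end

private theorem dce_611a2311a41b : _root_.True := by
  try have : _root_.True := by simp only [_root_.Cfsg.Agent.UGT.Cov.FourK.F.eq_1]
  try have : _root_.True := by simp only [_root_.Cfsg.Agent.UGT.Cov.FourK.t.eq_1]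
  try have : _root_.True := by simp only [_root_.Cfsg.Agent.UGT.Cov.FourK.AF.eq_1]
  try have : _root_.True := by simp only [_root_.Cfsg.Agent.UGT.Cov.FourK.D.eq_1]
  try have : _root_.True := by simp only [_root_.Cfsg.Agent.StdL34.nk.eq_1]
  try have : _root_.True := by simp only [_root_.Cfsg.Agent.UGT.Cov.FourK.cc.eq_1]
  try have : _root_.True := by simp only [_root_.Cfsg.Agent.StdL34.cinv.eq_1]
  try have : _root_.True := by simp only [_root_.Cfsg.Agent.UGT.Cov.FourK.YS.eq_1]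
  try have : _root_.True := by simp only [_root_.Cfsg.Agent.UGT.Cov.FourK.S.eq_1]
  exact _root_.True.intro
end

-- part: FixBN/AltSB
section
set_option linter.all false
open scoped Cfsg.Agent.FastGrp

/-!
# `SB (alternatingGroup (Fin n))`, `n ≥ 7`

An involutive automorphism `τ` of `A_n` is conjugation by `s` with `s² = 1`. Let `C` be the group of fixed points,
`W` a normal subgroup of odd order of `C`.

* `fix_moved` : `W` fixes every point moved by `s`;
* `fix_fixed` : if `s` has at least four fixed points, then `W` fixes all of them;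
* if `s` has at most three fixed points, then a perfect subgroup of `C` fixes them.
-/

set_option autoImplicit false

namespace Cfsg.Agent.FixBN.AltSB

open Equiv Equiv.Perm

/-! ### permutations of odd order -/

theorem sq_fix {α : Type*} {w : Perm α} (hw : ∃ j : ℕ, (w ^ 2) ^ j = w) {a : α} (h : w (w a) = a) : w a = a := by
  obtain ⟨j, hj⟩ := hw
  have h1 : (w ^ 2) a = a := by rw [pow_two]; exact h
  have h2 : ∀ j : ℕ, ((w ^ 2) ^ j) a = a := by
    intro j
    induction j with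
    | zero => rfl
    | succ j ih => rw [pow_succ, Perm.mul_apply, h1, ih]
  have h3 := h2 j
  rwa [hj] at h3

theorem eq_one_of_sq {G : Type*} [Group G] {w : G} (hw : ∃ j : ℕ, (w ^ 2) ^ j = w) (h : w ^ 2 = 1) : w = 1 := by
  obtain ⟨j, hj⟩ := hw
  rw [← hj, h, one_pow]

theorem exists_pow_of_odd {G : Type*} [Group G] [Finite G] {W : Subgroup G} (hW : Odd (Nat.card W)) {w : G}
    (hw : w ∈ W) : ∃ j : ℕ, (w ^ 2) ^ j = w := by
  obtain ⟨k, hk⟩ := hW
  refine ⟨k + 1, ?_⟩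
  have h1 : w ^ Nat.card W = 1 := by
    have h2 : (⟨w, hw⟩ : W) ^ Nat.card W = 1 := pow_card_eq_one'
    exact congrArg Subtype.val h2
  rw [← pow_mul, show 2 * (k + 1) = Nat.card W + 1 by omega, pow_succ, h1, one_mul]

/-! ### pairs of an involution -/

section Pairs

variable {α : Type*} [DecidableEq α] {s : Perm α} (hs : ∀ x, s (s x) = x)

include hs

theorem comm_s (a x : α) : swap a (s a) (s x) = s (swap a (s a) x) := by
  have h1 := Equiv.swap_apply_apply s a (s a)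
  rw [hs, Equiv.swap_comm] at h1
  have h2 : swap a (s a) * s = s * swap a (s a) := by
    conv_lhs => rw [h1]
    group
  exact congrArg (fun f : Perm α => f x) h2

theorem comm_pairs (p q : α) : Commute (swap p (s p)) (swap q (s q)) := by
  by_cases h1 : q = p
  · subst h1; exact Commute.refl _
  by_cases h2 : q = s p
  · subst h2
    rw [hs, Equiv.swap_comm (s p) p]
  apply Equiv.Perm.Disjoint.commute
  intro z
  by_cases h3 : z = p
  · subst h3
    right
    refine Equiv.swap_apply_of_ne_of_ne (fun h => h1 h.symm) fun h => h2 ?_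
    rw [h, hs]
  by_cases h4 : z = s p
  · subst h4
    right
    exact Equiv.swap_apply_of_ne_of_ne (fun h => h2 h.symm) fun h => h1 (s.injective h).symm
  left
  exact Equiv.swap_apply_of_ne_of_ne h3 h4

end Pairs

/-! ### the odd normal subgroup -/

section Main

variable {α : Type*} [DecidableEq α] [Fintype α] {s : Perm α} (hs : ∀ x, s (s x) = x) {W : Subgroup (Perm α)}
  (hc : ∀ w ∈ W, ∀ x, w (s x) = s (w x)) (hodd : ∀ w ∈ W, ∃ j : ℕ, (w ^ 2) ^ j = w)
  (hn : ∀ w ∈ W, ∀ u ∈ alternatingGroup α, (∀ x, u (s x) = s (u x)) → u * w * u⁻¹ ∈ W)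

include hs hc hodd hn

/-- `W` fixes the points moved by `s`. -/
theorem fix_moved {w : Perm α} (hw : w ∈ W) {a : α} (ha : s a ≠ a) : w a = a := by
  by_contra hne
  have h2 : w (w a) ≠ a := fun h => hne (sq_fix (hodd w hw) h)
  have hwb : w (s a) = s (w a) := hc w hw a
  have hx : w a ≠ s a := by
    intro h
    apply h2
    rw [h, hwb, h, hs]
  have hxy : w a ≠ s (w a) := by
    rw [← hwb]
    exact fun h => ha (w.injective h).symm
  have hu : swap a (s a) * swap (w a) (s (w a)) ∈ alternatingGroup α :=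
    mul_mem_alternatingGroup_of_isSwap ⟨_, _, ha.symm, rfl⟩ ⟨_, _, hxy, rfl⟩
  have hus : ∀ x, (swap a (s a) * swap (w a) (s (w a))) (s x) = s ((swap a (s a) * swap (w a) (s (w a))) x) := by
    intro x
    rw [Perm.mul_apply, Perm.mul_apply, comm_s hs, comm_s hs]
  set t1 := swap a (s a) with ht1
  set t2 := swap (w a) (s (w a)) with ht2
  set t3 := swap (w (w a)) (s (w (w a))) with ht3
  have e1 : w * t1 * w⁻¹ = t2 := by
    rw [ht1, ht2, ← hwb]
    exact (Equiv.swap_apply_apply w a (s a)).symm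
  have e2 : w * t2 * w⁻¹ = t3 := by
    rw [ht2, ht3, ← hc w hw (w a)]
    exact (Equiv.swap_apply_apply w (w a) (s (w a))).symm
  have c12 : Commute t1 t2 := comm_pairs hs _ _
  have c13 : Commute t1 t3 := comm_pairs hs _ _
  have c23 : Commute t2 t3 := comm_pairs hs _ _
  have s1 : t1 * t1 = 1 := Equiv.swap_mul_self _ _
  have s2 : t2 * t2 = 1 := Equiv.swap_mul_self _ _
  have s3 : t3 * t3 = 1 := Equiv.swap_mul_self _ _
  have i1 : t1⁻¹ = t1 := inv_eq_of_mul_eq_one_right s1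
  have i2 : t2⁻¹ = t2 := inv_eq_of_mul_eq_one_right s2
  have hmem : t3 * t1 ∈ W := by
    have h3 : w * (t1 * t2 * w⁻¹ * (t1 * t2)⁻¹) ∈ W := mul_mem hw (hn _ (inv_mem hw) _ hu hus)
    have h4 : w * (t1 * t2 * w⁻¹ * (t1 * t2)⁻¹) = (w * t1 * w⁻¹) * (w * t2 * w⁻¹) * (t2⁻¹ * t1⁻¹) := by group
    rw [h4, e1, e2, i1, i2] at h3
    have h5 : t2 * t3 * (t2 * t1) = t3 * t1 := by
      rw [c23.eq, mul_assoc, ← mul_assoc t2 t2, s2, one_mul]
    rwa [h5] at h3
  have hsq : (t3 * t1) ^ 2 = 1 := by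
    rw [pow_two, mul_assoc, ← mul_assoc t1 t3, c13.eq, mul_assoc t3 t1, s1, mul_one, s3]
  have h31 : t3 * t1 = 1 := eq_one_of_sq (hodd _ hmem) hsq
  have h6 : t3 = t1 := by
    rw [← i1]; exact eq_inv_of_mul_eq_one_left h31
  have h7 : t3 a = s a := by rw [h6, ht1, Equiv.swap_apply_left]
  by_cases h8 : a = s (w (w a))
  · -- `w² a = s a`
    have h9 : w (w a) = s a := by
      conv_rhs => rw [h8, hs]
    have h10 : w (w (w (w a))) = a := by
      rw [h9, hc w hw, hc w hw, h9, hs]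
    have h11 : (w ^ 2) a = a := by
      refine sq_fix (w := w ^ 2) ?_ ?_
      · obtain ⟨j, hj⟩ := hodd w hw
        refine ⟨j, ?_⟩
        rw [← pow_mul, mul_comm 2 j, pow_mul, hj]
      · rw [pow_two]; exact h10
    exact h2 h11
  · rw [ht3, Equiv.swap_apply_of_ne_of_ne (fun h => h2 h.symm) h8] at h7
    exact ha h7.symm

end Main

/-! ### odd normal subgroups of alternating groups -/

theorem alt_four : ∀ w : alternatingGroup (Fin 4), w ^ 2 = 1 ∨ ∃ u : alternatingGroup (Fin 4),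
    u * w * u⁻¹ * w⁻¹ ≠ 1 ∧ (u * w * u⁻¹ * w⁻¹) ^ 2 = 1 := by
  decide +kernel

/-- A normal subgroup of odd order of `Alt(β)`, `|β| ≥ 4`, is trivial. -/
theorem alt_eq_bot {β : Type*} [Fintype β] [DecidableEq β] (h4 : 4 ≤ Nat.card β) (W : Subgroup (alternatingGroup β))
    [hW : W.Normal] (hodd : ∀ w ∈ W, ∃ j : ℕ, (w ^ 2) ^ j = w) : W = ⊥ := by
  rcases h4.eq_or_lt with h | h
  · rw [Nat.card_eq_fintype_card] at h
    let e : alternatingGroup β ≃* alternatingGroup (Fin 4) :=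
      Equiv.altCongrHom (Fintype.equivFinOfCardEq h.symm)
    rw [eq_bot_iff]
    intro w hw
    rw [Subgroup.mem_bot]
    rcases alt_four (e w) with h1 | ⟨u, h1, h2⟩
    · refine eq_one_of_sq (hodd w hw) (e.injective ?_)
      rw [map_pow, h1, map_one]
    · exfalso
      apply h1
      have h3 : e.symm u * w * (e.symm u)⁻¹ * w⁻¹ ∈ W := mul_mem (hW.conj_mem w hw _) (inv_mem hw)
      have h4 : e.symm u * w * (e.symm u)⁻¹ * w⁻¹ = 1 := by
        refine eq_one_of_sq (hodd _ h3) (e.injective ?_)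
        rw [map_pow, map_mul, map_mul, map_mul, map_inv, map_inv, e.apply_symm_apply, h2, map_one]
      have h5 := congrArg e h4
      rwa [map_mul, map_mul, map_mul, map_inv, map_inv, e.apply_symm_apply, map_one] at h5
  · have : IsSimpleGroup (alternatingGroup β) := alternatingGroup.isSimpleGroup h
    rcases hW.eq_bot_or_eq_top with h1 | h1
    · exact h1
    exfalso
    have hnt : Nontrivial β := by
      rw [← Finite.one_lt_card_iff_nontrivial]; omega
    have hdvd : 2 ∣ Nat.card (alternatingGroup β) := by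
      rw [nat_card_alternatingGroup]
      have h2 : Nat.factorial 4 ∣ Nat.factorial (Nat.card β) := Nat.factorial_dvd_factorial h4
      have h3 : Nat.factorial 4 = 24 := by decide
      rw [h3] at h2
      omega
    obtain ⟨x, hx⟩ := exists_prime_orderOf_dvd_card' 2 hdvd
    have h2 : x = 1 := eq_one_of_sq (hodd x (h1 ▸ Subgroup.mem_top x)) (by rw [← hx, pow_orderOf_eq_one])
    rw [h2, orderOf_one] at hx
    omega

section Main2

variable {α : Type*} [DecidableEq α] [Fintype α] {s : Perm α} {W : Subgroup (Perm α)}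
  (hc : ∀ w ∈ W, ∀ x, w (s x) = s (w x)) (hodd : ∀ w ∈ W, ∃ j : ℕ, (w ^ 2) ^ j = w)
  (hn : ∀ w ∈ W, ∀ u ∈ alternatingGroup α, (∀ x, u (s x) = s (u x)) → u * w * u⁻¹ ∈ W)

omit [Fintype α] in
theorem of_mem (f : Perm {x // s x = x}) {x : α} (hx : s x = x) : ofSubtype f x = (f ⟨x, hx⟩ : α) :=
  ofSubtype_apply_of_mem f hx

omit [Fintype α] in
theorem of_not_mem (f : Perm {x // s x = x}) {x : α} (hx : s x ≠ x) : ofSubtype f x = x :=
  ofSubtype_apply_of_not_mem f hx

omit [Fintype α] in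
/-- The elements of `Perm (Fix s)` commute with `s`. -/
theorem ofSubtype_comm (v : Perm {x // s x = x}) (x : α) : ofSubtype v (s x) = s (ofSubtype v x) := by
  by_cases hx : s x = x
  · have h1 : s (ofSubtype v x) = ofSubtype v x := (ofSubtype_apply_mem_iff_mem v x).2 hx
    rw [hx, h1]
  · rw [of_not_mem v hx, of_not_mem]
    intro h
    exact hx (s.injective h)

include hc hodd hn

/-- If `s` has at least four fixed points, then `W` fixes them. -/
theorem fix_fixed (h4 : 4 ≤ Nat.card {x // s x = x}) {w : Perm α} (hw : w ∈ W) {a : α} (ha : s a = a) : w a = a := by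
  have hF : ∀ w ∈ W, ∀ x, s x = x → s (w x) = w x := by
    intro w hw x hx
    rw [← hc w hw, hx]
  let W0 : Subgroup (alternatingGroup {x // s x = x}) :=
    W.comap (ofSubtype.comp (alternatingGroup {x // s x = x}).subtype)
  have hmem : ∀ v : alternatingGroup {x // s x = x}, v ∈ W0 ↔ ofSubtype (v : Perm {x // s x = x}) ∈ W :=
    fun v => Iff.rfl
  have halt : ∀ v : alternatingGroup {x // s x = x}, ofSubtype (v : Perm {x // s x = x}) ∈ alternatingGroup α := by
    intro v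
    rw [mem_alternatingGroup, sign_ofSubtype]
    exact mem_alternatingGroup.1 v.2
  have hW0 : W0.Normal := by
    constructor
    intro v hv u
    rw [hmem] at hv ⊢
    rw [Subgroup.coe_mul, Subgroup.coe_mul, Subgroup.coe_inv, map_mul, map_mul, map_inv]
    exact hn _ hv _ (halt u) (ofSubtype_comm _)
  have hbot : W0 = ⊥ := by
    refine alt_eq_bot h4 W0 fun v hv => ?_
    obtain ⟨j, hj⟩ := hodd _ ((hmem v).1 hv)
    refine ⟨j, ?_⟩
    apply Subtype.ext
    apply ofSubtype_injective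
    rw [Subgroup.coe_pow, Subgroup.coe_pow, map_pow, map_pow]
    exact hj
  -- `w` commutes with the alternating group of the fixed points
  have hcom : ∀ v : alternatingGroup {x // s x = x}, w * ofSubtype (v : Perm {x // s x = x}) * w⁻¹ =
      ofSubtype (v : Perm {x // s x = x}) := by
    intro v
    have hwF : ∀ x, s (w x) = w x ↔ s x = x := by
      intro x
      constructor
      · intro h
        rw [← hc w hw] at h
        exact w.injective h
      · exact hF w hw x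
    let r : Perm {x // s x = x} := subtypePerm w hwF
    have h1 : w * ofSubtype (v : Perm {x // s x = x}) * w⁻¹ = ofSubtype (r * v * r⁻¹ : Perm {x // s x = x}) := by
      rw [mul_inv_eq_iff_eq_mul]
      ext x
      rw [Perm.mul_apply, Perm.mul_apply]
      by_cases hx : s x = x
      · rw [of_mem _ hx, of_mem _ ((hwF x).2 hx), Perm.mul_apply, Perm.mul_apply]
        have h2 : (⟨w x, (hwF x).2 hx⟩ : {x // s x = x}) = r ⟨x, hx⟩ := rfl
        rw [h2, show r⁻¹ (r ⟨x, hx⟩) = ⟨x, hx⟩ from r.symm_apply_apply _]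
        rfl
      · rw [of_not_mem _ hx, of_not_mem]
        exact fun h => hx ((hwF x).1 h)
    have h2 : (r * v * r⁻¹ : Perm {x // s x = x}) ∈ alternatingGroup {x // s x = x} :=
      alternatingGroup.normal.conj_mem _ v.2 _
    have h3 : (⟨_, h2⟩ : alternatingGroup {x // s x = x}) * v⁻¹ ∈ W0 := by
      rw [hmem, Subgroup.coe_mul, Subgroup.coe_inv, map_mul, map_inv]
      change ofSubtype (r * v * r⁻¹ : Perm {x // s x = x}) * _ ∈ W
      rw [← h1]
      have h4 := mul_mem hw (hn _ (inv_mem hw) _ (halt v) (ofSubtype_comm _))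
      have h5 : w * ofSubtype (v : Perm {x // s x = x}) * w⁻¹ * (ofSubtype (v : Perm {x // s x = x}))⁻¹ =
        w * (ofSubtype (v : Perm {x // s x = x}) * w⁻¹ * (ofSubtype (v : Perm {x // s x = x}))⁻¹) := by group
      rw [h5]
      exact h4
    rw [hbot, Subgroup.mem_bot, mul_inv_eq_one] at h3
    have h6 : (r * v * r⁻¹ : Perm {x // s x = x}) = v := congrArg Subtype.val h3
    rw [h1, h6]
  by_contra hne
  have hwa : s (w a) = w a := hF w hw a ha
  obtain ⟨p, hp⟩ : ∃ p : {x // s x = x}, p ∉ ({⟨a, ha⟩, ⟨w a, hwa⟩} : Finset {x // s x = x}) := by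
    by_contra hcon
    push Not at hcon
    have h1 : (Finset.univ : Finset {x // s x = x}) ⊆ {⟨a, ha⟩, ⟨w a, hwa⟩} := fun x _ => hcon x
    have h2 := Finset.card_le_card h1
    have h3 := Finset.card_le_two (a := (⟨a, ha⟩ : {x // s x = x})) (b := ⟨w a, hwa⟩)
    rw [Finset.card_univ, ← Nat.card_eq_fintype_card] at h2
    omega
  obtain ⟨q, hq⟩ : ∃ q : {x // s x = x}, q ∉ ({⟨a, ha⟩, ⟨w a, hwa⟩, p} : Finset {x // s x = x}) := by
    by_contra hcon
    push Not at hcon
    have h1 : (Finset.univ : Finset {x // s x = x}) ⊆ {⟨a, ha⟩, ⟨w a, hwa⟩, p} := fun x _ => hcon x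
    have h2 := Finset.card_le_card h1
    have h3 := Finset.card_le_three (a := (⟨a, ha⟩ : {x // s x = x})) (b := ⟨w a, hwa⟩) (c := p)
    rw [Finset.card_univ, ← Nat.card_eq_fintype_card] at h2
    omega
  simp only [Finset.mem_insert, Finset.mem_singleton, not_or] at hp hq
  obtain ⟨hp1, hp2⟩ := hp
  obtain ⟨hq1, hq2, hq3⟩ := hq
  have h3 : (swap (⟨a, ha⟩ : {x // s x = x}) p * swap (⟨a, ha⟩ : {x // s x = x}) q).IsThreeCycle :=
    isThreeCycle_swap_mul_swap_same (Ne.symm hp1) (Ne.symm hq1) (Ne.symm hq3)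
  have h4' := hcom ⟨_, h3.mem_alternatingGroup⟩
  rw [mul_inv_eq_iff_eq_mul] at h4'
  have h5 := congrArg (fun f : Perm α => f a) h4'
  simp only [Perm.mul_apply] at h5
  rw [of_mem _ ha, of_mem _ hwa] at h5
  simp only [Perm.mul_apply] at h5
  have hne' : (⟨w a, hwa⟩ : {x // s x = x}) ≠ ⟨a, ha⟩ := fun h => hne (congrArg Subtype.val h)
  rw [swap_apply_left, swap_apply_of_ne_of_ne hq1 hq3, swap_apply_of_ne_of_ne hne' (Ne.symm hq2),
    swap_apply_of_ne_of_ne hne' (Ne.symm hp2)] at h5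
  exact hq1 (Subtype.ext (w.injective h5))

end Main2

/-! ### at most three fixed points -/

section Main3

variable {α : Type*} [DecidableEq α] [Fintype α] {s : Perm α}

/-- The centraliser of `s` acts on the fixed points. -/
def res (s : Perm α) (C : Subgroup (Perm α)) (hC : ∀ w ∈ C, ∀ x, w (s x) = s (w x)) :
    ↥C →* Perm {x // s x = x} :=
  MonoidHom.mk' (fun w => subtypePerm (w : Perm α) fun x => by
    rw [← hC w w.2]
    exact (w : Perm α).injective.eq_iff) fun _ _ => rfl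

/-- A perfect subgroup fixes the fixed points of `s` if there are at most three. -/
theorem perfect_fix (C : Subgroup (Perm α)) (hC : ∀ w ∈ C, ∀ x, w (s x) = s (w x))
    (h3 : Nat.card {x // s x = x} ≤ 3) (L : Subgroup ↥C) (hL : ⁅L, L⁆ = L) {l : ↥C} (hl : l ∈ L) {a : α}
    (ha : s a = a) : (l : Perm α) a = a := by
  have h1 : L.map (res s C hC) ≤ alternatingGroup {x // s x = x} := by
    rw [← hL, Subgroup.map_commutator, Subgroup.commutator_le]
    intro x _ y _
    rw [mem_alternatingGroup, map_commutatorElement, commutatorElement_eq_one_iff_mul_comm]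
    exact mul_comm _ _
  have := alternatingGroup.isMulCommutative_of_card_le_three h3
  have h2 : L.map (res s C hC) = ⊥ := by
    rw [← hL, Subgroup.map_commutator, eq_bot_iff]
    refine (Subgroup.commutator_mono h1 h1).trans ?_
    rw [Subgroup.commutator_le]
    intro x hx y hy
    rw [Subgroup.mem_bot, commutatorElement_eq_one_iff_mul_comm]
    exact congrArg Subtype.val (mul_comm' (⟨x, hx⟩ : alternatingGroup {x // s x = x}) ⟨y, hy⟩)
  have h4 : res s C hC l = 1 := by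
    rw [← Subgroup.mem_bot, ← h2]
    exact ⟨l, hl, rfl⟩
  have h5 := congrArg (fun f : Perm {x // s x = x} => ((f ⟨a, ha⟩ : {x // s x = x}) : α)) h4
  exact h5

end Main3

/-! ### the conclusion -/

open Cfsg Cfsg.Agent.FixBN.Reduce in
/-- **The strong form of the B-property for the alternating groups.** -/
theorem sb (n : ℕ) (hn : 7 ≤ n) : SB (alternatingGroup (Fin n)) := by
  obtain ⟨m, rfl⟩ : ∃ m, n = m + 2 := ⟨n - 2, by omega⟩
  intro τ hτ L hL W hW hWo
  obtain ⟨s, hs⟩ := StandardComponent.AltAut.exists_conj (m := m) (by omega) τ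
  -- `s² = 1`
  have hs1 : s * s = 1 := by
    apply StandardComponent.AltAut.eq_one_of_centralizes (m := m) (by omega)
    intro x
    have h1 : s * s * (x : Perm (Fin (m + 2))) * (s * s)⁻¹ = s * (s * x * s⁻¹) * s⁻¹ := by group
    rw [h1, ← hs x, ← hs (τ x), hτ]
  have hs2 : ∀ x, s (s x) = x := fun x => by
    rw [← Perm.mul_apply, hs1]; rfl
  -- the fixed points as permutations
  let C : Subgroup (Perm (Fin (m + 2))) := (fixSub τ).map (alternatingGroup (Fin (m + 2))).subtype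
  have hmemC : ∀ u ∈ alternatingGroup (Fin (m + 2)), (∀ x, u (s x) = s (u x)) →
      ∃ c : ↥(fixSub τ), ((c : alternatingGroup (Fin (m + 2))) : Perm (Fin (m + 2))) = u := by
    intro u hu hus
    refine ⟨⟨⟨u, hu⟩, ?_⟩, rfl⟩
    rw [mem_fixSub]
    apply Subtype.ext
    rw [hs, mul_inv_eq_iff_eq_mul]
    ext1 x
    exact (hus x).symm
  have hcomm : ∀ c : ↥(fixSub τ), ∀ x, ((c : alternatingGroup (Fin (m + 2))) : Perm (Fin (m + 2))) (s x) =
      s (((c : alternatingGroup (Fin (m + 2))) : Perm (Fin (m + 2))) x) := by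
    intro c x
    have h1 := hs (c : alternatingGroup (Fin (m + 2)))
    rw [mem_fixSub.1 c.2, eq_mul_inv_iff_mul_eq] at h1
    exact congrArg (fun f : Perm (Fin (m + 2)) => f x) h1
  let f : ↥(fixSub τ) →* Perm (Fin (m + 2)) :=
    (alternatingGroup (Fin (m + 2))).subtype.comp (fixSub τ).subtype
  have hf : Function.Injective f := (Subtype.val_injective).comp Subtype.val_injective
  have hWf : ∀ w ∈ W.map f, ∃ j : ℕ, (w ^ 2) ^ j = w := by
    rintro _ ⟨w, hw, rfl⟩
    obtain ⟨j, hj⟩ := exists_pow_of_odd hWo hw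
    exact ⟨j, by rw [← map_pow, ← map_pow, hj]⟩
  have hWc : ∀ w ∈ W.map f, ∀ x, w (s x) = s (w x) := by
    rintro _ ⟨w, hw, rfl⟩ x
    exact hcomm w x
  have hWn : ∀ w ∈ W.map f, ∀ u ∈ alternatingGroup (Fin (m + 2)), (∀ x, u (s x) = s (u x)) →
      u * w * u⁻¹ ∈ W.map f := by
    rintro _ ⟨w, hw, rfl⟩ u hu hus
    obtain ⟨c, rfl⟩ := hmemC u hu hus
    exact ⟨c * w * c⁻¹, hW.conj_mem w hw c, by rw [map_mul, map_mul, map_inv]; rfl⟩
  rw [Subgroup.commutator_eq_bot_iff_le_centralizer]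
  intro l hl
  rw [Subgroup.mem_centralizer_iff]
  intro w hw
  apply hf
  rw [map_mul, map_mul]
  have hwm : ∀ a, s a ≠ a → f w a = a := fun a ha => fix_moved hs2 hWc hWf hWn ⟨w, hw, rfl⟩ ha
  by_cases h4 : 4 ≤ Nat.card {x // s x = x}
  · have h1 : f w = 1 := by
      ext1 a
      by_cases ha : s a = a
      · exact fix_fixed hWc hWf hWn h4 ⟨w, hw, rfl⟩ ha
      · exact hwm a ha
    rw [h1, one_mul, mul_one]
  · have hL' : ⁅L, L⁆ = L :=
      Subgroup.isPerfect_iff.1 (SignalizersComponents.PCompQuot.perfect_of_pComponent hL)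
    have hlf : ∀ a, s a = a → f l a = a := by
      intro a ha
      have h1 : ∀ w ∈ f.range, ∀ x, w (s x) = s (w x) := by
        rintro _ ⟨w, rfl⟩ x
        exact hcomm w x
      have h2 : ⁅L.map f.rangeRestrict, L.map f.rangeRestrict⁆ = L.map f.rangeRestrict := by
        rw [← Subgroup.map_commutator, hL']
      exact perfect_fix f.range h1 (by omega) (L.map f.rangeRestrict) h2
        (l := f.rangeRestrict l) ⟨l, hl, rfl⟩ ha
    ext1 a
    rw [Perm.mul_apply, Perm.mul_apply]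
    by_cases ha : s a = a
    · rw [hlf a ha, hlf]
      have h1 := hcomm w a
      rw [ha] at h1
      exact h1.symm
    · rw [hwm a ha, hwm]
      intro h
      have h1 := hcomm l a
      apply ha
      apply (f l).injective
      exact h1.trans h

end Cfsg.Agent.FixBN.AltSB
end

-- part: UAlt/PermPK
section
prune_inst 0x4347075442d2212000018000262003e66fe000592002b8800d9400e4007c77b630d026721fea01f1209c6be647070406811980059424000000e003600411d01a080a97286b37ca10424000f80b803580c00000000000000000000000000041000000000000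
set_option linter.all false
open scoped Cfsg.Agent.FastGrp

/-!
# Permutation lemmas for section (9)

* `alt_lemma`: `a`, `b` commuting involutions, such that for all `i`, `j` in `T` moved by `a`, in different
  orbits, conjugation of `b` by `(i j)(a i a j)` gives `b` or `a b`; then `b` acts as `1` or as `a`.
* `exists_four_in`: the root four-group centralised by an involution.
-/

set_option autoImplicit false
set_option linter.unusedSectionVars false

namespace Cfsg.Agent.UAlt.PermPK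

open Equiv Equiv.Perm Subgroup
open Cfsg.Agent.StdAlt.Roots (IsRoot)
open Cfsg.Agent.StdAlt.PermTypes (app_app)

variable {α : Type*} [Fintype α] [DecidableEq α]

/-- the permutation exchanging the 2-cycles at `i` and `j` -/
def tau (a : Perm α) (i j : α) : Perm α := swap i j * swap (a i) (a j)

theorem tau_of_ne {a : Perm α} {i j p : α} (h1 : p ≠ i) (h2 : p ≠ j) (h3 : p ≠ a i) (h4 : p ≠ a j) :
    tau a i j p = p := by
  rw [tau, Perm.mul_apply, swap_apply_of_ne_of_ne h3 h4, swap_apply_of_ne_of_ne h1 h2]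

section

variable {a : Perm α} (haa : ∀ x, a (a x) = x) {i j : α} (hi : a i ≠ i) (hj : a j ≠ j) (h1 : j ≠ i) (h2 : j ≠ a i)

include haa hi hj h1 h2

theorem ne_aux : a j ≠ i ∧ a j ≠ a i := by
  refine ⟨fun h => h2 ?_, fun h => h1 (a.injective h)⟩
  rw [← h, haa]

theorem tau_i : tau a i j i = j := by
  obtain ⟨h3, h4⟩ := ne_aux haa hi hj h1 h2
  rw [tau, Perm.mul_apply, swap_apply_of_ne_of_ne (Ne.symm hi) (Ne.symm h3), swap_apply_left]

theorem tau_j : tau a i j j = i := by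
  rw [tau, Perm.mul_apply, swap_apply_of_ne_of_ne h2 (Ne.symm hj), swap_apply_right]

theorem tau_ai : tau a i j (a i) = a j := by
  obtain ⟨h3, h4⟩ := ne_aux haa hi hj h1 h2
  rw [tau, Perm.mul_apply, swap_apply_left, swap_apply_of_ne_of_ne h3 hj]

theorem tau_aj : tau a i j (a j) = a i := by
  obtain ⟨h3, h4⟩ := ne_aux haa hi hj h1 h2
  rw [tau, Perm.mul_apply, swap_apply_right, swap_apply_of_ne_of_ne hi (Ne.symm h2)]

theorem tau_sq : tau a i j * tau a i j = 1 := by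
  ext p
  rw [Perm.mul_apply, Perm.one_apply]
  by_cases p1 : p = i
  · subst p1; rw [tau_i haa hi hj h1 h2, tau_j haa hi hj h1 h2]
  by_cases p2 : p = j
  · subst p2; rw [tau_j haa hi hj h1 h2, tau_i haa hi hj h1 h2]
  by_cases p3 : p = a i
  · subst p3; rw [tau_ai haa hi hj h1 h2, tau_aj haa hi hj h1 h2]
  by_cases p4 : p = a j
  · subst p4; rw [tau_aj haa hi hj h1 h2, tau_ai haa hi hj h1 h2]
  rw [tau_of_ne p1 p2 p3 p4, tau_of_ne p1 p2 p3 p4]

theorem tau_comm : tau a i j * a = a * tau a i j := by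
  ext p
  rw [Perm.mul_apply, Perm.mul_apply]
  by_cases p1 : p = i
  · subst p1; rw [tau_i haa hi hj h1 h2, tau_ai haa hi hj h1 h2]
  by_cases p2 : p = j
  · subst p2; rw [tau_j haa hi hj h1 h2, tau_aj haa hi hj h1 h2]
  by_cases p3 : p = a i
  · subst p3; rw [tau_ai haa hi hj h1 h2, haa, haa, tau_i haa hi hj h1 h2]
  by_cases p4 : p = a j
  · subst p4; rw [tau_aj haa hi hj h1 h2, haa, haa, tau_j haa hi hj h1 h2]
  rw [tau_of_ne p1 p2 p3 p4, tau_of_ne]
  · intro h; exact p3 (by rw [← h, haa])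
  · intro h; exact p4 (by rw [← h, haa])
  · intro h; exact p1 (a.injective h)
  · intro h; exact p2 (a.injective h)

theorem tau_mem_alt {T : Finset α} (hT : ∀ x, x ∈ T → a x ∈ T) (iT : i ∈ T) (jT : j ∈ T) :
    tau a i j ∈ alt T := by
  obtain ⟨h3, h4⟩ := ne_aux haa hi hj h1 h2
  refine ⟨StdAlt.PermTypes.swap_mul_mem (Ne.symm h1) (Ne.symm h4), fun x hx => ?_⟩
  apply tau_of_ne
  · rintro rfl; exact hx iT
  · rintro rfl; exact hx jT
  · rintro rfl; exact hx (hT _ iT)
  · rintro rfl; exact hx (hT _ jT)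

end

/-- a third 2-cycle of `a` -/
theorem exists_third {a : Perm α} {T : Finset α} (h5 : 5 ≤ (T.filter fun x => a x ≠ x).card) (x y z w : α) :
    ∃ l ∈ T, a l ≠ l ∧ l ≠ x ∧ l ≠ y ∧ l ≠ z ∧ l ≠ w := by
  by_contra hcon
  push Not at hcon
  have h1 : (T.filter fun x => a x ≠ x) ⊆ {x, y, z, w} := by
    intro l hl
    rw [Finset.mem_filter] at hl
    simp only [Finset.mem_insert, Finset.mem_singleton]
    by_contra hn
    push Not at hn
    exact hn.2.2.2 (hcon l hl.1 hl.2 hn.1 hn.2.1 hn.2.2.1)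
  have h2 := Finset.card_le_card h1
  have h3 : ({x, y, z, w} : Finset α).card ≤ 4 := Finset.card_le_four
  omega

/-- **the permutation lemma** -/
theorem alt_lemma {a b : Perm α} {T : Finset α} (haa : ∀ x, a (a x) = x) (hab : a * b = b * a)
    (hbb : ∀ x, b (b x) = x) (haT : ∀ x, x ∈ T → a x ∈ T) (hbT : ∀ x, x ∈ T → b x ∈ T)
    (h5 : 5 ≤ (T.filter fun x => a x ≠ x).card)
    (h : ∀ i j, i ∈ T → j ∈ T → a i ≠ i → a j ≠ j → j ≠ i → j ≠ a i →
      (∀ p ∈ T, a p ≠ p → tau a i j (b (tau a i j p)) = b p) ∨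
      (∀ p ∈ T, a p ≠ p → tau a i j (b (tau a i j p)) = a (b p))) :
    (∀ p ∈ T, a p ≠ p → b p = p) ∨ (∀ p ∈ T, a p ≠ p → b p = a p) := by
  have hc : ∀ x, a (b x) = b (a x) := fun x => by rw [← Perm.mul_apply, hab, Perm.mul_apply]
  have hbm : ∀ x, a x ≠ x → a (b x) ≠ b x := by
    intro x hx h1
    rw [hc] at h1
    exact hx (b.injective h1)
  -- `b` preserves the 2-cycles of `a`
  have hblk : ∀ p ∈ T, a p ≠ p → b p = p ∨ b p = a p := by
    intro p pT hp
    by_contra hcon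
    push Not at hcon
    obtain ⟨n1, n2⟩ := hcon
    obtain ⟨i, iT, hi, i1, i2, i3, i4⟩ := exists_third h5 p (a p) (b p) (a (b p))
    have hbp := hbm p hp
    have hne := ne_aux haa hbp hi i3 i4
    have h6 : tau a (b p) i p = p := by
      apply tau_of_ne (Ne.symm n1) (Ne.symm i1)
      · intro h7
        have h8 := congrArg a h7
        rw [haa] at h8
        exact n2 h8.symm
      · intro h7
        have h8 := congrArg a h7
        rw [haa] at h8
        exact i2 h8.symm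
    have h7 : tau a (b p) i (b (tau a (b p) i p)) = i := by
      rw [h6, tau_i haa hbp hi i3 i4]
    rcases h (b p) i (hbT p pT) iT hbp hi i3 i4 with h8 | h8
    · have h9 := h8 p pT hp
      rw [h7] at h9
      exact i3 h9
    · have h9 := h8 p pT hp
      rw [h7] at h9
      exact i4 h9
  by_contra hcon
  push Not at hcon
  obtain ⟨⟨q, qT, hq, hbq⟩, ⟨p, pT, hp, hbp⟩⟩ := hcon
  have hbq' : b q = a q := (hblk q qT hq).resolve_left hbq
  have hbp' : b p = p := (hblk p pT hp).resolve_right hbp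
  have hqp : q ≠ p := by
    rintro rfl
    exact hbq hbp'
  have hqap : q ≠ a p := by
    rintro rfl
    apply hbq
    rw [← hc, hbp']
  obtain ⟨l, lT, hl, l1, l2, l3, l4⟩ := exists_third h5 p (a p) q (a q)
  have hfix : ∀ y, y ≠ p → y ≠ a p → y ≠ q → y ≠ a q → tau a p q y = y :=
    fun y h1 h2 h3 h4 => tau_of_ne h1 h3 h2 h4
  have hlb : tau a p q (b (tau a p q l)) = b l := by
    rw [hfix l l1 l2 l3 l4]
    rcases hblk l lT hl with h6 | h6
    · rw [h6, hfix l l1 l2 l3 l4]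
    · rw [h6]
      apply hfix
      · intro h7
        have h8 := congrArg a h7
        rw [haa] at h8
        exact l2 h8
      · intro h7; exact l1 (a.injective h7)
      · intro h7
        have h8 := congrArg a h7
        rw [haa] at h8
        exact l4 h8
      · intro h7; exact l3 (a.injective h7)
  have hpb : tau a p q (b (tau a p q p)) = a p := by
    rw [tau_i haa hp hq hqp hqap, hbq', tau_aj haa hp hq hqp hqap]
  rcases h p q pT qT hp hq hqp hqap with h8 | h8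
  · have h9 := h8 p pT hp
    rw [hpb, hbp'] at h9
    exact hp h9
  · have h9 := h8 l lT hl
    rw [hlb] at h9
    exact hbm l hl h9.symm

/-- `g` commutes with the even products of two 2-cycles of `a`: it preserves the 2-cycles of `a` -/
theorem blk_lemma {a g : Perm α} {T : Finset α} (haa : ∀ x, a (a x) = x)
    (h5 : 5 ≤ (T.filter fun x => a x ≠ x).card) (hga : g * a = a * g)
    (h : ∀ i j, i ∈ T → j ∈ T → a i ≠ i → a j ≠ j → j ≠ i → j ≠ a i →
      g * (swap i (a i) * swap j (a j)) = (swap i (a i) * swap j (a j)) * g) :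
    ∀ i ∈ T, a i ≠ i → g i = i ∨ g i = a i := by
  intro i iT hi
  by_contra hcon
  push Not at hcon
  obtain ⟨n1, n2⟩ := hcon
  -- `g i` lies in `{j, a j}` for every `j`
  have hc : ∀ x, g (a x) = a (g x) := fun x => by rw [← Perm.mul_apply, hga, Perm.mul_apply]
  have key : ∀ j, j ∈ T → a j ≠ j → j ≠ i → j ≠ a i → g i = j ∨ g i = a j := by
    intro j jT hj h1 h2
    by_contra hn
    push Not at hn
    have h3 := congrArg (fun f : Perm α => f i) (h i j iT jT hi hj h1 h2)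
    simp only [Perm.mul_apply] at h3
    obtain ⟨m1, m2⟩ := ne_aux haa hi hj h1 h2
    rw [swap_apply_of_ne_of_ne (Ne.symm h1) (Ne.symm m1), swap_apply_left,
      swap_apply_of_ne_of_ne hn.1 hn.2, swap_apply_of_ne_of_ne n1 n2] at h3
    exact hi (g.injective h3)
  obtain ⟨j, jT, hj, j1, j2, -, -⟩ := exists_third h5 i (a i) i (a i)
  obtain ⟨l, lT, hl, l1, l2, l3, l4⟩ := exists_third h5 i (a i) j (a j)
  obtain ⟨m1, m2⟩ := ne_aux haa hj hl l3 l4
  rcases key j jT hj j1 j2 with h6 | h6 <;> rcases key l lT hl l1 l2 with h7 | h7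
  · exact l3 (h7.symm.trans h6)
  · exact m1 (h7.symm.trans h6)
  · exact l4 (h7.symm.trans h6)
  · exact m2 (h7.symm.trans h6)

/-- an element of odd order preserving the 2-cycles of `a` fixes the points moved by `a` -/
theorem odd_lemma {a g : Perm α} {T : Finset α} (haa : ∀ x, a (a x) = x) (haT : ∀ x, x ∈ T → a x ∈ T)
    (hga : g * a = a * g) {n : ℕ} (hn : Odd n) (hgn : g ^ n = 1)
    (h : ∀ i ∈ T, a i ≠ i → g i = i ∨ g i = a i) : ∀ i ∈ T, a i ≠ i → g i = i := by
  intro i iT hi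
  refine (h i iT hi).resolve_right fun h1 => ?_
  have h2 : g (a i) = i := by
    rw [← Perm.mul_apply, hga, Perm.mul_apply, h1, haa]
  have h3 : ∀ k : ℕ, (g ^ (2 * k)) i = i := by
    intro k
    induction k with
    | zero => rw [mul_zero, pow_zero]; rfl
    | succ k ih =>
      rw [show 2 * (k + 1) = 2 * k + 1 + 1 by ring, pow_succ, pow_succ, Perm.mul_apply,
        Perm.mul_apply, h1, h2, ih]
  obtain ⟨k, rfl⟩ := hn
  have h4 := congrArg (fun f : Perm α => f i) hgn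
  simp only [Perm.one_apply] at h4
  rw [pow_succ', Perm.mul_apply, h3, h1] at h4
  exact hi h4

theorem ofSubtype_swap_coe {S : Finset α} (x y : S) :
    (ofSubtype (swap x y) : Perm α) = swap (x : α) y := ofSubtype_swap_eq x y

/-- a permutation of `S` of order at most two commutes with a root four-group of `alt S` -/
theorem exists_four_in {S : Finset α} (h6 : 6 ≤ S.card) {σ : Perm α} (hS : σ ∈ sym S) (hσ : σ * σ = 1) :
    ∃ x y z w : α, x ∈ S ∧ y ∈ S ∧ z ∈ S ∧ w ∈ S ∧ x ≠ y ∧ x ≠ z ∧ x ≠ w ∧ y ≠ z ∧ y ≠ w ∧ z ≠ w ∧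
      σ * (swap x y * swap z w) = (swap x y * swap z w) * σ ∧
      σ * (swap x z * swap y w) = (swap x z * swap y w) * σ := by
  obtain ⟨τ, hτ⟩ := (symEquiv S).surjective ⟨σ, hS⟩
  have h1 : σ = ofSubtype τ := by rw [← symEquiv_coe, hτ]
  have hτ2 : τ * τ = 1 := by
    apply (symEquiv S).injective
    rw [map_mul, hτ, map_one]
    exact Subtype.ext hσ
  obtain ⟨x, y, z, w, n1, n2, n3, n4, n5, n6, e1, e2⟩ :=
    StdAlt.Closing.exists_four (by rw [Fintype.card_coe]; exact h6) hτ2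
  have key : ∀ {a b c d : S}, τ * (swap a b * swap c d) = (swap a b * swap c d) * τ →
      σ * (swap (a : α) b * swap (c : α) d) = (swap (a : α) b * swap (c : α) d) * σ := by
    intro a b c d h
    have h2 := congrArg (ofSubtype (p := fun x => x ∈ S)) h
    rw [map_mul, map_mul, map_mul, map_mul, ofSubtype_swap_coe, ofSubtype_swap_coe, ← h1] at h2
    exact h2
  exact ⟨x, y, z, w, x.2, y.2, z.2, w.2, fun h => n1 (Subtype.ext h), fun h => n2 (Subtype.ext h),
    fun h => n3 (Subtype.ext h), fun h => n4 (Subtype.ext h), fun h => n5 (Subtype.ext h),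
    fun h => n6 (Subtype.ext h), key e1, key e2⟩

theorem isRoot_ofSubtype {S : Finset α} {τ : Perm S} (h : IsRoot (ofSubtype τ : Perm α)) : IsRoot τ := by
  refine ⟨ofSubtype_injective (by rw [map_mul, map_one]; exact h.1), ?_⟩
  have h2 := h.2
  rw [support_ofSubtype, Finset.card_map] at h2
  convert h2

/-- roots of `alt S` are conjugate in `alt S` -/
theorem exists_conj_in {S : Finset α} (h6 : 6 ≤ S.card) {a b : Perm α} (ha : a ∈ alt S) (hb : b ∈ alt S)
    (ra : IsRoot a) (rb : IsRoot b) : ∃ c ∈ alt S, c * a * c⁻¹ = b := by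
  obtain ⟨a', ha'⟩ := (altEquiv S).surjective ⟨a, ha⟩
  obtain ⟨b', hb'⟩ := (altEquiv S).surjective ⟨b, hb⟩
  have h1 : a = ofSubtype (a' : Perm S) := by rw [← altEquiv_coe, ha']
  have h2 : b = ofSubtype (b' : Perm S) := by rw [← altEquiv_coe, hb']
  obtain ⟨c, hc⟩ := StdAlt.Closing.isConj_roots (by rw [Fintype.card_coe]; exact h6)
    (isRoot_ofSubtype (h1 ▸ ra)) (isRoot_ofSubtype (h2 ▸ rb))
  refine ⟨(altEquiv S c : alt S), (altEquiv S c).2, ?_⟩
  have h3 := congrArg (fun x => ((altEquiv S x : alt S) : Perm α)) hc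
  simp only [map_mul, map_inv, ha', hb'] at h3
  exact h3

/-- involutions of `alt F`, `|F| ≤ 7`, are roots -/
theorem isRoot_of_small {F : Finset α} (h7 : F.card ≤ 7) {σ : Perm α} (hF : σ ∈ alt F) (hσ : σ * σ = 1)
    (h1 : σ ≠ 1) : IsRoot σ := by
  refine ⟨hσ, ?_⟩
  have h2 : σ ^ 2 = 1 := by rw [pow_two]; exact hσ
  have h3 : ∀ c ∈ σ.cycleType, c = 2 := pow_prime_eq_one_iff.mp h2
  have h4 : σ.cycleType = Multiset.replicate (Multiset.card σ.cycleType) 2 :=
    Multiset.eq_replicate_card.mpr h3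
  have h5 := sum_cycleType σ
  rw [h4, Multiset.sum_replicate, smul_eq_mul] at h5
  have h6 : σ.support.card ≤ F.card := by
    apply Finset.card_le_card
    intro x hx
    by_contra hxF
    exact (mem_support.mp hx) (hF.2 x hxF)
  have h8 := sign_of_cycleType σ
  rw [mem_alternatingGroup.mp hF.1, h4, Multiset.sum_replicate, smul_eq_mul, Multiset.card_replicate] at h8
  have h9 : Multiset.card σ.cycleType ≠ 0 := by
    intro h0
    apply h1
    rw [← cycleType_eq_zero]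
    exact Multiset.card_eq_zero.mp h0
  set k := Multiset.card σ.cycleType with hk
  have hk3 : k ≤ 3 := by omega
  interval_cases k
  · exact absurd rfl h9
  · norm_num at h8
  · omega
  · norm_num at h8

/-- conjugates of `(x z)(y w)` under the centralizer of `(x y)(z w)` -/
theorem conj_four {x y z w : α} (n1 : x ≠ y) (n2 : x ≠ z) (n3 : x ≠ w) (n4 : y ≠ z) (n5 : y ≠ w) (n6 : z ≠ w)
    {g : Perm α} (hg : g * (swap x y * swap z w) = (swap x y * swap z w) * g) :
    g * (swap x z * swap y w) * g⁻¹ = swap x z * swap y w ∨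
    g * (swap x z * swap y w) * g⁻¹ = (swap x y * swap z w) * (swap x z * swap y w) := by
  set A := swap x y * swap z w with hA
  have ax : A x = y := by rw [hA, Perm.mul_apply, swap_apply_of_ne_of_ne n2 n3, swap_apply_left]
  have ay : A y = x := by rw [hA, Perm.mul_apply, swap_apply_of_ne_of_ne n4 n5, swap_apply_right]
  have az : A z = w := by
    rw [hA, Perm.mul_apply, swap_apply_left, swap_apply_of_ne_of_ne (Ne.symm n3) (Ne.symm n5)]
  have aw : A w = z := by
    rw [hA, Perm.mul_apply, swap_apply_right, swap_apply_of_ne_of_ne (Ne.symm n2) (Ne.symm n4)]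
  have ao : ∀ p, p ≠ x → p ≠ y → p ≠ z → p ≠ w → A p = p := by
    intro p p1 p2 p3 p4
    rw [hA, Perm.mul_apply, swap_apply_of_ne_of_ne p3 p4, swap_apply_of_ne_of_ne p1 p2]
  set C := swap x z * swap y w with hC
  have cx : C x = z := by rw [hC, Perm.mul_apply, swap_apply_of_ne_of_ne n1 n3, swap_apply_left]
  have cz : C z = x := by
    rw [hC, Perm.mul_apply, swap_apply_of_ne_of_ne (Ne.symm n4) n6, swap_apply_right]
  have cy : C y = w := by
    rw [hC, Perm.mul_apply, swap_apply_left, swap_apply_of_ne_of_ne (Ne.symm n3) (Ne.symm n6)]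
  have cw : C w = y := by
    rw [hC, Perm.mul_apply, swap_apply_right, swap_apply_of_ne_of_ne (Ne.symm n1) n4]
  have co : ∀ p, p ≠ x → p ≠ y → p ≠ z → p ≠ w → C p = p := by
    intro p p1 p2 p3 p4
    rw [hC, Perm.mul_apply, swap_apply_of_ne_of_ne p2 p4, swap_apply_of_ne_of_ne p1 p3]
  have hgA : ∀ p, g (A p) = A (g p) := fun p => by rw [← Perm.mul_apply, hg, Perm.mul_apply]
  have hcl : ∀ p, A p ≠ p → g p = x ∨ g p = y ∨ g p = z ∨ g p = w := by
    intro p hp
    by_contra hcon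
    push Not at hcon
    have h1 := ao _ hcon.1 hcon.2.1 hcon.2.2.1 hcon.2.2.2
    rw [← hgA] at h1
    exact hp (g.injective h1)
  have hx := hcl x (by rw [ax]; exact Ne.symm n1)
  have hz := hcl z (by rw [az]; exact Ne.symm n6)
  have hy : g y = A (g x) := by rw [← hgA, ax]
  have hw : g w = A (g z) := by rw [← hgA, az]
  have i1 : g x ≠ g z := fun h => n2 (g.injective h)
  have i2 : g y ≠ g z := fun h => n4 (g.injective h)
  -- equality of permutations through their values at the images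
  have hout : ∀ p, p ≠ g x → p ≠ g y → p ≠ g z → p ≠ g w → (g * C * g⁻¹) p = p := by
    intro p p1 p2 p3 p4
    rw [Perm.mul_apply, Perm.mul_apply, co]
    · simp
    all_goals
      intro h
      have h' : p = g (g⁻¹ p) := by simp
      rw [h] at h'
      first
        | exact p1 h'
        | exact p2 h'
        | exact p3 h'
        | exact p4 h'
  have v1 : (g * C * g⁻¹) (g x) = g z := by simp [Perm.mul_apply, cx]
  have v2 : (g * C * g⁻¹) (g y) = g w := by simp [Perm.mul_apply, cy]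
  have v3 : (g * C * g⁻¹) (g z) = g x := by simp [Perm.mul_apply, cz]
  have v4 : (g * C * g⁻¹) (g w) = g y := by simp [Perm.mul_apply, cw]
  have hext : ∀ D : Perm α, D (g x) = g z → D (g y) = g w → D (g z) = g x → D (g w) = g y →
      (∀ p, p ≠ g x → p ≠ g y → p ≠ g z → p ≠ g w → D p = p) → g * C * g⁻¹ = D := by
    intro D d1 d2 d3 d4 d5
    ext p
    by_cases p1 : p = g x
    · rw [p1, v1, d1]
    by_cases p2 : p = g y
    · rw [p2, v2, d2]
    by_cases p3 : p = g z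
    · rw [p3, v3, d3]
    by_cases p4 : p = g w
    · rw [p4, v4, d4]
    rw [hout p p1 p2 p3 p4, d5 p p1 p2 p3 p4]
  have fin : ∀ X Y Z W : α, g x = X → g y = Y → g z = Z → g w = W →
      ((X = x ∧ Y = y ∧ Z = z ∧ W = w) ∨ (X = y ∧ Y = x ∧ Z = w ∧ W = z) ∨
        (X = z ∧ Y = w ∧ Z = x ∧ W = y) ∨ (X = w ∧ Y = z ∧ Z = y ∧ W = x)) ∨
      ((X = x ∧ Y = y ∧ Z = w ∧ W = z) ∨ (X = y ∧ Y = x ∧ Z = z ∧ W = w) ∨
        (X = z ∧ Y = w ∧ Z = y ∧ W = x) ∨ (X = w ∧ Y = z ∧ Z = x ∧ W = y)) →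
      g * C * g⁻¹ = C ∨ g * C * g⁻¹ = A * C := by
    intro X Y Z W e1 e2 e3 e4 h
    rw [e1, e2, e3, e4] at hext
    rcases h with h | h
    · left
      apply hext C
      · rcases h with ⟨rfl, rfl, rfl, rfl⟩ | ⟨rfl, rfl, rfl, rfl⟩ | ⟨rfl, rfl, rfl, rfl⟩ | ⟨rfl, rfl, rfl, rfl⟩ <;>
          assumption
      · rcases h with ⟨rfl, rfl, rfl, rfl⟩ | ⟨rfl, rfl, rfl, rfl⟩ | ⟨rfl, rfl, rfl, rfl⟩ | ⟨rfl, rfl, rfl, rfl⟩ <;>
          assumption
      · rcases h with ⟨rfl, rfl, rfl, rfl⟩ | ⟨rfl, rfl, rfl, rfl⟩ | ⟨rfl, rfl, rfl, rfl⟩ | ⟨rfl, rfl, rfl, rfl⟩ <;>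
          assumption
      · rcases h with ⟨rfl, rfl, rfl, rfl⟩ | ⟨rfl, rfl, rfl, rfl⟩ | ⟨rfl, rfl, rfl, rfl⟩ | ⟨rfl, rfl, rfl, rfl⟩ <;>
          assumption
      · intro p p1 p2 p3 p4
        rcases h with ⟨rfl, rfl, rfl, rfl⟩ | ⟨rfl, rfl, rfl, rfl⟩ | ⟨rfl, rfl, rfl, rfl⟩ | ⟨rfl, rfl, rfl, rfl⟩ <;>
          exact co p (by assumption) (by assumption) (by assumption) (by assumption)
    · right
      apply hext (A * C)
      · rw [Perm.mul_apply]
        rcases h with ⟨rfl, rfl, rfl, rfl⟩ | ⟨rfl, rfl, rfl, rfl⟩ | ⟨rfl, rfl, rfl, rfl⟩ | ⟨rfl, rfl, rfl, rfl⟩ <;>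
          first | rw [cx, az] | rw [cy, aw] | rw [cz, ax] | rw [cw, ay]
      · rw [Perm.mul_apply]
        rcases h with ⟨rfl, rfl, rfl, rfl⟩ | ⟨rfl, rfl, rfl, rfl⟩ | ⟨rfl, rfl, rfl, rfl⟩ | ⟨rfl, rfl, rfl, rfl⟩ <;>
          first | rw [cx, az] | rw [cy, aw] | rw [cz, ax] | rw [cw, ay]
      · rw [Perm.mul_apply]
        rcases h with ⟨rfl, rfl, rfl, rfl⟩ | ⟨rfl, rfl, rfl, rfl⟩ | ⟨rfl, rfl, rfl, rfl⟩ | ⟨rfl, rfl, rfl, rfl⟩ <;>
          first | rw [cx, az] | rw [cy, aw] | rw [cz, ax] | rw [cw, ay]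
      · rw [Perm.mul_apply]
        rcases h with ⟨rfl, rfl, rfl, rfl⟩ | ⟨rfl, rfl, rfl, rfl⟩ | ⟨rfl, rfl, rfl, rfl⟩ | ⟨rfl, rfl, rfl, rfl⟩ <;>
          first | rw [cx, az] | rw [cy, aw] | rw [cz, ax] | rw [cw, ay]
      · intro p p1 p2 p3 p4
        rw [Perm.mul_apply]
        rcases h with ⟨rfl, rfl, rfl, rfl⟩ | ⟨rfl, rfl, rfl, rfl⟩ | ⟨rfl, rfl, rfl, rfl⟩ | ⟨rfl, rfl, rfl, rfl⟩ <;>
          rw [co p (by assumption) (by assumption) (by assumption) (by assumption),
            ao p (by assumption) (by assumption) (by assumption) (by assumption)]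
  rcases hx with hx | hx | hx | hx
  · have hy' : g y = y := by rw [hy, hx, ax]
    rcases hz with hz | hz | hz | hz
    · exact absurd (hx.trans hz.symm) i1
    · exact absurd (hy'.trans hz.symm) i2
    · exact fin _ _ _ _ hx hy' hz (by rw [hw, hz, az]) (Or.inl (Or.inl ⟨rfl, rfl, rfl, rfl⟩))
    · exact fin _ _ _ _ hx hy' hz (by rw [hw, hz, aw]) (Or.inr (Or.inl ⟨rfl, rfl, rfl, rfl⟩))
  · have hy' : g y = x := by rw [hy, hx, ay]
    rcases hz with hz | hz | hz | hz
    · exact absurd (hy'.trans hz.symm) i2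
    · exact absurd (hx.trans hz.symm) i1
    · exact fin _ _ _ _ hx hy' hz (by rw [hw, hz, az]) (Or.inr (Or.inr (Or.inl ⟨rfl, rfl, rfl, rfl⟩)))
    · exact fin _ _ _ _ hx hy' hz (by rw [hw, hz, aw]) (Or.inl (Or.inr (Or.inl ⟨rfl, rfl, rfl, rfl⟩)))
  · have hy' : g y = w := by rw [hy, hx, az]
    rcases hz with hz | hz | hz | hz
    · exact fin _ _ _ _ hx hy' hz (by rw [hw, hz, ax]) (Or.inl (Or.inr (Or.inr (Or.inl ⟨rfl, rfl, rfl, rfl⟩))))
    · exact fin _ _ _ _ hx hy' hz (by rw [hw, hz, ay]) (Or.inr (Or.inr (Or.inr (Or.inl ⟨rfl, rfl, rfl, rfl⟩))))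
    · exact absurd (hx.trans hz.symm) i1
    · exact absurd (hy'.trans hz.symm) i2
  · have hy' : g y = z := by rw [hy, hx, aw]
    rcases hz with hz | hz | hz | hz
    · exact fin _ _ _ _ hx hy' hz (by rw [hw, hz, ax]) (Or.inr (Or.inr (Or.inr (Or.inr ⟨rfl, rfl, rfl, rfl⟩))))
    · exact fin _ _ _ _ hx hy' hz (by rw [hw, hz, ay]) (Or.inl (Or.inr (Or.inr (Or.inr ⟨rfl, rfl, rfl, rfl⟩))))
    · exact absurd (hy'.trans hz.symm) i2
    · exact absurd (hx.trans hz.symm) i1

end Cfsg.Agent.UAlt.PermPK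

private theorem dce_c59ea264a237 : _root_.True := by
  try have : _root_.True := by simp only [_root_.Cfsg.Agent.UAlt.PermPK.tau.eq_1]
  exact _root_.True.intro
end

-- part: UGT/Q2/DiagConj
section
set_option linter.all false
open scoped Cfsg.Agent.FastGrp

/-!
# N5, `|Q| = 2`: an involution moving a 2-component is conjugate to its product with a diagonal involution

`K` a 2-component of `H` with `Z(K / O(K)) = 1`, `a`, `b` commuting involutions of `H`, `a` moves `K`, `a b` lies in the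
diagonal 2-component `diag H K a` of `C_H(a)`: then `a` and `b` are conjugate in `H`.
-/

set_option autoImplicit false

open Cfsg Subgroup
open Cfsg.Agent.SignalizersComponents Cfsg.Agent.Lib
open Cfsg.Agent.SignalizersComponents.IntrinsicBasic
open Cfsg.Agent.SignalizersComponents.IntrinsicIntr
open Cfsg.Agent.SignalizersComponents.PLayerAut
open Cfsg.Agent.Intrinsic.Basic Cfsg.Agent.Intrinsic.Cen Cfsg.Agent.Intrinsic.Diag
open scoped commutatorElement

namespace Cfsg.Agent.UGT.Q2.DiagConj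

variable {G : Type*} [Group G] [Finite G]

/-- Involutions congruent modulo a subgroup of odd order are conjugate under it. -/
theorem conj_of_odd {N : Subgroup G} (hN : Odd (Nat.card N)) {a b : G} (ha : a * a = 1) (hb : b * b = 1)
    (h : a * b ∈ N) : ∃ h ∈ N, h * a * h⁻¹ = b := by
  have hodd : Odd (orderOf (a * b)) := by
    have h1 : orderOf (⟨a * b, h⟩ : N) ∣ Nat.card N := orderOf_dvd_natCard _
    rw [Subgroup.orderOf_mk] at h1
    exact Odd.of_dvd_nat hN h1
  obtain ⟨m, hm⟩ := hodd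
  have hbi : b⁻¹ = b := inv_eq_of_mul_eq_one_left hb
  have hai : a⁻¹ = a := inv_eq_of_mul_eq_one_left ha
  set d := a * b with hd
  have hbd : b * d * b⁻¹ = d⁻¹ := by
    rw [hd, mul_inv_rev, hbi, hai]
    calc b * (a * b) * b = b * a * (b * b) := by group
      _ = b * a := by rw [hb, mul_one]
  have hdd : d ^ (m + 1) * d ^ (m + 1) = d := by
    rw [← pow_add, show m + 1 + (m + 1) = (2 * m + 1) + 1 by ring, pow_succ, ← hm, pow_orderOf_eq_one, one_mul]
  have hbp : b * d ^ (m + 1) * b⁻¹ = (d ^ (m + 1))⁻¹ := by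
    rw [← conj_pow, hbd, inv_pow]
  have ha' : a = d * b := by rw [hd, mul_assoc, hb, mul_one]
  refine ⟨(d ^ (m + 1))⁻¹, N.inv_mem (N.pow_mem h _), ?_⟩
  rw [inv_inv]
  calc (d ^ (m + 1))⁻¹ * a * d ^ (m + 1) = (d ^ (m + 1))⁻¹ * (d * b) * d ^ (m + 1) := by rw [← ha']
    _ = (d ^ (m + 1))⁻¹ * d * (b * d ^ (m + 1) * b⁻¹) * b := by group
    _ = (d ^ (m + 1))⁻¹ * (d ^ (m + 1) * d ^ (m + 1)) * (d ^ (m + 1))⁻¹ * b := by rw [hbp, hdd]
    _ = b := by group

/-- **The lemma.** -/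
theorem exists_conj {H K : Subgroup G} {a b : G} (hK : IsComp H K) (hcen : center (↥K ⧸ oddCore ↥K) = ⊥)
    (haH : a ∈ H) (hbH : b ∈ H) (ha : a * a = 1) (hb : b * b = 1) (hne : cj a K ≠ K)
    (hz : a * b ∈ diag H K a) : ∃ h ∈ H, h * a * h⁻¹ = b := by
  obtain ⟨h1, h2, -, -, f, -, hker, hf, -⟩ := exists_diag hK haH ha hne
  obtain ⟨k, hk, hkz⟩ := h2 _ hz
  have hai : a⁻¹ = a := inv_eq_of_mul_eq_one_left ha
  have hbi : b⁻¹ = b := inv_eq_of_mul_eq_one_left hb
  -- `a` commutes with `z = a b`, hence with `b`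
  have haz : (a * b) * a = a * (a * b) := mem_centralizer_singleton_iff.mp (h1.le hz).2
  have hab : b * a = a * b := by
    have : a * (b * a) = a * (a * b) := by rw [← mul_assoc]; exact haz
    exact mul_left_cancel this
  have hzz : (a * b) * (a * b) = 1 := by
    calc (a * b) * (a * b) = a * (b * a) * b := by group
      _ = (a * a) * (b * b) := by rw [hab]; group
      _ = 1 := by rw [ha, hb, one_mul]
  -- `k²` lies in the core
  have hkk : k * k ∈ core H := by
    apply hK.core_le_core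
    rw [mem_core_iff (K.mul_mem hk hk)]
    have e1 : f (QuotientGroup.mk' (oddCore ↥K) ⟨k, hk⟩) =
        QuotientGroup.mk' (oddCore ↥(diag H K a)) ⟨a * b, hz⟩ := hf ⟨k, hk⟩ ⟨a * b, hz⟩ hkz
    have e2 : f (QuotientGroup.mk' (oddCore ↥K) (⟨k, hk⟩ * ⟨k, hk⟩)) = 1 := by
      rw [map_mul, map_mul, e1, ← map_mul]
      have : (⟨a * b, hz⟩ : ↥(diag H K a)) * ⟨a * b, hz⟩ = 1 := Subtype.ext hzz
      rw [this, map_one]
    have e3 := hker (MonoidHom.mem_ker.mpr e2)
    rw [hcen, mem_bot] at e3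
    have e4 : (⟨k, hk⟩ * ⟨k, hk⟩ : ↥K) ∈ oddCore ↥K := by
      rw [← QuotientGroup.eq_one_iff]
      exact e3
    exact e4
  -- conjugation by `k`
  have hkH : k ∈ H := hK.le hk
  have hkaH : a * k * a⁻¹ ∈ H := H.mul_mem (H.mul_mem haH hkH) (H.inv_mem haH)
  have hak : a * (k * k) * a⁻¹ ∈ core H := conj_mem_core (le_normalizer haH) hkk
  have hkey : (k * a * k⁻¹) * b ∈ core H := by
    -- `k a k⁻¹ b = (k (a k a⁻¹)) ((a k a⁻¹)⁻¹ (a k a⁻¹)⁻¹) a b`
    have e1 : (k * a * k⁻¹) * b = (k * (a * k * a⁻¹)) * ((a * (k * k) * a⁻¹)⁻¹) * (a * b) := by group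
    have e2 : (a * b)⁻¹ = a * b := inv_eq_of_mul_eq_one_left hzz
    rw [e2] at hkz
    -- conjugate everything by `a b`
    have e3 : (k * (a * k * a⁻¹)) * ((a * (k * k) * a⁻¹)⁻¹) * (a * b) =
        (a * b)⁻¹ * ((a * b) * (k * (a * k * a⁻¹)) * ((a * (k * k) * a⁻¹)⁻¹)) * (a * b) := by group
    rw [e1, e3]
    have e4 : (a * b)⁻¹ ∈ H := H.inv_mem (H.mul_mem haH hbH)
    have e5 := conj_mem_core (le_normalizer e4) ((core H).mul_mem hkz ((core H).inv_mem hak))
    rwa [inv_inv] at e5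
  obtain ⟨o, ho, ho'⟩ := conj_of_odd (odd_card_core H) (a := k * a * k⁻¹) (b := b) (by
    calc k * a * k⁻¹ * (k * a * k⁻¹) = k * (a * a) * k⁻¹ := by group
      _ = 1 := by rw [ha]; group) hb hkey
  refine ⟨o * k, H.mul_mem (core_le H ho) hkH, ?_⟩
  rw [← ho']
  group

/-- The lemma in `C(y)`. -/
theorem exists_conj_centralizer {K : Subgroup G} {a b y : G} (hK : IsComp (centralizer ({y} : Set G)) K)
    (hcen : center (↥K ⧸ oddCore ↥K) = ⊥) (hay : a * y = y * a) (hby : b * y = y * b) (ha : a * a = 1)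
    (hb : b * b = 1) (hne : cj a K ≠ K) (hz : a * b ∈ diag (centralizer ({y} : Set G)) K a) :
    ∃ h : G, h * y = y * h ∧ h * a * h⁻¹ = b := by
  obtain ⟨h, hh, h1⟩ := exists_conj hK hcen (mem_centralizer_singleton_iff.mpr hay)
    (mem_centralizer_singleton_iff.mpr hby) ha hb hne hz
  exact ⟨h, mem_centralizer_singleton_iff.mp hh, h1⟩

end Cfsg.Agent.UGT.Q2.DiagConj
end

-- part: UAlt/CaseDTwo
section
prune_inst 0x4147031444d2212000018001240003e46fe000590006b8801d9400f42078eff63ad026721fce01f1209122264003a0068100000590070000024000600411901a080aa70c6b308a10425000f80f807580c00000000000000000000000000041000000000000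
set_option linter.all false
open scoped Cfsg.Agent.FastGrp

-- part: UAlt/CaseDMid
section
/-!
# Case D: the interface between (6.0)-(6.3) and (6.4), (6.5) of #8411
-/

set_option autoImplicit false

namespace Cfsg.Agent.UAlt.CaseD

open Cfsg Equiv Equiv.Perm Subgroup
open Cfsg.Agent.Intrinsic.Basic Cfsg.Agent.Intrinsic
open Cfsg.Agent.Intrinsic.Cen Cfsg.Agent.Intrinsic.Diag
open Cfsg.Agent.SignalizersComponents Cfsg.Agent.Lib
open Cfsg.Agent.SignalizersComponents.IntrinsicBasic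
open Cfsg.Agent.UGT.Triple Cfsg.Agent.UGT.LemG Cfsg.Agent.UGT.PumpGen
open scoped commutatorElement

variable {G : Type*} [Group G] [Finite G] {α : Type*} [Fintype α] [DecidableEq α]

/-- The output of (6.0)-(6.3): `v ∈ V`, `w ∈ V*`, `K_v`, `K_w` moved by `a`, `k k^a = v`. -/
structure Mid (Ω S T : Finset α) (a x v w k : G) (Kv Kw : Subgroup G) (MV : Mod Kv (Ω \ S))
    (MW : Mod Kw (Ω \ T)) : Prop where
  card : 11 ≤ Ω.card
  subS : S ⊆ Ω
  subT : T ⊆ Ω
  cardS : S.card = 4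
  cardT : T.card = 4
  disj : Disjoint S T
  inva : orderOf a = 2
  invv : orderOf v = 2
  invw : orderOf w = 2
  invk : orderOf k = 2
  ax : a * x = x * a
  av : a * v = v * a
  aw : a * w = w * a
  vw : v * w = w * v
  kx : k * x = x * k
  kw : k * w = w * k
  prod : k * (a * k * a⁻¹) = v
  kv : k * v = v * k
  compV : IsComp (centralizer ({v} : Set G)) Kv
  neV : cj a Kv ≠ Kv
  compW : IsComp (centralizer ({w} : Set G)) Kw
  neW : cj a Kw ≠ Kw
  triple : IsTriple x v Kv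
  fixk : Fixes k Kv
  fixk' : Fixes k (cj a Kv)
  kmem : k ∈ Kw
  klab : ∀ i ∈ Ω \ T, (MW.φ k i = i ↔ i ∉ S)
  wdiag : w ∈ diag (centralizer ({v} : Set G)) Kv a
  link : (∃ E, IsComp (centralizer ({v} : Set G) ⊓ centralizer ({w} : Set G)) E ∧ E ≤ Kv ∧ E ≤ Kw) ∨
    ∃ g ∈ cen (cj a Kw) k, g * v = v * g ∧ g ∈ normalizer (cj a Kv : Set G) ∧ ¬ Fixes g (cj a Kv)

/-- The restriction on the types of the triples that is used: a triple `(x, c, N)` such that `C_N(t)` has a
2-component of type `Alt(R)`, `|Ω| - 4 ≤ |R|`, is alternating of degree at most `|Ω|`. -/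
def Types (Ω : Finset α) (x : G) : Prop :=
  ∀ (c t : G) (N E : Subgroup G) (R : Finset α), IsTriple x c N → t * t = 1 →
    t ∈ normalizer (N : Set G) → IsComp (N ⊓ centralizer ({t} : Set G)) E → Nonempty (Mod E R) →
    Ω.card - 4 ≤ R.card → ∃ S' ⊆ Ω, Nonempty (Mod N S')

end Cfsg.Agent.UAlt.CaseD
end

-- part: UAlt/CaseDTwo
section
/-!
# Case D, second half ((6.4), (6.5) of #8411)

`Mid`: the output of (6.0)-(6.3).  `Mid.result`: there is a triple `(x, k', L')`, `k' = a k a⁻¹`, `L'` with labels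
`Alt(Ω)`, `k` a root of `L'`, such that the 2-component of `C_{L'}(k)` lies in a 2-component `K'` of `C(k)` with
`k'` trivial on `K' / O(K')`.
-/

set_option autoImplicit false
set_option linter.unusedSectionVars false

namespace Cfsg.Agent.UAlt.CaseD

open Cfsg Equiv Equiv.Perm Subgroup
open Cfsg.Agent.Intrinsic.Basic Cfsg.Agent.Intrinsic
open Cfsg.Agent.Intrinsic.Cen Cfsg.Agent.Intrinsic.Diag
open Cfsg.Agent.SignalizersComponents Cfsg.Agent.Lib
open Cfsg.Agent.SignalizersComponents.IntrinsicBasic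
open Cfsg.Agent.UGT.Triple Cfsg.Agent.UGT.LemG Cfsg.Agent.UGT.PumpGen
open scoped commutatorElement

/-! ### general lemmas -/

section gen

variable {G : Type*} [Group G] [Finite G]

/-- 2-elements of `N O(H)` lie in `N`, `N` normal in `H` -/
theorem mem_of_two_normal {H N : Subgroup G} (hNH : N ≤ H) (hN : (N.subgroupOf H).Normal)
    {w m : G} (hm : m ∈ N) (hw : m⁻¹ * w ∈ core H) {n : ℕ} (hn : w ^ 2 ^ n = 1) : w ∈ N := by
  have hmH := hNH hm
  have hcH := core_le H hw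
  have hwH : w ∈ H := by
    have := mul_mem hmH hcH
    rwa [mul_inv_cancel_left] at this
  set π := QuotientGroup.mk' (N.subgroupOf H) with hπ
  have h1 : π ⟨w, hwH⟩ = π ⟨m⁻¹ * w, hcH⟩ := by
    rw [hπ, QuotientGroup.mk'_apply, QuotientGroup.mk'_apply, QuotientGroup.eq]
    change w⁻¹ * (m⁻¹ * w) ∈ N
    have h2 : (⟨w, hwH⟩ : ↥H)⁻¹ * ⟨m, hmH⟩⁻¹ * (⟨w, hwH⟩ : ↥H)⁻¹⁻¹ ∈ N.subgroupOf H :=
      hN.conj_mem _ (inv_mem (show (⟨m, hmH⟩ : ↥H) ∈ N.subgroupOf H from hm)) _
    have h3 : w⁻¹ * m⁻¹ * w⁻¹⁻¹ ∈ N := h2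
    convert h3 using 1
    group
  have h2 : orderOf (π ⟨w, hwH⟩) ∣ 2 ^ n := by
    apply orderOf_dvd_of_pow_eq_one
    rw [← map_pow]
    have : (⟨w, hwH⟩ : ↥H) ^ 2 ^ n = 1 := Subtype.ext hn
    rw [this, map_one]
  have h3 : orderOf (π ⟨w, hwH⟩) ∣ Nat.card (core H) := by
    rw [h1]
    refine (orderOf_map_dvd π _).trans ?_
    rw [Subgroup.orderOf_mk, ← Subgroup.orderOf_mk _ hw]
    exact orderOf_dvd_natCard _
  have h4 : orderOf (π ⟨w, hwH⟩) = 1 :=
    Nat.eq_one_of_dvd_coprimes ((Nat.coprime_two_left.mpr (odd_card_core H)).pow_left n) h2 h3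
  rw [orderOf_eq_one_iff, hπ, QuotientGroup.mk'_apply, QuotientGroup.eq_one_iff] at h4
  exact h4

theorem L2_normal (H : Subgroup G) : ((L2 H).subgroupOf H).Normal := by
  have h1 : (L2 H).subgroupOf H = pLayer 2 ↥H :=
    Subgroup.comap_map_eq_self_of_injective (subtype_injective H) _
  rw [h1]
  have : Fact (Nat.Prime 2) := ⟨Nat.prime_two⟩
  exact PLayerAut.pLayer_normal 2

/-- L-balance for the whole 2-layer -/
theorem L2_le_L2 {H : Subgroup G} {u : G} (hu : u ∈ H) (hu2 : u * u = 1) :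
    L2 (H ⊓ centralizer ({u} : Set G)) ≤ L2 H := by
  rw [L2, map_le_iff_le_comap, pLayer, sSup_le_iff]
  intro J hJ j hj
  have h1 : IsComp (H ⊓ centralizer ({u} : Set G)) (J.map (H ⊓ centralizer ({u} : Set G)).subtype) :=
    isComp_of_subtype hJ
  exact isComp_le_L2 hu hu2 h1 ⟨j, hj, rfl⟩

end gen

section mod

variable {G : Type*} [Group G] [Finite G] {α : Type*} [Fintype α] [DecidableEq α]

/-- the labelling of `cen K k`, `k` fixing `K` -/
theorem exists_mod_cen {K : Subgroup G} {S : Finset α} (M : Mod K S) {k : G} (hk : k * k = 1)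
    (hf : Fixes k K) (h7 : 7 ≤ S.card) :
    ∃ M' : Mod (cen K k) S, ∀ x ∈ cen K k, M'.φ x = M.φ x := by
  have h1 : M.φ k = 1 := (M.fixes_iff hf.1).mpr hf
  have h2 : fixIn S (M.φ k) = S := by
    ext i
    rw [mem_fixIn, h1]
    simp
  have h3 : M.cmp k = cen K k := by
    rw [Mod.cmp, cen]
    congr 1
    ext y
    rw [M.mem_pre, mem_inf, mem_centralizer_singleton_iff, h2]
    constructor
    · rintro ⟨h4, h5, -⟩
      exact ⟨h4, h5.symm⟩
    · rintro ⟨h4, h5⟩
      exact ⟨h4, h5.symm, M.mem_alt y h4⟩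
  have h4 := M.exists_cmp hf.1 hk (by rw [h2]; exact h7)
  rw [h2, h3] at h4
  exact h4

/-- the number of fixed points of `t` from a labelling of `cmp t` -/
theorem card_fixIn {K : Subgroup G} {S R : Finset α} (M : Mod K S) {t : G}
    (ht : t ∈ normalizer (K : Set G)) (htt : t * t = 1) (h5 : 5 ≤ (fixIn S (M.φ t)).card)
    (M' : Mod (M.cmp t) R) : (fixIn S (M.φ t)).card = R.card := by
  set F := fixIn S (M.φ t) with hF
  -- the homomorphism `cmp t → alt F`
  let f : ↥(M.cmp t) →* ↥(alt F) :=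
    { toFun := fun x => ⟨M.φ x, M.cmp_mem_alt x.2⟩
      map_one' := Subtype.ext M.one
      map_mul' := fun x y => Subtype.ext
        (M.mul x y (le_normalizer (M.cmp_le t x.2)) (le_normalizer (M.cmp_le t y.2))) }
  have hf : Function.Surjective f := by
    rintro ⟨σ, hσ⟩
    obtain ⟨k, hk, rfl⟩ := M.cmp_lift ht htt h5 hσ
    exact ⟨⟨k, hk⟩, rfl⟩
  have hodd : Odd (Nat.card f.ker) := by
    have h1 : f.ker.map (M.cmp t).subtype ≤ core K := by
      rintro _ ⟨m, hm, rfl⟩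
      exact (M.core_iff _ (M.cmp_le t m.2)).mp (congrArg Subtype.val (MonoidHom.mem_ker.mp hm))
    have h2 := Subgroup.card_dvd_of_le h1
    rw [Subgroup.card_map_of_injective (Subgroup.subtype_injective _)] at h2
    exact Odd.of_dvd_nat (odd_card_core K) h2
  have hker : f.ker = oddCore ↥(M.cmp t) := by
    apply le_antisymm
    · exact Cores.le_pPrimeCore inferInstance (Nat.coprime_two_right.mpr hodd)
    · have hsim : IsSimpleGroup (alt F) := isSimpleGroup_alt h5
      have hn : ((oddCore ↥(M.cmp t)).map f).Normal :=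
        (Cores.pPrimeCore_normal (G := ↥(M.cmp t)) 2).map f hf
      rcases hn.eq_bot_or_eq_top with h | h
      · rw [Subgroup.map_eq_bot_iff] at h
        exact h
      · exfalso
        have h1 : Nat.card ((oddCore ↥(M.cmp t)).map f) ∣ Nat.card (oddCore ↥(M.cmp t)) :=
          Subgroup.card_map_dvd _ _
        rw [h, Subgroup.card_top] at h1
        have h2 := Odd.of_dvd_nat (Nat.coprime_two_right.mp
          (Cores.pPrimeCore_coprime (G := ↥(M.cmp t)) 2)) h1
        exact (Nat.not_even_iff_odd.mpr h2) (even_iff_two_dvd.mpr (two_dvd_card_alt (by omega)))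
  let e : alt F ≃* alt R := ((QuotientGroup.quotientKerEquivOfSurjective f hf).symm.trans
    (QuotientGroup.quotientMulEquivOfEq (hker.trans M'.ker_homK.symm))).trans
    (QuotientGroup.quotientKerEquivOfSurjective _ M'.homK_surjective)
  exact card_eq_of_equiv (by omega) e

end mod

/-! ### the configuration -/

section main

variable {G : Type*} [Group G] [Finite G] {α : Type*} [Fintype α] [DecidableEq α]

namespace Mid

variable {Ω S T : Finset α} {a x v w k : G} {Kv Kw : Subgroup G} {MV : Mod Kv (Ω \ S)}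
  {MW : Mod Kw (Ω \ T)}

section

variable (h : Mid Ω S T a x v w k Kv Kw MV MW)

include h

theorem aa : a * a = 1 := sq_of_order h.inva
theorem vv : v * v = 1 := sq_of_order h.invv
theorem ww : w * w = 1 := sq_of_order h.invw
theorem kk : k * k = 1 := sq_of_order h.invk

theorem cardDS : (Ω \ S).card = Ω.card - 4 := by
  rw [Finset.card_sdiff_of_subset h.subS, h.cardS]

theorem cardDT : (Ω \ T).card = Ω.card - 4 := by
  rw [Finset.card_sdiff_of_subset h.subT, h.cardT]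

theorem fix_a {y : G} (hy : a * y = y * a) : a * y * a⁻¹ = y := by rw [hy, mul_inv_cancel_right]

/-- `k' = a k a⁻¹` commutes with `k` -/
theorem kk' : (a * k * a⁻¹) * k = k * (a * k * a⁻¹) := by
  have h1 : a * k * a⁻¹ = k⁻¹ * v := by rw [← h.prod]; group
  rw [h1]
  calc k⁻¹ * v * k = k⁻¹ * (v * k) := by group
    _ = k⁻¹ * (k * v) := by rw [h.kv]
    _ = k * (k⁻¹ * v) := by group

theorem k'k' : (a * k * a⁻¹) * (a * k * a⁻¹) = 1 := by
  calc (a * k * a⁻¹) * (a * k * a⁻¹) = a * (k * k) * a⁻¹ := by group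
    _ = 1 := by rw [h.kk]; group

theorem compV' : IsComp (centralizer ({v} : Set G)) (cj a Kv) := isComp_cj_of_mem h.compV (mem_c h.av)

theorem compW' : IsComp (centralizer ({w} : Set G)) (cj a Kw) := isComp_cj_of_mem h.compW (mem_c h.aw)

theorem fixkW' : Fixes k (cj a Kw) := h.compW'.fixes_of_mem h.compW h.neW h.kmem

/-- the 2-component `C_{K_v^a}(k)^∞` of `C(v) ∩ C(k)` -/
theorem compFv : IsComp (centralizer ({v} : Set G) ⊓ centralizer ({k} : Set G)) (cen (cj a Kv) k) :=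
  (isComp_cen h.compV' (mem_c h.kv) h.kk h.fixk').1

theorem compGv : IsComp (centralizer ({v} : Set G) ⊓ centralizer ({k} : Set G)) (cen Kv k) :=
  (isComp_cen h.compV (mem_c h.kv) h.kk h.fixk).1

theorem compFw : IsComp (centralizer ({k} : Set G) ⊓ centralizer ({w} : Set G)) (cen (cj a Kw) k) := by
  have h1 := (isComp_cen h.compW' (mem_c h.kw) h.kk h.fixkW').1
  rwa [inf_comm] at h1

theorem k'_mem_Fw : a * k * a⁻¹ ∈ cen (cj a Kw) k :=
  mem_cen_of_sq (conj_mem_cj h.kmem) h.kk' h.k'k'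

/-- `k' ∈ L_{2'}(C(k))` -/
theorem k'_mem_L2 : a * k * a⁻¹ ∈ L2 (centralizer ({k} : Set G)) :=
  isComp_le_L2 (mem_c h.kw.symm) h.ww h.compFw h.k'_mem_Fw

/-- `v` normalizes all 2-components of `C(k)` -/
theorem v_norm {F : Subgroup G} (hF : IsComp (centralizer ({k} : Set G)) F) :
    v ∈ normalizer (F : Set G) := by
  rw [← h.prod]
  refine mul_mem ?_ (hF.L2_le_normalizer h.k'_mem_L2)
  apply centralizer_le_normalizer
  rw [mem_centralizer_iff]
  intro y hy
  exact (comm_c (hF.le hy))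

/-- `w ∈ L_{2'}(C(k))` -/
theorem w_mem_L2 : w ∈ L2 (centralizer ({k} : Set G)) := by
  have hle : L2 (centralizer ({v} : Set G) ⊓ centralizer ({k} : Set G)) ≤
      L2 (centralizer ({k} : Set G)) := by
    have h1 := L2_le_L2 (H := centralizer ({k} : Set G)) (u := v) (mem_c h.kv.symm) h.vv
    rwa [inf_comm] at h1
  apply hle
  obtain ⟨-, h6, -⟩ := exists_diag h.compV (mem_c h.av) h.aa h.neV
  obtain ⟨y, hy, hyw⟩ := h6 w h.wdiag
  have hy' : a * y * a⁻¹ ∈ cj a Kv := conj_mem_cj hy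
  obtain ⟨j, hj, hjy⟩ := exists_mul_of_sup (isComp_cen h.compV (mem_c h.kv) h.kk h.fixk).2 hy
  obtain ⟨j', hj', hjy'⟩ := exists_mul_of_sup (isComp_cen h.compV' (mem_c h.kv) h.kk h.fixk').2 hy'
  have hjC : j ∈ centralizer ({v} : Set G) := (h.compGv.le hj).1
  have hjC' : j' ∈ centralizer ({v} : Set G) := (h.compFv.le hj').1
  -- `(j j')⁻¹ w ∈ O(C(v))`
  have hc : (j * j')⁻¹ * w ∈ core (centralizer ({v} : Set G)) := by
    have e1 : j⁻¹ * y ∈ core (centralizer ({v} : Set G)) := h.compV.core_le_core hjy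
    have e2 : j'⁻¹ * (a * y * a⁻¹) ∈ core (centralizer ({v} : Set G)) := h.compV'.core_le_core hjy'
    have e4 : j'⁻¹ * (j⁻¹ * y) * j' ∈ core (centralizer ({v} : Set G)) := by
      have := conj_core (inv_mem hjC') e1
      rwa [inv_inv] at this
    have e5 : (j * j')⁻¹ * w = (j'⁻¹ * (j⁻¹ * y) * j') * (j'⁻¹ * (a * y * a⁻¹)) *
        (w⁻¹ * (y * (a * y * a⁻¹)))⁻¹ := by group
    rw [e5]
    exact mul_mem (mul_mem e4 e2) (inv_mem hyw)
  have hj2 : j ∈ L2 (centralizer ({v} : Set G) ⊓ centralizer ({k} : Set G)) := h.compGv.le_L2 hj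
  have hj2' : j' ∈ L2 (centralizer ({v} : Set G) ⊓ centralizer ({k} : Set G)) := h.compFv.le_L2 hj'
  have hck : (j * j')⁻¹ * w ∈ centralizer ({k} : Set G) :=
    mul_mem (inv_mem (mul_mem (h.compGv.le hj).2 (h.compFv.le hj').2)) (mem_c h.kw.symm)
  have hc' : (j * j')⁻¹ * w ∈ core (centralizer ({v} : Set G) ⊓ centralizer ({k} : Set G)) := by
    have := inf_le_core hc hck
    rwa [inf_comm] at this
  exact mem_of_two_normal (L2_le _) (L2_normal _) (mul_mem hj2 hj2') hc' (n := 1)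
    (by rw [pow_one, pow_two, h.ww])

/-- `w` normalizes all 2-components of `C(k)` -/
theorem w_norm {F : Subgroup G} (hF : IsComp (centralizer ({k} : Set G)) F) :
    w ∈ normalizer (F : Set G) := hF.L2_le_normalizer h.w_mem_L2

theorem triple' : IsTriple x v (cj a Kv) := by
  have := h.triple.cj a
  rwa [h.fix_a h.ax, h.fix_a h.av] at this

/-- the pump-up `F` of `F_v` in `C(k)`: a triple containing `F_v` and `F_w` -/
theorem exists_F : ∃ F, IsTriple x k F ∧ cen (cj a Kv) k ≤ F ∧ cen (cj a Kw) k ≤ F := by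
  obtain ⟨F, hF, hor⟩ := h.triple'.pump h.invk h.kv h.kx h.fixk'
  have hvF : cen (cj a Kv) k ≤ F := by
    rcases hor with ⟨-, h1⟩ | ⟨h1, -⟩
    · exact h1
    · exact absurd (mem_normalizer_iff_cj.mp (h.v_norm hF.comp)) h1
  obtain ⟨F', hF', -, hor'⟩ := McLLyComp.PumpT.exists_pump (mem_c h.kw.symm) h.ww h.compFw
  have hwF : cen (cj a Kw) k ≤ F' := by
    rcases hor' with ⟨-, h1⟩ | ⟨h1, -⟩
    · exact h1
    · exact absurd (mem_normalizer_iff_cj.mp (h.w_norm hF')) h1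
  suffices hFF : F' = F by
    subst hFF
    exact ⟨F', hF, hvF, hwF⟩
  rcases h.link with ⟨E, hE, hEv, hEw⟩ | ⟨g, hg, hgv, hgN, hgf⟩
  · -- both contain the 2-component below `E^a`
    have haH : a ∈ centralizer ({v} : Set G) ⊓ centralizer ({w} : Set G) := ⟨mem_c h.av, mem_c h.aw⟩
    have hkH : k ∈ centralizer ({v} : Set G) ⊓ centralizer ({w} : Set G) := ⟨mem_c h.kv, mem_c h.kw⟩
    have hE' : IsComp (centralizer ({v} : Set G) ⊓ centralizer ({w} : Set G)) (cj a E) :=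
      isComp_cj_of_mem hE haH
    have hEv' : cj a E ≤ cj a Kv := cj_mono hEv
    have hEw' : cj a E ≤ cj a Kw := cj_mono hEw
    have hfE : Fixes k (cj a E) := by
      refine fixes_of_comm_core hE' hkH fun m hm => ?_
      have h1 : ⁅k, m⁆ ∈ core (centralizer ({v} : Set G)) :=
        h.compV'.core_le_core (h.fixk'.2 m (hEv' hm))
      have h2 : ⁅k, m⁆ ∈ centralizer ({w} : Set G) := by
        rw [commutatorElement_def]
        have hm' := (hE'.le hm).2
        exact mul_mem (mul_mem (mul_mem hkH.2 hm') (inv_mem hkH.2)) (inv_mem hm')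
      have := inf_le_core h1 h2
      rwa [inf_comm] at this
    have hJ := (isComp_cen hE' hkH h.kk hfE).1
    have hJv : cen (cj a E) k ≤ cen (cj a Kv) k := PComponents.pElem_mono (inf_le_inf_right _ hEv')
    have hJw : cen (cj a E) k ≤ cen (cj a Kw) k := PComponents.pElem_mono (inf_le_inf_right _ hEw')
    exact (hJ.unique hF.comp hF' (hJv.trans hvF) (hJw.trans hwF)).symm
  · -- `g` acts nontrivially on `F_v`
    by_contra hne
    apply hgf
    have hfg : Fixes g F := hF.comp.fixes_of_mem hF' (fun e => hne e.symm) (hwF hg)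
    have hgk : g ∈ centralizer ({k} : Set G) := (h.compFw.le hg).1
    have hgX : g ∈ centralizer ({v} : Set G) ⊓ centralizer ({k} : Set G) := ⟨mem_c hgv, hgk⟩
    have h1 : Fixes g (cen (cj a Kv) k) := by
      refine fixes_of_comm_core h.compFv hgX fun m hm => ?_
      have e1 : ⁅g, m⁆ ∈ core (centralizer ({k} : Set G)) :=
        hF.comp.core_le_core (hfg.2 m (hvF hm))
      have hm' := (h.compFv.le hm).1
      have e2 : ⁅g, m⁆ ∈ centralizer ({v} : Set G) := by
        rw [commutatorElement_def]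
        exact mul_mem (mul_mem (mul_mem hgX.1 hm') (inv_mem hgX.1)) (inv_mem hm')
      exact inf_le_core e1 e2
    -- `F_v` covers `K_v^a`
    have hcard := h.card
    have hS := h.cardDS
    obtain ⟨M1, hM1⟩ := exists_mod_cen (MV.cj a) h.kk h.fixk' (by omega)
    rw [← (MV.cj a).fixes_iff hgN]
    ext y
    by_cases hy : y ∈ Ω \ S
    · refine apply_of_comm_alt (S := Ω \ S) (by omega) (fun σ hσ => ?_) hy
      obtain ⟨m, hm, rfl⟩ := M1.lift σ hσ
      have hmK : m ∈ cj a Kv := cen_le _ _ hm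
      have hc := h1.2 m hm
      have e3 := (M1.core_iff _ (core_le _ hc)).mpr hc
      rw [hM1 _ (core_le _ hc)] at e3
      rw [hM1 _ hm]
      rw [commutatorElement_def, (MV.cj a).mul _ _ (mul_mem (mul_mem hgN (le_normalizer hmK))
        (inv_mem hgN)) (inv_mem (le_normalizer hmK)), (MV.cj a).conj hgN (le_normalizer hmK),
        (MV.cj a).inv (le_normalizer hmK), mul_inv_eq_one, mul_inv_eq_iff_eq_mul] at e3
      exact e3
    · exact (MV.cj a).mem_sym g hgN y hy

theorem fixkF {F : Subgroup G} (hF : IsComp (centralizer ({k} : Set G)) F) : Fixes k F := by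
  have h1 : k ∈ centralizer (F : Set G) := by
    rw [mem_centralizer_iff]
    intro y hy
    exact comm_c (hF.le hy)
  refine ⟨centralizer_le_normalizer _ h1, fun y hy => ?_⟩
  have h2 : ⁅k, y⁆ = 1 := commutatorElement_eq_one_iff_mul_comm.mpr (comm_c (hF.le hy)).symm
  rw [h2]
  exact one_mem _

/-- labels of the pump-up `F` -/
theorem exists_labels (hW : Types Ω x) {F : Subgroup G} (hF : IsTriple x k F)
    (hvF : cen (cj a Kv) k ≤ F) (hwF : cen (cj a Kw) k ≤ F) :
    ∃ (MF : Mod F Ω) (R : Finset α), R ⊆ Ω ∧ R.card = 4 ∧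
      (∀ i ∈ Ω, (MF.φ (a * k * a⁻¹) i = i ↔ i ∉ R)) ∧ MF.φ v = MF.φ (a * k * a⁻¹) ∧
      cen (cj a Kv) k = MF.cmp v := by
  have hcard := h.card
  have hS := h.cardDS
  have hT := h.cardDT
  have hFv : IsComp (F ⊓ centralizer ({v} : Set G)) (cen (cj a Kv) k) := by
    refine h.compFv.restrict (le_inf inf_le_right (inf_le_left.trans hF.comp.le)) ?_
    exact le_inf hvF (h.compFv.le.trans inf_le_left)
  have hFw : IsComp (F ⊓ centralizer ({w} : Set G)) (cen (cj a Kw) k) := by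
    refine h.compFw.restrict (le_inf (inf_le_left.trans hF.comp.le) inf_le_right) ?_
    exact le_inf hwF (h.compFw.le.trans inf_le_right)
  obtain ⟨M1, -⟩ := exists_mod_cen (MV.cj a) h.kk h.fixk' (by omega)
  obtain ⟨M2, hM2⟩ := exists_mod_cen (MW.cj a) h.kk h.fixkW' (by omega)
  obtain ⟨S', hS', ⟨MF⟩⟩ := hW k v F _ _ hF h.vv (h.v_norm hF.comp) hFv ⟨M1⟩ (by omega)
  obtain ⟨e1, e2⟩ := (MF.isComp_iff_cmp (h.v_norm hF.comp) h.vv).mp hFv
  obtain ⟨e3, e4⟩ := (MF.isComp_iff_cmp (h.w_norm hF.comp) h.ww).mp hFw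
  have cv : (fixIn S' (MF.φ v)).card = (Ω \ S).card :=
    card_fixIn MF (h.v_norm hF.comp) h.vv e2 (e1 ▸ M1)
  have cw : (fixIn S' (MF.φ w)).card = (Ω \ T).card :=
    card_fixIn MF (h.w_norm hF.comp) h.ww e4 (e3 ▸ M2)
  obtain ⟨M3, hM3⟩ := MF.exists_cmp (h.w_norm hF.comp) h.ww (by omega)
  have hk'F : a * k * a⁻¹ ∈ F := hwF h.k'_mem_Fw
  have hk'w : a * k * a⁻¹ ∈ MF.cmp w := e3 ▸ h.k'_mem_Fw
  -- the label of `k'`
  obtain ⟨τ, hτ, hτ'⟩ : ∃ τ : Perm α, (Ω \ T).map τ.toEmbedding = fixIn S' (MF.φ w) ∧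
      MF.φ (a * k * a⁻¹) = τ * MW.φ k * τ⁻¹ := by
    have key : ∀ (E : Subgroup G) (M2 : Mod E (Ω \ T)) (_ : E = MF.cmp w)
        (_ : M2.φ (a * k * a⁻¹) = MW.φ k), ∃ τ : Perm α,
        (Ω \ T).map τ.toEmbedding = fixIn S' (MF.φ w) ∧
        MF.φ (a * k * a⁻¹) = τ * MW.φ k * τ⁻¹ := by
      rintro _ M2 rfl hM
      obtain ⟨τ, hτ, hτ'⟩ := M2.exists_bij M3 (by omega)
      refine ⟨τ, hτ, ?_⟩
      rw [← hM, ← hτ' _ (le_normalizer hk'w), hM3 _ hk'w]
    refine key _ M2 e3 ?_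
    rw [hM2 _ h.k'_mem_Fw, Mod.cj_φ]
    congr 1
    group
  have hSub : S ⊆ Ω \ T := fun i hi => Finset.mem_sdiff.mpr
    ⟨h.subS hi, fun hi' => Finset.disjoint_left.mp h.disj hi hi'⟩
  obtain ⟨R, hR⟩ : ∃ R, R = S.map τ.toEmbedding := ⟨_, rfl⟩
  have hRsub : R ⊆ fixIn S' (MF.φ w) := by
    rw [hR, ← hτ]
    exact Finset.map_subset_map.mpr hSub
  have hRcard : R.card = 4 := by rw [hR, Finset.card_map, h.cardS]
  have hlab : ∀ i ∈ S', (MF.φ (a * k * a⁻¹) i = i ↔ i ∉ R) := by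
    intro i hi
    by_cases hiw : i ∈ fixIn S' (MF.φ w)
    · rw [← hτ] at hiw
      obtain ⟨j, hj, rfl⟩ := Finset.mem_map.mp hiw
      have h0 : (τ * MW.φ k * τ⁻¹) (τ j) = τ (MW.φ k j) := by
        simp [Perm.mul_apply]
      rw [hτ', Equiv.coe_toEmbedding, h0, τ.injective.eq_iff, h.klab j hj, hR]
      constructor
      · intro h1 h2
        obtain ⟨j', hj', h3⟩ := Finset.mem_map.mp h2
        exact h1 (τ.injective h3 ▸ hj')
      · intro h1 h2
        exact h1 (Finset.mem_map.mpr ⟨j, h2, rfl⟩)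
    · have h1 := (MF.cmp_mem_alt hk'w).2 i hiw
      exact ⟨fun _ h2 => hiw (hRsub h2), fun _ => h1⟩
  have hkF := h.fixkF hF.comp
  have hφv : MF.φ v = MF.φ (a * k * a⁻¹) := by
    rw [← h.prod, MF.mul _ _ hkF.1 (le_normalizer hk'F), (MF.fixes_iff hkF.1).mpr hkF, one_mul]
  have hRS' : R ⊆ S' := hRsub.trans (fixIn_subset _ _)
  have hfix : fixIn S' (MF.φ v) = S' \ R := by
    ext i
    rw [mem_fixIn, Finset.mem_sdiff, hφv]
    exact and_congr_right fun hi => hlab i hi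
  have hc : S'.card = Ω.card := by
    have h1 : (S' \ R).card = S'.card - 4 := by rw [Finset.card_sdiff_of_subset hRS', hRcard]
    have h2 : R.card ≤ S'.card := Finset.card_le_card hRS'
    rw [hfix, h1, hS] at cv
    omega
  have := Finset.eq_of_subset_of_card_le hS' hc.ge
  subst this
  exact ⟨MF, R, hRS', hRcard, hlab, hφv, e1⟩

end

end Mid

/-- The output of (6.5): `(x, c, L)` is a triple with labels `Alt(Ω)`, `r` a root of `L` such that the 2-component
`C_L(r)^∞` lies in a 2-component `K` of `C(r)` with `c` trivial on `K / O(K)` (case N with `ξ = 0`). -/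
structure Out (Ω : Finset α) (x c r : G) (L : Subgroup G) (M : Mod L Ω) (R : Finset α)
    (K : Subgroup G) : Prop where
  triple : IsTriple x c L
  mem : r ∈ L
  inv : orderOf r = 2
  rx : r * x = x * r
  rc : r * c = c * r
  sub : R ⊆ Ω
  card : R.card = 4
  lab : ∀ i ∈ Ω, (M.φ r i = i ↔ i ∉ R)
  comp : IsComp (centralizer ({r} : Set G)) K
  le : M.cmp r ≤ K
  fix : Fixes c K

variable {Ω S T : Finset α} {a x v w k : G} {Kv Kw : Subgroup G} {MV : Mod Kv (Ω \ S)}
  {MW : Mod Kw (Ω \ T)}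

/-- **(6.4), (6.5)** -/
theorem Mid.result (h : Mid Ω S T a x v w k Kv Kw MV MW) (hW : Types Ω x) :
    ∃ (L : Subgroup G) (M : Mod L Ω) (R : Finset α) (K : Subgroup G),
      Out Ω x (a * k * a⁻¹) k L M R K := by
  obtain ⟨F, hF, hvF, hwF⟩ := h.exists_F
  obtain ⟨MF, R, hR, hR4, hlab, hφv, hcmp⟩ := h.exists_labels hW hF hvF hwF
  have hk'F : a * k * a⁻¹ ∈ F := hwF h.k'_mem_Fw
  have hai : a⁻¹ = a := inv_eq_of_mul_eq_one_left h.aa
  -- the pump-up of `G_v`
  have hG := h.compGv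
  rw [inf_comm] at hG
  obtain ⟨F₂, hF₂, -, hor⟩ := McLLyComp.PumpT.exists_pump (mem_c h.kv.symm) h.vv hG
  have hGF : cen Kv k ≤ F₂ := by
    rcases hor with ⟨-, h1⟩ | ⟨h1, -⟩
    · exact h1
    · exact absurd (mem_normalizer_iff_cj.mp (h.v_norm hF₂)) h1
  have hne : F₂ ≠ F := by
    rintro rfl
    have h1 : IsComp (F₂ ⊓ centralizer ({v} : Set G)) (cen Kv k) := by
      refine h.compGv.restrict (le_inf inf_le_right (inf_le_left.trans hF₂.le)) ?_
      exact le_inf hGF (h.compGv.le.trans inf_le_left)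
    obtain ⟨e1, -⟩ := (MF.isComp_iff_cmp (h.v_norm hF₂) h.vv).mp h1
    rw [← hcmp] at e1
    have h2 : cen Kv k ≤ cj a Kv := by rw [e1]; exact cen_le _ _
    exact h.neV (h.compGv.unique h.compV' h.compV h2 (cen_le _ _))
  have hfix : Fixes (a * k * a⁻¹) F₂ := hF₂.fixes_of_mem hF.comp hne hk'F
  -- conjugate by `a`
  have hTa : IsTriple x (a * k * a⁻¹) (cj a F) := by
    have := hF.cj a
    rwa [h.fix_a h.ax] at this
  have hconj : a * (a * k * a⁻¹) * a⁻¹ = k := by
    calc a * (a * k * a⁻¹) * a⁻¹ = (a * a) * k * (a * a)⁻¹ := by group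
      _ = k := by rw [h.aa]; group
  have hcmp' : (MF.cj a).cmp k ≤ F₂ := by
    refine le_trans ?_ hGF
    refine (Subgroup.closure_le _).mpr ?_
    rintro y ⟨hy, n, hn⟩
    obtain ⟨h1, h2, h3⟩ := (Mod.mem_pre _).mp hy
    rw [Mod.cj_φ, Mod.cj_φ, show a⁻¹ * k * a = a * k * a⁻¹ by rw [hai], ← hφv] at h3
    have hz : a⁻¹ * y * a ∈ F := mem_cj.mp h1
    have hzk : (a⁻¹ * y * a) * k = k * (a⁻¹ * y * a) := comm_c (hF.comp.le hz)
    have hzk' : (a * k * a⁻¹) * (a⁻¹ * y * a) = (a⁻¹ * y * a) * (a * k * a⁻¹) := by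
      rw [hai]
      calc (a * k * a) * (a * y * a) = a * k * (a * a) * y * a := by group
        _ = a * (k * y) * a := by rw [h.aa]; group
        _ = a * (y * k) * a := by rw [h2]
        _ = a * y * (a * a) * k * a := by rw [h.aa]; group
        _ = (a * y * a) * (a * k * a) := by group
    have hzv : v * (a⁻¹ * y * a) = (a⁻¹ * y * a) * v := by
      rw [← h.prod, mul_assoc, hzk', ← mul_assoc, ← hzk, mul_assoc]
    have hzn : (a⁻¹ * y * a) ^ 2 ^ n = 1 := by
      have e1 : a⁻¹ * y * a = a⁻¹ * y * a⁻¹⁻¹ := by rw [inv_inv]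
      rw [e1, conj_pow, hn]
      group
    have h4 : a⁻¹ * y * a ∈ cen (cj a Kv) k := hcmp ▸ MF.mem_cmp hz hzv h3 hzn
    have h5 : y ∈ Kv := by
      have h6 := cen_le _ _ h4
      rw [mem_cj] at h6
      have h7 : a⁻¹ * (a⁻¹ * y * a) * a = y := by
        rw [hai]
        calc a * (a * y * a) * a = (a * a) * y * (a * a) := by group
          _ = y := by rw [h.aa]; group
      rwa [h7] at h6
    exact mem_cen h5 h2.symm hn
  exact ⟨cj a F, MF.cj a, R, F₂, hTa, by
    have := conj_mem_cj (g := a) hk'F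
    rwa [hconj] at this, h.invk, h.kx, h.kk'.symm, hR, hR4, by
    intro i hi
    rw [Mod.cj_φ, show a⁻¹ * k * a = a * k * a⁻¹ by rw [hai]]
    exact hlab i hi, hF₂, hcmp', hfix⟩

end main

end Cfsg.Agent.UAlt.CaseD
end

private theorem dce_cfde11445da4 : _root_.True := by
  try have : _root_.True := by simp only [_root_.Cfsg.pLayer.eq_1]
  try have : _root_.True := by simp only [_root_.Cfsg.Agent.Intrinsic.Basic.L2.eq_1]
  try have : _root_.True := by simp only [_root_.Cfsg.Agent.UAlt.Mod.cmp.eq_1]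
  exact _root_.True.intro
end

-- part: UGT/A9/Marker
section
set_option linter.all false
open scoped Cfsg.Agent.FastGrp

/-!
# Marker components

`N` a perfect subgroup of even order of `H` (`Marker N`). A 2-component `J` of `H` is an *N-component* (`IsMark H N J`) if
`N` does not fix `J` elementwise.

* (M1) `mark_of_le`, `eq_of_le`: if `N ≤ J` then `J` is the only N-component. `mark_diag`, `mark_diag_cj`, `eq_or_of_diag`:
  if `N ≤ diag(J, t)`, the N-components are `J` and `J^t`.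
* (M2) `IsMark.pump`: `t` an involution of `H`, `N ≤ C(t)`: an N-component `I` of `C_H(t)` is a 2-component of `C_J(t)` for a
  `t`-invariant N-component `J` of `H` or the diagonal of two N-components `J ≠ J^t`. Conversely `isComp_of_inf`,
  `exists_diag`.
* `comp_cen_eq`: if `t` fixes the 2-component `J` then `cen J t` is the only 2-component of `C_J(t)`.
-/

set_option autoImplicit false
set_option linter.unusedSectionVars false

open Cfsg Subgroup
open Cfsg.Agent.SignalizersComponents Cfsg.Agent.Lib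
open Cfsg.Agent.SignalizersComponents.IntrinsicBasic
open Cfsg.Agent.SignalizersComponents.IntrinsicIntr
open Cfsg.Agent.SignalizersComponents.PLayerAut
open Cfsg.Agent.Intrinsic.Basic Cfsg.Agent.Intrinsic.Cen Cfsg.Agent.Intrinsic.Diag
open Cfsg.Agent.McLLyComp.Act
open Cfsg.Agent.UGT.Triple Cfsg.Agent.UGT.LemG Cfsg.Agent.UGT.PumpGen
open scoped commutatorElement

namespace Cfsg.Agent.UGT.A9.Marker

variable {G : Type*} [Group G]

/-- a perfect subgroup of even order -/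
structure Mkr (N : Subgroup G) : Prop where
  perfect : ⁅N, N⁆ = N
  even : 2 ∣ Nat.card N

/-- `J` is an `N`-component of `H` -/
def IsMark (H N J : Subgroup G) : Prop := IsComp H J ∧ ¬ ∀ n ∈ N, Fixes n J

theorem IsMark.comp {H N J : Subgroup G} (h : IsMark H N J) : IsComp H J := h.1

theorem IsMark.le {H N J : Subgroup G} (h : IsMark H N J) : J ≤ H := h.1.1

theorem IsMark.exists {H N J : Subgroup G} (h : IsMark H N J) : ∃ n ∈ N, ¬ Fixes n J := by
  have := h.2
  push Not at this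
  exact this

variable [Finite G]

theorem Mkr.of_comp {H N : Subgroup G} (h : IsComp H N) : Mkr N := ⟨h.perfect, h.even⟩

theorem Mkr.not_odd {N K : Subgroup G} (h : Mkr N) (hK : Odd (Nat.card K)) : ¬ N ≤ K := fun hle =>
  (Nat.not_even_iff_odd.mpr hK) (even_iff_two_dvd.mpr (h.even.trans (card_dvd_of_le hle)))

/-- a perfect subgroup of even order does not lie in an odd subgroup modulo which it is abelian -/
theorem Mkr.false_of_comm {N K : Subgroup G} (h : Mkr N) (hK : Odd (Nat.card K))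
    (hc : ∀ a ∈ N, ∀ b ∈ N, ⁅a, b⁆ ∈ K) : False := by
  have h1 : ⁅N, N⁆ ≤ K := by
    rw [Subgroup.commutator_le]
    exact hc
  rw [h.perfect] at h1
  exact h.not_odd hK h1

/-- elements of `O(H)` commuting with `t` lie in the core of `C_H(t)` -/
theorem mem_core_inf {H : Subgroup G} {t y : G} (hy : y ∈ core H)
    (hyt : y ∈ centralizer ({t} : Set G)) : y ∈ core (H ⊓ centralizer ({t} : Set G)) := by
  obtain ⟨N, hN⟩ : ∃ N, N = core H ⊓ centralizer ({t} : Set G) := ⟨_, rfl⟩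
  have h1 : N ≤ core (H ⊓ centralizer ({t} : Set G)) := by
    refine le_core ?_ ?_ ?_
    · rw [hN]
      exact inf_le_inf_right _ (core_le _)
    · intro g hg
      have h1 : g ∈ normalizer (core H : Set G) := le_normalizer_core _ hg.1
      have h2 : g ∈ normalizer (centralizer ({t} : Set G) : Set G) := le_normalizer hg.2
      rw [mem_normalizer_iff_cj] at h1 h2 ⊢
      rw [hN, cj_inf, h1, h2]
    · refine Odd.of_dvd_nat (odd_card_core H) ?_
      rw [hN]
      exact card_dvd_of_le inf_le_left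
  exact h1 (hN ▸ ⟨hy, hyt⟩)

/-! ### (M1) -/

theorem mark_of_le {H N J : Subgroup G} (hN : Mkr N) (hJ : IsComp H J) (hNJ : N ≤ J) :
    IsMark H N J :=
  ⟨hJ, fun h => hN.false_of_comm (odd_card_core J) fun a ha b hb => (h a ha).2 b (hNJ hb)⟩

theorem eq_of_le {H N J J' : Subgroup G} (hJ : IsComp H J) (hNJ : N ≤ J) (h : IsMark H N J') :
    J' = J := by
  by_contra hne
  exact h.2 fun n hn => h.1.fixes_of_mem hJ hne (hNJ hn)

section diag

variable {X J N : Subgroup G} {s : G}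

/-- members of the diagonal fixing `J` fix `J^s` -/
theorem fixes_cj {n : G} (hn : n * s = s * n) (h : Fixes n J) : Fixes n (cj s J) := by
  have h1 := h.cj s
  have : s * n * s⁻¹ = n := by rw [← hn]; group
  rwa [this] at h1

/-- if `n`, `m` are in the diagonal and `n` fixes `J` then they commute modulo the core -/
theorem comm_of_fixes (hJ : IsComp X J) (hsX : s ∈ X) (hs : s * s = 1) (hne : cj s J ≠ J) {n m : G}
    (hn : n ∈ X) (hns : n * s = s * n) (hf : Fixes n J) (hm : m ∈ diag X J s) : ⁅n, m⁆ ∈ core X := by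
  obtain ⟨h1, h2, -, -⟩ := exists_diag hJ hsX hs hne
  obtain ⟨k, hk, hmk⟩ := h2 m hm
  have hmX : m ∈ X := (h1.le hm).1
  have hJ' : IsComp X (cj s J) := isComp_cj_of_mem hJ hsX
  have hk' : s * k * s⁻¹ ∈ cj s J := conj_mem_cj hk
  have e1 : ⁅n, k⁆ ∈ core X := hJ.core_le_core (hf.2 k hk)
  have e2 : ⁅n, s * k * s⁻¹⁆ ∈ core X := hJ'.core_le_core ((fixes_cj hns hf).2 _ hk')
  rw [commutator_mem_core_iff hn (hJ.le hk)] at e1
  rw [commutator_mem_core_iff hn (hJ'.le hk')] at e2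
  rw [commutator_mem_core_iff hn hmX, mk_of_diag hJ hsX hmX hk hmk, ← mul_assoc, e1, mul_assoc, e2]
  exact (mul_assoc _ _ _).symm

theorem mark_diag (hN : Mkr N) (hJ : IsComp X J) (hsX : s ∈ X) (hs : s * s = 1) (hne : cj s J ≠ J)
    (hNd : N ≤ diag X J s) : IsMark X N J := by
  obtain ⟨h1, -, -, -⟩ := exists_diag hJ hsX hs hne
  refine ⟨hJ, fun h => hN.false_of_comm (odd_card_core X) fun a ha b hb => ?_⟩
  have h2 := h1.le (hNd ha)
  exact comm_of_fixes hJ hsX hs hne h2.1 (mem_centralizer_singleton_iff.mp h2.2) (h a ha) (hNd hb)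

theorem mark_cj (hJ : IsMark X N J) (hsX : s ∈ X) (hN : N ≤ centralizer ({s} : Set G)) :
    IsMark X N (cj s J) := by
  refine ⟨isComp_cj_of_mem hJ.1 hsX, fun h => hJ.2 fun n hn => ?_⟩
  have h1 := (h n hn).cj s⁻¹
  rw [cj_inv_cj] at h1
  have h2 : n * s = s * n := mem_centralizer_singleton_iff.mp (hN hn)
  have h3 : s⁻¹ * n * s⁻¹⁻¹ = n := by
    rw [inv_inv, mul_assoc, h2]; group
  rwa [h3] at h1

theorem mark_diag_cj (hN : Mkr N) (hJ : IsComp X J) (hsX : s ∈ X) (hs : s * s = 1)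
    (hne : cj s J ≠ J) (hNd : N ≤ diag X J s) : IsMark X N (cj s J) := by
  obtain ⟨h1, -, -, -⟩ := exists_diag hJ hsX hs hne
  exact mark_cj (mark_diag hN hJ hsX hs hne hNd) hsX (hNd.trans (h1.le.trans inf_le_right))

theorem eq_or_of_diag (hJ : IsComp X J) (hsX : s ∈ X) (hs : s * s = 1) (hne : cj s J ≠ J)
    (hNd : N ≤ diag X J s) {J' : Subgroup G} (h : IsMark X N J') : J' = J ∨ J' = cj s J := by
  by_contra hcon
  push Not at hcon
  obtain ⟨h1, -, -, -⟩ := exists_diag hJ hsX hs hne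
  refine h.2 fun n hn => ?_
  exact fixes_of_comm_core h.1 (h1.le (hNd hn)).1 fun j hj =>
    comm_diag_of_ne hJ hsX hs hne h.1 hcon.1 hcon.2 (hNd hn) hj

end diag

/-! ### (M2) -/

/-- `d ∈ C_X(s)` fixing the 2-component `J` of `X` fixes the 2-components `Z` of `C_X(s)` pumping up to `J`. -/
theorem fixes_of_pump {X J Z : Subgroup G} {s d : G} (hsX : s ∈ X) (hs : s * s = 1)
    (hZ : IsComp (X ⊓ centralizer ({s} : Set G)) Z) (hJ : IsComp X J) (hdX : d ∈ X)
    (hds : d * s = s * d) (hf : Fixes d J) (hor : Z ≤ J ∨ (cj s J ≠ J ∧ Z = diag X J s)) :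
    Fixes d Z := by
  have hd : d ∈ X ⊓ centralizer ({s} : Set G) := ⟨hdX, mem_centralizer_singleton_iff.mpr hds⟩
  refine fixes_of_comm_core hZ hd fun z hz => ?_
  have hc : ⁅d, z⁆ ∈ centralizer ({s} : Set G) := by
    rw [commutatorElement_def]
    have h1 := (hZ.le hz).2
    exact mul_mem (mul_mem (mul_mem hd.2 h1) (inv_mem hd.2)) (inv_mem h1)
  refine mem_core_inf ?_ hc
  rcases hor with h | ⟨hne, h⟩
  · exact hJ.core_le_core (hf.2 z (h hz))
  · rw [h] at hz
    exact comm_of_fixes hJ hsX hs hne hdX hds hf hz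

/-- **(M2)** -/
theorem IsMark.pump {X N I : Subgroup G} {s : G} (hsX : s ∈ X) (hs : s * s = 1)
    (hN : N ≤ X ⊓ centralizer ({s} : Set G)) (hI : IsMark (X ⊓ centralizer ({s} : Set G)) N I) :
    ∃ J, IsMark X N J ∧
      ((cj s J = J ∧ I ≤ J ∧ IsComp (J ⊓ centralizer ({s} : Set G)) I) ∨
        (cj s J ≠ J ∧ IsMark X N (cj s J) ∧ I = diag X J s)) := by
  obtain ⟨J, hJ, -, hor⟩ := McLLyComp.PumpT.exists_pump hsX hs hI.1
  have hm : IsMark X N J := by
    refine ⟨hJ, fun h => hI.2 fun n hn => ?_⟩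
    refine fixes_of_pump hsX hs hI.1 hJ (hN hn).1 (mem_centralizer_singleton_iff.mp (hN hn).2) (h n hn) ?_
    rcases hor with ⟨-, h⟩ | h
    · exact Or.inl h
    · exact Or.inr h
  refine ⟨J, hm, ?_⟩
  rcases hor with ⟨h1, h2⟩ | ⟨h1, h2⟩
  · left
    refine ⟨mem_normalizer_iff_cj.mp h1, h2, ?_⟩
    exact hI.1.restrict (inf_le_inf_right _ hJ.le) (le_inf h2 (hI.1.le.trans inf_le_right))
  · right
    exact ⟨h1, mark_cj hm hsX (hN.trans inf_le_right), h2⟩

/-- `E` a 2-component of `C_J(s)`, `J` a 2-component of `X`: marker in terms of fixing -/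
theorem mark_inf {X J E N : Subgroup G} {s : G} (hJ : IsComp X J)
    (hE : IsComp (J ⊓ centralizer ({s} : Set G)) E) (h : ¬ ∀ n ∈ N, Fixes n E) :
    IsMark (X ⊓ centralizer ({s} : Set G)) N E := ⟨isComp_of_inf hJ hE, h⟩

/-- if `N ≤ C_X(s)` does not fix `J ≠ J^s` then the diagonal is an `N`-component of `C_X(s)` -/
theorem mark_diag_of {X J N : Subgroup G} {s : G} (hJ : IsMark X N J) (hsX : s ∈ X) (hs : s * s = 1)
    (hne : cj s J ≠ J) (hN : N ≤ X ⊓ centralizer ({s} : Set G))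
    (hNJ : ∀ n ∈ N, n ∈ normalizer (J : Set G)) :
    IsMark (X ⊓ centralizer ({s} : Set G)) N (diag X J s) := by
  obtain ⟨h1, -, -, -⟩ := exists_diag hJ.1 hsX hs hne
  refine ⟨h1, fun h => hJ.2 fun n hn => ?_⟩
  have hns := (hN hn).2
  have hn' : n ∈ normalizer (cj s J : Set G) := by
    have h2 := mem_normalizer_iff_cj.mp (hNJ n hn)
    have h3 : n * s = s * n := mem_centralizer_singleton_iff.mp hns
    rw [mem_normalizer_iff_cj, ← cj_mul, h3, cj_mul, h2]
  refine fixes_of_comm_diag hJ.1 hsX hs hne (hN hn).1 (hNJ n hn) hn' fun m hm => ?_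
  have h2 := (h n hn).2 m hm
  have h3 := h1.core_le_core h2
  obtain ⟨-, -, -, h4, -⟩ := exists_diag hJ.1 hsX hs hne
  rw [h4] at h2
  exact h2.2

/-- if `s` fixes the 2-component `J` then `cen J s` is the only 2-component of `C_J(s)` -/
theorem comp_cen_eq {X J E : Subgroup G} {s : G} (hJ : IsComp X J) (hsX : s ∈ X) (hs : s * s = 1)
    (hf : Fixes s J) (hE : IsComp (J ⊓ centralizer ({s} : Set G)) E) : E = cen J s := by
  obtain ⟨h1, -⟩ := isComp_cen hJ hsX hs hf
  have h2 : IsComp (J ⊓ centralizer ({s} : Set G)) (cen J s) :=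
    h1.restrict (inf_le_inf_right _ hJ.le) (le_inf (cen_le J s) (cen_le_centralizer J s))
  refine hE.eq_of_le h2 ?_
  rw [← hE.pElem_eq]
  exact PComponents.pElem_mono hE.le

end Cfsg.Agent.UGT.A9.Marker
end

-- part: UAlt/Ident
section
set_option linter.all false
open scoped Cfsg.Agent.FastGrp

/-!
# Identification of an alternating group from the centralizers of roots

`Data Ω A M`: a copy `ι` of `Alt(Ω)` in `M` and for every root `v` of `Ω` a copy `κ v` of `Alt(A \ supp v)`, where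
`Ω ⊆ A`, compatible with each other. `Data.exists_hom`: they generate a copy of `Alt(A)`.
-/

set_option autoImplicit false
set_option linter.unusedSectionVars false

namespace Cfsg.Agent.UAlt.Ident

open Equiv Equiv.Perm Subgroup
open Cfsg.Agent.StdAlt.PermTypes (cyc)
open Cfsg.Agent.StdAlt.Roots (IsRoot)

variable {α : Type*} [Fintype α] [DecidableEq α]

/-- roots of `Alt(Ω)`: products of two disjoint transpositions of `Ω` -/
def Rt (Ω : Finset α) (v : Perm α) : Prop := IsRoot v ∧ v ∈ sym Ω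

theorem Rt.mem_alt {Ω : Finset α} {v : Perm α} (h : Rt Ω v) : v ∈ alt Ω :=
  ⟨h.1.mem_alternatingGroup, h.2⟩

theorem Rt.apply_of_notMem {Ω : Finset α} {v : Perm α} (h : Rt Ω v) {x : α} (hx : x ∉ Ω) : v x = x :=
  h.2 x hx

theorem Rt.conj {Ω : Finset α} {v : Perm α} (h : Rt Ω v) {g : Perm α} (hg : g ∈ sym Ω) :
    Rt Ω (g * v * g⁻¹) :=
  ⟨h.1.conj g, mul_mem (mul_mem hg h.2) (inv_mem hg)⟩

/-- a root avoiding a given set -/
theorem exists_root {Ω T : Finset α} (h : T.card + 4 ≤ Ω.card) :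
    ∃ v, Rt Ω v ∧ ∀ x ∈ T, v x = x := by
  have h1 : 4 ≤ (Ω \ T).card := by
    have := Finset.le_card_sdiff T Ω
    omega
  obtain ⟨t, hts, htc⟩ := Finset.exists_subset_card_eq h1
  obtain ⟨x, y, z, w, hxy, hxz, hxw, hyz, hyw, hzw, rfl⟩ := Finset.card_eq_four.1 htc
  have hm : ∀ u ∈ ({x, y, z, w} : Finset α), u ∈ Ω ∧ u ∉ T := fun u hu => Finset.mem_sdiff.1 (hts hu)
  have hx := hm x (by simp)
  have hy := hm y (by simp)
  have hz := hm z (by simp)
  have hw := hm w (by simp)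
  have hout : ∀ u, u ≠ x → u ≠ y → u ≠ z → u ≠ w → (swap x y * swap z w) u = u := by
    intro u h1 h2 h3 h4
    rw [Perm.mul_apply, swap_apply_of_ne_of_ne h3 h4, swap_apply_of_ne_of_ne h1 h2]
  refine ⟨swap x y * swap z w, ⟨Cfsg.Agent.StdAlt.Roots.isRoot_swap_mul hxy hxz hxw hyz hyw hzw, ?_⟩, ?_⟩
  · intro u hu
    refine hout u ?_ ?_ ?_ ?_
    · rintro rfl; exact hu hx.1
    · rintro rfl; exact hu hy.1
    · rintro rfl; exact hu hz.1
    · rintro rfl; exact hu hw.1
  · intro u hu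
    refine hout u ?_ ?_ ?_ ?_
    · rintro rfl; exact hx.2 hu
    · rintro rfl; exact hy.2 hu
    · rintro rfl; exact hz.2 hu
    · rintro rfl; exact hw.2 hu

/-- `Alt(S)` is generated by the cycles `(i c d)` -/
theorem alt_le_of_cyc_two {S : Finset α} {c d : α} (hc : c ∈ S) (hd : d ∈ S) (hcd : c ≠ d)
    (h3 : 3 ≤ S.card) {H : Subgroup (Perm α)}
    (h : ∀ i ∈ S, i ≠ c → i ≠ d → cyc i c d ∈ H) : alt S ≤ H := by
  have h1 := Cfsg.Agent.StdAlt.Carm.eq_top_of_cyc (Ω := S) (c := ⟨c, hc⟩) (d := ⟨d, hd⟩)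
    (fun e => hcd (congrArg Subtype.val e)) (by rw [Fintype.card_coe]; exact h3)
    (H.comap ((ofSubtype (p := fun x => x ∈ S)).comp (alternatingGroup S).subtype)) (by
      intro σ i hic hid hσ
      show ofSubtype (σ : Perm S) ∈ H
      rw [hσ]
      have : (ofSubtype (cyc i ⟨c, hc⟩ ⟨d, hd⟩) : Perm α) = cyc (i : α) c d := by
        unfold Cfsg.Agent.StdAlt.PermTypes.cyc
        rw [map_mul, ofSubtype_swap_eq, ofSubtype_swap_eq]
      rw [this]
      exact h i i.2 (fun e => hic (Subtype.ext e)) (fun e => hid (Subtype.ext e)))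
  intro g hg
  obtain ⟨g', hg'⟩ := (altEquiv S).surjective ⟨g, hg⟩
  have h2 : g = ofSubtype (g' : Perm S) := by rw [← altEquiv_coe, hg']
  have h3 : g' ∈ H.comap ((ofSubtype (p := fun x => x ∈ S)).comp (alternatingGroup S).subtype) := by
    rw [h1]; exact mem_top _
  rw [h2]
  exact h3

/-- agreement of two partial homomorphisms on `Alt(S)` -/
theorem agree {M : Type*} [Group M] {S : Finset α} {f g : Perm α → M}
    (hf : ∀ σ ∈ alt S, ∀ τ ∈ alt S, f (σ * τ) = f σ * f τ)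
    (hg : ∀ σ ∈ alt S, ∀ τ ∈ alt S, g (σ * τ) = g σ * g τ)
    {P : Perm α → Prop} (hP : ∀ H : Subgroup (Perm α), (∀ σ ∈ alt S, P σ → σ ∈ H) → alt S ≤ H)
    (h : ∀ σ ∈ alt S, P σ → f σ = g σ) : ∀ σ ∈ alt S, f σ = g σ := by
  have f1 : f 1 = 1 := by
    have := hf 1 (one_mem _) 1 (one_mem _)
    rw [mul_one] at this
    exact left_eq_mul.1 this
  have g1 : g 1 = 1 := by
    have := hg 1 (one_mem _) 1 (one_mem _)
    rw [mul_one] at this
    exact left_eq_mul.1 this
  have fi : ∀ σ ∈ alt S, f σ⁻¹ = (f σ)⁻¹ := by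
    intro σ hσ
    have := hf σ⁻¹ (inv_mem hσ) σ hσ
    rw [inv_mul_cancel, f1] at this
    exact eq_inv_of_mul_eq_one_left this.symm
  have gi : ∀ σ ∈ alt S, g σ⁻¹ = (g σ)⁻¹ := by
    intro σ hσ
    have := hg σ⁻¹ (inv_mem hσ) σ hσ
    rw [inv_mul_cancel, g1] at this
    exact eq_inv_of_mul_eq_one_left this.symm
  let H : Subgroup (Perm α) :=
    { carrier := {σ | σ ∈ alt S ∧ f σ = g σ}
      mul_mem' := by
        rintro a b ⟨ha, ha'⟩ ⟨hb, hb'⟩
        exact ⟨mul_mem ha hb, by rw [hf a ha b hb, hg a ha b hb, ha', hb']⟩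
      one_mem' := ⟨one_mem _, by rw [f1, g1]⟩
      inv_mem' := by
        rintro a ⟨ha, ha'⟩
        exact ⟨inv_mem ha, by rw [fi a ha, gi a ha, ha']⟩ }
  have h1 : alt S ≤ H := hP H fun σ hσ hPσ => ⟨hσ, h σ hσ hPσ⟩
  exact fun σ hσ => (h1 hσ).2

theorem fixIn_mono {S T : Finset α} (h : S ⊆ T) (v : Perm α) : fixIn S v ⊆ fixIn T v := by
  intro x hx
  rw [mem_fixIn] at hx ⊢
  exact ⟨h hx.1, hx.2⟩

theorem cyc_sq {i j c d : α} (hic : i ≠ c) (hid : i ≠ d) (hjc : j ≠ c) (hjd : j ≠ d) (hcd : c ≠ d)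
    (hij : i ≠ j) : (cyc i c d * cyc j c d) ^ 2 = 1 := by
  have e : ∀ x, (cyc i c d * cyc j c d) ((cyc i c d * cyc j c d) x) = x := by
    intro x
    have hj1 : cyc j c d j = c := StdAlt.PermTypes.cyc_apply_fst hjd hjc
    have hj2 : cyc j c d c = d := StdAlt.PermTypes.cyc_apply_snd hjd hcd
    have hj3 : cyc j c d d = j := StdAlt.PermTypes.cyc_apply_thd
    have hi1 : cyc i c d i = c := StdAlt.PermTypes.cyc_apply_fst hid hic
    have hi2 : cyc i c d c = d := StdAlt.PermTypes.cyc_apply_snd hid hcd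
    have hi3 : cyc i c d d = i := StdAlt.PermTypes.cyc_apply_thd
    have hij' : cyc i c d j = j := StdAlt.PermTypes.cyc_apply_of_ne (Ne.symm hij) hjc hjd
    have hji' : cyc j c d i = i := StdAlt.PermTypes.cyc_apply_of_ne hij hic hid
    simp only [Perm.mul_apply]
    by_cases h1 : x = i
    · subst h1; rw [hji', hi1, hj2, hi3]
    by_cases h2 : x = j
    · subst h2; rw [hj1, hi2, hj3, hij']
    by_cases h3 : x = c
    · subst h3; rw [hj2, hi3, hji', hi1]
    by_cases h4 : x = d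
    · subst h4; rw [hj3, hij', hj1, hi2]
    rw [StdAlt.PermTypes.cyc_apply_of_ne h2 h3 h4, StdAlt.PermTypes.cyc_apply_of_ne h1 h3 h4,
      StdAlt.PermTypes.cyc_apply_of_ne h2 h3 h4, StdAlt.PermTypes.cyc_apply_of_ne h1 h3 h4]
  ext x
  rw [pow_two, Perm.mul_apply, e]
  rfl

variable {M : Type*} [Group M]

/-- the input of the identification -/
structure Data (Ω A : Finset α) (ι : Perm α → M) (κ : Perm α → Perm α → M) : Prop where
  sub : Ω ⊆ A
  card : 13 ≤ Ω.card
  ι_mul : ∀ σ ∈ alt Ω, ∀ τ ∈ alt Ω, ι (σ * τ) = ι σ * ι τ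
  κ_mul : ∀ v, Rt Ω v → ∀ σ ∈ alt (fixIn A v), ∀ τ ∈ alt (fixIn A v), κ v (σ * τ) = κ v σ * κ v τ
  κ_inj : ∀ v, Rt Ω v → ∀ σ ∈ alt (fixIn A v), κ v σ = 1 → σ = 1
  nat : ∀ v, Rt Ω v → ∀ σ ∈ alt (fixIn Ω v), κ v σ = ι σ
  glue : ∀ v w, Rt Ω v → Rt Ω w → (∀ x, v x = x ∨ w x = x) →
    ∀ σ ∈ alt (fixIn (fixIn A v) w), κ v σ = κ w σ

namespace Data

variable {Ω A : Finset α} {ι : Perm α → M} {κ : Perm α → Perm α → M}

theorem κ_one (D : Data Ω A ι κ) {v : Perm α} (hv : Rt Ω v) : κ v 1 = 1 := by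
  have := D.κ_mul v hv 1 (one_mem _) 1 (one_mem _)
  rw [mul_one] at this
  exact left_eq_mul.1 this

theorem ι_one (D : Data Ω A ι κ) : ι 1 = 1 := by
  have := D.ι_mul 1 (one_mem _) 1 (one_mem _)
  rw [mul_one] at this
  exact left_eq_mul.1 this

theorem κ_pow (D : Data Ω A ι κ) {v : Perm α} (hv : Rt Ω v) {σ : Perm α} (hσ : σ ∈ alt (fixIn A v))
    (n : ℕ) : κ v (σ ^ n) = κ v σ ^ n := by
  induction n with
  | zero => rw [pow_zero, pow_zero, D.κ_one hv]
  | succ n ih => rw [pow_succ, pow_succ, D.κ_mul v hv _ (pow_mem hσ n) _ hσ, ih]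

/-- the value of `κ v` on a 3-cycle with two points outside `Ω` does not depend on `v` -/
theorem κ_eq (D : Data Ω A ι κ) {c d : α} (hc : c ∈ A) (hd : d ∈ A) (hcΩ : c ∉ Ω) (hdΩ : d ∉ Ω)
    (hcd : c ≠ d) {v w : Perm α} (hv : Rt Ω v) (hw : Rt Ω w) {y : α} (hy : y ∈ A) (hyc : y ≠ c)
    (hyv : v y = y) (hyw : w y = y) : κ v (cyc y c d) = κ w (cyc y c d) := by
  obtain ⟨u, hu, hu'⟩ := exists_root (Ω := Ω) (T := insert y (v.support ∪ w.support)) (by
    have h1 := Finset.card_insert_le y (v.support ∪ w.support)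
    have h2 := Finset.card_union_le v.support w.support
    rw [hv.1.2, hw.1.2] at h2
    have := D.card
    omega)
  have hfc : ∀ {x : Perm α}, Rt Ω x → x c = c := fun hx => hx.apply_of_notMem hcΩ
  have hfd : ∀ {x : Perm α}, Rt Ω x → x d = d := fun hx => hx.apply_of_notMem hdΩ
  have huy : u y = y := hu' y (by simp)
  have hm : ∀ {x : Perm α}, Rt Ω x → x y = y → cyc y c d ∈ alt (fixIn (fixIn A x) u) := by
    intro x hx hxy
    refine cyc_mem_alt ?_ ?_ ?_ hyc hcd <;> rw [mem_fixIn, mem_fixIn]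
    · exact ⟨⟨hy, hxy⟩, huy⟩
    · exact ⟨⟨hc, hfc hx⟩, hfc hu⟩
    · exact ⟨⟨hd, hfd hx⟩, hfd hu⟩
  have d1 : ∀ x, v x = x ∨ u x = x := by
    intro x
    by_cases hx : v x = x
    · exact Or.inl hx
    · exact Or.inr (hu' x (by simp [hx]))
  have d2 : ∀ x, w x = x ∨ u x = x := by
    intro x
    by_cases hx : w x = x
    · exact Or.inl hx
    · exact Or.inr (hu' x (by simp [hx]))
  rw [D.glue v u hv hu d1 _ (hm hv hyv), D.glue w u hw hu d2 _ (hm hw hyw)]

theorem nonempty_root (D : Data Ω A ι κ) : ∃ v, Rt Ω v := by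
  obtain ⟨v, hv, -⟩ := exists_root (Ω := Ω) (T := ∅) (by have := D.card; simp; omega)
  exact ⟨v, hv⟩

/-- **Identification.** -/
theorem exists_hom (D : Data Ω A ι κ) (h1 : (A \ Ω).card ≠ 1) :
    ∃ f : Perm α → M, (∀ σ ∈ alt A, ∀ τ ∈ alt A, f (σ * τ) = f σ * f τ) ∧
      (∀ σ ∈ alt A, f σ = 1 → σ = 1) ∧ (∀ σ ∈ alt Ω, f σ = ι σ) ∧
      ∀ v, Rt Ω v → ∀ σ ∈ alt (fixIn A v), f σ = κ v σ := by
  have h13 := D.card
  by_cases h0 : A \ Ω = ∅
  · -- nothing to do
    have hA : A = Ω := Finset.Subset.antisymm (Finset.sdiff_eq_empty_iff_subset.1 h0) D.sub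
    subst hA
    refine ⟨ι, D.ι_mul, ?_, fun _ _ => rfl, fun v hv σ hσ => (D.nat v hv σ hσ).symm⟩
    -- simplicity
    let g : ↥(alt A) →* M :=
      { toFun := fun σ => ι σ
        map_one' := D.ι_one
        map_mul' := fun a b => D.ι_mul a a.2 b b.2 }
    have hs : IsSimpleGroup ↥(alt A) := isSimpleGroup_alt (by omega)
    obtain ⟨v, hv⟩ := D.nonempty_root
    obtain ⟨i, j, k, hi, hj, hk, hij, hik, hjk⟩ :
        ∃ i j k, i ∈ fixIn A v ∧ j ∈ fixIn A v ∧ k ∈ fixIn A v ∧ i ≠ j ∧ i ≠ k ∧ j ≠ k := by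
      have h2 : 3 ≤ (fixIn A v).card := by
        have h3 : A \ v.support ⊆ fixIn A v := by
          intro x hx
          rw [Finset.mem_sdiff] at hx
          rw [mem_fixIn]
          exact ⟨hx.1, notMem_support.1 hx.2⟩
        have h4 := Finset.card_le_card h3
        have h5 := Finset.le_card_sdiff v.support A
        rw [hv.1.2] at h5
        omega
      obtain ⟨t, hts, htc⟩ := Finset.exists_subset_card_eq h2
      obtain ⟨i, j, k, hij, hik, hjk, rfl⟩ := Finset.card_eq_three.1 htc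
      exact ⟨i, j, k, hts (by simp), hts (by simp), hts (by simp), hij, hik, hjk⟩
    have hm := cyc_mem_alt hi hj hk hij hjk
    have hne : g ⟨cyc i j k, alt_fixIn_le _ _ hm⟩ ≠ 1 := by
      intro h
      have h2 : κ v (cyc i j k) = 1 := by rw [D.nat v hv _ hm]; exact h
      have h3 := D.κ_inj v hv _ hm h2
      have h4 := StdAlt.PermTypes.cyc_apply_fst hik hij
      rw [h3] at h4
      exact hij h4
    have hker : g.ker = ⊥ := by
      rcases hs.eq_bot_or_eq_top_of_normal g.ker inferInstance with h | h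
      · exact h
      · exfalso
        apply hne
        rw [← MonoidHom.mem_ker, h]
        exact mem_top _
    intro σ hσ hσ1
    have : (⟨σ, hσ⟩ : ↥(alt A)) ∈ g.ker := hσ1
    rw [hker, mem_bot] at this
    exact congrArg Subtype.val this
  · -- two points outside `Ω`
    have h2 : 1 < (A \ Ω).card := by
      have : (A \ Ω).card ≠ 0 := by rw [Ne, Finset.card_eq_zero]; exact h0
      omega
    obtain ⟨c, hc, d, hd, hcd⟩ := Finset.one_lt_card.1 h2
    rw [Finset.mem_sdiff] at hc hd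
    obtain ⟨hc, hcΩ⟩ := hc
    obtain ⟨hd, hdΩ⟩ := hd
    have hT : ∀ y : α, ∃ v, Rt Ω v ∧ v y = y := by
      intro y
      obtain ⟨v, hv, hv'⟩ := exists_root (Ω := Ω) (T := {y}) (by simp; omega)
      exact ⟨v, hv, hv' y (by simp)⟩
    choose r hr hry using hT
    -- 3-cycles through `c`, `d`
    have hmem : ∀ {v : Perm α} {y : α}, Rt Ω v → v y = y → y ∈ A → y ≠ c →
        cyc y c d ∈ alt (fixIn A v) := by
      intro v y hv hvy hyA hyc
      refine cyc_mem_alt ?_ ?_ ?_ hyc hcd <;> rw [mem_fixIn]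
      · exact ⟨hyA, hvy⟩
      · exact ⟨hc, hv.apply_of_notMem hcΩ⟩
      · exact ⟨hd, hv.apply_of_notMem hdΩ⟩
    have hTv : ∀ {v : Perm α} {y : α}, Rt Ω v → v y = y → y ∈ A → y ≠ c →
        κ (r y) (cyc y c d) = κ v (cyc y c d) := fun {v y} hv hvy hyA hyc =>
      D.κ_eq hc hd hcΩ hdΩ hcd (hr y) hv hyA hyc (hry y) hvy
    have hcardA : Ω.card ≤ A.card := Finset.card_le_card D.sub
    obtain ⟨g, hg⟩ := Cfsg.Agent.StdAlt.Carm.exists_hom (G := M) (Ω := A) (c := ⟨c, hc⟩) (d := ⟨d, hd⟩)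
      (fun e => hcd (congrArg Subtype.val e)) (by rw [Fintype.card_coe]; omega)
      (y := fun i => κ (r (i : α)) (cyc (i : α) c d)) (by
        intro i hic hid
        have hic' : (i : α) ≠ c := fun e => hic (Subtype.ext e)
        have hid' : (i : α) ≠ d := fun e => hid (Subtype.ext e)
        show κ (r (i : α)) (cyc (i : α) c d) ^ 3 = 1
        rw [← D.κ_pow (hr _) (hmem (hr _) (hry _) i.2 hic'),
          StdAlt.PermTypes.cyc_pow_three hic' hcd hid', D.κ_one (hr _)]) (by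
        intro i j hic hid hjc hjd hij
        have hic' : (i : α) ≠ c := fun e => hic (Subtype.ext e)
        have hid' : (i : α) ≠ d := fun e => hid (Subtype.ext e)
        have hjc' : (j : α) ≠ c := fun e => hjc (Subtype.ext e)
        have hjd' : (j : α) ≠ d := fun e => hjd (Subtype.ext e)
        have hij' : (i : α) ≠ j := fun e => hij (Subtype.ext e)
        obtain ⟨v, hv, hv'⟩ := exists_root (Ω := Ω) (T := {(i : α), (j : α)}) (by
          have := Finset.card_le_two (a := (i : α)) (b := (j : α))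
          omega)
        have hvi : v (i : α) = i := hv' _ (by simp)
        have hvj : v (j : α) = j := hv' _ (by simp)
        have m1 := hmem hv hvi i.2 hic'
        have m2 := hmem hv hvj j.2 hjc'
        show (κ (r (i : α)) (cyc (i : α) c d) * κ (r (j : α)) (cyc (j : α) c d)) ^ 2 = 1
        rw [hTv hv hvi i.2 hic', hTv hv hvj j.2 hjc', ← D.κ_mul v hv _ m1 _ m2,
          ← D.κ_pow hv (mul_mem m1 m2), cyc_sq hic' hid' hjc' hjd' hcd hij', D.κ_one hv])
    -- the function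
    classical
    let f : Perm α → M := fun σ => if h : σ ∈ alt A then g ((altEquiv A).symm ⟨σ, h⟩) else 1
    have hf : ∀ (σ : Perm α) (h : σ ∈ alt A), f σ = g ((altEquiv A).symm ⟨σ, h⟩) := fun σ h => dif_pos h
    have hfmul : ∀ σ ∈ alt A, ∀ τ ∈ alt A, f (σ * τ) = f σ * f τ := by
      intro σ hσ τ hτ
      rw [hf _ (mul_mem hσ hτ), hf _ hσ, hf _ hτ, ← map_mul, ← map_mul]
      rfl
    have hfcyc : ∀ y ∈ A, y ≠ c → y ≠ d → f (cyc y c d) = κ (r y) (cyc y c d) := by
      intro y hy hyc hyd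
      have hm : cyc y c d ∈ alt A := cyc_mem_alt hy hc hd hyc hcd
      rw [hf _ hm]
      have e : (((altEquiv A).symm ⟨cyc y c d, hm⟩ : alternatingGroup A) : Perm A) =
          cyc ⟨y, hy⟩ ⟨c, hc⟩ ⟨d, hd⟩ := by
        apply ofSubtype_injective
        have h3 : (ofSubtype (cyc ⟨y, hy⟩ ⟨c, hc⟩ ⟨d, hd⟩ : Perm A) : Perm α) = cyc y c d := by
          unfold Cfsg.Agent.StdAlt.PermTypes.cyc
          rw [map_mul, ofSubtype_swap_eq, ofSubtype_swap_eq]
        rw [h3, ← altEquiv_coe, MulEquiv.apply_symm_apply]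
      exact hg _ ⟨y, hy⟩ (fun e => hyc (congrArg Subtype.val e)) (fun e => hyd (congrArg Subtype.val e)) e
    have hfκ : ∀ v, Rt Ω v → ∀ σ ∈ alt (fixIn A v), f σ = κ v σ := by
      intro v hv
      have hcv : c ∈ fixIn A v := mem_fixIn.2 ⟨hc, hv.apply_of_notMem hcΩ⟩
      have hdv : d ∈ fixIn A v := mem_fixIn.2 ⟨hd, hv.apply_of_notMem hdΩ⟩
      apply agree (fun σ hσ τ hτ => hfmul σ (alt_fixIn_le _ _ hσ) τ (alt_fixIn_le _ _ hτ))
        (D.κ_mul v hv) (P := fun σ => ∃ y ∈ fixIn A v, y ≠ c ∧ y ≠ d ∧ σ = cyc y c d)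
      · intro H hH
        refine alt_le_of_cyc_two hcv hdv hcd ?_ ?_
        · have h3 : A \ v.support ⊆ fixIn A v := by
            intro x hx
            rw [Finset.mem_sdiff] at hx
            rw [mem_fixIn]
            exact ⟨hx.1, notMem_support.1 hx.2⟩
          have h4 := Finset.card_le_card h3
          have h5 := Finset.le_card_sdiff v.support A
          rw [hv.1.2] at h5
          omega
        · intro y hy hyc hyd
          exact hH _ (cyc_mem_alt hy hcv hdv hyc hcd) ⟨y, hy, hyc, hyd, rfl⟩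
      · rintro σ hσ ⟨y, hy, hyc, hyd, rfl⟩
        rw [mem_fixIn] at hy
        rw [hfcyc y hy.1 hyc hyd, hTv hv hy.2 hy.1 hyc]
    refine ⟨f, hfmul, ?_, ?_, hfκ⟩
    · have hs : IsSimpleGroup (alternatingGroup A) :=
        alternatingGroup.isSimpleGroup (by rw [Nat.card_eq_fintype_card, Fintype.card_coe]; omega)
      obtain ⟨y, hy, hyΩ⟩ : ∃ y ∈ A, y ∈ Ω := by
        obtain ⟨y, hy⟩ := Finset.card_pos.1 (show 0 < Ω.card by omega)
        exact ⟨y, D.sub hy, hy⟩
      have hyc : y ≠ c := fun e => hcΩ (e ▸ hyΩ)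
      have hyd : y ≠ d := fun e => hdΩ (e ▸ hyΩ)
      have hm : cyc y c d ∈ alt A := cyc_mem_alt hy hc hd hyc hcd
      have hne : f (cyc y c d) ≠ 1 := by
        intro h
        rw [hfcyc y hy hyc hyd] at h
        have h3 := D.κ_inj _ (hr y) _ (hmem (hr y) (hry y) hy hyc) h
        have h4 := StdAlt.PermTypes.cyc_apply_fst hyd hyc
        rw [h3] at h4
        exact hyc h4
      have hker : g.ker = ⊥ := by
        rcases hs.eq_bot_or_eq_top_of_normal g.ker inferInstance with h | h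
        · exact h
        · exfalso
          apply hne
          rw [hf _ hm, ← MonoidHom.mem_ker, h]
          exact mem_top _
      intro σ hσ hσ1
      rw [hf _ hσ] at hσ1
      have h3 : (altEquiv A).symm ⟨σ, hσ⟩ ∈ g.ker := hσ1
      rw [hker, mem_bot] at h3
      have h4 : (⟨σ, hσ⟩ : ↥(alt A)) = 1 := by
        rw [← map_one (altEquiv A).symm] at h3
        exact (altEquiv A).symm.injective h3
      exact congrArg Subtype.val h4
    · apply agree (fun σ hσ τ hτ => hfmul σ (alt_mono D.sub hσ) τ (alt_mono D.sub hτ)) D.ι_mul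
        (P := fun σ => ∃ i ∈ Ω, ∃ j ∈ Ω, ∃ k ∈ Ω, i ≠ j ∧ j ≠ k ∧ i ≠ k ∧ σ = cyc i j k)
      · intro H hH
        refine alt_le_of_cyc fun i j k hi hj hk hij hjk hik => ?_
        exact hH _ (cyc_mem_alt hi hj hk hij hjk) ⟨i, hi, j, hj, k, hk, hij, hjk, hik, rfl⟩
      · rintro σ hσ ⟨i, hi, j, hj, k, hk, hij, hjk, hik, rfl⟩
        obtain ⟨v, hv, hv'⟩ := exists_root (Ω := Ω) (T := {i, j, k}) (by
          have := Finset.card_le_three (a := i) (b := j) (c := k)
          omega)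
        have hm : cyc i j k ∈ alt (fixIn Ω v) := by
          refine cyc_mem_alt ?_ ?_ ?_ hij hjk <;> rw [mem_fixIn]
          · exact ⟨hi, hv' _ (by simp)⟩
          · exact ⟨hj, hv' _ (by simp)⟩
          · exact ⟨hk, hv' _ (by simp)⟩
        rw [hfκ v hv _ (alt_mono (fixIn_mono D.sub v) hm), D.nat v hv _ hm]

end Data

end Cfsg.Agent.UAlt.Ident
end

-- part: UAlt/PermThree
section
set_option linter.all false
open scoped Cfsg.Agent.FastGrp

/-!
# Three commuting involutions, one of which is a root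

`root_of_three`: `a`, `b`, `a b` commuting involutions; if each of them which moves at least five points has the
property that the others act as `1` or as itself on the points moved by it, then one of the three moves exactly four
points.
-/

set_option autoImplicit false
set_option linter.unusedSectionVars false

namespace Cfsg.Agent.UAlt.PermPK

open Equiv Equiv.Perm Subgroup
open Cfsg.Agent.StdAlt.Roots (IsRoot)

variable {α : Type*} [Fintype α] [DecidableEq α]

/-- `b` acts as `1` or as `a` on the points moved by `a` (if there are at least five) -/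
def KK (a b : Perm α) : Prop := 5 ≤ a.support.card →
  (∀ p, a p ≠ p → b p = p) ∨ (∀ p, a p ≠ p → b p = a p)

theorem app2 {a : Perm α} (haa : a * a = 1) (x : α) : a (a x) = x := by
  rw [← Perm.mul_apply, haa]; rfl

theorem appc {a b : Perm α} (hab : a * b = b * a) (x : α) : a (b x) = b (a x) := by
  rw [← Perm.mul_apply, hab, Perm.mul_apply]

theorem exists_moved {a : Perm α} (h : a ≠ 1) : ∃ x, a x ≠ x := by
  by_contra hcon
  push Not at hcon
  exact h (Equiv.ext hcon)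

theorem card_le_of {a b : Perm α} (h : ∀ p, a p ≠ p → b p ≠ p) : a.support.card ≤ b.support.card :=
  Finset.card_le_card fun p hp => mem_support.mpr (h p (mem_support.mp hp))

theorem small_supp {a b : Perm α} (haa : a * a = 1) (hbb : b * b = 1) (hab : a * b = b * a)
    (hb : b ≠ 1) (hc : a * b ≠ 1) (Kab : KK a b) (Kba : KK b a) (Kca : KK (a * b) a) :
    a.support.card ≤ 4 := by
  by_contra h5
  have h5' : 5 ≤ a.support.card := by omega
  obtain ⟨x, hx⟩ : ∃ x, a x ≠ x := by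
    obtain ⟨x, hx⟩ := Finset.card_pos.mp (by omega : 0 < a.support.card)
    exact ⟨x, mem_support.mp hx⟩
  have hA := app2 haa
  have hB := app2 hbb
  have hC := appc hab
  rcases Kab h5' with h | h
  · -- `b` is trivial on the points moved by `a`
    obtain ⟨q, hq⟩ := exists_moved hb
    have haq : a q = q := by
      by_contra hne
      exact hq (h q hne)
    have h1 : a (b q) = b q := by rw [hC, haq]
    have hle : 5 ≤ (a * b).support.card := h5'.trans (card_le_of fun p hp => by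
      rw [Perm.mul_apply, h p hp]; exact hp)
    rcases Kca hle with h2 | h2
    · exact hx (h2 x (by rw [Perm.mul_apply, h x hx]; exact hx))
    · have h3 := h2 q (by rw [Perm.mul_apply, h1]; exact hq)
      rw [Perm.mul_apply, h1, haq] at h3
      exact hq h3.symm
  · obtain ⟨q, hq⟩ := exists_moved hc
    rw [Perm.mul_apply] at hq
    have haq : a q = q := by
      by_contra hne
      apply hq
      rw [h q hne, hA]
    have hbq : b q ≠ q := by
      intro e
      apply hq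
      rw [e, haq]
    have hle : 5 ≤ b.support.card := h5'.trans (card_le_of fun p hp => by
      rw [h p hp]; exact hp)
    rcases Kba hle with h2 | h2
    · exact hx (h2 x (by rw [h x hx]; exact hx))
    · have h3 := h2 q hbq
      rw [haq] at h3
      exact hbq h3.symm

theorem even_card_support {a : Perm α} (haa : a * a = 1) : Even a.support.card := by
  have h2 : a ^ 2 = 1 := by rw [pow_two]; exact haa
  have h3 : ∀ c ∈ a.cycleType, c = 2 := pow_prime_eq_one_iff.mp h2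
  have h4 : a.cycleType = Multiset.replicate (Multiset.card a.cycleType) 2 :=
    Multiset.eq_replicate_card.mpr h3
  have h5 := sum_cycleType a
  rw [h4, Multiset.sum_replicate, smul_eq_mul] at h5
  rw [← h5]
  exact even_two.mul_left _

theorem card_cases {a : Perm α} (haa : a * a = 1) (ha : a ≠ 1) (h4 : a.support.card ≤ 4) :
    IsRoot a ∨ a.support.card = 2 := by
  have h1 := even_card_support haa
  have h2 := two_le_card_support_of_ne_one ha
  obtain ⟨k, hk⟩ := h1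
  by_cases h : a.support.card = 4
  · exact Or.inl ⟨haa, h⟩
  · right; omega

/-- **one of the three is a root** -/
theorem root_of_three {a b : Perm α} (haa : a * a = 1) (hbb : b * b = 1) (hab : a * b = b * a)
    (ha : a ≠ 1) (hb : b ≠ 1) (hc : a * b ≠ 1) (Kab : KK a b) (Kba : KK b a) (Kca : KK (a * b) a) :
    IsRoot a ∨ IsRoot b ∨ IsRoot (a * b) := by
  have hA := app2 haa
  have hB := app2 hbb
  have hC := appc hab
  have hcc : a * b * (a * b) = 1 := by
    calc a * b * (a * b) = a * (b * a) * b := by group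
      _ = a * (a * b) * b := by rw [hab]
      _ = (a * a) * (b * b) := by group
      _ = 1 := by rw [haa, hbb, one_mul]
  have e1 : b * (a * b) = a := by rw [hab, ← mul_assoc, hbb, one_mul]
  have e2 : a * b * a = b := by rw [hab, mul_assoc, haa, mul_one]
  have Kcb : KK (b * a) b := by
    intro h5
    rw [← hab] at h5 ⊢
    rcases Kca h5 with h | h
    · right
      intro p hp
      have h1 : (a * b) ((a * b) p) ≠ (a * b) p := fun e => hp ((a * b).injective e)
      have h2 := h _ h1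
      rw [Perm.mul_apply, hA] at h2
      rw [Perm.mul_apply]
      exact h2
    · left
      intro p hp
      have h1 := h p hp
      rw [Perm.mul_apply] at h1
      exact (a.injective h1).symm
  have Kac : KK a (a * b) := by
    intro h5
    rcases Kab h5 with h | h
    · right
      intro p hp
      rw [Perm.mul_apply, h p hp]
    · left
      intro p hp
      rw [Perm.mul_apply, h p hp, hA]
  have Kbc : KK (a * b * a) (a * b) := by
    rw [e2]
    intro h5
    rcases Kba h5 with h | h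
    · right
      intro p hp
      rw [Perm.mul_apply]
      exact h _ fun e => hp (b.injective e)
    · left
      intro p hp
      rw [Perm.mul_apply, h _ fun e => hp (b.injective e), hB]
  have hba : b * a ≠ 1 := by rw [← hab]; exact hc
  have s1 := small_supp haa hbb hab hb hc Kab Kba Kca
  have s2 := small_supp hbb haa hab.symm ha hba Kba Kab Kcb
  have s3 : (a * b).support.card ≤ 4 := by
    refine small_supp hcc haa ?_ ha ?_ Kca Kac Kbc
    · rw [e2, ← mul_assoc, haa, one_mul]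
    · rw [e2]; exact hb
  rcases card_cases haa ha s1 with h1 | h1
  · exact Or.inl h1
  rcases card_cases hbb hb s2 with h2 | h2
  · exact Or.inr (Or.inl h2)
  rcases card_cases hcc hc s3 with h3 | h3
  · exact Or.inr (Or.inr h3)
  exfalso
  -- the supports of `a`, `b` have two points and are disjoint
  have hmem : ∀ x y : α, a x ≠ x → a y ≠ y → y = x ∨ y = a x := by
    intro x y hx hy
    by_contra hcon
    push Not at hcon
    have h4 : ({x, a x, y} : Finset α) ⊆ a.support := by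
      intro p hp
      simp only [Finset.mem_insert, Finset.mem_singleton] at hp
      rw [mem_support]
      rcases hp with rfl | rfl | rfl
      · exact hx
      · rw [hA]; exact Ne.symm hx
      · exact hy
    have h5 := Finset.card_le_card h4
    rw [Finset.card_insert_of_notMem, Finset.card_pair (Ne.symm hcon.2), h1] at h5
    · omega
    · simp only [Finset.mem_insert, Finset.mem_singleton, not_or]
      exact ⟨Ne.symm hx, Ne.symm hcon.1⟩
  obtain ⟨x, hx⟩ := exists_moved ha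
  have hbx : b x = x := by
    have h4 : a (b x) ≠ b x := by rw [hC]; exact fun e => hx (b.injective e)
    rcases hmem x (b x) hx h4 with h | h
    · exact h
    · exfalso
      -- then `b` agrees with `a` on `{x, a x}`; `b` moves only these
      have hb2 : ∀ y, b y ≠ y → y = x ∨ y = a x := by
        intro y hy
        by_contra hcon
        push Not at hcon
        have h5 : ({x, a x, y} : Finset α) ⊆ b.support := by
          intro p hp
          simp only [Finset.mem_insert, Finset.mem_singleton] at hp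
          rw [mem_support]
          rcases hp with rfl | rfl | rfl
          · rw [h]; exact hx
          · rw [← hC, h, hA]; exact Ne.symm hx
          · exact hy
        have h6 := Finset.card_le_card h5
        rw [Finset.card_insert_of_notMem, Finset.card_pair (Ne.symm hcon.2), h2] at h6
        · omega
        · simp only [Finset.mem_insert, Finset.mem_singleton, not_or]
          exact ⟨Ne.symm hx, Ne.symm hcon.1⟩
      apply hc
      apply Equiv.ext
      intro y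
      rw [Perm.mul_apply, Perm.one_apply]
      by_cases hy : y = x ∨ y = a x
      · rcases hy with rfl | rfl
        · rw [h, hA]
        · rw [← hC, h, hA]
      · have h7 : b y = y := by
          by_contra hne
          exact hy (hb2 y hne)
        have h8 : a y = y := by
          by_contra hne
          exact hy (hmem x y hx hne)
        rw [h7, h8]
  have hdis : ∀ y, a y ≠ y → b y = y := by
    intro y hy
    rcases hmem x y hx hy with rfl | rfl
    · exact hbx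
    · rw [← hC, hbx]
  obtain ⟨q, hq⟩ := exists_moved hb
  have haq : a q = q := by
    by_contra hne
    exact hq (hdis q hne)
  have h4 : ({x, a x, q} : Finset α) ⊆ (a * b).support := by
    intro p hp
    simp only [Finset.mem_insert, Finset.mem_singleton] at hp
    rw [mem_support, Perm.mul_apply]
    rcases hp with rfl | rfl | rfl
    · rw [hbx]; exact hx
    · rw [← hC, hbx, hA]; exact Ne.symm hx
    · rw [hC, haq]; exact hq
  have h5 := Finset.card_le_card h4
  rw [Finset.card_insert_of_notMem, Finset.card_pair, h3] at h5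
  · omega
  · rintro rfl
    rw [hA] at haq
    exact hx haq.symm
  · simp only [Finset.mem_insert, Finset.mem_singleton, not_or]
    exact ⟨Ne.symm hx, fun e => by rw [← e] at haq; exact hx haq⟩

end Cfsg.Agent.UAlt.PermPK
end

-- part: UGT/Blk/CmpTool
section
set_option linter.all false
open scoped Cfsg.Agent.FastGrp

-- part: UGT/Blk/Defs
section
/-!
# Blocks of commuting components (NodeR, commuting pairs)

`SS`: a conjugation invariant set of simple subgroups.  `Rel K L P`: `L ≠ P` commute, `L` is subnormal in `C_K(t)` for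
the involutions `t` of `P` and conversely.

* `Base SS`: what is assumed: simple, one class of involutions, `C_{Aut L}(t)` solvable, every member has a partner for
  `Rel ⊤`.
* `Sys SS rel`: its consequences (`rel = (Rel ⊤ or =)` is an equivalence relation, (L0)-(L3)), the input of the adjacency
  files `Adj*.lean`.
* `NoAdj SS`: output of the adjacency files: (5) and (6) of the text.
-/

set_option autoImplicit false

open Subgroup
open Cfsg.Agent.SignalizersComponents.IntrinsicBasic (cj)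

namespace Cfsg.Agent.UGT.Blk

variable {G : Type*} [Group G]

/-- elementwise commuting subgroups -/
def Comm (L P : Subgroup G) : Prop := ∀ a ∈ L, ∀ b ∈ P, a * b = b * a

/-- `L` is a subnormal subgroup of `H` -/
def Cmp (H L : Subgroup G) : Prop := L ≤ H ∧ (L.subgroupOf H).IsSubnormal

/-- `L ~_K P` -/
structure Rel (K L P : Subgroup G) : Prop where
  le : L ≤ K
  le' : P ≤ K
  ne : L ≠ P
  comm : Comm L P
  left : ∀ t ∈ P, orderOf t = 2 → Cmp (K ⊓ centralizer ({t} : Set G)) L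
  right : ∀ t ∈ L, orderOf t = 2 → Cmp (K ⊓ centralizer ({t} : Set G)) P

/-- The assumptions. -/
structure Base (SS : Set (Subgroup G)) : Prop where
  cj_mem : ∀ L ∈ SS, ∀ g : G, cj g L ∈ SS
  simple : ∀ L ∈ SS, IsSimpleGroup ↥L
  perfect : ∀ L ∈ SS, ⁅L, L⁆ = L
  even : ∀ L ∈ SS, ∃ t ∈ L, orderOf t = 2
  conj2 : ∀ L ∈ SS, ∀ t ∈ L, ∀ u ∈ L, orderOf t = 2 → orderOf u = 2 → ∃ l ∈ L, l * t * l⁻¹ = u
  /-- `C_{Aut L}(t)` is solvable -/
  solv : ∀ L ∈ SS, ∀ t ∈ L, orderOf t = 2 → ∀ D : Subgroup G, ⁅D, D⁆ = D → D ≤ normalizer (L : Set G) →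
    (∀ d ∈ D, d * t = t * d) → D ≤ centralizer (L : Set G)
  part : ∀ L ∈ SS, ∃ P ∈ SS, Rel ⊤ L P

/-- The consequences used in the adjacency files. -/
structure Sys (SS : Set (Subgroup G)) (rel : Subgroup G → Subgroup G → Prop) : Prop where
  cj_mem : ∀ L ∈ SS, ∀ g : G, cj g L ∈ SS
  rel_mem : ∀ L ∈ SS, ∀ P, rel L P → P ∈ SS
  refl : ∀ L ∈ SS, rel L L
  symm : ∀ L P, rel L P → rel P L
  trans : ∀ L P R, rel L P → rel P R → rel L R
  relcj : ∀ L P, rel L P → ∀ g : G, rel (cj g L) (cj g P)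
  part : ∀ L ∈ SS, ∃ P, rel L P ∧ P ≠ L
  comm : ∀ L ∈ SS, ∀ P, rel L P → P ≠ L → Comm L P
  /-- (L0) -/
  cen : ∀ L ∈ SS, ∀ L' ∈ SS, ∀ b ∈ L', orderOf b = 2 → b ∈ centralizer (L : Set G) → Comm L' L
  /-- (L1) -/
  ti : ∀ L ∈ SS, ∀ L' ∈ SS, ∀ b ∈ L, b ∈ L' → orderOf b = 2 → L = L'
  /-- (L2) -/
  spread : ∀ L ∈ SS, ∀ L' ∈ SS, Comm L' L → ∀ P, rel L P → L' = P ∨ Comm L' P
  /-- (L3) -/
  cenle : ∀ L ∈ SS, ∀ t ∈ L, orderOf t = 2 → centralizer ({t} : Set G) ≤ normalizer (L : Set G)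

/-- Output of the adjacency files. -/
structure NoAdj (SS : Set (Subgroup G)) : Prop where
  /-- (5) -/
  adj : ∀ L ∈ SS, ∀ L' ∈ SS, L ≠ L' → ∀ b ∈ L', orderOf b = 2 → b ∈ normalizer (L : Set G) → Comm L' L
  /-- (6) -/
  move : ∀ L ∈ SS, ∀ L' ∈ SS, ∀ b ∈ L', orderOf b = 2 → Comm L (cj b L) → cj b L = L

end Cfsg.Agent.UGT.Blk
end

-- part: UGT/Blk/CmpTool
section
/-!
# Subnormal simple subgroups: tools

`SP L`: `L` is simple and perfect.  `Cmp H L`: `L` is subnormal in `H`.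

* `Cmp.comm_of_ne`: two different subnormal simple subgroups commute.
* `Cmp.of_cent` (LEMMA S): `M` simple subnormal in `Y`, `τ ∈ M`, `P` simple subnormal in `C_Y(τ)`, perfect subgroups of
  `N(M)` commuting with `τ` centralise `M`; then `P` is subnormal in `Y`.
-/

set_option autoImplicit false

open Subgroup Cfsg
open Cfsg.Agent.SignalizersComponents
open Cfsg.Agent.SignalizersComponents.IntrinsicBasic
open Cfsg.Agent.SignalizersComponents.Components

namespace Cfsg.Agent.UGT.Blk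

variable {G : Type*} [Group G]

/-- simple and perfect -/
structure SP (L : Subgroup G) : Prop where
  simple : IsSimpleGroup ↥L
  perfect : ⁅L, L⁆ = L

theorem SP.ne_bot {L : Subgroup G} (h : SP L) : L ≠ ⊥ := by
  rintro rfl
  have := h.simple.toNontrivial
  exact not_nontrivial _ this

theorem Comm.symm {L P : Subgroup G} (h : Comm L P) : Comm P L := fun a ha b hb => (h b hb a ha).symm

theorem comm_iff_le_centralizer {L P : Subgroup G} : Comm L P ↔ L ≤ centralizer (P : Set G) := by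
  constructor
  · intro h x hx
    rw [mem_centralizer_iff]
    intro p hp
    exact (h x hx p hp).symm
  · intro h a ha b hb
    exact (mem_centralizer_iff.mp (h ha) b hb).symm

theorem Comm.mono {L P L' P' : Subgroup G} (h : Comm L P) (h1 : L' ≤ L) (h2 : P' ≤ P) : Comm L' P' :=
  fun a ha b hb => h a (h1 ha) b (h2 hb)

theorem comm_cj {L P : Subgroup G} (h : Comm L P) (g : G) : Comm (cj g L) (cj g P) := by
  intro a ha b hb
  have h1 := h _ (mem_cj.mp ha) _ (mem_cj.mp hb)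
  have h2 : g * (g⁻¹ * a * g * (g⁻¹ * b * g)) * g⁻¹ = g * (g⁻¹ * b * g * (g⁻¹ * a * g)) * g⁻¹ := by rw [h1]
  calc a * b = g * (g⁻¹ * a * g * (g⁻¹ * b * g)) * g⁻¹ := by group
    _ = g * (g⁻¹ * b * g * (g⁻¹ * a * g)) * g⁻¹ := h2
    _ = b * a := by group

theorem SP.not_comm_self {L : Subgroup G} (h : SP L) : ¬ Comm L L := by
  intro hc
  have h1 : ⁅L, L⁆ = ⊥ := commutator_eq_bot_iff_le_centralizer.mpr (comm_iff_le_centralizer.mp hc)
  rw [h.perfect] at h1
  exact h.ne_bot h1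

/-- the identity is the only element of a simple perfect group commuting with the group -/
theorem SP.eq_one_of_comm {L : Subgroup G} (h : SP L) {z : G} (hz : z ∈ L) (hc : ∀ x ∈ L, x * z = z * x) :
    z = 1 := by
  have := h.simple
  rcases (Subgroup.instNormalCenter (G := ↥L)).eq_bot_or_eq_top with h1 | h1
  · have h2 : (⟨z, hz⟩ : ↥L) ∈ center ↥L := by
      rw [mem_center_iff]
      intro x
      exact Subtype.ext (hc x x.2)
    rw [h1, mem_bot] at h2
    exact congrArg Subtype.val h2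
  · exfalso
    apply h.not_comm_self
    intro a ha b hb
    have h2 : (⟨b, hb⟩ : ↥L) ∈ center ↥L := by rw [h1]; exact mem_top _
    exact congrArg Subtype.val (mem_center_iff.mp h2 ⟨a, ha⟩)

theorem SP.isQuasisimple {L : Subgroup G} (h : SP L) : IsQuasisimple ↥L := by
  have hs := h.simple
  have hc : center ↥L = ⊥ := by
    rw [eq_bot_iff]
    intro z hz
    rw [mem_bot]
    apply Subtype.ext
    exact h.eq_one_of_comm z.2 fun x hx => congrArg Subtype.val (mem_center_iff.mp hz ⟨x, hx⟩)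
  refine ⟨Subgroup.isPerfect_iff.mpr h.perfect, ?_⟩
  have e : ↥L ≃* ↥L ⧸ center ↥L := by
    refine (QuotientGroup.quotientBot (G := ↥L)).symm.trans ?_
    exact QuotientGroup.quotientMulEquivOfEq hc.symm
  exact e.symm.isSimpleGroup

theorem SP.isComponent {L : Subgroup G} (h : SP L) (hs : L.IsSubnormal) : IsComponent L :=
  ⟨hs, h.isQuasisimple⟩

theorem SP.cj {L : Subgroup G} (h : SP L) (g : G) : SP (cj g L) := by
  have e : ↥L ≃* ↥(IntrinsicBasic.cj g L) := L.equivMapOfInjective _ (MulAut.conj g).injective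
  have := h.simple
  refine ⟨e.symm.isSimpleGroup, ?_⟩
  rw [cj_def, ← Subgroup.map_commutator, h.perfect]

/-! ### `Cmp` -/

theorem Cmp.le {H L : Subgroup G} (h : Cmp H L) : L ≤ H := h.1

theorem Cmp.of_normal {H L : Subgroup G} (h : L ≤ H) (hn : H ≤ normalizer (L : Set G)) : Cmp H L :=
  ⟨h, (normal_subgroupOf_of_le_normalizer hn).isSubnormal⟩

/-- transport along an injective homomorphism -/
theorem cmp_map_iff {G' : Type*} [Group G'] {f : G →* G'} (hf : Function.Injective f) {H L : Subgroup G} :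
    Cmp (H.map f) (L.map f) ↔ Cmp H L := by
  unfold Cmp
  rw [Subgroup.map_le_map_iff_of_injective hf]
  have e : ↥H ≃* ↥(H.map f) := H.equivMapOfInjective f hf
  let e : ↥H ≃* ↥(H.map f) := H.equivMapOfInjective f hf
  have he : ∀ x : ↥H, ((e x : ↥(H.map f)) : G') = f x := fun x => rfl
  have h1 : ((L.map f).subgroupOf (H.map f)).comap e.toMonoidHom = L.subgroupOf H := by
    ext x
    rw [mem_comap, mem_subgroupOf, mem_subgroupOf]
    change ((e x : ↥(H.map f)) : G') ∈ L.map f ↔ _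
    rw [he]
    exact Subgroup.mem_map_iff_mem hf
  have h2 : (L.subgroupOf H).map e.toMonoidHom = (L.map f).subgroupOf (H.map f) := by
    rw [← h1]
    exact Subgroup.map_comap_eq_self_of_surjective e.surjective _
  constructor
  · rintro ⟨h3, h4⟩
    refine ⟨h3, ?_⟩
    rw [← h1]
    exact h4.comap _
  · rintro ⟨h3, h4⟩
    refine ⟨h3, ?_⟩
    rw [← h2]
    exact h4.map e.surjective

theorem cmp_subtype {Y : Subgroup G} {H L : Subgroup ↥Y} :
    Cmp (H.map Y.subtype) (L.map Y.subtype) ↔ Cmp H L := cmp_map_iff Y.subtype_injective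

theorem Cmp.cj {H L : Subgroup G} (h : Cmp H L) (g : G) :
    Cmp (IntrinsicBasic.cj g H) (IntrinsicBasic.cj g L) := by
  rw [cj_def, cj_def]
  exact (cmp_map_iff (f := (MulAut.conj g).toMonoidHom) (MulAut.conj g).injective).mpr h

theorem Cmp.trans {H K L : Subgroup G} (h1 : Cmp H K) (h2 : Cmp K L) : Cmp H L := by
  refine ⟨h2.1.trans h1.1, ?_⟩
  have h3 : K.subgroupOf H ≤ ⊤ := le_top
  refine IsSubnormal.trans (H := L.subgroupOf H) (K := K.subgroupOf H) ?_ ?_ h1.2
  · intro x hx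
    rw [mem_subgroupOf] at hx ⊢
    exact h2.1 hx
  · have h4 : Cmp (K.subgroupOf H) (L.subgroupOf H) := by
      rw [← cmp_subtype, map_subgroupOf_eq_of_le h1.1, map_subgroupOf_eq_of_le (h2.1.trans h1.1)]
      exact h2
    exact h4.2

theorem Cmp.mono {H K L : Subgroup G} (h : Cmp H L) (h1 : L ≤ K) (h2 : K ≤ H) : Cmp K L := by
  refine ⟨h1, ?_⟩
  have h3 := h.2.comap (inclusion h2)
  have h4 : (L.subgroupOf H).comap (inclusion h2) = L.subgroupOf K := by
    ext x
    rw [mem_comap, mem_subgroupOf, mem_subgroupOf]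
    rfl
  rwa [h4] at h3

theorem SP.subgroupOf {H L : Subgroup G} (h : SP L) (hle : L ≤ H) : SP (L.subgroupOf H) := by
  have := h.simple
  refine ⟨(subgroupOfEquivOfLe hle).isSimpleGroup, ?_⟩
  apply Subgroup.map_injective H.subtype_injective
  rw [Subgroup.map_commutator, map_subgroupOf_eq_of_le hle, h.perfect]

theorem Cmp.isComponent {H L : Subgroup G} (h : Cmp H L) (hs : SP L) : IsComponent (L.subgroupOf H) :=
  (hs.subgroupOf h.1).isComponent h.2

theorem Cmp.comm_of_ne {H L M : Subgroup G} (h : Cmp H L) (h' : Cmp H M) (hL : SP L) (hM : SP M) (hne : L ≠ M) :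
    Comm L M := by
  have h1 : L.subgroupOf H ≠ M.subgroupOf H := by
    intro he
    apply hne
    rw [← map_subgroupOf_eq_of_le h.1, he, map_subgroupOf_eq_of_le h'.1]
  have h2 := component_le_centralizer_of_ne (h.isComponent hL) (h'.isComponent hM) h1
  intro a ha b hb
  have h3 := mem_centralizer_iff.mp (h2 (show (⟨a, h.1 ha⟩ : ↥H) ∈ L.subgroupOf H from ha)) ⟨b, h'.1 hb⟩ hb
  exact (congrArg Subtype.val h3).symm

/-- **LEMMA S**, in `G` itself -/
theorem isSubnormal_of_cent [Finite G] {M P : Subgroup G} {τ : G} (hMs : M.IsSubnormal) (hM : SP M)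
    (hτ : τ ∈ M) (hP : SP P) (hPc : Cmp (centralizer ({τ} : Set G)) P)
    (hsolv : ∀ D : Subgroup G, ⁅D, D⁆ = D → D ≤ normalizer (M : Set G) → (∀ d ∈ D, d * τ = τ * d) →
      D ≤ centralizer (M : Set G)) : P.IsSubnormal := by
  by_contra hPs
  set C : Subgroup G := centralizer ({τ} : Set G) with hC
  have hMcomp : IsComponent M := hM.isComponent hMs
  have hPcomp : IsComponent (P.subgroupOf C) := hPc.isComponent hP
  have hPC : ∀ p ∈ P, p * τ = τ * p := fun p hp => mem_centralizer_singleton_iff.mp (hPc.1 hp)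
  -- components other than `M` commute with `P`
  have hcomp : ∀ E : Subgroup G, IsComponent E → E ≠ M → Comm P E := by
    intro E hE hne
    have h1 : E ≤ C := by
      intro x hx
      rw [hC, mem_centralizer_singleton_iff]
      exact (mem_centralizer_iff.mp (component_le_centralizer_of_ne hE hMcomp hne hx) τ hτ).symm
    have h2 : IsComponent (E.subgroupOf C) := isComponent_subgroupOf h1 hE
    have h3 : P.subgroupOf C ≠ E.subgroupOf C := by
      intro he
      apply hPs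
      have : P = E := by
        rw [← map_subgroupOf_eq_of_le hPc.1, he, map_subgroupOf_eq_of_le h1]
      rw [this]
      exact hE.1
    have h4 := component_le_centralizer_of_ne hPcomp h2 h3
    intro a ha b hb
    have h5 := mem_centralizer_iff.mp (h4 (show (⟨a, hPc.1 ha⟩ : ↥C) ∈ P.subgroupOf C from ha)) ⟨b, h1 hb⟩ hb
    exact (congrArg Subtype.val h5).symm
  -- the Fitting subgroup
  have hfit : Comm P (fittingSubgroup G) := by
    have h0 := SignalizersComponents.FStarNormal.component_comm_fitting hMcomp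
    have h1 : fittingSubgroup G ≤ C := by
      intro x hx
      rw [hC, mem_centralizer_singleton_iff]
      exact mem_centralizer_iff.mp (commutator_eq_bot_iff_le_centralizer.mp h0 hτ) x hx
    have h2 : ((fittingSubgroup G).subgroupOf C).Normal := by
      have : (fittingSubgroup G).Normal := Lib.Cores.fittingSubgroup_normal
      infer_instance
    have h3 : Group.IsSolvable ↥((fittingSubgroup G).subgroupOf C) := by
      have h4 : Group.IsNilpotent (fittingSubgroup G) := Lib.Cores.fittingSubgroup_isNilpotent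
      have h5 : Group.IsSolvable ↥(fittingSubgroup G) := inferInstance
      exact Group.isSolvable_of_isSolvable_injective (f := (subgroupOfEquivOfLe h1).toMonoidHom)
        (subgroupOfEquivOfLe h1).injective
    have h6 : ⁅P.subgroupOf C, (fittingSubgroup G).subgroupOf C⁆ = ⊥ :=
      component_commutator_solvable hPcomp (by rw [normalizer_eq_top_iff.mpr h2]; exact le_top) h3
    have h7 := commutator_eq_bot_iff_le_centralizer.mp h6
    intro a ha b hb
    have h8 := mem_centralizer_iff.mp (h7 (show (⟨a, hPc.1 ha⟩ : ↥C) ∈ P.subgroupOf C from ha)) ⟨b, h1 hb⟩ hb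
    exact (congrArg Subtype.val h8).symm
  -- `P` normalises `M`
  have hnorm : P ≤ normalizer (M : Set G) := by
    intro g hg
    rw [mem_normalizer_iff_cj]
    by_contra hne
    have h1 : IsComponent (IntrinsicBasic.cj g M) := isComponent_conj g hMcomp
    have h2 := hcomp _ h1 hne
    apply hne
    ext x
    constructor
    · intro hx
      have h3 := h2 g hg x hx
      have h4 : g⁻¹ * x * g ∈ M := mem_cj.mp hx
      have h5 : g⁻¹ * x * g = x := by rw [mul_assoc, ← h3]; group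
      rwa [h5] at h4
    · intro hx
      have hx' : g * x * g⁻¹ ∈ IntrinsicBasic.cj g M := conj_mem_cj hx
      have h3 := h2 g hg _ hx'
      have h4 : g * x * g⁻¹ = x := by
        have h5 : g * (g * x * g⁻¹) = g * x := by rw [h3]; group
        exact mul_left_cancel h5
      rwa [h4] at hx'
  have hcM : P ≤ centralizer (M : Set G) := hsolv P hP.perfect hnorm hPC
  have hall : P ≤ centralizer (generalizedFittingSubgroup G : Set G) := by
    have h1 : generalizedFittingSubgroup G ≤ centralizer (P : Set G) := by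
      rw [Lib.GenFitting.genFitting_def, sup_le_iff, layer_le_iff]
      constructor
      · intro K hK
        by_cases hKM : K = M
        · rw [hKM]
          exact comm_iff_le_centralizer.mp (comm_iff_le_centralizer.mpr hcM).symm
        · exact comm_iff_le_centralizer.mp (hcomp K hK hKM).symm
      · exact comm_iff_le_centralizer.mp hfit.symm
    exact comm_iff_le_centralizer.mp (comm_iff_le_centralizer.mpr h1).symm
  have h9 := hall.trans Lib.GenFitting.centralizer_genFitting_le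
  apply hP.not_comm_self
  intro a ha b hb
  exact (comm_iff_le_centralizer.mpr hall) a ha b (h9 hb)

/-- **LEMMA S** -/
theorem Cmp.of_cent [Finite G] {Y M P : Subgroup G} {τ : G} (hMs : Cmp Y M) (hM : SP M)
    (hτ : τ ∈ M) (hP : SP P) (hPc : Cmp (Y ⊓ centralizer ({τ} : Set G)) P)
    (hsolv : ∀ D : Subgroup G, ⁅D, D⁆ = D → D ≤ normalizer (M : Set G) → (∀ d ∈ D, d * τ = τ * d) →
      D ≤ centralizer (M : Set G)) : Cmp Y P := by
  have hPY : P ≤ Y := hPc.1.trans inf_le_left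
  refine ⟨hPY, ?_⟩
  refine isSubnormal_of_cent (τ := (⟨τ, hMs.1 hτ⟩ : ↥Y)) hMs.2 (hM.subgroupOf hMs.1) hτ (hP.subgroupOf hPY) ?_ ?_
  · rw [← cmp_subtype, map_subgroupOf_eq_of_le hPY]
    have h1 : (centralizer ({(⟨τ, hMs.1 hτ⟩ : ↥Y)} : Set ↥Y)).map Y.subtype = Y ⊓ centralizer ({τ} : Set G) := by
      ext x
      rw [Subgroup.mem_map, mem_inf, mem_centralizer_singleton_iff]
      constructor
      · rintro ⟨y, hy, rfl⟩
        exact ⟨y.2, congrArg Subtype.val (mem_centralizer_singleton_iff.mp hy)⟩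
      · rintro ⟨hx, hx'⟩
        exact ⟨⟨x, hx⟩, mem_centralizer_singleton_iff.mpr (Subtype.ext hx'), rfl⟩
    rw [h1]
    exact hPc
  · intro D hD hDn hDc x hx
    have h1 := hsolv (D.map Y.subtype) (by rw [← Subgroup.map_commutator, hD]) ?_ ?_
    · rw [mem_centralizer_iff]
      intro m hm
      exact Subtype.ext (mem_centralizer_iff.mp (h1 ⟨x, hx, rfl⟩) m hm)
    · rintro - ⟨d, hd, rfl⟩
      have h2 := hDn hd
      rw [mem_normalizer_iff] at h2 ⊢
      intro m
      constructor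
      · intro hm
        exact (h2 ⟨m, hMs.1 hm⟩).mp hm
      · intro hm
        have h3 : m ∈ Y := by
          have h4 : (d : G)⁻¹ * (d * m * (d : G)⁻¹) * d ∈ Y :=
            Y.mul_mem (Y.mul_mem (Y.inv_mem d.2) (hMs.1 hm)) d.2
          have h5 : (d : G)⁻¹ * (d * m * (d : G)⁻¹) * d = m := by group
          rwa [h5] at h4
        exact (h2 ⟨m, h3⟩).mpr hm
    · rintro - ⟨d, hd, rfl⟩
      exact congrArg Subtype.val (hDc d hd)

end Cfsg.Agent.UGT.Blk
end
end

-- part: UGT/Blk/Act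
section
set_option linter.all false
open scoped Cfsg.Agent.FastGrp

-- part: UGT/Blk/Facts
section
/-!
# Facts on the members, used in the adjacency files

`As L u a`: `u` acts on `L` as `a`.
`LF L PG`: `PG` is the group of elements of `N(L)` inducing elements of `PGL(2,q)` on `L ≅ L₂(q)`, `q ≥ 5` odd.
-/

set_option autoImplicit false

open Subgroup
open Cfsg.Agent.SignalizersComponents.IntrinsicBasic (cj)

namespace Cfsg.Agent.UGT.Blk

variable {G : Type*} [Group G]

/-- `u` acts on `L` as `a` -/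
def As (L : Subgroup G) (u a : G) : Prop := ∀ x ∈ L, u * x * u⁻¹ = a * x * a⁻¹

/-- `u` induces an inner automorphism of `L` -/
def Inn (L : Subgroup G) (u : G) : Prop := ∃ a ∈ L, As L u a

/-- `q ≥ 11`: generation by centralizers -/
def Big (L PG : Subgroup G) : Prop :=
  ∀ a ∈ L, orderOf a = 2 → ∀ u ∈ PG, ∀ v ∈ PG, u * u = 1 → v * v = 1 → u * v = v * u → As L u a →
    v ∉ centralizer (L : Set G) → u * v ∉ centralizer (L : Set G) →
    ∀ X : Subgroup G, (∀ x ∈ L, x * u = u * x → x ∈ X) → (∀ x ∈ L, x * v = v * x → x ∈ X) → L ≤ X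

/-- `q = 7, 9` -/
def Med (L PG : Subgroup G) : Prop :=
  ∀ a ∈ L, orderOf a = 2 → (∀ x ∈ L, x * a = a * x → ∃ n : ℕ, x ^ 2 ^ n = 1) ∧
    ∀ d ∈ PG, d * d = 1 → (∀ x ∈ L, x * a = a * x → x * d = d * x) → d ∈ centralizer (L : Set G) ∨ As L d a

/-- `q = 5` -/
def Fiv (L PG : Subgroup G) : Prop :=
  ∀ a ∈ L, orderOf a = 2 → (∀ x ∈ L, x * a = a * x → x * x = 1) ∧
    (∃ l ∈ L, l * l * l = 1 ∧ a * (l * a * l⁻¹) = l⁻¹ * a * l ∧
      ∀ x ∈ L, x * a = a * x → x = 1 ∨ x = a ∨ x = l * a * l⁻¹ ∨ x = l⁻¹ * a * l) ∧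
    ∀ d ∈ PG, d * d = 1 → (∀ x ∈ L, x * a = a * x → x * d = d * x) → ∃ z ∈ L, z * a = a * z ∧ As L d z

/-- Facts on `L ≅ L₂(q)` -/
structure LF (L PG : Subgroup G) : Prop where
  pgle : PG ≤ normalizer (L : Set G)
  le : L ≤ PG
  cenle : centralizer (L : Set G) ≤ PG
  /-- a field type involution centralizes an `A₄` -/
  fld : ∀ u ∈ normalizer (L : Set G), u * u = 1 → u ∉ PG →
    ∃ v ∈ L, ∃ h ∈ L, orderOf v = 2 ∧ v * u = u * v ∧ h * u = u * h ∧ v * (h * v * h⁻¹) = h⁻¹ * v * h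
  /-- no `A₄` acts on `L` centralizing an involution of `L` -/
  noA4 : ∀ t ∈ L, orderOf t = 2 → ∀ v ∈ normalizer (L : Set G), ∀ h ∈ normalizer (L : Set G), v * v = 1 →
    v * t = t * v → h * t = t * h → v * (h * v * h⁻¹) = h⁻¹ * v * h → v ∈ centralizer (L : Set G)
  /-- `|PGL : L| = 2` -/
  idx : ∀ u ∈ PG, ∀ v ∈ PG, ¬ Inn L u → ¬ Inn L v → Inn L (u * v)
  /-- a four-group of `C_PGL(t)` contains `t` -/
  four : ∀ t ∈ L, orderOf t = 2 → ∀ v ∈ PG, ∀ w ∈ PG, v * v = 1 → w * w = 1 → v * w = w * v → v * t = t * v →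
    w * t = t * w → v ∉ centralizer (L : Set G) → w ∉ centralizer (L : Set G) →
    v * w ∉ centralizer (L : Set G) → As L v t ∨ As L w t ∨ As L (v * w) t
  solv : ∀ t ∈ L, orderOf t = 2 → ∀ D : Subgroup G, ⁅D, D⁆ = D → D ≤ normalizer (L : Set G) →
    (∀ d ∈ D, d * t = t * d) → D ≤ centralizer (L : Set G)
  perf : ∀ D : Subgroup G, ⁅D, D⁆ = D → D ≤ normalizer (L : Set G) → ∀ d ∈ D, Inn L d
  fix : ∀ u ∈ normalizer (L : Set G), u * u = 1 → ∃ t ∈ L, orderOf t = 2 ∧ t * u = u * t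
  partner : ∀ a ∈ L, orderOf a = 2 → ∃ b ∈ L, orderOf b = 2 ∧ b ≠ a ∧ a * b = b * a
  perfect : ⁅L, L⁆ = L
  conj2 : ∀ t ∈ L, ∀ u ∈ L, orderOf t = 2 → orderOf u = 2 → ∃ l ∈ L, l * t * l⁻¹ = u
  simple : ∀ N : Subgroup G, N ≤ L → (∀ l ∈ L, ∀ n ∈ N, l * n * l⁻¹ ∈ N) → N = ⊥ ∨ N = L
  size : Big L PG ∨ Med L PG ∨ Fiv L PG

/-- THEOREM H for `L`: `Y = O(C_L(u))`, `u` of PGL type. -/
def Root (L PG : Subgroup G) : Prop :=
  ∀ u ∈ PG, u * u = 1 → ¬ Inn L u → ∃ Y : Subgroup G, Y ≤ L ∧ (∀ y ∈ Y, y * u = u * y) ∧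
    (∀ y ∈ Y, y * y = 1 → y = 1) ∧ (∀ t ∈ L, orderOf t = 2 → t * u = u * t → ∀ y ∈ Y, t * y * t⁻¹ = y⁻¹) ∧
    centralizer (Y : Set G) ≤ normalizer (L : Set G)

end Cfsg.Agent.UGT.Blk
end

-- part: UGT/Blk/Act
section
/-!
# Elementary lemmas: `As`, `Comm`, the class system `Sys`
-/

set_option autoImplicit false

open Subgroup
open Cfsg.Agent.SignalizersComponents.IntrinsicBasic

namespace Cfsg.Agent.UGT.Blk

variable {G : Type*} [Group G]

theorem mem_cenL {L : Subgroup G} {g : G} : g ∈ centralizer (L : Set G) ↔ ∀ x ∈ L, x * g = g * x := by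
  rw [mem_centralizer_iff]; rfl

theorem mem_cenL' {L : Subgroup G} {g : G} : g ∈ centralizer (L : Set G) ↔ ∀ x ∈ L, g * x = x * g := by
  rw [mem_cenL]; exact forall₂_congr fun _ _ => eq_comm

theorem mem_csing {t g : G} : g ∈ centralizer ({t} : Set G) ↔ g * t = t * g := by
  rw [mem_centralizer_singleton_iff]

theorem conj_eq_iff {x y z : G} : x * y * x⁻¹ = z ↔ x * y = z * x := by
  rw [mul_inv_eq_iff_eq_mul]

theorem conj_self_iff {x y : G} : x * y * x⁻¹ = y ↔ x * y = y * x := conj_eq_iff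

/-! ### involutions -/

theorem inv2_sq {t : G} (h : orderOf t = 2) : t * t = 1 := by
  have := pow_orderOf_eq_one t; rw [h, pow_two] at this; exact this

theorem inv2_ne {t : G} (h : orderOf t = 2) : t ≠ 1 := by
  rintro rfl; rw [orderOf_one] at h; exact absurd h (by decide)

theorem inv2_inv {t : G} (h : orderOf t = 2) : t⁻¹ = t := inv_eq_of_mul_eq_one_right (inv2_sq h)

theorem ord2_of {t : G} (h : t * t = 1) (h1 : t ≠ 1) : orderOf t = 2 := by
  rw [orderOf_eq_prime_iff]; exact ⟨by rw [pow_two]; exact h, h1⟩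

theorem ord2_conj {t : G} (h : orderOf t = 2) (g : G) : orderOf (g * t * g⁻¹) = 2 := by
  refine ord2_of ?_ ?_
  · have := inv2_sq h
    calc g * t * g⁻¹ * (g * t * g⁻¹) = g * (t * t) * g⁻¹ := by group
      _ = 1 := by rw [this]; group
  · intro e
    rw [conj_eq_iff, one_mul] at e
    exact inv2_ne h (mul_eq_left.mp e)

theorem ord2_mul {t u : G} (ht : orderOf t = 2) (hu : orderOf u = 2) (e : t * u = u * t) (ne : t ≠ u) :
    orderOf (t * u) = 2 := by
  refine ord2_of ?_ ?_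
  · calc t * u * (t * u) = t * (u * t) * u := by group
      _ = t * t * (u * u) := by rw [← e]; group
      _ = 1 := by rw [inv2_sq ht, inv2_sq hu, one_mul]
  · intro e1
    exact ne (by rw [eq_inv_of_mul_eq_one_left e1, inv2_inv hu])

theorem exists_ord2_of_pow {x : G} {n : ℕ} (hx : x ^ 2 ^ n = 1) (h1 : x ≠ 1) : ∃ k : ℕ, orderOf (x ^ k) = 2 := by
  have h2 : orderOf x ∣ 2 ^ n := orderOf_dvd_of_pow_eq_one hx
  obtain ⟨m, -, hm⟩ := (Nat.dvd_prime_pow Nat.prime_two).mp h2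
  rcases Nat.eq_zero_or_pos m with rfl | hm0
  · rw [pow_zero, orderOf_eq_one_iff] at hm; exact absurd hm h1
  · refine ⟨2 ^ (m - 1), ?_⟩
    have h3 : orderOf x ≠ 0 := by rw [hm]; positivity
    have h4 : 2 ^ (m - 1) ≠ 0 := by positivity
    rw [orderOf_pow_of_dvd h4 (by rw [hm]; exact pow_dvd_pow 2 (Nat.sub_le m 1)), hm,
      Nat.pow_div (Nat.sub_le m 1) two_pos, Nat.sub_sub_self hm0, pow_one]

/-! ### `Comm` -/


theorem Comm.le {L P : Subgroup G} (h : Comm L P) : L ≤ centralizer (P : Set G) :=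
  fun a ha => mem_cenL'.mpr fun b hb => h a ha b hb

theorem comm_iff {L P : Subgroup G} : Comm L P ↔ L ≤ centralizer (P : Set G) :=
  ⟨Comm.le, fun h a ha b hb => mem_cenL'.mp (h ha) b hb⟩

theorem Comm.cj {L P : Subgroup G} (h : Comm L P) (g : G) : Comm (cj g L) (cj g P) := by
  intro a ha b hb
  rw [mem_cj] at ha hb
  have := h _ ha _ hb
  calc a * b = g * ((g⁻¹ * a * g) * (g⁻¹ * b * g)) * g⁻¹ := by group
    _ = b * a := by rw [this]; group

/-! ### `As` -/

theorem As.refl (L : Subgroup G) (u : G) : As L u u := fun _ _ => rfl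

theorem As.symm {L : Subgroup G} {u v : G} (h : As L u v) : As L v u := fun x hx => (h x hx).symm

theorem As.trans {L : Subgroup G} {u v w : G} (h : As L u v) (h' : As L v w) : As L u w :=
  fun x hx => (h x hx).trans (h' x hx)

/-- second factors normalise -/
theorem As.mul {L : Subgroup G} {u v a b : G} (h : As L u a) (h' : As L v b) (hb : b ∈ normalizer (L : Set G)) :
    As L (u * v) (a * b) := by
  intro x hx
  have h1 : b * x * b⁻¹ ∈ L := (mem_normalizer_iff.mp hb x).mp hx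
  calc u * v * x * (u * v)⁻¹ = u * (v * x * v⁻¹) * u⁻¹ := by group
    _ = a * (b * x * b⁻¹) * a⁻¹ := by rw [h' x hx, h _ h1]
    _ = a * b * x * (a * b)⁻¹ := by group

theorem as_one_iff {L : Subgroup G} {u : G} : As L u 1 ↔ u ∈ centralizer (L : Set G) := by
  rw [mem_cenL']
  refine forall₂_congr fun x _ => ?_
  rw [one_mul, inv_one, mul_one, conj_self_iff]

theorem As.of_cen {L : Subgroup G} {u : G} (h : u ∈ centralizer (L : Set G)) : As L u 1 := as_one_iff.mpr h

theorem As.norm {L : Subgroup G} {u a : G} (h : As L u a) (ha : a ∈ L) : u ∈ normalizer (L : Set G) := by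
  rw [mem_normalizer_iff]
  intro x
  constructor
  · intro hx; rw [h x hx]; exact L.mul_mem (L.mul_mem ha hx) (L.inv_mem ha)
  · intro hx
    have h1 : a⁻¹ * (u * x * u⁻¹) * a ∈ L := L.mul_mem (L.mul_mem (L.inv_mem ha) hx) ha
    have h2 := h _ h1
    have h3 : u * (a⁻¹ * (u * x * u⁻¹) * a) * u⁻¹ = u * x * u⁻¹ := by rw [h2]; group
    have h4 : a⁻¹ * (u * x * u⁻¹) * a = x := by
      have := congrArg (fun z => u⁻¹ * z * u) h3
      simpa [mul_assoc] using this
    rw [← h4]; exact h1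

theorem As.inv_mul {L : Subgroup G} {u a : G} (h : As L u a) : a⁻¹ * u ∈ centralizer (L : Set G) := by
  rw [← as_one_iff]
  intro x hx
  calc a⁻¹ * u * x * (a⁻¹ * u)⁻¹ = a⁻¹ * (u * x * u⁻¹) * a := by group
    _ = 1 * x * 1⁻¹ := by rw [h x hx]; group

/-- `u a` centralizes `L` if `a` is an involution of `L` and `u` acts as `a` -/
theorem As.mul_mem_cen {L : Subgroup G} {u a : G} (h : As L u a) (ha : a ∈ L) (ha2 : a * a = 1) :
    u * a ∈ centralizer (L : Set G) := by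
  rw [← as_one_iff, ← ha2]
  exact h.mul (As.refl L a) (le_normalizer ha)

theorem As.mul_mem_cen' {L : Subgroup G} {u a : G} (h : As L u a) (ha2 : a * a = 1) :
    a * u ∈ centralizer (L : Set G) := by
  have := h.inv_mul
  rwa [inv_eq_of_mul_eq_one_right ha2] at this

theorem As.comm_iff {L : Subgroup G} {u a x : G} (h : As L u a) (hx : x ∈ L) :
    x * u = u * x ↔ x * a = a * x := by
  have := h x hx
  constructor
  · intro e
    rw [← e, mul_inv_cancel_right, eq_mul_inv_iff_mul_eq] at this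
    exact this
  · intro e
    rw [← e, mul_inv_cancel_right, mul_inv_eq_iff_eq_mul] at this
    exact this.symm

theorem As.self_comm {L : Subgroup G} {u a : G} (h : As L u a) (ha : a ∈ L) : a * u = u * a :=
  (h.comm_iff ha).mpr rfl

theorem As.cj {L : Subgroup G} {u a : G} (h : As L u a) (g : G) :
    As (Cfsg.Agent.SignalizersComponents.IntrinsicBasic.cj g L) (g * u * g⁻¹) (g * a * g⁻¹) := by
  intro x hx
  rw [mem_cj] at hx
  have := h _ hx
  calc g * u * g⁻¹ * x * (g * u * g⁻¹)⁻¹ = g * (u * (g⁻¹ * x * g) * u⁻¹) * g⁻¹ := by group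
    _ = g * a * g⁻¹ * x * (g * a * g⁻¹)⁻¹ := by rw [this]; group

theorem As.cen_of {L : Subgroup G} {u a : G} (h : As L u a) (ha : a ∈ centralizer (L : Set G)) :
    u ∈ centralizer (L : Set G) := as_one_iff.mp (h.trans (As.of_cen ha))

/-! ### `LF` -/

section LF

variable {L PG : Subgroup G} (F : LF L PG)
include F

theorem LF.even : ∃ t ∈ L, orderOf t = 2 := by
  obtain ⟨t, h1, h2, -⟩ := F.fix 1 (Subgroup.one_mem _) (mul_one 1)
  exact ⟨t, h1, h2⟩

theorem LF.not_self : ¬ Comm L L := by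
  intro h
  obtain ⟨t, ht, h2⟩ := F.even
  have h1 : ⁅L, L⁆ = ⊥ := by
    rw [commutator_eq_bot_iff_le_centralizer]; exact h.le
  rw [F.perfect] at h1
  rw [h1, mem_bot] at ht
  exact inv2_ne h2 ht

theorem LF.cen_bot {x : G} (hx : x ∈ L) (hc : x ∈ centralizer (L : Set G)) : x = 1 := by
  have h1 := F.simple (L ⊓ centralizer (L : Set G)) inf_le_left (by
    intro l hl n hn
    have : l * n * l⁻¹ = n := conj_self_iff.mpr (mem_cenL.mp hn.2 l hl)
    rw [this]; exact hn)
  rcases h1 with h1 | h1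
  · have : x ∈ L ⊓ centralizer (L : Set G) := ⟨hx, hc⟩
    rw [h1] at this; exact mem_bot.mp this
  · exact absurd (comm_iff.mpr (by rw [← h1]; exact inf_le_right.trans (by rw [h1]))) F.not_self

/-- an involution acting as an element `a` of `L` and non-trivially: `a` is an involution -/
theorem LF.ord2 {u a : G} (hu : u * u = 1) (ha : a ∈ L) (h : As L u a) (hn : u ∉ centralizer (L : Set G)) :
    orderOf a = 2 := by
  refine ord2_of ?_ ?_
  · refine F.cen_bot (L.mul_mem ha ha) ?_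
    rw [← as_one_iff, ← hu]
    exact (h.mul h (le_normalizer ha)).symm
  · rintro rfl
    exact hn (as_one_iff.mp h)

theorem LF.as_inj {u a b : G} (ha : a ∈ L) (hb : b ∈ L) (h : As L u a) (h' : As L u b) : a = b := by
  have h1 : As L a b := h.symm.trans h'
  have := F.cen_bot (L.mul_mem (L.inv_mem hb) ha) h1.inv_mul
  exact (inv_mul_eq_one.mp this).symm

end LF

end Cfsg.Agent.UGT.Blk
end
end

-- part: UGT/BL/BlkDefs
section
set_option linter.all false

/-!
# Theorem BL: the interface of the closing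

`Blk Λ H`: `Λ` is a set of pairwise commuting nonabelian simple subgroups, `H` its stabiliser; involutions of products
of `J ⊆ Λ` (`J ≠ Λ`, `J` has at most one member or at least two members of `Λ` are outside `J`) are fused into `H` only
by `H`.
-/

set_option autoImplicit false

open Subgroup
open Cfsg.Agent.SignalizersComponents.IntrinsicBasic (cj)

namespace Cfsg.Agent.UGT.BL

/-- the hypotheses of the closing -/
structure Blk {G : Type*} [Group G] (Λ : Set (Subgroup G)) (H : Subgroup G) : Prop where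
  comm : ∀ L ∈ Λ, ∀ K ∈ Λ, L ≠ K → L ≤ centralizer (K : Set G)
  simple : ∀ L ∈ Λ, IsSimpleGroup ↥L
  nab : ∀ L ∈ Λ, ¬ ∀ x y : ↥L, x * y = y * x
  inv : ∀ L ∈ Λ, ∃ t ∈ L, orderOf t = 2
  four : ∀ L ∈ Λ, ∀ t ∈ L, orderOf t = 2 → ∃ v ∈ L, orderOf v = 2 ∧ v ≠ t ∧ t * v = v * t
  stab : ∀ g, g ∈ H ↔ ∀ L ∈ Λ, cj g L ∈ Λ
  two : ∃ L ∈ Λ, ∃ K ∈ Λ, L ≠ K
  sc : ∀ J ⊆ Λ, J ≠ Λ → (J.Subsingleton ∨ (Λ \ J).Nontrivial) → ∀ u ∈ sSup J, orderOf u = 2 →
    ∀ g : G, g * u * g⁻¹ ∈ H → g ∈ H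

end Cfsg.Agent.UGT.BL
end

-- part: UGT/Blk/AdjInn
section
set_option linter.all false
open scoped Cfsg.Agent.FastGrp

/-!
# (A0)-(A2): an involution of `K` acting on `L` as an inner automorphism

`BP K L`: distinct, not commuting members of `SS`.
-/

set_option autoImplicit false

open Subgroup
open Cfsg.Agent.SignalizersComponents.IntrinsicBasic

namespace Cfsg.Agent.UGT.Blk

variable {G : Type*} [Group G] {SS : Set (Subgroup G)} {rel : Subgroup G → Subgroup G → Prop}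
  {PG : Subgroup G → Subgroup G}

/-- a pair of distinct non-commuting members -/
structure BP (SS : Set (Subgroup G)) (K L : Subgroup G) : Prop where
  mK : K ∈ SS
  mL : L ∈ SS
  ne : K ≠ L
  nc : ¬ Comm K L

theorem BP.symm {K L : Subgroup G} (h : BP SS K L) : BP SS L K :=
  ⟨h.mL, h.mK, h.ne.symm, fun e => h.nc e.symm⟩

/-- (A0) -/
theorem BP.ncen {K L : Subgroup G} (h : BP SS K L) (S : Sys SS rel) {u : G} (hu : u ∈ K) (h2 : orderOf u = 2) :
    u ∉ centralizer (L : Set G) :=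
  fun hc => h.nc (S.cen L h.mL K h.mK u hu h2 hc)

/-- (A0) for partners -/
theorem BP.prt {K L P : Subgroup G} (h : BP SS K L) (S : Sys SS rel) (r : rel L P) : BP SS K P := by
  have hP := S.rel_mem L h.mL P r
  refine ⟨h.mK, hP, ?_, ?_⟩
  · rintro rfl
    exact h.nc (S.comm L h.mL K r h.ne).symm
  · intro hc
    rcases S.spread P hP K h.mK hc L (S.symm _ _ r) with e | e
    · exact h.ne e
    · exact h.nc e

/-- (A1) -/
theorem BP.pgl {K L : Subgroup G} (h : BP SS K L) (S : Sys SS rel) (F : ∀ L ∈ SS, LF L (PG L)) {u : G}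
    (hu : u ∈ K) (h2 : orderOf u = 2) (hn : u ∈ normalizer (L : Set G)) : u ∈ PG L := by
  by_contra hc
  obtain ⟨v, hv, g, hg, hv2, hvu, hgu, hr⟩ := (F L h.mL).fld u hn (inv2_sq h2) hc
  have hC := S.cenle K h.mK u hu h2
  exact h.symm.ncen S hv hv2 ((F K h.mK).noA4 u hu h2 v (hC (mem_csing.mpr hvu)) g (hC (mem_csing.mpr hgu))
    (inv2_sq hv2) hvu hgu hr)

/-- first part of (A2): `a` normalises `K`, and some involution of `C_L(a)` acts on `K` as `u` -/
theorem BP.back {K L : Subgroup G} (h : BP SS K L) (S : Sys SS rel) (F : ∀ L ∈ SS, LF L (PG L)) {u a : G}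
    (hu : u ∈ K) (h2 : orderOf u = 2) (ha : a ∈ L) (ha2 : orderOf a = 2) (hs : As L u a) :
    ∃ a1 ∈ L, orderOf a1 = 2 ∧ a1 * a = a * a1 ∧ As K a1 u := by
  have FK := F K h.mK
  have FL := F L h.mL
  have hC := S.cenle K h.mK u hu h2
  obtain ⟨b, hb, hb2, hne, hab⟩ := FL.partner a ha ha2
  have hau : a * u = u * a := hs.self_comm ha
  have hbu : b * u = u * b := (hs.comm_iff hb).mpr hab.symm
  have hab2 : orderOf (a * b) = 2 := ord2_mul ha2 hb2 hab hne.symm
  have hapg := h.symm.pgl S F ha ha2 (hC (mem_csing.mpr hau))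
  have hbpg := h.symm.pgl S F hb hb2 (hC (mem_csing.mpr hbu))
  rcases FK.four u hu h2 a hapg b hbpg (inv2_sq ha2) (inv2_sq hb2) hab hau hbu (h.symm.ncen S ha ha2)
    (h.symm.ncen S hb hb2) (h.symm.ncen S (L.mul_mem ha hb) hab2) with e | e | e
  · exact ⟨a, ha, ha2, rfl, e⟩
  · exact ⟨b, hb, hb2, hab.symm, e⟩
  · refine ⟨a * b, L.mul_mem ha hb, hab2, ?_, e⟩
    rw [mul_assoc, ← hab]

/-- `K ⊓ L` contains no involution -/
theorem BP.inf {K L : Subgroup G} (h : BP SS K L) (S : Sys SS rel) {x : G} (hK : x ∈ K) (hL : x ∈ L) :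
    orderOf x ≠ 2 := fun e => h.ne (S.ti K h.mK L h.mL x hK hL e)

/-- not `L ≤ N(K)` if an involution of `K` normalises `L` -/
theorem BP.nle {K L : Subgroup G} (h : BP SS K L) (S : Sys SS rel) (F : ∀ L ∈ SS, LF L (PG L)) {u : G}
    (hu : u ∈ K) (h2 : orderOf u = 2) (hn : u ∈ normalizer (L : Set G)) :
    ¬ L ≤ normalizer (K : Set G) := by
  intro hle
  have FL := F L h.mL
  rcases FL.simple (L ⊓ K) inf_le_left (fun l hl n hn => ⟨L.mul_mem (L.mul_mem hl hn.1) (L.inv_mem hl),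
    (mem_normalizer_iff.mp (hle hl) n).mp hn.2⟩) with e | e
  · refine h.ncen S hu h2 (mem_cenL.mpr fun x hx => ?_)
    have h1 : x * u * x⁻¹ * u⁻¹ ∈ L ⊓ K := by
      constructor
      · have : u * x⁻¹ * u⁻¹ ∈ L := (mem_normalizer_iff.mp hn _).mp (L.inv_mem hx)
        have := L.mul_mem hx this
        simpa [mul_assoc] using this
      · exact K.mul_mem ((mem_normalizer_iff.mp (hle hx) u).mp hu) (K.inv_mem hu)
    rw [e, mem_bot, mul_inv_eq_one, mul_inv_eq_iff_eq_mul] at h1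
    exact h1
  · obtain ⟨t, ht, ht2⟩ := FL.even
    have : t ∈ L ⊓ K := by rw [e]; exact ht
    exact h.inf S this.2 ht ht2

/-- Not `Big L`. -/
theorem BP.not_big {K L : Subgroup G} (h : BP SS K L) (S : Sys SS rel) (F : ∀ L ∈ SS, LF L (PG L)) {u a : G}
    (hu : u ∈ K) (h2 : orderOf u = 2) (ha : a ∈ L) (ha2 : orderOf a = 2) (hs : As L u a) :
    ¬ Big L (PG L) := by
  intro hbig
  obtain ⟨a1, ha1, ha12, -, hs1⟩ := h.back S F hu h2 ha ha2 hs
  have hCa := S.cenle L h.mL a1 ha1 ha12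
  obtain ⟨w, hw, hw2, hne, huw⟩ := (F K h.mK).partner u hu h2
  have hun : u ∈ normalizer (L : Set G) := hs.norm ha
  have hwn : w ∈ normalizer (L : Set G) :=
    hCa (mem_csing.mpr ((hs1.comm_iff hw).mpr huw.symm))
  have hupg := h.pgl S F hu h2 hun
  have hwpg := h.pgl S F hw hw2 hwn
  refine h.nle S F hu h2 hun (hbig a ha ha2 u hupg w hwpg (inv2_sq h2) (inv2_sq hw2) huw hs (h.ncen S hw hw2)
    (h.ncen S (K.mul_mem hu hw) (ord2_mul h2 hw2 huw hne.symm)) _ ?_ ?_)
  · intro x _ hx; exact S.cenle K h.mK u hu h2 (mem_csing.mpr hx)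
  · intro x _ hx; exact S.cenle K h.mK w hw hw2 (mem_csing.mpr hx)

/-- the centralizers commute if one of them consists of 2-elements -/
theorem BP.cc {K L : Subgroup G} (h : BP SS K L) (S : Sys SS rel) (F : ∀ L ∈ SS, LF L (PG L)) {u a : G}
    (hu : u ∈ K) (h2 : orderOf u = 2) (ha : a ∈ L) (ha2 : orderOf a = 2) (hs : As L u a)
    (h2el : ∀ x ∈ L, x * a = a * x → ∃ n : ℕ, x ^ 2 ^ n = 1) {x d : G} (hx : x ∈ L) (hxa : x * a = a * x)
    (hd : d ∈ K) (hdu : d * u = u * d) : x * d = d * x ∧ d ∈ normalizer (L : Set G) := by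
  obtain ⟨a1, ha1, ha12, -, hs1⟩ := h.back S F hu h2 ha ha2 hs
  have hdn : d ∈ normalizer (L : Set G) :=
    S.cenle L h.mL a1 ha1 ha12 (mem_csing.mpr ((hs1.comm_iff hd).mpr hdu))
  have hxu : x * u = u * x := (hs.comm_iff hx).mpr hxa
  have hxn : x ∈ normalizer (K : Set G) := S.cenle K h.mK u hu h2 (mem_csing.mpr hxu)
  refine ⟨?_, hdn⟩
  have hcL : x * d * x⁻¹ * d⁻¹ ∈ L := by
    have : d * x⁻¹ * d⁻¹ ∈ L := (mem_normalizer_iff.mp hdn _).mp (L.inv_mem hx)
    have := L.mul_mem hx this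
    simpa [mul_assoc] using this
  have hcK : x * d * x⁻¹ * d⁻¹ ∈ K := K.mul_mem ((mem_normalizer_iff.mp hxn d).mp hd) (K.inv_mem hd)
  have hcu : x * d * x⁻¹ * d⁻¹ * u = u * (x * d * x⁻¹ * d⁻¹) := by
    have c1 : Commute x u := hxu
    have c2 : Commute d u := hdu
    exact ((c1.mul_left c2).mul_left c1.inv_left).mul_left c2.inv_left
  by_contra hne
  have h1 : x * d * x⁻¹ * d⁻¹ ≠ 1 := by
    intro e; rw [mul_inv_eq_one, mul_inv_eq_iff_eq_mul] at e; exact hne e
  obtain ⟨n, hn⟩ := h2el _ hcL ((hs.comm_iff hcL).mp hcu)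
  obtain ⟨k, hk⟩ := exists_ord2_of_pow hn h1
  exact h.inf S (K.pow_mem hcK k) (L.pow_mem hcL k) hk

/-- Not `Med L`. -/
theorem BP.not_med {K L : Subgroup G} (h : BP SS K L) (S : Sys SS rel) (F : ∀ L ∈ SS, LF L (PG L)) {u a : G}
    (hu : u ∈ K) (h2 : orderOf u = 2) (ha : a ∈ L) (ha2 : orderOf a = 2) (hs : As L u a) :
    ¬ Med L (PG L) := by
  intro hmed
  obtain ⟨w, hw, hw2, hne, huw⟩ := (F K h.mK).partner u hu h2
  obtain ⟨m1, m2⟩ := hmed a ha ha2
  have hwn : w ∈ normalizer (L : Set G) := (h.cc S F hu h2 ha ha2 hs m1 ha rfl hw huw.symm).2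
  rcases m2 w (h.pgl S F hw hw2 hwn) (inv2_sq hw2)
    (fun x hx hxa => (h.cc S F hu h2 ha ha2 hs m1 hx hxa hw huw.symm).1) with e | e
  · exact h.ncen S hw hw2 e
  · refine h.ncen S (K.mul_mem hu hw) (ord2_mul h2 hw2 huw hne.symm) ?_
    rw [← as_one_iff, ← inv2_sq ha2]
    exact hs.mul e (le_normalizer ha)

theorem BP.fiv {K L : Subgroup G} (h : BP SS K L) (S : Sys SS rel) (F : ∀ L ∈ SS, LF L (PG L)) {u a : G}
    (hu : u ∈ K) (h2 : orderOf u = 2) (ha : a ∈ L) (ha2 : orderOf a = 2) (hs : As L u a) :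
    Fiv L (PG L) := by
  rcases (F L h.mL).size with e | e | e
  · exact absurd e (h.not_big S F hu h2 ha ha2 hs)
  · exact absurd e (h.not_med S F hu h2 ha ha2 hs)
  · exact e

/-- a four-group `{1,u,mum⁻¹,m⁻¹um} = C_K(u)` permuted by `m` of order 3 -/
structure Kd (K : Subgroup G) (u m : G) : Prop where
  mK : m ∈ K
  m3 : m * m * m = 1
  uK : u ∈ K
  ou : orderOf u = 2
  ur : u * (m * u * m⁻¹) = m⁻¹ * u * m
  cK : ∀ x ∈ K, x * u = u * x → x = 1 ∨ x = u ∨ x = m * u * m⁻¹ ∨ x = m⁻¹ * u * m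

theorem Fiv.kd {K PK : Subgroup G} (h : Fiv K PK) {u : G} (hu : u ∈ K) (h2 : orderOf u = 2) :
    ∃ m, Kd K u m := by
  obtain ⟨-, ⟨m, hm, m3, ur, cK⟩, -⟩ := h u hu h2
  exact ⟨m, hm, m3, hu, h2, ur, cK⟩

section Kd

variable {K : Subgroup G} {u m : G} (d : Kd K u m)
include d

theorem Kd.minv : m⁻¹ = m * m := by
  rw [inv_eq_iff_mul_eq_one, ← mul_assoc]; exact d.m3

theorem Kd.u1K : m * u * m⁻¹ ∈ K := K.mul_mem (K.mul_mem d.mK d.uK) (K.inv_mem d.mK)
theorem Kd.u2K : m⁻¹ * u * m ∈ K := K.mul_mem (K.mul_mem (K.inv_mem d.mK) d.uK) d.mK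
theorem Kd.o1 : orderOf (m * u * m⁻¹) = 2 := ord2_conj d.ou m
theorem Kd.o2 : orderOf (m⁻¹ * u * m) = 2 := by
  have := ord2_conj d.ou m⁻¹; rwa [inv_inv] at this

theorem Kd.ur' : (m * u * m⁻¹) * u = m⁻¹ * u * m := by
  have e1 : (m * u * m⁻¹)⁻¹ = m * u * m⁻¹ := inv2_inv d.o1
  have e2 : (m⁻¹ * u * m)⁻¹ = m⁻¹ * u * m := inv2_inv d.o2
  have e3 : u⁻¹ = u := inv2_inv d.ou
  calc (m * u * m⁻¹) * u = (m * u * m⁻¹)⁻¹ * u⁻¹ := by rw [e1, e3]
    _ = (u * (m * u * m⁻¹))⁻¹ := (mul_inv_rev _ _).symm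
    _ = (m⁻¹ * u * m)⁻¹ := by rw [d.ur]
    _ = m⁻¹ * u * m := e2

theorem Kd.c01 : u * (m * u * m⁻¹) = (m * u * m⁻¹) * u := by rw [d.ur, d.ur']

/-- `u u₂ = u₁` -/
theorem Kd.u02 : u * (m⁻¹ * u * m) = m * u * m⁻¹ := by
  rw [← d.ur, ← mul_assoc, inv2_sq d.ou, one_mul]

theorem Kd.u20 : (m⁻¹ * u * m) * u = m * u * m⁻¹ := by
  rw [← d.ur', mul_assoc, inv2_sq d.ou, mul_one]

theorem Kd.u12 : (m * u * m⁻¹) * (m⁻¹ * u * m) = u := by
  rw [← d.ur', ← mul_assoc, inv2_sq d.o1, one_mul]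

theorem Kd.ne01 : u ≠ m * u * m⁻¹ := by
  intro e
  have := d.ur; rw [← e, inv2_sq d.ou] at this
  exact inv2_ne d.o2 this.symm

/-- `m u₁ m⁻¹ = u₂` -/
theorem Kd.r1 : m * (m * u * m⁻¹) * m⁻¹ = m⁻¹ * u * m := by
  have h := d.minv
  have h' : m⁻¹ * m⁻¹ = m := by rw [h]; calc m * m * (m * m) = m * m * m * m := by group
    _ = m := by rw [d.m3, one_mul]
  calc m * (m * u * m⁻¹) * m⁻¹ = (m * m) * u * (m⁻¹ * m⁻¹) := by group
    _ = m⁻¹ * u * m := by rw [← h, h']

/-- `m u₂ m⁻¹ = u` -/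
theorem Kd.r2 : m * (m⁻¹ * u * m) * m⁻¹ = u := by have := d; group

/-- `m⁻¹ u₁ m = u` -/
theorem Kd.l1 : m⁻¹ * (m * u * m⁻¹) * m = u := by have := d; group

/-- `m⁻¹ u₂ m = u₁` -/
theorem Kd.l2 : m⁻¹ * (m⁻¹ * u * m) * m = m * u * m⁻¹ := by
  have := d.r1
  calc m⁻¹ * (m⁻¹ * u * m) * m = m⁻¹ * (m * (m * u * m⁻¹) * m⁻¹) * m := by rw [this]
    _ = m * u * m⁻¹ := by group

theorem Kd.inv : Kd K u m⁻¹ := by
  refine ⟨K.inv_mem d.mK, ?_, d.uK, d.ou, ?_, ?_⟩
  · have := congrArg (·⁻¹) d.m3; simpa [mul_assoc] using this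
  · rw [inv_inv]; exact d.u02
  · rw [inv_inv]; intro x hx hxu
    rcases d.cK x hx hxu with e | e | e | e
    · exact Or.inl e
    · exact Or.inr (Or.inl e)
    · exact Or.inr (Or.inr (Or.inr e))
    · exact Or.inr (Or.inr (Or.inl e))

/-- rotation -/
theorem Kd.rot : Kd K (m * u * m⁻¹) m := by
  refine ⟨d.mK, d.m3, d.u1K, d.o1, ?_, ?_⟩
  · rw [d.r1, d.l1, d.u12]
  · intro x hx hxu
    have h1 : (m⁻¹ * x * m) * u = u * (m⁻¹ * x * m) := by
      calc (m⁻¹ * x * m) * u = m⁻¹ * (x * (m * u * m⁻¹)) * m := by group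
        _ = u * (m⁻¹ * x * m) := by rw [hxu]; group
    have h2 : m⁻¹ * x * m ∈ K := K.mul_mem (K.mul_mem (K.inv_mem d.mK) hx) d.mK
    have h3 : x = m * (m⁻¹ * x * m) * m⁻¹ := by group
    rw [d.r1, d.l1]
    rcases d.cK _ h2 h1 with e | e | e | e <;> rw [e] at h3
    · left; rw [h3]; group
    · right; left; exact h3
    · right; right; left; rw [h3, d.r1]
    · right; right; right; rw [h3, d.r2]

theorem Kd.sq {x : G} (hx : x ∈ K) (hxu : x * u = u * x) : x * x = 1 := by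
  rcases d.cK x hx hxu with e | e | e | e <;> rw [e]
  · exact mul_one 1
  · exact inv2_sq d.ou
  · exact inv2_sq d.o1
  · exact inv2_sq d.o2

theorem Kd.ord {x : G} (hx : x ∈ K) (hxu : x * u = u * x) (h1 : x ≠ 1) : orderOf x = 2 :=
  ord2_of (d.sq hx hxu) h1

end Kd

/-- the full type -/
structure Full (SS : Set (Subgroup G)) (K L : Subgroup G) (u m a l : G) : Prop where
  bp : BP SS K L
  dK : Kd K u m
  dL : Kd L a l
  as0 : As L u a
  as1 : As L (m * u * m⁻¹) (l * a * l⁻¹)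

/-- (A2) -/
theorem BP.full {K L : Subgroup G} (h : BP SS K L) (S : Sys SS rel) (F : ∀ L ∈ SS, LF L (PG L)) {u a m : G}
    (dK : Kd K u m) (ha : a ∈ L) (ha2 : orderOf a = 2) (hs : As L u a) : ∃ l, Full SS K L u m a l := by
  have hL := h.fiv S F dK.uK dK.ou ha ha2 hs
  obtain ⟨f1, -, f3⟩ := hL a ha ha2
  obtain ⟨l, dL⟩ := hL.kd ha ha2
  have h2el : ∀ x ∈ L, x * a = a * x → ∃ n : ℕ, x ^ 2 ^ n = 1 := fun x hx hxa =>
    ⟨1, by rw [pow_one, pow_two]; exact f1 x hx hxa⟩
  have hcc := fun x (hx : x ∈ L) (hxa : x * a = a * x) =>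
    h.cc S F dK.uK dK.ou ha ha2 hs h2el hx hxa dK.u1K dK.c01.symm
  obtain ⟨z, hz, hza, hzs⟩ := f3 (m * u * m⁻¹) (h.pgl S F dK.u1K dK.o1 (hcc a ha rfl).2) (inv2_sq dK.o1)
    (fun x hx hxa => (hcc x hx hxa).1)
  rcases dL.cK z hz hza with e | e | e | e
  · rw [e] at hzs
    exact absurd (as_one_iff.mp hzs) (h.ncen S dK.u1K dK.o1)
  · rw [e] at hzs
    exfalso
    refine h.ncen S dK.u2K dK.o2 ?_
    rw [← dK.ur, ← as_one_iff, ← inv2_sq ha2]
    exact hs.mul hzs (le_normalizer ha)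
  · rw [e] at hzs
    exact ⟨l, h, dK, dL, hs, hzs⟩
  · rw [e] at hzs
    refine ⟨l⁻¹, h, dK, dL.inv, hs, ?_⟩
    rw [inv_inv]; exact hzs

end Cfsg.Agent.UGT.Blk
end

-- part: UGT/Blk/AdjFull
section
set_option linter.all false
open scoped Cfsg.Agent.FastGrp

/-!
# (A4): the full type is dead
-/

set_option autoImplicit false

open Subgroup
open Cfsg.Agent.SignalizersComponents.IntrinsicBasic
open scoped commutatorElement

namespace Cfsg.Agent.UGT.Blk

variable {G : Type*} [Group G] {SS : Set (Subgroup G)} {rel : Subgroup G → Subgroup G → Prop}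
  {PG : Subgroup G → Subgroup G}

theorem As.conj_eq {K : Subgroup G} {a w n : G} (h : As K a w) (hw : w ∈ K) (w2 : w * w = 1) (hn : n ∈ K) :
    n * a * n⁻¹ = a * w * (n * w * n⁻¹) := by
  have h1 := mem_cenL.mp (h.mul_mem_cen hw w2) n hn
  calc n * a * n⁻¹ = n * (a * w) * w⁻¹ * n⁻¹ := by group
    _ = n * (a * w) * w * n⁻¹ := by rw [inv_eq_of_mul_eq_one_right w2]
    _ = a * w * (n * w * n⁻¹) := by rw [h1]; group

theorem As.conj_eq' {K : Subgroup G} {a w n : G} (h : As K a w) (hw : w ∈ K) (w2 : w * w = 1) (hn : n ∈ K) :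
    n⁻¹ * a * n = a * w * (n⁻¹ * w * n) := by
  have := h.conj_eq hw w2 (K.inv_mem hn)
  rwa [inv_inv] at this

/-- (A4)(i), exclusion -/
theorem BP.excl {K L : Subgroup G} (h : BP SS K L) (S : Sys SS rel) (F : ∀ L ∈ SS, LF L (PG L)) {u n a : G}
    (dK : Kd K u n) (ha : a ∈ L) (ha2 : orderOf a = 2) (hs : As L u a) (hb : As K a (n * u * n⁻¹))
    (hv : ∃ v ∈ L, orderOf v = 2 ∧ As K v (n⁻¹ * u * n)) : False := by
  obtain ⟨v, hvL, hv2, hvs⟩ := hv
  have b1 : n * a * n⁻¹ = a * u := by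
    rw [hb.conj_eq dK.u1K (inv2_sq dK.o1) dK.mK, dK.r1, mul_assoc, dK.u12]
  have b2 : n⁻¹ * a * n = a * (n⁻¹ * u * n) := by
    rw [hb.conj_eq' dK.u1K (inv2_sq dK.o1) dK.mK, dK.l1, mul_assoc, dK.ur']
  have b3 : n * v * n⁻¹ = v * (n * u * n⁻¹) := by
    rw [hvs.conj_eq dK.u2K (inv2_sq dK.o2) dK.mK, dK.r2, mul_assoc, dK.u20]
  have hau : a * u = u * a := hs.self_comm ha
  have aL1 : n * a * n⁻¹ ∈ cj n L := conj_mem_cj ha
  have aC : n * a * n⁻¹ ∈ centralizer (L : Set G) := by rw [b1]; exact hs.mul_mem_cen' (inv2_sq ha2)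
  have c1 : Comm (cj n L) L :=
    S.cen L h.mL _ (S.cj_mem L h.mL n) _ aL1 (ord2_conj ha2 n) aC
  have c2 : Comm L (cj n⁻¹ L) := by
    have := c1.cj n⁻¹; rwa [cj_inv_cj] at this
  have c3 : Comm (cj n⁻¹ L) (cj n L) := by
    have := c1.cj n; rwa [← cj_mul, ← dK.minv] at this
  have hm : n⁻¹ * a * n ∈ cj n⁻¹ L := by
    have := conj_mem_cj (g := n⁻¹) ha; rwa [inv_inv] at this
  have hm2 : orderOf (n⁻¹ * a * n) = 2 := by
    have := ord2_conj ha2 n⁻¹; rwa [inv_inv] at this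
  have key : n⁻¹ * a * n = (n * a * n⁻¹)⁻¹ * (v * (n * v * n⁻¹)) := by
    rw [eq_inv_mul_iff_mul_eq, b1, b2, b3]
    calc a * u * (a * (n⁻¹ * u * n)) = u * (a * a) * (n⁻¹ * u * n) := by rw [hau]; group
      _ = n * u * n⁻¹ := by rw [inv2_sq ha2, mul_one, dK.u02]
      _ = v * (v * (n * u * n⁻¹)) := by rw [← mul_assoc, inv2_sq hv2, one_mul]
  have hcen : n⁻¹ * a * n ∈ centralizer ((cj n⁻¹ L : Subgroup G) : Set G) := by
    rw [key]
    refine mul_mem (inv_mem (c3.symm.le aL1)) (mul_mem (c2.le hvL) (c3.symm.le (conj_mem_cj hvL)))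
  have hL' := S.cj_mem L h.mL n⁻¹
  exact (F _ hL').not_self (S.cen _ hL' _ hL' _ hm hm2 hcen)

section Full

variable {K L : Subgroup G} {u m a l : G}

theorem Full.as2 (h : Full SS K L u m a l) : As L (m⁻¹ * u * m) (l⁻¹ * a * l) := by
  rw [← h.dK.ur, ← h.dL.ur]
  exact h.as0.mul h.as1 (le_normalizer h.dL.u1K)

theorem Full.rot (h : Full SS K L u m a l) : Full SS K L (m * u * m⁻¹) m (l * a * l⁻¹) l :=
  ⟨h.bp, h.dK.rot, h.dL.rot, h.as1, by rw [h.dK.r1, h.dL.r1]; exact h.as2⟩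

theorem Full.au (h : Full SS K L u m a l) : a * u = u * a := h.as0.self_comm h.dL.uK

theorem Full.au1 (h : Full SS K L u m a l) : a * (m * u * m⁻¹) = m * u * m⁻¹ * a :=
  (h.as1.comm_iff h.dL.uK).mpr h.dL.c01

theorem Full.au2 (h : Full SS K L u m a l) : a * (m⁻¹ * u * m) = m⁻¹ * u * m * a :=
  (h.as2.comm_iff h.dL.uK).mpr (by rw [h.dL.u02, h.dL.u20])

/-- (A4)(i) -/
theorem Full.back (h : Full SS K L u m a l) (S : Sys SS rel) (F : ∀ L ∈ SS, LF L (PG L)) : As K a u := by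
  obtain ⟨a1, ha1, ha12, -, hs1⟩ := h.bp.back S F h.dK.uK h.dK.ou h.dL.uK h.dL.ou h.as0
  have hK := h.bp.symm.fiv S F ha1 ha12 h.dK.uK h.dK.ou hs1
  obtain ⟨-, -, f3⟩ := hK u h.dK.uK h.dK.ou
  have han := S.cenle K h.bp.mK u h.dK.uK h.dK.ou (mem_csing.mpr h.au)
  have hcom : ∀ x ∈ K, x * u = u * x → x * a = a * x := by
    intro x hx hxu
    rcases h.dK.cK x hx hxu with e | e | e | e <;> rw [e]
    · rw [one_mul, mul_one]
    · exact h.au.symm
    · exact h.au1.symm
    · exact h.au2.symm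
  obtain ⟨z, hz, hzu, hzs⟩ := f3 a (h.bp.symm.pgl S F h.dL.uK h.dL.ou han) (inv2_sq h.dL.ou) hcom
  have hv1 : ∃ v ∈ L, orderOf v = 2 ∧ As K v (m * u * m⁻¹) := by
    obtain ⟨v, h1, h2, -, h3⟩ := h.bp.back S F h.dK.u1K h.dK.o1 h.dL.u1K h.dL.o1 h.as1
    exact ⟨v, h1, h2, h3⟩
  have hv2 : ∃ v ∈ L, orderOf v = 2 ∧ As K v (m⁻¹ * u * m) := by
    obtain ⟨v, h1, h2, -, h3⟩ := h.bp.back S F h.dK.u2K h.dK.o2 h.dL.u2K h.dL.o2 h.as2
    exact ⟨v, h1, h2, h3⟩
  rcases h.dK.cK z hz hzu with e | e | e | e <;> rw [e] at hzs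
  · exact absurd (as_one_iff.mp hzs) (h.bp.symm.ncen S h.dL.uK h.dL.ou)
  · exact hzs
  · exact (h.bp.excl S F h.dK h.dL.uK h.dL.ou h.as0 hzs hv2).elim
  · exact (h.bp.excl S F h.dK.inv h.dL.uK h.dL.ou h.as0 (by rw [inv_inv]; exact hzs)
      (by rw [inv_inv]; exact hv1)).elim

theorem Full.symm (h : Full SS K L u m a l) (S : Sys SS rel) (F : ∀ L ∈ SS, LF L (PG L)) :
    Full SS L K a l u m :=
  ⟨h.bp.symm, h.dL, h.dK, h.back S F, h.rot.back S F⟩

/-- `m a m⁻¹ = a u₂` -/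
theorem Full.mam (h : Full SS K L u m a l) (S : Sys SS rel) (F : ∀ L ∈ SS, LF L (PG L)) :
    m * a * m⁻¹ = a * (m⁻¹ * u * m) := by
  rw [(h.back S F).conj_eq h.dK.uK (inv2_sq h.dK.ou) h.dK.mK, mul_assoc, h.dK.ur]

/-- `m⁻¹ a m = a u₁` -/
theorem Full.mam' (h : Full SS K L u m a l) (S : Sys SS rel) (F : ∀ L ∈ SS, LF L (PG L)) :
    m⁻¹ * a * m = a * (m * u * m⁻¹) := by
  rw [(h.back S F).conj_eq' h.dK.uK (inv2_sq h.dK.ou) h.dK.mK, mul_assoc, h.dK.u02]

/-- `m a₂ m⁻¹ = a₂ u₁` -/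
theorem Full.ma2m (h : Full SS K L u m a l) (S : Sys SS rel) (F : ∀ L ∈ SS, LF L (PG L)) :
    m * (l⁻¹ * a * l) * m⁻¹ = l⁻¹ * a * l * (m * u * m⁻¹) := by
  have := h.rot.rot.mam S F
  rw [h.dL.r1, h.dK.r1, h.dK.l2] at this
  exact this

/-- `m⁻¹ a₂ m = a₂ u` -/
theorem Full.ma2m' (h : Full SS K L u m a l) (S : Sys SS rel) (F : ∀ L ∈ SS, LF L (PG L)) :
    m⁻¹ * (l⁻¹ * a * l) * m = l⁻¹ * a * l * u := by
  have := h.rot.rot.mam' S F
  rw [h.dL.r1, h.dK.r1, h.dK.r2] at this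
  exact this

/-- `K = L^{lm}` -/
theorem Full.KL (h : Full SS K L u m a l) (S : Sys SS rel) (F : ∀ L ∈ SS, LF L (PG L)) : cj (l * m) L = K := by
  have h1 : m * a * m⁻¹ ∈ cj m L := conj_mem_cj h.dL.uK
  have h2 : m * a * m⁻¹ ∈ cj l⁻¹ K := by
    have e : m * a * m⁻¹ = l⁻¹ * (m⁻¹ * u * m) * l⁻¹⁻¹ := by
      rw [inv_inv, (h.symm S F).ma2m' S F, h.mam S F, h.au2]
    rw [e]; exact conj_mem_cj h.dK.u2K
  have := S.ti _ (S.cj_mem L h.bp.mL m) _ (S.cj_mem K h.bp.mK l⁻¹) _ h1 h2 (ord2_conj h.dL.ou m)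
  rw [cj_mul, this, cj_cj_inv]

end Full

/-! ### (ii) -/

/-- the diagonal -/
def diag (P : Subgroup G) (w : G) (h : Comm P (cj w P)) : ↥P →* G where
  toFun d := (d : G) * (w * d * w⁻¹)
  map_one' := by simp
  map_mul' d e := by
    have := h e e.2 (w * d * w⁻¹) (conj_mem_cj d.2)
    calc ((d * e : P) : G) * (w * (d * e : P) * w⁻¹) = d * (e * (w * d * w⁻¹)) * (w * e * w⁻¹) := by
          simp only [coe_mul]; group
      _ = d * (w * d * w⁻¹) * (e * (w * e * w⁻¹)) := by rw [this]; group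

theorem diag_mem_cen {K P : Subgroup G} {PK : Subgroup G} (FK : LF K PK) (hP : ⁅P, P⁆ = P) {w : G} (hw : w ∈ K)
    (hw2 : orderOf w = 2) (hC : centralizer ({w} : Set G) ≤ normalizer (K : Set G)) (h : Comm P (cj w P)) {d : G}
    (hd : d ∈ P) : d * (w * d * w⁻¹) ∈ centralizer (K : Set G) := by
  have h1 : ∀ x ∈ (diag P w h).range, x * w = w * x := by
    rintro _ ⟨d, rfl⟩
    have := h d d.2 (w * d * w⁻¹) (conj_mem_cj d.2)
    change (d : G) * (w * d * w⁻¹) * w = w * ((d : G) * (w * d * w⁻¹))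
    have e2 := inv2_inv hw2
    calc (d : G) * (w * d * w⁻¹) * w = d * w * d := by group
      _ = (d * (w * d * w⁻¹)) * w := by group
      _ = (w * d * w⁻¹) * d * w := by rw [this]
      _ = w * (d * (w⁻¹ * d * w)) := by group
      _ = w * ((d : G) * (w * d * w⁻¹)) := by rw [e2]
  have h2 : ⁅(diag P w h).range, (diag P w h).range⁆ = (diag P w h).range := by
    rw [MonoidHom.range_eq_map, ← map_commutator]
    congr 1
    have h3 : (⁅(⊤ : Subgroup P), (⊤ : Subgroup P)⁆).map P.subtype = (⊤ : Subgroup P).map P.subtype := by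
      rw [map_commutator, ← MonoidHom.range_eq_map, P.range_subtype, hP]
    exact map_injective P.subtype_injective h3
  have h4 := FK.solv w hw hw2 _ h2 (fun x hx => hC (mem_csing.mpr (h1 x hx))) h1
  exact h4 ⟨⟨d, hd⟩, rfl⟩

/-- largest `P`-invariant subgroup of `C_P(K)` -/
def coreC (K P : Subgroup G) : Subgroup G where
  carrier := {x | x ∈ P ∧ ∀ e ∈ P, e * x * e⁻¹ ∈ centralizer (K : Set G)}
  one_mem' := ⟨P.one_mem, fun e _ => by rw [mul_one, mul_inv_cancel]; exact one_mem _⟩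
  mul_mem' := by
    rintro x y ⟨hx, hx'⟩ ⟨hy, hy'⟩
    refine ⟨P.mul_mem hx hy, fun e he => ?_⟩
    have : e * (x * y) * e⁻¹ = (e * x * e⁻¹) * (e * y * e⁻¹) := by group
    rw [this]; exact mul_mem (hx' e he) (hy' e he)
  inv_mem' := by
    rintro x ⟨hx, hx'⟩
    refine ⟨P.inv_mem hx, fun e he => ?_⟩
    have : e * x⁻¹ * e⁻¹ = (e * x * e⁻¹)⁻¹ := by group
    rw [this]; exact inv_mem (hx' e he)

theorem coreC_le {K P PP : Subgroup G} (FP : LF P PP) (hnc : ¬ Comm K P) {x : G} (hx : x ∈ P)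
    (h : ∀ e ∈ P, e * x * e⁻¹ ∈ centralizer (K : Set G)) : x = 1 := by
  have h1 := FP.simple (coreC K P) (fun x hx => hx.1) (by
    rintro e he x ⟨hx, hx'⟩
    refine ⟨P.mul_mem (P.mul_mem he hx) (P.inv_mem he), fun f hf => ?_⟩
    have : f * (e * x * e⁻¹) * f⁻¹ = (f * e) * x * (f * e)⁻¹ := by group
    rw [this]; exact hx' _ (P.mul_mem hf he))
  rcases h1 with h1 | h1
  · have : x ∈ coreC K P := ⟨hx, h⟩
    rw [h1] at this; exact mem_bot.mp this
  · exfalso
    refine hnc (comm_iff.mpr fun y hy => ?_ : Comm P K).symm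
    rw [← h1] at hy
    have := hy.2 1 P.one_mem
    simpa using this

/-- `w` moves `P`, `w₁` fixes `P`: no -/
theorem BP.move_fix {K P : Subgroup G} (h : BP SS K P) (S : Sys SS rel) (F : ∀ L ∈ SS, LF L (PG L)) {w w1 : G}
    (hw1 : w1 ∈ K) (hw12 : orderOf w1 = 2)
    (hd : ∀ d ∈ P, d * (w * d * w⁻¹) ∈ centralizer (K : Set G))
    (hd' : ∀ d ∈ P, d * (w * w1 * d * (w * w1)⁻¹) ∈ centralizer (K : Set G)) (hf : cj w1 P = P) : False := by
  have FP := F P h.mL
  refine h.ncen S hw1 hw12 (mem_cenL'.mpr fun d0 hd0 => ?_)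
  have hf' : ∀ d ∈ P, w1 * d * w1⁻¹ ∈ P := fun d hd => by rw [← hf]; exact conj_mem_cj hd
  have h1 : ∀ d ∈ P, d * (w1 * d * w1⁻¹)⁻¹ ∈ centralizer (K : Set G) := by
    intro d hdP
    have e1 := hd' d hdP
    have e2 := hd _ (hf' d hdP)
    have := mul_mem e1 (inv_mem e2)
    have e3 : d * (w * w1 * d * (w * w1)⁻¹) * (w1 * d * w1⁻¹ * (w * (w1 * d * w1⁻¹) * w⁻¹))⁻¹ =
        d * (w1 * d * w1⁻¹)⁻¹ := by group
    rwa [e3] at this
  have h2 := coreC_le FP h.nc (x := d0 * (w1 * d0 * w1⁻¹)⁻¹) (P.mul_mem hd0 (P.inv_mem (hf' d0 hd0))) (by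
    intro e he
    have e1 := h1 (e * d0) (P.mul_mem he hd0)
    have e2 := h1 e he
    have := mul_mem e1 (inv_mem e2)
    have e3 : e * d0 * (w1 * (e * d0) * w1⁻¹)⁻¹ * (e * (w1 * e * w1⁻¹)⁻¹)⁻¹ =
        e * (d0 * (w1 * d0 * w1⁻¹)⁻¹) * e⁻¹ := by group
    rwa [e3] at this)
  rw [mul_inv_eq_one, eq_comm, mul_inv_eq_iff_eq_mul] at h2
  exact h2

/-- (A4)(ii): commuting involutions `w, w1` of `K ⊓ N(L)` fix the partners of `L` -/
theorem BP.fixP {K L P : Subgroup G} (h : BP SS K L) (S : Sys SS rel) (F : ∀ L ∈ SS, LF L (PG L)) {w w1 : G}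
    (hw : w ∈ K) (hw2 : orderOf w = 2) (hw1 : w1 ∈ K) (hw12 : orderOf w1 = 2) (hc : w * w1 = w1 * w) (hne : w ≠ w1)
    (hwL : w ∈ normalizer (L : Set G)) (hw1L : w1 ∈ normalizer (L : Set G)) (r : rel L P) :
    cj w P = P := by
  have hP := S.rel_mem L h.mL P r
  have hKP := h.prt S r
  by_contra hm
  have gen : ∀ x ∈ K, orderOf x = 2 → x ∈ normalizer (L : Set G) → cj x P ≠ P →
      ∀ d ∈ P, d * (x * d * x⁻¹) ∈ centralizer (K : Set G) := by
    intro x hx hx2 hxL hxP d hd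
    have r1 : rel P (cj x P) := by
      have := S.relcj L P r x
      rw [mem_normalizer_iff_cj.mp hxL] at this
      exact S.trans _ _ _ (S.symm _ _ r) this
    exact diag_mem_cen (F K h.mK) (F P hP).perfect hx hx2 (S.cenle K h.mK x hx hx2) (S.comm P hP _ r1 hxP) hd
  have g0 := gen w hw hw2 hwL hm
  by_cases h1 : cj w1 P = P
  · refine hKP.move_fix S F hw1 hw12 g0 ?_ h1
    refine gen _ (K.mul_mem hw hw1) (ord2_mul hw2 hw12 hc hne) (mul_mem hwL hw1L) ?_
    rw [cj_mul, h1]; exact hm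
  · have g1 := gen w1 hw1 hw12 hw1L h1
    have o3 := ord2_mul hw2 hw12 hc hne
    by_cases h2 : cj (w * w1) P = P
    · refine hKP.move_fix S F (K.mul_mem hw hw1) o3 g0 ?_ h2
      have e : w * (w * w1) = w1 := by rw [← mul_assoc, inv2_sq hw2, one_mul]
      rw [e]; exact g1
    · have h3 : cj w P ≠ cj w1 P := by
        intro e
        apply h2
        rw [hc, cj_mul, e, ← cj_mul, inv2_sq hw12, cj_one]
      have rw0 : ∀ x, x ∈ normalizer (L : Set G) → rel P (cj x P) := by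
        intro x hxL
        have := S.relcj L P r x
        rw [mem_normalizer_iff_cj.mp hxL] at this
        exact S.trans _ _ _ (S.symm _ _ r) this
      have c1 := S.comm P hP _ (rw0 w hwL) hm
      have c2 := S.comm P hP _ (rw0 w1 hw1L) h1
      have c3 := S.comm _ (S.cj_mem P hP w) _ (S.trans _ _ _ (S.symm _ _ (rw0 w hwL)) (rw0 w1 hw1L)) h3.symm
      refine hKP.nc (comm_iff.mpr ?_ : Comm P K).symm
      rw [← (F P hP).perfect, commutator_le]
      intro d hd e he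
      have e1 := g0 d hd
      have e2 := g1 e he
      have h4 : ⁅d * (w * d * w⁻¹), e * (w1 * e * w1⁻¹)⁆ = ⁅d, e⁆ := by
        have k1 : Commute d (w * d * w⁻¹) := c1 d hd _ (conj_mem_cj hd)
        have k2 : Commute e (w * d * w⁻¹) := c1 e he _ (conj_mem_cj hd)
        have k3 : Commute d (w1 * e * w1⁻¹) := c2 d hd _ (conj_mem_cj he)
        have k4 : Commute e (w1 * e * w1⁻¹) := c2 e he _ (conj_mem_cj he)
        have k5 : Commute (w * d * w⁻¹) (w1 * e * w1⁻¹) := c3 _ (conj_mem_cj hd) _ (conj_mem_cj he)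
        generalize w * d * w⁻¹ = d' at *
        generalize w1 * e * w1⁻¹ = e' at *
        rw [commutatorElement_def, commutatorElement_def, mul_inv_rev, mul_inv_rev]
        calc d * d' * (e * e') * (d'⁻¹ * d⁻¹) * (e'⁻¹ * e⁻¹)
            = d * (d' * (e * e')) * (d'⁻¹ * d⁻¹) * (e'⁻¹ * e⁻¹) := by group
          _ = d * (e * e' * d') * (d'⁻¹ * d⁻¹) * (e'⁻¹ * e⁻¹) := by rw [(k2.symm.mul_right k5).eq]
          _ = d * e * (e' * d⁻¹) * e'⁻¹ * e⁻¹ := by group
          _ = d * e * (d⁻¹ * e') * e'⁻¹ * e⁻¹ := by rw [k3.symm.inv_right.eq]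
          _ = d * e * d⁻¹ * e⁻¹ := by group
      rw [← h4, commutatorElement_def]
      exact mul_mem (mul_mem (mul_mem e1 e2) (inv_mem e1)) (inv_mem e2)

/-- the partners are of full type as well -/
theorem Full.partner {K L P : Subgroup G} {u m a l : G} (h : Full SS K L u m a l) (S : Sys SS rel)
    (F : ∀ L ∈ SS, LF L (PG L)) (r : rel L P) : ∃ c k, Full SS K P u m c k := by
  have hKP := h.bp.prt S r
  have FP := F P hKP.mL
  have n0 : u ∈ normalizer (L : Set G) := h.as0.norm h.dL.uK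
  have n1 : m * u * m⁻¹ ∈ normalizer (L : Set G) := h.as1.norm h.dL.u1K
  have p0 : u ∈ normalizer (P : Set G) := mem_normalizer_iff_cj.mpr
    (h.bp.fixP S F h.dK.uK h.dK.ou h.dK.u1K h.dK.o1 h.dK.c01 h.dK.ne01 n0 n1 r)
  have p1 : m * u * m⁻¹ ∈ normalizer (P : Set G) := mem_normalizer_iff_cj.mpr
    (h.bp.fixP S F h.dK.u1K h.dK.o1 h.dK.uK h.dK.ou h.dK.c01.symm h.dK.ne01.symm n1 n0 r)
  have inn : ∀ {w : G}, Kd K w m → Inn P w → ∃ c k, Full SS K P w m c k := by
    rintro w dw ⟨c, hc, hs⟩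
    obtain ⟨k, hk⟩ := hKP.full S F dw hc
      (FP.ord2 (inv2_sq dw.ou) hc hs (hKP.ncen S dw.uK dw.ou)) hs
    exact ⟨c, k, hk⟩
  have rot : ∀ {w : G}, (∃ c k, Full SS K P w m c k) → ∃ c k, Full SS K P (m * w * m⁻¹) m c k := by
    rintro w ⟨c, k, hk⟩
    exact ⟨_, _, hk.rot⟩
  have dm : m * (m * (m * u * m⁻¹) * m⁻¹) * m⁻¹ = u := by rw [h.dK.r1, h.dK.r2]
  by_cases i0 : Inn P u
  · exact inn h.dK i0
  · by_cases i1 : Inn P (m * u * m⁻¹)
    · have := rot (rot (inn h.dK.rot i1))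
      rwa [dm] at this
    · have i2 := FP.idx u (hKP.pgl S F h.dK.uK h.dK.ou p0) _ (hKP.pgl S F h.dK.u1K h.dK.o1 p1) i0 i1
      rw [h.dK.ur, ← h.dK.r1] at i2
      have := rot (inn h.dK.rot.rot i2)
      rwa [dm] at this

end Cfsg.Agent.UGT.Blk
end

-- part: UGT/Blk/AdjEnd
section
set_option linter.all false
open scoped Cfsg.Agent.FastGrp

/-!
# (A4)(iii)-(v): the full type is dead; `BP.no_inn`: no involution of `K` is inner on `L`
-/

set_option autoImplicit false

open Subgroup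
open Cfsg.Agent.SignalizersComponents.IntrinsicBasic

namespace Cfsg.Agent.UGT.Blk

variable {G : Type*} [Group G] {SS : Set (Subgroup G)} {rel : Subgroup G → Subgroup G → Prop}
  {PG : Subgroup G → Subgroup G}

/-- the class of `L` is `{L, P, N}` -/
structure Cls3 (rel : Subgroup G → Subgroup G → Prop) (L P N : Subgroup G) : Prop where
  rP : rel L P
  rN : rel L N
  LP : L ≠ P
  LN : L ≠ N
  PN : P ≠ N
  all : ∀ F, rel L F → F = L ∨ F = P ∨ F = N

/-- products of two involutions: the third members are components of the centralizer -/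
def ProdH (SS : Set (Subgroup G)) (rel : Subgroup G → Subgroup G → Prop) : Prop :=
  ∀ L P N L' P' N' : Subgroup G, L ∈ SS → L' ∈ SS → Cls3 rel L P N → Cls3 rel L' P' N' →
    ∀ t ∈ L, ∀ s ∈ P, ∀ t' ∈ L', ∀ s' ∈ P', orderOf t = 2 → orderOf s = 2 → orderOf t' = 2 → orderOf s' = 2 →
      t * s = t' * s' → N = N' ∨ Comm N N'

theorem Cls3.cj {L P N : Subgroup G} (h : Cls3 rel L P N) (S : Sys SS rel) (g : G) :
    Cls3 rel (cj g L) (cj g P) (cj g N) := by
  refine ⟨S.relcj _ _ h.rP g, S.relcj _ _ h.rN g, fun e => h.LP (cj_injective g e), fun e => h.LN (cj_injective g e),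
    fun e => h.PN (cj_injective g e), fun F hF => ?_⟩
  have := S.relcj _ _ hF g⁻¹
  rw [cj_inv_cj] at this
  rcases h.all _ this with e | e | e
  · left; rw [← e, cj_cj_inv]
  · right; left; rw [← e, cj_cj_inv]
  · right; right; rw [← e, cj_cj_inv]

/-- (A4) -/
theorem Full.dead {K L : Subgroup G} {u m a l : G} (h : Full SS K L u m a l) (S : Sys SS rel)
    (F : ∀ L ∈ SS, LF L (PG L)) (HP : ProdH SS rel) : False := by
  have hKs := h.bp.mK
  have hLs := h.bp.mL
  obtain ⟨P, rP, hPL⟩ := S.part L hLs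
  obtain ⟨c, k, h'⟩ := h.partner S F rP
  have hPs := h'.bp.mL
  have cLP : Comm L P := S.comm L hLs P rP hPL
  have s := h.symm S F
  have s' := h'.symm S F
  -- the element `x`
  have X : m⁻¹ * l * k * u * (m⁻¹ * l * k)⁻¹ = m⁻¹ * u * m * (l⁻¹ * a * l) * (k⁻¹ * c * k) := by
    have e1 : k * u * k⁻¹ = u * (k⁻¹ * c * k) := s'.mam S F
    have e2 : l * (u * (k⁻¹ * c * k)) * l⁻¹ = u * (l⁻¹ * a * l) * (k⁻¹ * c * k) := by
      have e3 := cLP l h.dL.mK _ h'.dL.u2K
      have e4 : l * u * l⁻¹ = u * (l⁻¹ * a * l) := s.mam S F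
      calc l * (u * (k⁻¹ * c * k)) * l⁻¹ = (l * u * l⁻¹) * (l * (k⁻¹ * c * k)) * l⁻¹ := by group
        _ = (l * u * l⁻¹) * (k⁻¹ * c * k) := by rw [e3]; group
        _ = u * (l⁻¹ * a * l) * (k⁻¹ * c * k) := by rw [e4]
    have e5 : m⁻¹ * (u * (l⁻¹ * a * l) * (k⁻¹ * c * k)) * m =
        m⁻¹ * u * m * (l⁻¹ * a * l) * (k⁻¹ * c * k) := by
      have e6 := h.ma2m' S F
      have e7 := h'.ma2m' S F
      have e8 : k⁻¹ * c * k * u = u * (k⁻¹ * c * k) := (h'.as0.comm_iff h'.dL.u2K).mpr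
        (by rw [h'.dL.u20, h'.dL.u02])
      calc m⁻¹ * (u * (l⁻¹ * a * l) * (k⁻¹ * c * k)) * m =
            m⁻¹ * u * m * (m⁻¹ * (l⁻¹ * a * l) * m) * (m⁻¹ * (k⁻¹ * c * k) * m) := by group
        _ = m⁻¹ * u * m * (l⁻¹ * a * l * u) * (k⁻¹ * c * k * u) := by rw [e6, e7]
        _ = m⁻¹ * u * m * (l⁻¹ * a * l) * (u * u) * (k⁻¹ * c * k) := by rw [e8]; group
        _ = m⁻¹ * u * m * (l⁻¹ * a * l) * (k⁻¹ * c * k) := by rw [inv2_sq h.dK.ou, mul_one]
    calc m⁻¹ * l * k * u * (m⁻¹ * l * k)⁻¹ = m⁻¹ * (l * (k * u * k⁻¹) * l⁻¹) * m := by group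
      _ = m⁻¹ * u * m * (l⁻¹ * a * l) * (k⁻¹ * c * k) := by rw [e1, e2, e5]
  obtain ⟨N, hN⟩ : ∃ N, N = cj (m⁻¹ * l * k) K := ⟨_, rfl⟩
  have hNs : N ∈ SS := by rw [hN]; exact S.cj_mem K hKs _
  obtain ⟨x, hx⟩ : ∃ x, x = m⁻¹ * u * m * (l⁻¹ * a * l) * (k⁻¹ * c * k) := ⟨_, rfl⟩
  have hxN : x ∈ N := by rw [hx, ← X, hN]; exact conj_mem_cj h.dK.uK
  have hx2 : orderOf x = 2 := by rw [hx, ← X]; exact ord2_conj h.dK.ou _
  have hxL : x ∈ centralizer (L : Set G) := by
    rw [hx]; exact mul_mem (h.as2.mul_mem_cen h.dL.u2K (inv2_sq h.dL.o2)) (cLP.symm.le h'.dL.u2K)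
  have hxP : x ∈ centralizer (P : Set G) := by
    have e : x = (l⁻¹ * a * l) * (m⁻¹ * u * m * (k⁻¹ * c * k)) := by
      have e0 : (l⁻¹ * a * l) * (m⁻¹ * u * m) = (m⁻¹ * u * m) * (l⁻¹ * a * l) := h.as2.self_comm h.dL.u2K
      rw [hx, ← e0]; group
    rw [e]; exact mul_mem (cLP.le h.dL.u2K) (h'.as2.mul_mem_cen h'.dL.u2K (inv2_sq h'.dL.o2))
  have hxK : x ∉ centralizer (K : Set G) := by
    intro hc
    have a1 : As K (l⁻¹ * a * l) (m⁻¹ * u * m) := s.as2
    have a2 : As K (k⁻¹ * c * k) (m⁻¹ * u * m) := s'.as2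
    have a3 := ((As.refl K (m⁻¹ * u * m)).mul a1 (le_normalizer h.dK.u2K)).mul a2 (le_normalizer h.dK.u2K)
    rw [← hx, inv2_sq h.dK.o2, one_mul] at a3
    exact inv2_ne h.dK.o2 ((F K hKs).cen_bot h.dK.u2K (a3.symm.cen_of hc))
  have cNL : Comm N L := S.cen L hLs N hNs x hxN hx2 hxL
  have cNP : Comm N P := S.cen P hPs N hNs x hxN hx2 hxP
  have F4 : ∀ E ∈ SS, Comm E L → Comm E P → Comm E N → Comm K E := by
    intro E hE h1 h2 h3
    refine S.cen E hE K hKs _ h.dK.u2K h.dK.o2 ?_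
    have e : m⁻¹ * u * m = x * (k⁻¹ * c * k)⁻¹ * (l⁻¹ * a * l)⁻¹ := by rw [hx]; group
    rw [e]
    exact mul_mem (mul_mem (h3.symm.le hxN) (inv_mem (h2.symm.le h'.dL.u2K))) (inv_mem (h1.symm.le h.dL.u2K))
  have nLN : L ≠ N := by rintro e; rw [← e] at cNL; exact (F L hLs).not_self cNL
  have nPN : P ≠ N := by rintro e; rw [← e] at cNP; exact (F P hPs).not_self cNP
  have rN : rel L N := by
    by_contra hr
    obtain ⟨N', rN', hNN'⟩ := S.part N hNs
    have hN's := S.rel_mem N hNs N' rN'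
    have c0 : Comm N N' := S.comm N hNs N' rN' hNN'
    have c1 : Comm L N' := by
      rcases S.spread N hNs L hLs cNL.symm N' rN' with e | e
      · exact absurd (by rw [e]; exact S.symm _ _ rN') hr
      · exact e
    have c2 : Comm P N' := by
      rcases S.spread N hNs P hPs cNP.symm N' rN' with e | e
      · exact absurd (S.trans _ _ _ rP (by rw [e]; exact S.symm _ _ rN')) hr
      · exact e
    have c3 := F4 N' hN's c1.symm c2.symm c0.symm
    rcases S.spread N' hN's K hKs c3 N (S.symm _ _ rN') with e | e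
    · rw [← e] at cNL; exact h.bp.nc cNL
    · exact hxK (e.symm.le hxN)
  have C3 : Cls3 rel L P N := by
    refine ⟨rP, rN, hPL.symm, nLN, nPN, fun E rE => ?_⟩
    by_contra hE
    push Not at hE
    obtain ⟨hE1, hE2, hE3⟩ := hE
    have hEs := S.rel_mem L hLs E rE
    have c1 := S.comm L hLs E rE hE1
    have c2 := S.comm P hPs E (S.trans _ _ _ (S.symm _ _ rP) rE) hE2
    have c3 := S.comm N hNs E (S.trans _ _ _ (S.symm _ _ rN) rE) hE3
    have c4 := F4 E hEs c1.symm c2.symm c3.symm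
    rcases S.spread E hEs K hKs c4 L (S.symm _ _ rE) with e | e
    · exact h.bp.ne e
    · exact h.bp.nc e
  -- (v)
  have C3' := C3.cj S (l * m)
  rw [h.KL S F] at C3'
  have Z : l * a * l⁻¹ * c = m⁻¹ * u * m * (l * m * c * (l * m)⁻¹) := by
    have e1 : m * c * m⁻¹ = c * (m⁻¹ * u * m) := h'.mam S F
    have e2 : l * (m⁻¹ * u * m) * l⁻¹ = m⁻¹ * u * m * (l * a * l⁻¹) := s.ma2m S F
    have e3 := cLP l h.dL.mK c h'.dL.uK
    have e4 : c * (m⁻¹ * u * m) = m⁻¹ * u * m * c := h'.au2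
    have e5 := cLP _ h.dL.u1K c h'.dL.uK
    calc l * a * l⁻¹ * c = c * (l * a * l⁻¹) := e5
      _ = (m⁻¹ * u * m) * (m⁻¹ * u * m) * c * (l * a * l⁻¹) := by rw [inv2_sq h.dK.o2, one_mul]
      _ = (m⁻¹ * u * m) * (m⁻¹ * u * m * c) * (l * a * l⁻¹) := by group
      _ = (m⁻¹ * u * m) * (c * (m⁻¹ * u * m * (l * a * l⁻¹))) := by rw [← e4]; group
      _ = (m⁻¹ * u * m) * (c * (l * (m⁻¹ * u * m) * l⁻¹)) := by rw [e2]
      _ = (m⁻¹ * u * m) * ((c * l) * (m⁻¹ * u * m) * l⁻¹) := by group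
      _ = (m⁻¹ * u * m) * (l * (c * (m⁻¹ * u * m)) * l⁻¹) := by rw [← e3]; group
      _ = (m⁻¹ * u * m) * (l * (m * c * m⁻¹) * l⁻¹) := by rw [e1]
      _ = m⁻¹ * u * m * (l * m * c * (l * m)⁻¹) := by group
  have hN2s := S.cj_mem N hNs (l * m)
  rcases HP L P N K _ _ hLs hKs C3 C3' _ h.dL.u1K _ h'.dL.uK _ h.dK.u2K _ (conj_mem_cj h'.dL.uK) h.dL.o1
    h'.dL.ou h.dK.o2 (ord2_conj h'.dL.ou _) Z with e | e
  · have r1 : rel K N := by
      have := C3'.rN
      rwa [← e] at this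
    exact h.bp.nc (S.comm K hKs L (S.trans _ _ _ r1 (S.symm _ _ rN)) h.bp.ne.symm)
  · rcases S.spread N hNs _ hN2s e.symm L (S.symm _ _ rN) with e1 | e1
    · have r1 := C3'.rN
      rw [e1] at r1
      exact h.bp.nc (S.comm K hKs L r1 h.bp.ne.symm)
    · rcases S.spread _ hN2s L hLs e1.symm K (S.symm _ _ C3'.rN) with e2 | e2
      · exact h.bp.ne e2.symm
      · exact h.bp.nc e2.symm

/-- no involution of `K` acts as an inner automorphism on `L` -/
theorem BP.no_inn {K L : Subgroup G} (h : BP SS K L) (S : Sys SS rel) (F : ∀ L ∈ SS, LF L (PG L))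
    (HP : ProdH SS rel) {u : G} (hu : u ∈ K) (h2 : orderOf u = 2) : ¬ Inn L u := by
  rintro ⟨a, ha, hs⟩
  have ha2 := (F L h.mL).ord2 (inv2_sq h2) ha hs (h.ncen S hu h2)
  obtain ⟨a1, ha1, ha12, -, hs1⟩ := h.back S F hu h2 ha ha2 hs
  have hK := h.symm.fiv S F ha1 ha12 hu h2 hs1
  obtain ⟨m, dK⟩ := hK.kd hu h2
  obtain ⟨l, hf⟩ := h.full S F dK ha ha2 hs
  exact hf.dead S F HP

end Cfsg.Agent.UGT.Blk
end

-- part: UGT/Blk/Adj
section
set_option linter.all false
open scoped Cfsg.Agent.FastGrp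

/-!
# (A), (6): `Sys`, `LF`, `Root`, `ProdH` ⟹ `NoAdj`
-/

set_option autoImplicit false

open Subgroup
open Cfsg.Agent.SignalizersComponents.IntrinsicBasic

namespace Cfsg.Agent.UGT.Blk

variable {G : Type*} [Group G] {SS : Set (Subgroup G)} {rel : Subgroup G → Subgroup G → Prop}
  {PG : Subgroup G → Subgroup G}

/-- (6): an involution of a member does not move a member to a commuting one -/
theorem move (S : Sys SS rel) (F : ∀ L ∈ SS, LF L (PG L)) (HP : ProdH SS rel) {L K : Subgroup G} (hL : L ∈ SS)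
    (hK : K ∈ SS) {b : G} (hb : b ∈ K) (hb2 : orderOf b = 2) : ¬ Comm L (cj b L) := by
  intro hc
  obtain ⟨d, hd, hd2⟩ := (F L hL).even
  have h1 : d * (b * d * b⁻¹) ∈ centralizer (K : Set G) :=
    diag_mem_cen (F K hK) (F L hL).perfect hb hb2 (S.cenle K hK b hb hb2) hc hd
  have e1 : d * b * d⁻¹ = d * (b * d * b⁻¹) * b := by
    have := inv2_inv hd2
    calc d * b * d⁻¹ = d * b * d := by rw [this]
      _ = _ := by group
  have h2 : As K (d * b * d⁻¹) b := by
    rw [e1]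
    have := (As.of_cen h1).mul (As.refl K b) (le_normalizer hb)
    rwa [one_mul] at this
  have h3 : d * b * d⁻¹ ∈ cj d K := conj_mem_cj hb
  have h4 : orderOf (d * b * d⁻¹) = 2 := ord2_conj hb2 d
  have hnc : d * b * d⁻¹ ∉ centralizer (K : Set G) := fun hc =>
    inv2_ne hb2 ((F K hK).cen_bot hb (h2.symm.cen_of hc))
  by_cases h5 : cj d K = K
  · rw [h5] at h3
    have e2 := (F K hK).as_inj h3 hb (As.refl K _) h2
    have e3 : d = b * d * b⁻¹ := by
      rw [e2, eq_comm, mul_eq_right] at e1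
      exact (mul_eq_one_iff_eq_inv.mp (by rw [← e1])).trans (inv2_inv (ord2_conj hd2 b))
    have h6 : d ∈ cj b L := by rw [e3]; exact conj_mem_cj hd
    have h7 := S.ti L hL _ (S.cj_mem L hL b) d hd h6 hd2
    rw [← h7] at hc
    exact (F L hL).not_self hc
  · have hbp : BP SS (cj d K) K := ⟨S.cj_mem K hK d, hK, h5, fun hc => hnc (hc.le h3)⟩
    exact hbp.no_inn S F HP h3 h4 ⟨b, hb, h2⟩

theorem move' (S : Sys SS rel) (F : ∀ L ∈ SS, LF L (PG L)) (HP : ProdH SS rel) {L K P : Subgroup G} (hL : L ∈ SS)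
    (hK : K ∈ SS) {b : G} (hb : b ∈ K) (hb2 : orderOf b = 2) (hn : b ∈ normalizer (L : Set G)) (r : rel L P) :
    b ∈ normalizer (P : Set G) := by
  rw [mem_normalizer_iff_cj]
  by_contra hne
  have hP := S.rel_mem L hL P r
  have r1 : rel L (cj b P) := by
    have := S.relcj L P r b
    rwa [mem_normalizer_iff_cj.mp hn] at this
  exact move S F HP hP hK hb hb2 (S.comm P hP _ (S.trans _ _ _ (S.symm _ _ r) r1) hne)

theorem odd_gen [Finite G] {K Y : Subgroup G} (hY : ∀ y ∈ Y, y * y = 1 → y = 1) {y : G} (hy : y ∈ Y)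
    (h : y⁻¹ * y⁻¹ ∈ centralizer (K : Set G)) : y ∈ centralizer (K : Set G) := by
  have h1 : ¬ 2 ∣ orderOf y := by
    rintro ⟨n, hn⟩
    have h2 : y ^ n = 1 := hY _ (Y.pow_mem hy n) (by rw [← pow_add, ← two_mul, ← hn, pow_orderOf_eq_one])
    have h3 := orderOf_dvd_of_pow_eq_one h2
    have h4 := orderOf_pos y
    have h5 : 0 < n := by omega
    have := Nat.le_of_dvd h5 h3
    omega
  obtain ⟨k, hk⟩ := Nat.odd_iff.mpr (Nat.two_dvd_ne_zero.mp h1)
  have h2 : y * y ∈ centralizer (K : Set G) := by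
    have := inv_mem h
    simpa using this
  have h3 : y = (y * y) ^ (k + 1) := by
    rw [← pow_two, ← pow_mul, show 2 * (k + 1) = orderOf y + 1 by omega, pow_succ, pow_orderOf_eq_one, one_mul]
  rw [h3]; exact pow_mem h2 _

/-- (A) -/
theorem BP.no_adj [Finite G] {K L : Subgroup G} (h : BP SS K L) (S : Sys SS rel) (F : ∀ L ∈ SS, LF L (PG L))
    (R : ∀ L ∈ SS, Root L (PG L)) (HP : ProdH SS rel) {u : G} (hu : u ∈ K) (h2 : orderOf u = 2)
    (hn : u ∈ normalizer (L : Set G)) : False := by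
  have FK := F K h.mK
  have FL := F L h.mL
  have hpg := h.pgl S F hu h2 hn
  have hni := h.no_inn S F HP hu h2
  have hC := S.cenle K h.mK u hu h2
  obtain ⟨Y, hYL, hYu, hYo, hYt, hYc⟩ := R L h.mL u hpg (inv2_sq h2) hni
  obtain ⟨t, ht, ht2, htu⟩ := FL.fix u hn (inv2_sq h2)
  obtain ⟨P, rP, hPL⟩ := S.part L h.mL
  have cLP := S.comm L h.mL P rP hPL
  have hKP := h.prt S rP
  have hnP := move' S F HP h.mL h.mK hu h2 hn rP
  obtain ⟨s, hs, hs2, hsu⟩ := (F P hKP.mL).fix u hnP (inv2_sq h2)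
  have htn := hC (mem_csing.mpr htu)
  have hsn := hC (mem_csing.mpr hsu)
  have htpg := h.symm.pgl S F ht ht2 htn
  have hspg := hKP.symm.pgl S F hs hs2 hsn
  have hti := h.symm.no_inn S F HP ht ht2
  have hsi := hKP.symm.no_inn S F HP hs hs2
  have hts : t * s = s * t := cLP t ht s hs
  -- an element `e = t s` or `t s u` centralizing `K`
  have key : t * s ∈ centralizer (K : Set G) ∨ t * s * u ∈ centralizer (K : Set G) := by
    by_cases hc : t * s ∈ centralizer (K : Set G)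
    · exact Or.inl hc
    · right
      rcases FK.four u hu h2 t htpg s hspg (inv2_sq ht2) (inv2_sq hs2) hts htu hsu (h.symm.ncen S ht ht2)
        (hKP.symm.ncen S hs hs2) hc with e | e | e
      · exact absurd ⟨u, hu, e⟩ hti
      · exact absurd ⟨u, hu, e⟩ hsi
      · exact e.mul_mem_cen hu (inv2_sq h2)
  have hYs : ∀ y ∈ Y, s * y = y * s := fun y hy => (cLP y (hYL hy) s hs).symm
  have hYK : ∀ y ∈ Y, y ∈ centralizer (K : Set G) := by
    intro y hy
    refine odd_gen hYo hy ?_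
    have hyn : y ∈ normalizer (K : Set G) := hC (mem_csing.mpr (hYu y hy))
    have hty := hYt t ht ht2 htu y hy
    obtain ⟨e, he, hey⟩ : ∃ e ∈ centralizer (K : Set G), e * y * e⁻¹ = y⁻¹ := by
      rcases key with e | e
      · refine ⟨_, e, ?_⟩
        calc t * s * y * (t * s)⁻¹ = t * (s * y) * s⁻¹ * t⁻¹ := by group
          _ = t * y * t⁻¹ := by rw [hYs y hy]; group
          _ = y⁻¹ := hty
      · refine ⟨_, e, ?_⟩
        calc t * s * u * y * (t * s * u)⁻¹ = t * s * (u * y) * u⁻¹ * s⁻¹ * t⁻¹ := by group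
          _ = t * (s * y) * s⁻¹ * t⁻¹ := by rw [← hYu y hy]; group
          _ = t * y * t⁻¹ := by rw [hYs y hy]; group
          _ = y⁻¹ := hty
    have h3 : y * e⁻¹ * y⁻¹ ∈ centralizer (K : Set G) := by
      refine mem_cenL.mpr fun x hx => ?_
      have hx' : y⁻¹ * x * y ∈ K := by
        have := (mem_normalizer_iff.mp (inv_mem hyn) x).mp hx
        rwa [inv_inv] at this
      have := mem_cenL.mp (inv_mem he) _ hx'
      calc x * (y * e⁻¹ * y⁻¹) = y * (y⁻¹ * x * y * e⁻¹) * y⁻¹ := by group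
        _ = y * e⁻¹ * y⁻¹ * x := by rw [this]; group
    have h4 := mul_mem he h3
    have h5 : e * (y * e⁻¹ * y⁻¹) = y⁻¹ * y⁻¹ := by rw [← hey]; group
    rwa [h5] at h4
  have hKY : K ≤ centralizer (Y : Set G) := fun x hx => mem_cenL.mpr fun y hy => (mem_cenL.mp (hYK y hy) x hx).symm
  exact hni (FL.perf K FK.perfect (hKY.trans hYc) u hu)

theorem noAdj [Finite G] (S : Sys SS rel) (F : ∀ L ∈ SS, LF L (PG L)) (R : ∀ L ∈ SS, Root L (PG L))
    (HP : ProdH SS rel) : NoAdj SS := by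
  refine ⟨fun L hL K hK hne b hb hb2 hn => ?_, fun L hL K hK b hb hb2 hc => absurd hc (move S F HP hL hK hb hb2)⟩
  by_contra hnc
  exact (⟨hK, hL, hne.symm, hnc⟩ : BP SS K L).no_adj S F R HP hb hb2 hn

end Cfsg.Agent.UGT.Blk
end

-- part: UAlt/Glue
section
set_option linter.all false
open scoped Cfsg.Agent.FastGrp

/-!
# Gluing two partial homomorphisms of alternating groups

`κ` on `Alt(Γ \ S)` and `κ'` on `Alt(Γ \ S')`, `S ∩ S' = ∅`, which agree on `Alt(Γ \ (S ∪ S'))`, with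
`(κ' (i c d) * κ (j c d)) ^ 2 = 1` for `i ∈ S`, `j ∈ S'`, extend to `Alt(Γ)` (Carmichael's presentation).
-/

set_option autoImplicit false
set_option linter.unusedSectionVars false

namespace Cfsg.Agent.UAlt.Glue

open Equiv Equiv.Perm Subgroup
open Cfsg.Agent.StdAlt.PermTypes (cyc)
open Cfsg.Agent.StdAlt.Roots (IsRoot)
open Cfsg.Agent.UAlt.Ident (agree alt_le_of_cyc_two cyc_sq)

variable {α : Type*} [Fintype α] [DecidableEq α] {Q : Type*} [Group Q]

/-- `f` is multiplicative on `alt S` -/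
def MulOn (S : Finset α) (f : Perm α → Q) : Prop := ∀ σ ∈ alt S, ∀ τ ∈ alt S, f (σ * τ) = f σ * f τ

theorem MulOn.one {S : Finset α} {f : Perm α → Q} (h : MulOn S f) : f 1 = 1 := by
  have := h 1 (one_mem _) 1 (one_mem _)
  rw [mul_one] at this
  exact left_eq_mul.1 this

theorem MulOn.pow {S : Finset α} {f : Perm α → Q} (h : MulOn S f) {σ : Perm α} (hσ : σ ∈ alt S) (n : ℕ) :
    f (σ ^ n) = f σ ^ n := by
  induction n with
  | zero => rw [pow_zero, pow_zero, h.one]
  | succ n ih => rw [pow_succ, pow_succ, h _ (pow_mem hσ n) _ hσ, ih]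

theorem MulOn.mono {S T : Finset α} {f : Perm α → Q} (h : MulOn T f) (hST : S ⊆ T) : MulOn S f :=
  fun σ hσ τ hτ => h σ (alt_mono hST hσ) τ (alt_mono hST hτ)

theorem MulOn.inv {S : Finset α} {f : Perm α → Q} (h : MulOn S f) {σ : Perm α} (hσ : σ ∈ alt S) :
    f σ⁻¹ = (f σ)⁻¹ := by
  have := h σ⁻¹ (inv_mem hσ) σ hσ
  rw [inv_mul_cancel, h.one] at this
  exact eq_inv_of_mul_eq_one_left this.symm

/-- a multiplicative function on `alt S` is injective or trivial -/
theorem MulOn.inj {S : Finset α} (h5 : 5 ≤ S.card) {f : Perm α → Q} (h : MulOn S f) {τ : Perm α}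
    (hτ : τ ∈ alt S) (h1 : f τ ≠ 1) {σ : Perm α} (hσ : σ ∈ alt S) (hσ1 : f σ = 1) : σ = 1 := by
  let g : ↥(alt S) →* Q :=
    { toFun := fun σ => f σ
      map_one' := h.one
      map_mul' := fun a b => h a a.2 b b.2 }
  have hs : IsSimpleGroup ↥(alt S) := isSimpleGroup_alt h5
  rcases hs.eq_bot_or_eq_top_of_normal g.ker inferInstance with hk | hk
  · have : (⟨σ, hσ⟩ : ↥(alt S)) ∈ g.ker := hσ1
    rw [hk, mem_bot] at this
    exact congrArg Subtype.val this
  · exfalso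
    apply h1
    have : (⟨τ, hτ⟩ : ↥(alt S)) ∈ g.ker := by rw [hk]; exact mem_top _
    exact this

/-- **Gluing.** -/
theorem glue {Γ S S' : Finset α} (hd : ∀ x ∈ S, x ∉ S') {c d : α} (hc : c ∈ Γ) (hd' : d ∈ Γ) (hcd : c ≠ d)
    (hcS : c ∉ S) (hcS' : c ∉ S') (hdS : d ∉ S) (hdS' : d ∉ S') (h3 : 3 ≤ (Γ \ S).card)
    (h3' : 3 ≤ (Γ \ S').card) {κ κ' : Perm α → Q}
    (hκ : MulOn (Γ \ S) κ) (hκ' : MulOn (Γ \ S') κ')
    (hagree : ∀ i ∈ Γ, i ∉ S → i ∉ S' → i ≠ c → i ≠ d → κ (cyc i c d) = κ' (cyc i c d))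
    (hrel : ∀ i ∈ Γ, ∀ j ∈ Γ, i ∈ S → j ∈ S' → (κ' (cyc i c d) * κ (cyc j c d)) ^ 2 = 1) :
    ∃ f : Perm α → Q, MulOn Γ f ∧ (∀ σ ∈ alt (Γ \ S), f σ = κ σ) ∧ ∀ σ ∈ alt (Γ \ S'), f σ = κ' σ := by
  classical
  have hmem : ∀ {T : Finset α} {i : α}, c ∉ T → d ∉ T → i ∈ Γ → i ∉ T → i ≠ c → cyc i c d ∈ alt (Γ \ T) := by
    intro T i hcT hdT hi hiT hic
    exact cyc_mem_alt (Finset.mem_sdiff.2 ⟨hi, hiT⟩) (Finset.mem_sdiff.2 ⟨hc, hcT⟩)
      (Finset.mem_sdiff.2 ⟨hd', hdT⟩) hic hcd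
  let y : α → Q := fun i => if i ∈ S then κ' (cyc i c d) else κ (cyc i c d)
  have hy1 : ∀ i ∈ Γ, i ∉ S → y i = κ (cyc i c d) := fun i _ h => if_neg h
  have hy2 : ∀ i ∈ Γ, i ∉ S' → i ≠ c → i ≠ d → y i = κ' (cyc i c d) := by
    intro i hi h hic hid
    by_cases hS : i ∈ S
    · exact if_pos hS
    · rw [hy1 i hi hS, hagree i hi hS h hic hid]
  have hpair1 : ∀ i ∈ Γ, ∀ j ∈ Γ, i ∉ S → j ∉ S → i ≠ c → i ≠ d → j ≠ c → j ≠ d → i ≠ j →
      (y i * y j) ^ 2 = 1 := by
    intro i hi j hj hiS hjS hic hid hjc hjd hij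
    rw [hy1 i hi hiS, hy1 j hj hjS]
    have m1 := hmem hcS hdS hi hiS hic
    have m2 := hmem hcS hdS hj hjS hjc
    rw [← hκ _ m1 _ m2, ← hκ.pow (mul_mem m1 m2), cyc_sq hic hid hjc hjd hcd hij, hκ.one]
  have hpair2 : ∀ i ∈ Γ, ∀ j ∈ Γ, i ∉ S' → j ∉ S' → i ≠ c → i ≠ d → j ≠ c → j ≠ d → i ≠ j →
      (y i * y j) ^ 2 = 1 := by
    intro i hi j hj hiS hjS hic hid hjc hjd hij
    rw [hy2 i hi hiS hic hid, hy2 j hj hjS hjc hjd]
    have m1 := hmem hcS' hdS' hi hiS hic
    have m2 := hmem hcS' hdS' hj hjS hjc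
    rw [← hκ' _ m1 _ m2, ← hκ'.pow (mul_mem m1 m2), cyc_sq hic hid hjc hjd hcd hij, hκ'.one]
  have hcardΓ : 3 ≤ Γ.card := h3.trans (Finset.card_le_card Finset.sdiff_subset)
  obtain ⟨g, hg⟩ := Cfsg.Agent.StdAlt.Carm.exists_hom (G := Q) (Ω := Γ) (c := ⟨c, hc⟩) (d := ⟨d, hd'⟩)
    (fun e => hcd (congrArg Subtype.val e)) (by rw [Fintype.card_coe]; exact hcardΓ)
    (y := fun i => y (i : α)) (by
      intro i hic hid
      have hic' : (i : α) ≠ c := fun e => hic (Subtype.ext e)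
      have hid' : (i : α) ≠ d := fun e => hid (Subtype.ext e)
      show y (i : α) ^ 3 = 1
      by_cases hiS : (i : α) ∈ S
      · rw [hy2 i i.2 (hd _ hiS) hic' hid', ← hκ'.pow (hmem hcS' hdS' i.2 (hd _ hiS) hic'),
          StdAlt.PermTypes.cyc_pow_three hic' hcd hid', hκ'.one]
      · rw [hy1 i i.2 hiS, ← hκ.pow (hmem hcS hdS i.2 hiS hic'),
          StdAlt.PermTypes.cyc_pow_three hic' hcd hid', hκ.one]) (by
      intro i j hic hid hjc hjd hij
      have hic' : (i : α) ≠ c := fun e => hic (Subtype.ext e)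
      have hid' : (i : α) ≠ d := fun e => hid (Subtype.ext e)
      have hjc' : (j : α) ≠ c := fun e => hjc (Subtype.ext e)
      have hjd' : (j : α) ≠ d := fun e => hjd (Subtype.ext e)
      have hij' : (i : α) ≠ j := fun e => hij (Subtype.ext e)
      show (y (i : α) * y (j : α)) ^ 2 = 1
      by_cases hiS : (i : α) ∈ S
      · by_cases hjS' : (j : α) ∈ S'
        · rw [hy2 i i.2 (hd _ hiS) hic' hid', hy1 j j.2 (fun h => hd _ h hjS')]
          exact hrel i i.2 j j.2 hiS hjS'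
        · exact hpair2 i i.2 j j.2 (hd _ hiS) hjS' hic' hid' hjc' hjd' hij'
      · by_cases hjS : (j : α) ∈ S
        · by_cases hiS' : (i : α) ∈ S'
          · have h1 := hrel j j.2 i i.2 hjS hiS'
            rw [← hy2 j j.2 (hd _ hjS) hjc' hjd', ← hy1 i i.2 hiS] at h1
            rw [pow_two] at h1 ⊢
            calc y (i : α) * y (j : α) * (y (i : α) * y (j : α)) =
                (y (j : α))⁻¹ * (y (j : α) * y (i : α) * (y (j : α) * y (i : α))) * y (j : α) := by group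
              _ = 1 := by rw [h1]; group
          · exact hpair2 i i.2 j j.2 hiS' (hd _ hjS) hic' hid' hjc' hjd' hij'
        · exact hpair1 i i.2 j j.2 hiS hjS hic' hid' hjc' hjd' hij')
  let f : Perm α → Q := fun σ => if h : σ ∈ alt Γ then g ((altEquiv Γ).symm ⟨σ, h⟩) else 1
  have hf : ∀ (σ : Perm α) (h : σ ∈ alt Γ), f σ = g ((altEquiv Γ).symm ⟨σ, h⟩) := fun σ h => dif_pos h
  have hfmul : MulOn Γ f := by
    intro σ hσ τ hτ
    rw [hf _ (mul_mem hσ hτ), hf _ hσ, hf _ hτ, ← map_mul, ← map_mul]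
    rfl
  have hfcyc : ∀ i ∈ Γ, i ≠ c → i ≠ d → f (cyc i c d) = y i := by
    intro i hi hic hid
    have hm : cyc i c d ∈ alt Γ := cyc_mem_alt hi hc hd' hic hcd
    rw [hf _ hm]
    have e : (((altEquiv Γ).symm ⟨cyc i c d, hm⟩ : alternatingGroup Γ) : Perm Γ) =
        cyc ⟨i, hi⟩ ⟨c, hc⟩ ⟨d, hd'⟩ := by
      apply ofSubtype_injective
      have h3 : (ofSubtype (cyc ⟨i, hi⟩ ⟨c, hc⟩ ⟨d, hd'⟩ : Perm Γ) : Perm α) = cyc i c d := by
        unfold Cfsg.Agent.StdAlt.PermTypes.cyc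
        rw [map_mul, ofSubtype_swap_eq, ofSubtype_swap_eq]
      rw [h3, ← altEquiv_coe, MulEquiv.apply_symm_apply]
    exact hg _ ⟨i, hi⟩ (fun e => hic (congrArg Subtype.val e)) (fun e => hid (congrArg Subtype.val e)) e
  refine ⟨f, hfmul, ?_, ?_⟩
  · apply agree (hfmul.mono Finset.sdiff_subset) hκ
      (P := fun σ => ∃ i ∈ Γ \ S, i ≠ c ∧ i ≠ d ∧ σ = cyc i c d)
    · intro H hH
      refine alt_le_of_cyc_two (Finset.mem_sdiff.2 ⟨hc, hcS⟩) (Finset.mem_sdiff.2 ⟨hd', hdS⟩) hcd h3 ?_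
      intro i hi hic hid
      exact hH _ (cyc_mem_alt hi (Finset.mem_sdiff.2 ⟨hc, hcS⟩) (Finset.mem_sdiff.2 ⟨hd', hdS⟩) hic hcd)
        ⟨i, hi, hic, hid, rfl⟩
    · rintro σ hσ ⟨i, hi, hic, hid, rfl⟩
      rw [Finset.mem_sdiff] at hi
      rw [hfcyc i hi.1 hic hid, hy1 i hi.1 hi.2]
  · apply agree (hfmul.mono Finset.sdiff_subset) hκ'
      (P := fun σ => ∃ i ∈ Γ \ S', i ≠ c ∧ i ≠ d ∧ σ = cyc i c d)
    · intro H hH
      refine alt_le_of_cyc_two (Finset.mem_sdiff.2 ⟨hc, hcS'⟩) (Finset.mem_sdiff.2 ⟨hd', hdS'⟩) hcd h3' ?_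
      intro i hi hic hid
      exact hH _ (cyc_mem_alt hi (Finset.mem_sdiff.2 ⟨hc, hcS'⟩) (Finset.mem_sdiff.2 ⟨hd', hdS'⟩) hic hcd)
        ⟨i, hi, hic, hid, rfl⟩
    · rintro σ hσ ⟨i, hi, hic, hid, rfl⟩
      rw [Finset.mem_sdiff] at hi
      rw [hfcyc i hi.1 hic hid, hy2 i hi.1 hi.2 hic hid]

/-- two roots of `alt A`, `6 ≤ |A|`, are conjugate in `alt A` -/
theorem exists_alt_conj {A : Finset α} {u w : Perm α} (hu : IsRoot u) (hw : IsRoot w) (huA : u ∈ sym A)
    (hwA : w ∈ sym A) : ∃ g ∈ alt A, g * u * g⁻¹ = w := by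
  obtain ⟨u', hu'⟩ := (symEquiv A).surjective ⟨u, huA⟩
  obtain ⟨w', hw'⟩ := (symEquiv A).surjective ⟨w, hwA⟩
  have hu1 : ofSubtype u' = u := by rw [← symEquiv_coe, hu']
  have hw1 : ofSubtype w' = w := by rw [← symEquiv_coe, hw']
  have h1 : IsConj u' w' := by
    rw [isConj_iff_cycleType_eq]
    have e1 := cycleType_ofSubtype (g := u')
    have e2 := cycleType_ofSubtype (g := w')
    rw [hu1] at e1
    rw [hw1] at e2
    rw [← e1, ← e2, hu.cycleType, hw.cycleType]
  obtain ⟨g, hg⟩ := isConj_iff.1 h1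
  have hg1 : ofSubtype g * u * (ofSubtype g)⁻¹ = w := by
    rw [← hu1, ← hw1, ← hg, map_mul, map_mul, map_inv]
  have hgA : ofSubtype g ∈ sym A := by
    rw [← symEquiv_coe]
    exact (symEquiv A g).2
  rcases Int.units_eq_one_or (sign (ofSubtype g)) with h | h
  · exact ⟨ofSubtype g, ⟨mem_alternatingGroup.2 h, hgA⟩, hg1⟩
  · -- correct by a transposition commuting with `u`
    obtain ⟨x, hx⟩ : ∃ x, x ∈ u.support := Finset.card_pos.1 (by rw [hu.2]; norm_num)
    have hx' : u x ≠ x := mem_support.1 hx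
    have hxA : x ∈ A := by
      by_contra hn
      exact hx' (huA x hn)
    have hc : swap x (u x) * u = u * swap x (u x) := StdAlt.PermTypes.comm_swap_pair hu.1 x
    refine ⟨ofSubtype g * swap x (u x), ⟨?_, mul_mem hgA ?_⟩, ?_⟩
    · show ofSubtype g * swap x (u x) ∈ alternatingGroup α
      rw [mem_alternatingGroup, map_mul, h, sign_swap hx'.symm]
      rfl
    · intro z hz
      apply swap_apply_of_ne_of_ne
      · rintro rfl; exact hz hxA
      · rintro rfl; exact hz (mem_of_mem_sym huA hxA)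
    · calc ofSubtype g * swap x (u x) * u * (ofSubtype g * swap x (u x))⁻¹ =
          ofSubtype g * (swap x (u x) * u) * (swap x (u x))⁻¹ * (ofSubtype g)⁻¹ := by group
        _ = ofSubtype g * u * (ofSubtype g)⁻¹ := by rw [hc]; group
        _ = w := hg1

end Cfsg.Agent.UAlt.Glue
end

-- part: UAlt/Eleven/PermPart
section
set_option linter.all false
open scoped Cfsg.Agent.FastGrp

/-!
# Permutation representations of `D8 ∘ D8` of small degree

`Ext s₁ s₂ s₃ s₄ c`: the involutions `s₁, s₂` generate a dihedral group of order 8 with centre `c`, so do `s₃, s₄`,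
and the two groups commute.

* `Ext.eight_le`: if `c` moves a point of the invariant set `Y` then `c` moves at least eight points of `Y`.
* `Ext.card_eq`: exactly eight if `|Y| ≤ 11`.
* `Ext.cent`: a permutation of order two commuting with `s₁, ..., s₄` is trivial or acts as `c` on the points moved
  by `c`, if `|Y| ≤ 11`.
* `Ext.pair`: two such groups.
-/

set_option autoImplicit false
set_option linter.unusedSectionVars false

namespace Cfsg.Agent.UAlt.Eleven

open Equiv Equiv.Perm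

/-- generators of `D8 ∘ D8` -/
structure Ext {H : Type*} [Group H] (s₁ s₂ s₃ s₄ c : H) : Prop where
  q₁ : s₁ * s₁ = 1
  q₂ : s₂ * s₂ = 1
  q₃ : s₃ * s₃ = 1
  q₄ : s₄ * s₄ = 1
  qc : c * c = 1
  g : s₁ * s₂ * (s₁ * s₂) = c
  h : s₃ * s₄ * (s₃ * s₄) = c
  c₁₃ : s₁ * s₃ = s₃ * s₁
  c₁₄ : s₁ * s₄ = s₄ * s₁
  c₂₃ : s₂ * s₃ = s₃ * s₂
  c₂₄ : s₂ * s₄ = s₄ * s₂

namespace Ext

section grp

variable {H : Type*} [Group H] {s₁ s₂ s₃ s₄ c : H} (E : Ext s₁ s₂ s₃ s₄ c)
include E

/-- the image under a homomorphism -/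
theorem map {H' : Type*} [Group H'] (f : H →* H') : Ext (f s₁) (f s₂) (f s₃) (f s₄) (f c) := by
  constructor <;> simp only [← map_mul]
  · rw [E.q₁, map_one]
  · rw [E.q₂, map_one]
  · rw [E.q₃, map_one]
  · rw [E.q₄, map_one]
  · rw [E.qc, map_one]
  · rw [E.g]
  · rw [E.h]
  · rw [E.c₁₃]
  · rw [E.c₁₄]
  · rw [E.c₂₃]
  · rw [E.c₂₄]

theorem i₁ : s₁⁻¹ = s₁ := inv_eq_of_mul_eq_one_left E.q₁
theorem i₂ : s₂⁻¹ = s₂ := inv_eq_of_mul_eq_one_left E.q₂
theorem ic : c⁻¹ = c := inv_eq_of_mul_eq_one_left E.qc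

theorem swap : Ext s₃ s₄ s₁ s₂ c :=
  ⟨E.q₃, E.q₄, E.q₁, E.q₂, E.qc, E.h, E.g, E.c₁₃.symm, E.c₂₃.symm, E.c₁₄.symm, E.c₂₄.symm⟩

theorem g' : s₂ * s₁ * (s₂ * s₁) = c := by
  have h1 := congrArg (fun x => x⁻¹) E.g
  simp only [mul_inv_rev, E.i₁, E.i₂, E.ic] at h1
  exact h1

theorem c₁ : c * s₁ = s₁ * c := by
  have h1 : c * s₁ = s₂ * s₁ * s₂ := by
    rw [← E.g']
    calc s₂ * s₁ * (s₂ * s₁) * s₁ = s₂ * s₁ * s₂ * (s₁ * s₁) := by group
      _ = _ := by rw [E.q₁]; group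
  have h2 : s₁ * c = s₂ * s₁ * s₂ := by
    rw [← E.g]
    calc s₁ * (s₁ * s₂ * (s₁ * s₂)) = (s₁ * s₁) * s₂ * s₁ * s₂ := by group
      _ = _ := by rw [E.q₁]; group
  rw [h1, h2]

theorem c₂ : c * s₂ = s₂ * c := by
  have h1 : c * s₂ = s₁ * s₂ * s₁ := by
    rw [← E.g]
    calc s₁ * s₂ * (s₁ * s₂) * s₂ = s₁ * s₂ * s₁ * (s₂ * s₂) := by group
      _ = _ := by rw [E.q₂]; group
  have h2 : s₂ * c = s₁ * s₂ * s₁ := by
    rw [← E.g']
    calc s₂ * (s₂ * s₁ * (s₂ * s₁)) = (s₂ * s₂) * s₁ * s₂ * s₁ := by group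
      _ = _ := by rw [E.q₂]; group
  rw [h1, h2]

theorem c₃ : c * s₃ = s₃ * c := E.swap.c₁
theorem c₄ : c * s₄ = s₄ * c := E.swap.c₂

end grp

section perm

variable {β : Type*} [DecidableEq β] {s₁ s₂ s₃ s₄ c : Perm β} (E : Ext s₁ s₂ s₃ s₄ c)
include E

theorem ap {x y : Perm β} (h : x * y = y * x) (p : β) : x (y p) = y (x p) := by
  rw [← Perm.mul_apply, h, Perm.mul_apply]

omit E in
theorem sqa {x : Perm β} (h : x * x = 1) (p : β) : x (x p) = p := by
  rw [← Perm.mul_apply, h]; rfl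

/-- **the key**: `x` moved by `c`, `p`, `b₃`, `b₄` permutations with `s₁ x = p x`, `p` commuting with `s₃`, `s₄`, `g`,
... -/
theorem key {A : Set (Perm β)} (h2 : ∀ b ∈ A, b * b = 1) (hA : ∀ b ∈ A, ∀ b' ∈ A, b * b' = b' * b)
    (k₁ : ∀ b ∈ A, b * s₁ = s₁ * b) (k₂ : ∀ b ∈ A, b * s₂ = s₂ * b) (k₃ : ∀ b ∈ A, b * s₃ = s₃ * b)
    (k₄ : ∀ b ∈ A, b * s₄ = s₄ * b) {x : β} (hx : c x ≠ x)
    (w₁ : ∃ b ∈ A, s₁ x = b x ∨ s₁ x = b (s₁ (s₂ x))) (w₃ : ∃ b ∈ A, s₃ x = b x ∨ s₃ x = b (s₁ (s₂ x)))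
    (w₄ : ∃ b ∈ A, s₄ x = b x ∨ s₄ x = b (s₁ (s₂ x))) : False := by
  have kg : ∀ b ∈ A, b * (s₁ * s₂) = s₁ * s₂ * b := by
    intro b hb
    rw [← mul_assoc, k₁ b hb, mul_assoc, k₂ b hb, mul_assoc]
  -- `p`
  obtain ⟨p, hpx, hp3, hp4, hpg, hpA⟩ : ∃ p : Perm β, s₁ x = p x ∧ p * s₃ = s₃ * p ∧ p * s₄ = s₄ * p ∧
      p * (s₁ * s₂) = s₁ * s₂ * p ∧ ∀ b ∈ A, p * b = b * p := by
    obtain ⟨b, hb, h | h⟩ := w₁
    · exact ⟨b, h, k₃ b hb, k₄ b hb, kg b hb, fun b' hb' => hA b hb b' hb'⟩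
    · refine ⟨b * (s₁ * s₂), h, ?_, ?_, ?_, ?_⟩
      · rw [mul_assoc, mul_assoc s₁, E.c₂₃, ← mul_assoc s₁, E.c₁₃, mul_assoc s₃, ← mul_assoc, k₃ b hb,
          mul_assoc]
      · rw [mul_assoc, mul_assoc s₁, E.c₂₄, ← mul_assoc s₁, E.c₁₄, mul_assoc s₄, ← mul_assoc, k₄ b hb,
          mul_assoc]
      · rw [kg b hb, mul_assoc, kg b hb]
      · intro b' hb'
        rw [mul_assoc, ← kg b' hb', ← mul_assoc, hA b hb b' hb', mul_assoc]
  -- the second alternative is impossible for `s₃`, `s₄`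
  have step : ∀ s : Perm β, p * s = s * p → s₁ * s = s * s₁ → ∀ b ∈ A, s x ≠ b (s₁ (s₂ x)) := by
    intro s hps hs1 b hb h
    have e1 : s (s₁ x) = b (s₁ (s₂ (s₁ x))) := by
      rw [hpx, ← ap E hps, h, ap E (hpA b hb)]
      congr 1
      exact ap E hpg x
    have e2 : s (s₁ x) = b (s₁ (s₁ (s₂ x))) := by
      rw [← ap E hs1, h, ← ap E (k₁ b hb)]
    rw [e1] at e2
    have e3 : s₂ (s₁ x) = s₁ (s₂ x) := s₁.injective (b.injective e2)
    apply hx
    rw [← E.g]
    show s₁ (s₂ (s₁ (s₂ x))) = x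
    rw [← e3, sqa E.q₂, sqa E.q₁]
  obtain ⟨b₃, hb₃, h3⟩ := w₃
  obtain ⟨b₄, hb₄, h4⟩ := w₄
  have h3' : s₃ x = b₃ x := h3.resolve_right (step s₃ hp3 E.c₁₃ b₃ hb₃)
  have h4' : s₄ x = b₄ x := h4.resolve_right (step s₄ hp4 E.c₁₄ b₄ hb₄)
  apply hx
  rw [← E.h]
  show s₃ (s₄ (s₃ (s₄ x))) = x
  rw [h4', ← ap E (k₃ b₄ hb₄), ← ap E (k₄ b₄ hb₄), ← ap E (k₃ b₄ hb₄), h3', ← ap E (k₄ b₃ hb₃),
    ← ap E (k₃ b₃ hb₃), h4', ← ap E (k₃ b₄ hb₄), h3', ap E (hA b₃ hb₃ b₄ hb₄), sqa (h2 b₄ hb₄),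
    sqa (h2 b₃ hb₃)]

/-- the orbit of `y` under `s₁ s₂` -/
def orb (s₁ s₂ c : Perm β) (y : β) : Finset β := {y, s₁ (s₂ y), c y, c (s₁ (s₂ y))}

omit E in
theorem mem_orb {y z : β} : z ∈ orb s₁ s₂ c y ↔
    z = y ∨ z = s₁ (s₂ y) ∨ z = c y ∨ z = c (s₁ (s₂ y)) := by
  simp [orb]

theorem gg (y : β) : s₁ (s₂ (s₁ (s₂ y))) = c y := by
  rw [← E.g]; rfl

theorem cg (y : β) : s₁ (s₂ (c y)) = c (s₁ (s₂ y)) := by
  rw [← ap E E.c₂, ← ap E E.c₁]

theorem cc (y : β) : c (c y) = y := sqa E.qc y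

/-- `c` and `s₁ s₂` preserve the orbit -/
theorem orb_g {y z : β} (hz : z ∈ orb s₁ s₂ c y) : s₁ (s₂ z) ∈ orb s₁ s₂ c y := by
  rw [mem_orb] at hz ⊢
  rcases hz with rfl | rfl | rfl | rfl
  · exact Or.inr (Or.inl rfl)
  · exact Or.inr (Or.inr (Or.inl (gg E y)))
  · exact Or.inr (Or.inr (Or.inr (cg E y)))
  · left
    rw [cg E, gg E, cc E]

theorem orb_c {y z : β} (hz : z ∈ orb s₁ s₂ c y) : c z ∈ orb s₁ s₂ c y := by
  rw [← gg E]
  exact orb_g E (orb_g E hz)

theorem orb_symm {y z : β} (hz : z ∈ orb s₁ s₂ c y) : y ∈ orb s₁ s₂ c z := by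
  rw [mem_orb] at hz ⊢
  rcases hz with rfl | rfl | rfl | rfl
  · exact Or.inl rfl
  · right; right; right
    rw [gg E, cc E]
  · right; right; left
    rw [cc E]
  · right; left
    rw [cg E, gg E, cc E]

theorem orb_trans {y z w : β} (hz : z ∈ orb s₁ s₂ c y) (hw : w ∈ orb s₁ s₂ c z) :
    w ∈ orb s₁ s₂ c y := by
  rw [mem_orb] at hw
  rcases hw with rfl | rfl | rfl | rfl
  · exact hz
  · exact orb_g E hz
  · exact orb_c E hz
  · exact orb_c E (orb_g E hz)

theorem orb_disj {y z : β} (hz : z ∉ orb s₁ s₂ c y) :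
    Disjoint (orb s₁ s₂ c y) (orb s₁ s₂ c z) := by
  rw [Finset.disjoint_left]
  intro w hw hw'
  exact hz (orb_trans E hw (orb_symm E hw'))

theorem orb_card {y : β} (hy : c y ≠ y) : (orb s₁ s₂ c y).card = 4 := by
  have h1 : s₁ (s₂ y) ≠ y := by
    intro h
    apply hy
    rw [← gg E, h, h]
  have h2 : s₁ (s₂ y) ≠ c y := by
    intro h
    have h3 := congrArg (fun z => s₁ (s₂ z)) h
    simp only [gg E, cg E] at h3
    exact h1 (c.injective h3).symm
  have h3 : c (s₁ (s₂ y)) ≠ y := by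
    intro h
    apply h2
    rw [← cc E (s₁ (s₂ y)), h]
  have h4 : c (s₁ (s₂ y)) ≠ s₁ (s₂ y) := by
    intro h
    apply hy
    rw [← cg E] at h
    exact s₂.injective (s₁.injective h)
  have h5 : c (s₁ (s₂ y)) ≠ c y := fun h => h1 (c.injective h)
  unfold orb
  rw [Finset.card_insert_of_notMem, Finset.card_insert_of_notMem, Finset.card_insert_of_notMem,
    Finset.card_singleton]
  · rw [Finset.mem_singleton]; exact h5.symm
  · simp only [Finset.mem_insert, Finset.mem_singleton, not_or]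
    exact ⟨h2, h4.symm⟩
  · simp only [Finset.mem_insert, Finset.mem_singleton, not_or]
    exact ⟨h1.symm, hy.symm, h3.symm⟩

/-- the points of `Y` moved by `c` -/
def mv (c : Perm β) (Y : Finset β) : Finset β := Y.filter fun y => c y ≠ y

omit E in
theorem mem_mv {Y : Finset β} {y : β} : y ∈ mv c Y ↔ y ∈ Y ∧ c y ≠ y := Finset.mem_filter

/-- `Y` is invariant -/
def Inv (s₁ s₂ s₃ s₄ : Perm β) (Y : Finset β) : Prop :=
  ∀ y ∈ Y, s₁ y ∈ Y ∧ s₂ y ∈ Y ∧ s₃ y ∈ Y ∧ s₄ y ∈ Y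

variable {Y : Finset β}

theorem c_mem (hY : Inv s₁ s₂ s₃ s₄ Y) {y : β} (hy : y ∈ Y) : c y ∈ Y := by
  rw [← gg E]
  exact (hY _ (hY _ (hY _ (hY _ hy).2.1).1).2.1).1

theorem mv_s {s : Perm β} (hs : c * s = s * c) (hsY : ∀ y ∈ Y, s y ∈ Y) {y : β} (hy : y ∈ mv c Y) :
    s y ∈ mv c Y := by
  rw [mem_mv] at hy ⊢
  refine ⟨hsY y hy.1, fun h => hy.2 ?_⟩
  rw [ap E hs] at h
  exact s.injective h

theorem mv_inv (hY : Inv s₁ s₂ s₃ s₄ Y) : Inv s₁ s₂ s₃ s₄ (mv c Y) := fun _ hy =>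
  ⟨mv_s E E.c₁ (fun y hy => (hY y hy).1) hy, mv_s E E.c₂ (fun y hy => (hY y hy).2.1) hy,
    mv_s E E.c₃ (fun y hy => (hY y hy).2.2.1) hy, mv_s E E.c₄ (fun y hy => (hY y hy).2.2.2) hy⟩

theorem orb_sub (hY : Inv s₁ s₂ s₃ s₄ Y) {y : β} (hy : y ∈ Y) : orb s₁ s₂ c y ⊆ Y := by
  intro z hz
  have hg : s₁ (s₂ y) ∈ Y := (hY _ (hY _ hy).2.1).1
  rw [mem_orb] at hz
  rcases hz with rfl | rfl | rfl | rfl
  · exact hy
  · exact hg
  · exact c_mem E hY hy
  · exact c_mem E hY hg

/-- a point outside the orbit -/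
theorem exists_out (hY : Inv s₁ s₂ s₃ s₄ Y) {x : β} (hx : x ∈ mv c Y) :
    ∃ z ∈ mv c Y, z ∉ orb s₁ s₂ c x := by
  by_contra hcon
  push Not at hcon
  have hin := mv_inv E hY _ hx
  refine E.key (A := {1, c}) ?_ ?_ ?_ ?_ ?_ ?_ (mem_mv.mp hx).2 ?_ ?_ ?_
  · rintro b (rfl | hb)
    · exact mul_one _
    · rw [Set.mem_singleton_iff.mp hb]; exact E.qc
  · rintro b (rfl | hb) b' (rfl | hb')
    · rfl
    · rw [one_mul, mul_one]
    · rw [one_mul, mul_one]
    · rw [Set.mem_singleton_iff.mp hb, Set.mem_singleton_iff.mp hb']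
  · rintro b (rfl | hb)
    · rw [one_mul, mul_one]
    · rw [Set.mem_singleton_iff.mp hb]; exact E.c₁
  · rintro b (rfl | hb)
    · rw [one_mul, mul_one]
    · rw [Set.mem_singleton_iff.mp hb]; exact E.c₂
  · rintro b (rfl | hb)
    · rw [one_mul, mul_one]
    · rw [Set.mem_singleton_iff.mp hb]; exact E.c₃
  · rintro b (rfl | hb)
    · rw [one_mul, mul_one]
    · rw [Set.mem_singleton_iff.mp hb]; exact E.c₄
  all_goals
    have key : ∀ z ∈ mv c Y, ∃ b ∈ ({1, c} : Set (Perm β)), z = b x ∨ z = b (s₁ (s₂ x)) := by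
      intro z hz
      have h1 := hcon z hz
      rw [mem_orb] at h1
      rcases h1 with h | h | h | h
      · exact ⟨1, Or.inl rfl, Or.inl h⟩
      · exact ⟨1, Or.inl rfl, Or.inr h⟩
      · exact ⟨c, Or.inr rfl, Or.inl h⟩
      · exact ⟨c, Or.inr rfl, Or.inr h⟩
  · exact key _ hin.1
  · exact key _ hin.2.2.1
  · exact key _ hin.2.2.2

/-- **(A)** -/
theorem eight_le (hY : Inv s₁ s₂ s₃ s₄ Y) {x : β} (hx : x ∈ Y) (hc : c x ≠ x) :
    8 ≤ (mv c Y).card := by
  have hxm : x ∈ mv c Y := mem_mv.mpr ⟨hx, hc⟩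
  obtain ⟨z, hz, hz'⟩ := exists_out E hY hxm
  have h1 : orb s₁ s₂ c x ∪ orb s₁ s₂ c z ⊆ mv c Y :=
    Finset.union_subset (orb_sub E (mv_inv E hY) hxm) (orb_sub E (mv_inv E hY) hz)
  have h2 := Finset.card_le_card h1
  rw [Finset.card_union_of_disjoint (orb_disj E hz'), orb_card E hc, orb_card E (mem_mv.mp hz).2] at h2
  omega

theorem card_eq (hY : Inv s₁ s₂ s₃ s₄ Y) (h11 : Y.card ≤ 11) {x : β} (hx : x ∈ Y) (hc : c x ≠ x) :
    (mv c Y).card = 8 ∧ ∃ z ∈ mv c Y, z ∉ orb s₁ s₂ c x ∧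
      mv c Y = orb s₁ s₂ c x ∪ orb s₁ s₂ c z := by
  have hxm : x ∈ mv c Y := mem_mv.mpr ⟨hx, hc⟩
  obtain ⟨z, hz, hz'⟩ := exists_out E hY hxm
  have h1 : orb s₁ s₂ c x ∪ orb s₁ s₂ c z ⊆ mv c Y :=
    Finset.union_subset (orb_sub E (mv_inv E hY) hxm) (orb_sub E (mv_inv E hY) hz)
  have h2 : (orb s₁ s₂ c x ∪ orb s₁ s₂ c z).card = 8 := by
    rw [Finset.card_union_of_disjoint (orb_disj E hz'), orb_card E hc, orb_card E (mem_mv.mp hz).2]
  have h3 : mv c Y = orb s₁ s₂ c x ∪ orb s₁ s₂ c z := by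
    apply Finset.Subset.antisymm ?_ h1
    intro w hw
    by_contra hn
    rw [Finset.mem_union, not_or] at hn
    have h4 : (orb s₁ s₂ c x ∪ orb s₁ s₂ c z) ∪ orb s₁ s₂ c w ⊆ mv c Y :=
      Finset.union_subset h1 (orb_sub E (mv_inv E hY) hw)
    have h5 : Disjoint (orb s₁ s₂ c x ∪ orb s₁ s₂ c z) (orb s₁ s₂ c w) :=
      Finset.disjoint_union_left.mpr ⟨orb_disj E hn.1, orb_disj E hn.2⟩
    have h6 := Finset.card_le_card h4
    rw [Finset.card_union_of_disjoint h5, h2, orb_card E (mem_mv.mp hw).2] at h6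
    have h7 : (mv c Y).card ≤ Y.card := Finset.card_le_card (Finset.filter_subset _ _)
    omega
  exact ⟨by rw [h3, h2], z, hz, hz', h3⟩

/-- **(B)** the centralizer -/
theorem cent (hY : Inv s₁ s₂ s₃ s₄ Y) (h11 : Y.card ≤ 11) {a : Perm β} (haY : ∀ y ∈ Y, a y ∈ Y)
    (haa : a * a = 1) (a₁ : a * s₁ = s₁ * a) (a₂ : a * s₂ = s₂ * a) (a₃ : a * s₃ = s₃ * a)
    (a₄ : a * s₄ = s₄ * a) : (∀ y ∈ mv c Y, a y = y) ∨ ∀ y ∈ mv c Y, a y = c y := by
  have hac : a * c = c * a := by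
    have h1 : Commute a (s₁ * s₂) := Commute.mul_right a₁ a₂
    have h2 : Commute a (s₁ * s₂ * (s₁ * s₂)) := h1.mul_right h1
    rw [E.g] at h2
    exact h2
  -- the fixed points of a commuting permutation `t`: all of `mv c Y` or none
  have key : ∀ t : Perm β, (∀ y ∈ Y, t y ∈ Y) → t * s₁ = s₁ * t → t * s₂ = s₂ * t → t * s₃ = s₃ * t →
      t * s₄ = s₄ * t → ∀ x ∈ mv c Y, t x = x → ∀ y ∈ mv c Y, t y = y := by
    intro t htY t₁ t₂ t₃ t₄ x hx htx
    have hZ : Inv s₁ s₂ s₃ s₄ (Y.filter fun y => t y = y) := by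
      intro y hy
      rw [Finset.mem_filter] at hy
      obtain ⟨h1, h2, h3, h4⟩ := hY y hy.1
      simp only [Finset.mem_filter]
      refine ⟨⟨h1, ?_⟩, ⟨h2, ?_⟩, ⟨h3, ?_⟩, ⟨h4, ?_⟩⟩
      · rw [ap E t₁, hy.2]
      · rw [ap E t₂, hy.2]
      · rw [ap E t₃, hy.2]
      · rw [ap E t₄, hy.2]
    have h1 := eight_le E hZ (Finset.mem_filter.mpr ⟨(mem_mv.mp hx).1, htx⟩) (mem_mv.mp hx).2
    have h2 := (card_eq E hY h11 (mem_mv.mp hx).1 (mem_mv.mp hx).2).1
    have h3 : mv c (Y.filter fun y => t y = y) ⊆ mv c Y := by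
      intro y hy
      rw [mem_mv, Finset.mem_filter] at hy
      exact mem_mv.mpr ⟨hy.1.1, hy.2⟩
    have h4 : mv c (Y.filter fun y => t y = y) = mv c Y :=
      Finset.eq_of_subset_of_card_le h3 (by omega)
    intro y hy
    rw [← h4, mem_mv, Finset.mem_filter] at hy
    exact hy.1.2
  by_cases hne : (mv c Y).Nonempty
  swap
  · left
    intro y hy
    exact absurd ⟨y, hy⟩ hne
  obtain ⟨x, hx⟩ := hne
  obtain ⟨hxY, hcx⟩ := mem_mv.mp hx
  by_cases h1 : a x = x
  · exact Or.inl (key a haY a₁ a₂ a₃ a₄ x hx h1)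
  by_cases h2 : a x = c x
  · right
    have h3 := key (c * a) (fun y hy => c_mem E hY (haY y hy))
      (by rw [mul_assoc, a₁, ← mul_assoc, E.c₁, mul_assoc])
      (by rw [mul_assoc, a₂, ← mul_assoc, E.c₂, mul_assoc])
      (by rw [mul_assoc, a₃, ← mul_assoc, E.c₃, mul_assoc])
      (by rw [mul_assoc, a₄, ← mul_assoc, E.c₄, mul_assoc]) x hx
      (by rw [Perm.mul_apply, h2, cc E])
    intro y hy
    have h4 := h3 y hy
    rw [Perm.mul_apply] at h4
    rw [← cc E (a y), h4]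
  -- the third case is impossible
  exfalso
  have hamv : a x ∈ mv c Y := mv_s E hac.symm haY hx
  have hnot : a x ∉ orb s₁ s₂ c x := by
    rw [mem_orb]
    have hagx : ∀ y, a (s₁ (s₂ y)) = s₁ (s₂ (a y)) := fun y => by rw [ap E a₁, ap E a₂]
    rintro (h | h | h | h)
    · exact h1 h
    · apply hcx
      rw [← gg E, ← h, ← hagx, ← h, sqa haa]
    · exact h2 h
    · apply hcx
      have h3 : a (a x) = c (c (s₁ (s₂ (s₁ (s₂ x))))) := by
        rw [h, ap E hac, hagx, h, cg E]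
      rw [sqa haa, cc E, gg E] at h3
      exact h3.symm
  obtain ⟨h8, -⟩ := card_eq E hY h11 hxY hcx
  have hall : ∀ y ∈ mv c Y, y ∈ orb s₁ s₂ c x ∪ orb s₁ s₂ c (a x) := by
    have h3 : orb s₁ s₂ c x ∪ orb s₁ s₂ c (a x) ⊆ mv c Y :=
      Finset.union_subset (orb_sub E (mv_inv E hY) hx) (orb_sub E (mv_inv E hY) hamv)
    have h4 : (orb s₁ s₂ c x ∪ orb s₁ s₂ c (a x)).card = 8 := by
      rw [Finset.card_union_of_disjoint (orb_disj E hnot), orb_card E hcx,
        orb_card E (mem_mv.mp hamv).2]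
    rw [Finset.eq_of_subset_of_card_le h3 (by omega)]
    exact fun y hy => hy
  have hin := mv_inv E hY _ hx
  have hagx : a (s₁ (s₂ x)) = s₁ (s₂ (a x)) := by rw [ap E a₁, ap E a₂]
  have hcaa : c * a * (c * a) = 1 := by
    rw [mul_assoc, ← mul_assoc a, hac, mul_assoc c, haa, mul_one, E.qc]
  have hw : ∀ z ∈ mv c Y, ∃ b ∈ ({1, c, a, c * a} : Set (Perm β)), z = b x ∨ z = b (s₁ (s₂ x)) := by
    intro z hz
    have h3 := hall z hz
    rw [Finset.mem_union, mem_orb, mem_orb] at h3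
    rcases h3 with (h | h | h | h) | (h | h | h | h)
    · exact ⟨1, by simp, Or.inl h⟩
    · exact ⟨1, by simp, Or.inr h⟩
    · exact ⟨c, by simp, Or.inl h⟩
    · exact ⟨c, by simp, Or.inr h⟩
    · exact ⟨a, by simp, Or.inl h⟩
    · exact ⟨a, by simp, Or.inr (by rw [h, hagx])⟩
    · exact ⟨c * a, by simp, Or.inl h⟩
    · exact ⟨c * a, by simp, Or.inr (by rw [h, Perm.mul_apply, hagx])⟩
  have hb : ∀ s : Perm β, c * s = s * c → a * s = s * a →
      ∀ b ∈ ({1, c, a, c * a} : Set (Perm β)), b * s = s * b := by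
    intro s h3 h4 b hb
    simp only [Set.mem_insert_iff, Set.mem_singleton_iff] at hb
    rcases hb with rfl | rfl | rfl | rfl
    · rw [one_mul, mul_one]
    · exact h3
    · exact h4
    · rw [mul_assoc, h4, ← mul_assoc, h3, mul_assoc]
  refine E.key (A := {1, c, a, c * a}) ?_ ?_ (hb s₁ E.c₁ a₁) (hb s₂ E.c₂ a₂) (hb s₃ E.c₃ a₃)
    (hb s₄ E.c₄ a₄) hcx (hw _ hin.1) (hw _ hin.2.2.1) (hw _ hin.2.2.2)
  · intro b hb
    simp only [Set.mem_insert_iff, Set.mem_singleton_iff] at hb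
    rcases hb with rfl | rfl | rfl | rfl
    · exact mul_one _
    · exact E.qc
    · exact haa
    · exact hcaa
  · intro b hb'
    have h3 := hb c rfl hac b hb'
    have h4 := hb a hac.symm rfl b hb'
    intro b' hb''
    simp only [Set.mem_insert_iff, Set.mem_singleton_iff] at hb''
    rcases hb'' with rfl | rfl | rfl | rfl
    · rw [one_mul, mul_one]
    · exact h3
    · exact h4
    · rw [← mul_assoc, h3, mul_assoc, h4, mul_assoc]

/-- if `s`, `t` with `(s t)² = c` preserve a set `Z` of at most three points without fixed points of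
`c` then `Z` is empty -/
theorem small {s t : Perm β} (hst : s * t * (s * t) = c)
    {Z : Finset β} (hZs : ∀ z ∈ Z, s z ∈ Z) (hZt : ∀ z ∈ Z, t z ∈ Z) (hc : ∀ z ∈ Z, c z ≠ z)
    (h3 : Z.card ≤ 3) : Z = ∅ := by
  by_contra hne
  obtain ⟨x, hx⟩ := Finset.nonempty_iff_ne_empty.mpr hne
  have hcz : ∀ z, c z = s (t (s (t z))) := fun z => by rw [← hst]; rfl
  have hg : ∀ z ∈ Z, s (t z) ∈ Z := fun z hz => hZs _ (hZt _ hz)
  have m1 := hg x hx
  have m2 := hg _ m1
  have m3 := hg _ m2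
  have hcx := hc x hx
  rw [hcz] at hcx
  have n1 : s (t x) ≠ x := fun h => hcx (by rw [h, h])
  have hcc : ∀ z, s (t (s (t (s (t (s (t z))))))) = z := by
    intro z
    rw [← hcz z, ← hcz, sqa E.qc]
  have n2 : s (t (s (t (s (t x))))) ≠ x := by
    intro h
    apply n1
    have := hcc x
    rwa [h] at this
  have n3 : s (t (s (t x))) ≠ s (t x) := fun h => n1 (t.injective (s.injective h))
  have n4 : s (t (s (t (s (t x))))) ≠ s (t x) := fun h => hcx (t.injective (s.injective h))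
  have n5 : s (t (s (t (s (t x))))) ≠ s (t (s (t x))) := fun h => n3 (t.injective (s.injective h))
  have h4 : ({x, s (t x), s (t (s (t x))), s (t (s (t (s (t x)))))} : Finset β) ⊆ Z := by
    intro z hz
    simp only [Finset.mem_insert, Finset.mem_singleton] at hz
    rcases hz with rfl | rfl | rfl | rfl
    · exact hx
    · exact m1
    · exact m2
    · exact m3
  have h5 := Finset.card_le_card h4
  rw [Finset.card_insert_of_notMem, Finset.card_insert_of_notMem, Finset.card_insert_of_notMem,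
    Finset.card_singleton] at h5
  · omega
  · rw [Finset.mem_singleton]; exact n5.symm
  · simp only [Finset.mem_insert, Finset.mem_singleton, not_or]
    exact ⟨n3.symm, n4.symm⟩
  · simp only [Finset.mem_insert, Finset.mem_singleton, not_or]
    exact ⟨n1.symm, hcx.symm, n2.symm⟩

end perm

section pair

variable {β : Type*} [DecidableEq β] {s₁ s₂ s₃ s₄ c t₁ t₂ t₃ t₄ c' : Perm β} {Y : Finset β}

/-- the product of two commuting permutations commutes -/
theorem comm_u (E : Ext s₁ s₂ s₃ s₄ c) : s₁ * s₃ * (s₂ * s₄) = s₂ * s₄ * (s₁ * s₃) := by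
  have h1 : s₂ * s₁ = s₁ * s₂ * c := by
    rw [← E.g', ← mul_assoc]
    calc s₂ * s₁ = s₁ * (s₂ * s₂) * s₁ * (s₂ * s₁) := by rw [E.q₂, mul_one, E.q₁, one_mul]
      _ = _ := by group
  have h2 : s₄ * s₃ = s₃ * s₄ * c := by
    rw [← E.swap.g', ← mul_assoc]
    calc s₄ * s₃ = s₃ * (s₄ * s₄) * s₃ * (s₄ * s₃) := by rw [E.q₄, mul_one, E.q₃, one_mul]
      _ = _ := by group
  calc s₁ * s₃ * (s₂ * s₄) = s₁ * (s₃ * s₂) * s₄ := by group
    _ = s₁ * s₂ * (s₃ * s₄) := by rw [← E.c₂₃]; group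
    _ = s₁ * s₂ * (c * c) * (s₃ * s₄) := by rw [E.qc, mul_one]
    _ = (s₁ * s₂ * c) * (c * s₃) * s₄ := by group
    _ = (s₁ * s₂ * c) * (s₃ * c) * s₄ := by rw [E.c₃]
    _ = (s₁ * s₂ * c) * s₃ * (c * s₄) := by group
    _ = (s₁ * s₂ * c) * (s₃ * s₄ * c) := by rw [E.c₄]; group
    _ = s₂ * s₁ * (s₄ * s₃) := by rw [← h1, ← h2]
    _ = s₂ * (s₁ * s₄) * s₃ := by group
    _ = s₂ * s₄ * (s₁ * s₃) := by rw [E.c₁₄]; group

/-- **two groups `D8 ∘ D8`**, the centre of the second in the first: `a` commuting with both is trivial on the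
eight points moved by the centres -/
theorem pair (E : Ext s₁ s₂ s₃ s₄ c) (E' : Ext t₁ t₂ t₃ t₄ c') (hY : Inv s₁ s₂ s₃ s₄ Y)
    (hY' : Inv t₁ t₂ t₃ t₄ Y) (h11 : Y.card ≤ 11) (hu : c' = s₂ * s₄ ∨ c' = s₂ * s₄ * c)
    (hne : ∃ x ∈ Y, c x ≠ x) (hne' : ∃ x ∈ Y, c' x ≠ x) {a : Perm β} (haY : ∀ y ∈ Y, a y ∈ Y)
    (haa : a * a = 1) (a₁ : a * s₁ = s₁ * a) (a₂ : a * s₂ = s₂ * a) (a₃ : a * s₃ = s₃ * a)
    (a₄ : a * s₄ = s₄ * a) (b₁ : a * t₁ = t₁ * a) (b₂ : a * t₂ = t₂ * a) (b₃ : a * t₃ = t₃ * a)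
    (b₄ : a * t₄ = t₄ * a) :
    (mv c Y).card = 8 ∧ mv c' Y = mv c Y ∧ ∀ y ∈ mv c Y, a y = y := by
  obtain ⟨x, hx, hcx⟩ := hne
  obtain ⟨x', hx', hcx'⟩ := hne'
  have h8 := (card_eq E hY h11 hx hcx).1
  have h8' := (card_eq E' hY' h11 hx' hcx').1
  -- `c'` commutes with `s₁ s₃`, `s₂`, `c`
  have hcu : c * (s₂ * s₄) = s₂ * s₄ * c := by
    rw [← mul_assoc, E.c₂, mul_assoc, E.c₄, ← mul_assoc]
  have e1 : c' * (s₁ * s₃) = s₁ * s₃ * c' := by
    rcases hu with rfl | rfl
    · exact (comm_u E).symm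
    · rw [mul_assoc (s₂ * s₄), ← mul_assoc c, E.c₁, mul_assoc s₁, E.c₃, ← mul_assoc s₁,
        ← mul_assoc (s₂ * s₄), ← comm_u E, ← mul_assoc (s₁ * s₃)]
      simp only [mul_assoc]
  have e2 : c' * s₂ = s₂ * c' := by
    rcases hu with rfl | rfl
    · rw [mul_assoc, ← E.c₂₄]
    · rw [mul_assoc, E.c₂, ← mul_assoc, mul_assoc s₂ s₄, ← E.c₂₄, mul_assoc, mul_assoc]
  have e3 : c' * c = c * c' := by
    rcases hu with rfl | rfl
    · exact hcu.symm
    · rw [mul_assoc (s₂ * s₄), ← mul_assoc c, hcu, mul_assoc]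
      simp only [mul_assoc]
  have hst : s₁ * s₃ * s₂ * (s₁ * s₃ * s₂) = c := by
    calc s₁ * s₃ * s₂ * (s₁ * s₃ * s₂) = s₁ * (s₃ * s₂) * (s₁ * (s₃ * s₂)) := by group
      _ = s₁ * (s₂ * s₃) * (s₁ * (s₂ * s₃)) := by rw [E.c₂₃]
      _ = s₁ * s₂ * (s₃ * s₁) * (s₂ * s₃) := by group
      _ = s₁ * s₂ * (s₁ * s₃) * (s₂ * s₃) := by rw [E.c₁₃]
      _ = s₁ * s₂ * s₁ * (s₃ * s₂) * s₃ := by group
      _ = s₁ * s₂ * s₁ * (s₂ * s₃) * s₃ := by rw [E.c₂₃]
      _ = (s₁ * s₂ * (s₁ * s₂)) * (s₃ * s₃) := by group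
      _ = c := by rw [E.q₃, mul_one, E.g]
  -- the points moved by `c` and fixed by `c'`
  have hsub : mv c Y ⊆ mv c' Y := by
    have hmvinv := mv_inv E hY
    have hZ := E.small (s := s₁ * s₃) (t := s₂) hst (Z := (mv c Y).filter fun y => c' y = y)
      (by
        intro z hz
        rw [Finset.mem_filter] at hz ⊢
        refine ⟨(hmvinv _ (hmvinv _ hz.1).2.2.1).1, ?_⟩
        rw [ap E e1, hz.2])
      (by
        intro z hz
        rw [Finset.mem_filter] at hz ⊢
        refine ⟨(hmvinv _ hz.1).2.1, ?_⟩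
        rw [ap E e2, hz.2])
      (fun z hz => (mem_mv.mp (Finset.mem_filter.mp hz).1).2) (by
        have h1 : ((mv c Y).filter fun y => c' y = y) = mv c Y \ mv c' Y := by
          ext y
          rw [Finset.mem_filter, Finset.mem_sdiff, mem_mv, mem_mv]
          tauto
        have h2 : (mv c Y \ mv c' Y).card = (mv c' Y \ mv c Y).card := by
          have h3 := Finset.card_sdiff_add_card_inter (mv c Y) (mv c' Y)
          have h4 := Finset.card_sdiff_add_card_inter (mv c' Y) (mv c Y)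
          rw [Finset.inter_comm] at h4
          omega
        have h3 : (mv c' Y \ mv c Y) ⊆ Y \ mv c Y := Finset.sdiff_subset_sdiff
          (Finset.filter_subset _ _) (le_refl _)
        have h4 := Finset.card_le_card h3
        have h5 : (Y \ mv c Y).card = Y.card - (mv c Y).card :=
          Finset.card_sdiff_of_subset (Finset.filter_subset _ _)
        rw [h1, h2]
        omega)
    intro y hy
    by_contra hn
    have h1 : y ∈ (mv c Y).filter fun y => c' y = y := by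
      rw [Finset.mem_filter]
      refine ⟨hy, ?_⟩
      by_contra h2
      exact hn (mem_mv.mpr ⟨(mem_mv.mp hy).1, h2⟩)
    rw [hZ] at h1
    exact absurd h1 (Finset.notMem_empty _)
  have heq : mv c' Y = mv c Y := (Finset.eq_of_subset_of_card_le hsub (by omega)).symm
  refine ⟨h8, heq, ?_⟩
  rcases cent E hY h11 haY haa a₁ a₂ a₃ a₄ with h | h
  · exact h
  rcases cent E' hY' h11 haY haa b₁ b₂ b₃ b₄ with h' | h'
  · rw [heq] at h'
    exact h'
  exfalso
  rw [heq] at h'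
  have hmvinv := mv_inv E hY
  have h1 : ∀ y ∈ mv c Y, c' y = c y := fun y hy => by rw [← h y hy, h' y hy]
  -- `s₂ s₄` is `1` or `c`
  have h2 : ∃ b : Perm β, b * s₁ = s₁ * b ∧ b * s₂ = s₂ * b ∧ b * b = 1 ∧
      ∀ y ∈ mv c Y, s₄ y = s₂ (b y) := by
    rcases hu with hu | hu
    · refine ⟨c, E.c₁, E.c₂, E.qc, fun y hy => ?_⟩
      have h3 := h1 y hy
      rw [hu, Perm.mul_apply] at h3
      rw [← h3, sqa E.q₂]
    · refine ⟨1, by rw [one_mul, mul_one], by rw [one_mul, mul_one], mul_one _, fun y hy => ?_⟩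
      have hcy : c y ∈ mv c Y := c_mem E hmvinv hy
      have h3 := h1 _ hcy
      rw [hu, Perm.mul_apply, Perm.mul_apply, cc E] at h3
      have h4 : s₂ (s₂ (s₄ y)) = s₂ y := by rw [h3]
      rw [sqa E.q₂] at h4
      exact h4
  obtain ⟨b, hb1, hb2, hbb, hb⟩ := h2
  have hxm : x ∈ mv c Y := mem_mv.mpr ⟨hx, hcx⟩
  apply hcx
  have h3 : s₂ (s₁ (b x)) = s₁ (s₂ (b x)) := by
    have h4 := hb _ (hmvinv _ hxm).1
    rw [← ap E E.c₁₄, hb x hxm, ap E hb1] at h4
    exact h4.symm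
  rw [← ap E hb1, ← ap E hb2, ← ap E hb2, ← ap E hb1] at h3
  have h5 := b.injective h3
  rw [← gg E, ← h5, sqa E.q₂, sqa E.q₁]

end pair

end Ext

end Cfsg.Agent.UAlt.Eleven

private theorem dce_3f92c7209ffa : _root_.True := by
  try have : _root_.True := by simp only [_root_.Cfsg.Agent.UAlt.Eleven.Ext.orb.eq_1]
  exact _root_.True.intro
end

-- part: OddHalf/NI/FTwo/Norm
section
set_option linter.all false
open scoped Cfsg.Agent.FastGrp

/-!
# NI (F2'): a member of `Om` normalising a component `SL₂(F)`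

* `act_inner` : a perfect subgroup normalising `J ≃ SL₂(F)` induces inner automorphisms;
* `z_comm` : if `K ≃ SL₂(F)` normalises `J ≃ SL₂(F)` (same order) then the involution of `K` centralises `J`;
* `comm_of_normalizes` : `J` a component of `D`, `K ≤ D` a member of `Om`, `K` normalises `J`, `zz K ∉ J`: then
  `J` and `K` commute.
-/

set_option autoImplicit false
set_option linter.style.haveILetI false

namespace Cfsg.Agent.OddHalf.NI.FTwo

open Subgroup Cfsg
open Cfsg.Agent.Cit (cj mem_cj conj_mem_cj zz Hyp)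
open Cfsg.Agent.SignalizersComponents.Components
open scoped commutatorElement

variable {G : Type*} [Group G]

/-- `SL₂(F)`, `|F| > 3` odd -/
structure SL (F : Type*) [Field F] [Fintype F] (X : Type*) [Group X] : Prop where
  odd : Odd (Fintype.card F)
  three : 3 < Fintype.card F
  equiv : Nonempty (X ≃* Matrix.SpecialLinearGroup (Fin 2) F)

namespace SL

variable {F : Type*} [Field F] [Fintype F] {X Y : Type*} [Group X] [Group Y]

theorem congr (h : SL F X) (e : X ≃* Y) : SL F Y := by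
  obtain ⟨f⟩ := h.equiv
  exact ⟨h.odd, h.three, ⟨e.symm.trans f⟩⟩

theorem quasisimple (h : SL F X) : IsQuasisimple X := by
  obtain ⟨f⟩ := h.equiv
  exact isQuasisimple_of_mulEquiv f.symm
    (SignalizersComponents.SLQuasisimple.isQuasisimple_two (by rw [Nat.card_eq_fintype_card]; have := h.three; omega))

theorem finite (h : SL F X) : Finite X := by
  obtain ⟨f⟩ := h.equiv
  exact Finite.of_equiv _ f.symm.toEquiv

theorem card_eq (h : SL F X) (h' : SL F Y) : Nat.card X = Nat.card Y := by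
  obtain ⟨f⟩ := h.equiv
  obtain ⟨f'⟩ := h'.equiv
  exact Nat.card_congr (f.trans f'.symm).toEquiv

/-- exactly one involution -/
theorem unique (h : SL F X) : ∃ z : X, orderOf z = 2 ∧ ∀ t : X, orderOf t = 2 → t = z := by
  obtain ⟨f⟩ := h.equiv
  have h2' := SignalizersComponents.SLQuasisimple.two_ne_zero_of_odd h.odd
  have hne : (-1 : Matrix.SpecialLinearGroup (Fin 2) F) ≠ 1 := by
    intro h
    have h3 := congrArg (fun g : Matrix.SpecialLinearGroup (Fin 2) F =>
      (g : Matrix (Fin 2) (Fin 2) F) 0 0) h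
    simp at h3
    apply h2'
    have h4 : (1 : F) + 1 = 0 := by
      nth_rewrite 1 [← h3]
      ring
    rw [← h4]
    norm_num
  have ho : orderOf (-1 : Matrix.SpecialLinearGroup (Fin 2) F) = 2 :=
    orderOf_eq_prime (by simp) hne
  refine ⟨f.symm (-1), ?_, ?_⟩
  · rw [f.symm.orderOf_eq, ho]
  · intro t ht
    apply f.injective
    rw [MulEquiv.apply_symm_apply]
    have h3 : orderOf (f t) = 2 := by rw [f.orderOf_eq, ht]
    apply LieClassical.SLTwoSylowTwo.eq_neg_one_of_sq h2'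
    · intro h
      rw [h, orderOf_one] at h3
      omega
    · have h4 := pow_orderOf_eq_one (f t)
      rwa [h3] at h4

/-- the centre of a central element: `z` is an involution, then it is central -/
theorem mem_center (h : SL F X) {z : X} (hz : orderOf z = 2) : z ∈ center X := by
  obtain ⟨w, -, hw⟩ := h.unique
  rw [mem_center_iff]
  intro g
  have h1 := hw z hz
  have h2 := hw (g * z * g⁻¹) (by rw [← hz]; exact (MulAut.conj g).orderOf_eq z)
  have h3 : g * z * g⁻¹ = z := h2.trans h1.symm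
  exact mul_inv_eq_iff_eq_mul.1 h3

end SL

/-! ### A perfect group normalising `SL₂(F)` -/

theorem SL.commutator_le_inn {F : Type*} [Field F] [Fintype F] {X : Type*} [Group X] (h : SL F X) :
    commutator (MulAut X) ≤ (MulAut.conj : X →* MulAut X).range := by
  obtain ⟨e⟩ := h.equiv
  rw [commutator_def, Subgroup.commutator_le]
  intro α _ β _
  obtain ⟨s, hs⟩ := Lib.AutSL2Out.commutator_inner (MulAut.congr e α) (MulAut.congr e β)
  refine ⟨e.symm s, ?_⟩
  apply (MulAut.congr e).injective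
  have h1 : MulAut.congr e ⁅α, β⁆ = MulAut.congr e α * MulAut.congr e β * (MulAut.congr e α)⁻¹ *
      (MulAut.congr e β)⁻¹ := by
    rw [commutatorElement_def, map_mul, map_mul, map_mul, map_inv, map_inv]
  rw [h1]
  ext1 x
  rw [hs x]
  change e (e.symm s * e.symm x * (e.symm s)⁻¹) = _
  rw [map_mul, map_mul, map_inv, MulEquiv.apply_symm_apply, MulEquiv.apply_symm_apply]

theorem act_inner {F : Type*} [Field F] [Fintype F] {J K : Subgroup G} (hJ : SL F J)
    (hKJ : K ≤ normalizer (J : Set G)) (hK : ⁅K, K⁆ = K) {k : G} (hk : k ∈ K) :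
    ∃ s ∈ J, ∀ x ∈ J, k * x * k⁻¹ = s * x * s⁻¹ := by
  set K' := K.subgroupOf (normalizer (J : Set G)) with hK'
  have hK'' : ⁅K', K'⁆ = K' := by
    apply Subgroup.map_injective (normalizer (J : Set G)).subtype_injective
    rw [map_commutator, map_subgroupOf_eq_of_le hKJ, hK]
  have h1 : K'.map J.normalizerMonoidHom ≤ (MulAut.conj : J →* MulAut J).range := by
    refine le_trans ?_ hJ.commutator_le_inn
    rw [← hK'', map_commutator, commutator_def]
    exact commutator_mono le_top le_top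
  obtain ⟨s, hs⟩ := h1 (mem_map_of_mem _ (show (⟨k, hKJ hk⟩ : normalizer (J : Set G)) ∈ K' from hk))
  refine ⟨s, s.2, fun x hx => ?_⟩
  have h2 := congrArg (fun f : MulAut J => ((f ⟨x, hx⟩ : J) : G)) hs
  exact h2.symm

theorem commutator_eq_of_quasisimple {K : Subgroup G} (h : IsQuasisimple K) : ⁅K, K⁆ = K := by
  have h1 := h.1
  exact Subgroup.isPerfect_iff.mp h1

/-- the involution of `K` centralises `J` -/
theorem z_comm [Finite G] {F : Type*} [Field F] [Fintype F] {J K : Subgroup G} (hJ : SL F J) (hKs : SL F K)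
    (hKJ : K ≤ normalizer (J : Set G)) {z : G} (hz : z ∈ K) (hz2 : orderOf z = 2) :
    J ≤ centralizer {z} := by
  have hperf := commutator_eq_of_quasisimple hKs.quasisimple
  -- the kernel
  set N : Subgroup K := (centralizer (J : Set G)).subgroupOf K with hN
  have hNn : N.Normal := by
    refine ⟨fun n hn g => ?_⟩
    rw [hN, mem_subgroupOf, mem_centralizer_iff] at hn ⊢
    intro x hx
    have hg := hKJ g.2
    have h1 : (g : G)⁻¹ * x * g ∈ J := by
      have := (mem_normalizer_iff.1 (inv_mem hg) x).1 hx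
      rwa [inv_inv] at this
    have h2 := hn _ h1
    simp only [Subgroup.coe_mul, Subgroup.coe_inv]
    calc x * (g * n * (g : G)⁻¹) = g * (((g : G)⁻¹ * x * g) * n) * (g : G)⁻¹ := by group
      _ = g * (n * ((g : G)⁻¹ * x * g)) * (g : G)⁻¹ := by rw [h2]
      _ = g * n * (g : G)⁻¹ * x := by group
  have hmem : z ∈ centralizer (J : Set G) := by
    by_contra hcon
    -- then `N = 1`
    have hN1 : N = ⊥ := by
      rcases quasisimple_normal hKs.quasisimple N hNn with h1 | h1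
      · exfalso
        apply hcon
        have h2 : (⟨z, hz⟩ : K) ∈ N := by rw [h1]; trivial
        exact h2
      · rw [eq_bot_iff]
        intro x hx
        rw [mem_bot]
        by_contra hx1
        -- `x` is central, so `x` is an involution
        have hcx : x * x = 1 := by
          obtain ⟨f⟩ := hKs.equiv
          have h3 : f x ∈ center (Matrix.SpecialLinearGroup (Fin 2) F) := by
            rw [mem_center_iff]
            intro g
            have h4 := (mem_center_iff.1 (h1 hx)) (f.symm g)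
            have h5 := congrArg f h4
            rwa [map_mul, map_mul, MulEquiv.apply_symm_apply] at h5
          rw [Matrix.SpecialLinearGroup.mem_center_iff] at h3
          obtain ⟨a, ha, hax⟩ := h3
          apply f.injective
          rw [map_mul, map_one]
          apply Subtype.ext
          rw [Fintype.card_fin] at ha
          change ((f x : Matrix.SpecialLinearGroup (Fin 2) F) : Matrix (Fin 2) (Fin 2) F) *
            ((f x : Matrix.SpecialLinearGroup (Fin 2) F) : Matrix (Fin 2) (Fin 2) F) = 1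
          rw [← hax, ← map_mul, ← pow_two, ha, map_one]
        obtain ⟨w, -, hw⟩ := hKs.unique
        have h3 : x = w := hw x (orderOf_eq_prime (by rw [pow_two]; exact hcx) hx1)
        have h4 : (⟨z, hz⟩ : K) = w := hw _ (by rw [← Subgroup.orderOf_coe]; exact hz2)
        rw [h3, ← h4] at hx
        exact hcon hx
    -- the map `K → J / Z(J)`
    have h1 : ∀ k : K, ∃ s : J, ∀ x ∈ J, (k : G) * x * (k : G)⁻¹ = s * x * (s : G)⁻¹ := by
      intro k
      obtain ⟨s, hs, h2⟩ := act_inner hJ hKJ hperf k.2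
      exact ⟨⟨s, hs⟩, h2⟩
    choose s hs using h1
    have hinj : Function.Injective fun k : K => (QuotientGroup.mk (s k) : J ⧸ center J) := by
      intro k l hkl
      have h2 : (s k)⁻¹ * s l ∈ center J := QuotientGroup.eq.1 hkl
      have h3 : k⁻¹ * l ∈ N := by
        rw [hN, mem_subgroupOf, mem_centralizer_iff]
        intro x hx
        have h4 := hs l x hx
        have h5 : ((s l : G)) * x * (s l : G)⁻¹ ∈ J := J.mul_mem (J.mul_mem (s l).2 hx) (J.inv_mem (s l).2)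
        have h6 : (k : G)⁻¹ * (s l * x * (s l : G)⁻¹) * k = (s k : G)⁻¹ * (s l * x * (s l : G)⁻¹) * s k := by
          have h7 := hs k ((s k : G)⁻¹ * (s l * x * (s l : G)⁻¹) * s k)
            (J.mul_mem (J.mul_mem (J.inv_mem (s k).2) h5) (s k).2)
          have h8 : (s k : G) * ((s k : G)⁻¹ * (s l * x * (s l : G)⁻¹) * s k) * (s k : G)⁻¹ =
            s l * x * (s l : G)⁻¹ := by group
          rw [h8] at h7
          calc (k : G)⁻¹ * (s l * x * (s l : G)⁻¹) * k
              = (k : G)⁻¹ * ((k : G) * ((s k : G)⁻¹ * (s l * x * (s l : G)⁻¹) * s k) * (k : G)⁻¹) * k := by rw [h7]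
            _ = _ := by group
        have h9 : ((s k : G)⁻¹ * s l) * x = x * ((s k : G)⁻¹ * s l) := by
          have := congrArg (Subtype.val : J → G) ((mem_center_iff.1 h2) ⟨x, hx⟩)
          exact this.symm
        have h10 : (k : G)⁻¹ * (l * x * (l : G)⁻¹) * k = x := by
          rw [h4, h6]
          calc (s k : G)⁻¹ * (s l * x * (s l : G)⁻¹) * s k
              = (((s k : G)⁻¹ * s l) * x) * ((s k : G)⁻¹ * s l)⁻¹ := by group
            _ = x := by rw [h9]; group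
        simp only [Subgroup.coe_mul, Subgroup.coe_inv]
        have h11 : ((k : G)⁻¹ * l) * x = x * ((k : G)⁻¹ * l) := by
          calc ((k : G)⁻¹ * l) * x = ((k : G)⁻¹ * (l * x * (l : G)⁻¹) * k) * ((k : G)⁻¹ * l) := by group
            _ = x * ((k : G)⁻¹ * l) := by rw [h10]
        exact h11.symm
      rw [hN1, mem_bot] at h3
      exact inv_mul_eq_one.1 h3
    have h2 := Nat.card_le_card_of_injective _ hinj
    have h3 : Nat.card K = Nat.card J := hKs.card_eq hJ
    have h4 : Nat.card J = Nat.card (J ⧸ center J) * Nat.card (center J) := Subgroup.card_eq_card_quotient_mul_card_subgroup _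
    have h5 : 1 < Nat.card (center J) := by
      obtain ⟨w, hw2, -⟩ := hJ.unique
      have h6 := hJ.mem_center hw2
      refine Finite.one_lt_card_iff_nontrivial.2 ⟨⟨⟨w, h6⟩, 1, fun h7 => ?_⟩⟩
      have h8 : w = 1 := congrArg Subtype.val h7
      rw [h8, orderOf_one] at hw2
      omega
    have h6 : 0 < Nat.card (J ⧸ center J) := Nat.card_pos
    rw [← h3] at h4
    have h7 : Nat.card (J ⧸ center J) * 2 ≤ Nat.card (J ⧸ center J) * Nat.card (center J) :=
      Nat.mul_le_mul le_rfl h5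
    omega
  intro x hx
  rw [mem_centralizer_singleton_iff]
  exact (mem_centralizer_iff.1 hmem x hx)

/-- **A member of `Om` normalising a component.** -/
theorem comm_of_normalizes [Finite G] {Om : Set (Subgroup G)} (h : Hyp Om) {F : Type*} [Field F] [Fintype F]
    {D J K : Subgroup G} (hJD : J ≤ D) (hJ : (J.subgroupOf D).IsSubnormal) (hJs : SL F J) (hK : K ∈ Om)
    (hKD : K ≤ D) (hKs : SL F K) (hKJ : K ≤ normalizer (J : Set G)) (hz : zz K ∉ J) :
    ∀ x ∈ J, ∀ y ∈ K, x * y = y * x := by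
  have hJz : J ≤ centralizer {zz K} := z_comm hJs hKs hKJ (h.zz_mem hK) (h.orderOf_zz hK)
  set M : Subgroup G := D ⊓ centralizer {zz K} with hM
  have hJM : J ≤ M := le_inf hJD hJz
  have hKM : K ≤ M := le_inf hKD (h.le_centralizer hK)
  have key : ∀ {A H : Subgroup G}, A ≤ H → (A.subgroupOf H).IsSubnormal → M ≤ H →
      (A.subgroupOf M).IsSubnormal := by
    intro A H _ hA hMH
    have h1 := hA.comap (Subgroup.inclusion hMH)
    exact h1
  have h1 : IsComponent (J.subgroupOf M) :=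
    ⟨key hJD hJ inf_le_left, isQuasisimple_of_mulEquiv (subgroupOfEquivOfLe hJM).symm hJs.quasisimple⟩
  have h2 : IsComponent (K.subgroupOf M) :=
    ⟨key (h.le_centralizer hK) (h.sub K hK) inf_le_right,
      isQuasisimple_of_mulEquiv (subgroupOfEquivOfLe hKM).symm hKs.quasisimple⟩
  have hne : J.subgroupOf M ≠ K.subgroupOf M := by
    intro h3
    apply hz
    have h4 : (⟨zz K, hKM (h.zz_mem hK)⟩ : M) ∈ K.subgroupOf M := h.zz_mem hK
    rw [← h3] at h4
    exact h4
  have h3 := component_le_centralizer_of_ne h1 h2 hne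
  intro x hx y hy
  have h4 := mem_centralizer_iff.1 (h3 (show (⟨x, hJM hx⟩ : M) ∈ J.subgroupOf M from hx)) ⟨y, hKM hy⟩ hy
  exact (congrArg Subtype.val h4).symm

end Cfsg.Agent.OddHalf.NI.FTwo
end

-- part: UAlt/SmallLThreeModel
section
set_option linter.all false
open scoped Cfsg.Agent.FastGrp

/-!
# Odd groups of automorphisms of `L3(4)` commuting with an involutory automorphism

`A : Dat L`, `α` an outer involutory automorphism fixing the elements of a four-group `⟨v, w⟩` of `L`: a group of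
automorphisms of odd order commuting with `α` and normalised by `v`, `w` is trivial.
-/

set_option autoImplicit false
set_option linter.constructorNameAsVariable false
set_option linter.unusedVariables false

namespace Cfsg.Agent.UAlt.SmallLThreeModel

open Cfsg.Agent.SporadicA.FieldFour
open Cfsg.Agent.LThreeFour Cfsg.Agent.LThreeFour.Dat
open Subgroup

/-- the centraliser of a field or graph type in the type group is a 2-group -/
theorem cent_type : ∀ g k : TyG, g * g = 1 → g ≠ 1 → bits g ≠ (true, true) → k * g = g * k →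
    k * k = 1 := by
  decide +kernel

variable {L : Type*} [Group L]

/-- squares in a closure of commuting involutions -/
theorem sq_closure {M : Type*} [Group M] {S : Set M} (hc : ∀ x ∈ S, ∀ y ∈ S, x * y = y * x)
    (hs : ∀ x ∈ S, x * x = 1) : ∀ x ∈ closure S, x * x = 1 := by
  have hcomm : ∀ x ∈ closure S, ∀ y ∈ closure S, x * y = y * x := by
    intro x hx y hy
    have h1 : closure S ≤ centralizer S := by
      rw [closure_le]
      intro a ha
      exact mem_centralizer_iff.mpr fun b hb => hc b hb a ha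
    have h2 : closure S ≤ centralizer (closure S : Set M) := by
      rw [closure_le]
      intro a ha
      exact mem_centralizer_iff.mpr fun b hb => (mem_centralizer_iff.mp (h1 hb) a ha).symm
    exact mem_centralizer_iff.mp (h2 hy) x hx
  intro x hx
  induction hx using closure_induction with
  | mem x hx => exact hs x hx
  | one => exact mul_one 1
  | mul x y hx hy h1 h2 =>
    calc x * y * (x * y) = x * (y * x) * y := by group
      _ = x * (x * y) * y := by rw [hcomm y hy x hx]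
      _ = (x * x) * (y * y) := by group
      _ = 1 := by rw [h1, h2, one_mul]
  | inv x hx h1 => rw [← mul_inv_rev, h1, inv_one]

/-- an outer involutory automorphism with both bits fixes no four-group of `L` -/
theorem bits_ne (A : Dat L) {α : MulAut L} (h2 : α * α = 1) {v w : L} (hv : v ≠ 1) (hw : w ≠ 1)
    (hvw : v ≠ w) (hv2 : v * v = 1) (hw2 : w * w = 1) (hcomm : v * w = w * v) (hαv : α v = v)
    (hαw : α w = w) : bits (A.tyHom α) ≠ (true, true) := by
  intro hb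
  have hout : A.tyHom α ≠ 1 := by
    intro h
    rw [h] at hb
    exact absurd hb (by decide)
  have hαc : ∀ y, α y = y → α * MulAut.conj y = MulAut.conj y * α := by
    intro y hy
    have := conj_map α y
    rw [hy] at this
    rw [eq_mul_inv_iff_mul_eq] at this
    exact this.symm
  set S : Set (MulAut L) := {α, MulAut.conj v, MulAut.conj w} with hS
  have hc : ∀ x ∈ S, ∀ y ∈ S, x * y = y * x := by
    have e : MulAut.conj v * MulAut.conj w = MulAut.conj w * MulAut.conj v := by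
      rw [← map_mul, hcomm, map_mul]
    rintro x (rfl | rfl | rfl) y (rfl | rfl | rfl)
    · rfl
    · exact hαc v hαv
    · exact hαc w hαw
    · exact (hαc v hαv).symm
    · rfl
    · exact e
    · exact (hαc w hαw).symm
    · exact e.symm
    · rfl
  have hs : ∀ x ∈ S, x * x = 1 := by
    rintro x (rfl | rfl | rfl)
    · exact h2
    · rw [← map_mul, hv2, map_one]
    · rw [← map_mul, hw2, map_one]
  have hE := sq_closure hc hs
  have hα : α ∈ closure S := subset_closure (by rw [hS]; simp)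
  have hv' : MulAut.conj v ∈ closure S := subset_closure (by rw [hS]; simp)
  have hw' : MulAut.conj w ∈ closure S := subset_closure (by rw [hS]; simp)
  have hτ : (A.tyHom α).ty ≠ ty1 := fun h => hout (TyG.ext h)
  have h3 := card_inner_le (A := A) (closure S) hE hα hτ (A.hasTy_tyHom α)
  have h4 : (fxs (A.tyHom α).ty).card ≤ 2 := by
    refine card_fxs' _ (congrArg Prod.fst hb) (congrArg Prod.snd hb) ?_
    have h5 : A.tyHom α * A.tyHom α = 1 := by rw [← map_mul, h2, map_one]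
    exact congrArg TyG.ty h5
  -- four inner elements
  have hmem : ∀ x : ↥(MonoidHom.range (MulAut.conj : L →* MulAut L)), True := fun _ => trivial
  have : Finite (MulAut L) := A.finite_aut
  have h5 : 3 ≤ Nat.card {x // x ∈ closure S ∧ A.tyHom x = 1} := by
    let f : Fin 3 → {x // x ∈ closure S ∧ A.tyHom x = 1} :=
      ![⟨1, one_mem _, map_one _⟩, ⟨MulAut.conj v, hv', A.tyHom_conj v⟩,
        ⟨MulAut.conj w, hw', A.tyHom_conj w⟩]
    have hinj : Function.Injective f := by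
      have e1 : MulAut.conj v ≠ 1 := fun h => hv (A.conj_eq_one h)
      have e2 : MulAut.conj w ≠ 1 := fun h => hw (A.conj_eq_one h)
      have e3 : MulAut.conj v ≠ MulAut.conj w := fun h => hvw (A.conj_injective h)
      intro i j hij
      have hij' := congrArg Subtype.val hij
      fin_cases i <;> fin_cases j
      · rfl
      · exact absurd hij'.symm e1
      · exact absurd hij'.symm e2
      · exact absurd hij' e1
      · rfl
      · exact absurd hij' e3
      · exact absurd hij' e2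
      · exact absurd hij'.symm e3
      · rfl
    have := Nat.card_le_card_of_injective f hinj
    rwa [Nat.card_eq_fintype_card, Fintype.card_fin] at this
  omega

/-- an automorphism of odd order commuting with `α` and fixing an involution of `L` is trivial -/
theorem eq_one_of_fix (A : Dat L) {α : MulAut L} (h2 : α * α = 1) (hout : A.tyHom α ≠ 1)
    (hb : bits (A.tyHom α) ≠ (true, true)) {d : MulAut L} (hd : Odd (orderOf d)) (hdα : d * α = α * d)
    {v : L} (hv : v ≠ 1) (hv2 : v * v = 1) (hdv : d v = v) : d = 1 := by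
  have h1 : A.tyHom d = 1 := by
    have h3 : A.tyHom d * A.tyHom d = 1 := by
      refine cent_type (A.tyHom α) _ ?_ hout hb ?_
      · rw [← map_mul, h2, map_one]
      · rw [← map_mul, ← map_mul, hdα]
    have h4 : orderOf (A.tyHom d) ∣ 2 := orderOf_dvd_of_pow_eq_one (by rw [pow_two, h3])
    have h5 : orderOf (A.tyHom d) ∣ orderOf d := orderOf_map_dvd _ _
    have h6 : orderOf (A.tyHom d) = 1 := by
      have h7 : Odd (orderOf (A.tyHom d)) := Odd.of_dvd_nat hd h5
      rcases (Nat.dvd_prime Nat.prime_two).mp h4 with h | h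
      · exact h
      · rw [h] at h7; exact absurd h7 (by decide)
    exact orderOf_eq_one_iff.mp h6
  obtain ⟨l, rfl⟩ := A.inner_iff.mp h1
  -- `l` centralises the involution `v`
  obtain ⟨g, hg⟩ := A.invol_conj v hv hv2
  have h3 : l * v * l⁻¹ = v := hdv
  have h4 : g * l * g⁻¹ * A.x 0 2 1 = A.x 0 2 1 * (g * l * g⁻¹) := by
    rw [← hg]
    calc g * l * g⁻¹ * (g * v * g⁻¹) = g * (l * v * l⁻¹) * l * g⁻¹ := by group
      _ = g * v * l * g⁻¹ := by rw [h3]
      _ = g * v * g⁻¹ * (g * l * g⁻¹) := by group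
  obtain ⟨p, hp⟩ := A.cent _ h4
  have h5 : IsPGroup 2 A.T := IsPGroup.of_card (n := 6) (by rw [A.card_T]; rfl)
  obtain ⟨n, hn⟩ := h5 ⟨g * l * g⁻¹, p, hp.symm⟩
  have h6 : (g * l * g⁻¹) ^ 2 ^ n = 1 := congrArg Subtype.val hn
  have h7 : l ^ 2 ^ n = 1 := by
    rw [conj_pow] at h6
    have : l ^ 2 ^ n = g⁻¹ * (g * l ^ 2 ^ n * g⁻¹) * g := by group
    rw [this, h6]; group
  have h8 : (MulAut.conj l : MulAut L) ^ 2 ^ n = 1 := by rw [← map_pow, h7, map_one]
  have h9 := orderOf_dvd_of_pow_eq_one h8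
  have h10 : orderOf (MulAut.conj l : MulAut L) = 1 :=
    Nat.eq_one_of_dvd_coprimes (Nat.Coprime.pow_left n hd.coprime_two_left) h9 dvd_rfl
  exact orderOf_eq_one_iff.mp h10

/-- **Model fact.** -/
theorem eq_bot (A : Dat L) {α : MulAut L} (h2 : α * α = 1) (hout : A.tyHom α ≠ 1)
    {D : Subgroup (MulAut L)} (hD : Odd (Nat.card D)) (hDα : ∀ d ∈ D, d * α = α * d)
    {v w : L} (hv : v ≠ 1) (hw : w ≠ 1) (hvw : v ≠ w) (hv2 : v * v = 1) (hw2 : w * w = 1)
    (hcomm : v * w = w * v) (hαv : α v = v) (hαw : α w = w)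
    (hDv : ∀ d ∈ D, MulAut.conj v * d * (MulAut.conj v)⁻¹ ∈ D)
    (hDw : ∀ d ∈ D, MulAut.conj w * d * (MulAut.conj w)⁻¹ ∈ D) : D = ⊥ := by
  have hb := bits_ne A h2 hv hw hvw hv2 hw2 hcomm hαv hαw
  have key : ∀ u : L, u ≠ 1 → u * u = 1 → D ⊓ centralizer {MulAut.conj u} ≤ ⊥ := by
    intro u hu hu2 d hd
    obtain ⟨hd1, hd2⟩ := hd
    have h3 : d * MulAut.conj u = MulAut.conj u * d := mem_centralizer_singleton_iff.mp hd2
    have h4 : d u = u := by
      have h5 := conj_map d u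
      rw [h3, mul_inv_cancel_right] at h5
      exact A.conj_injective h5
    refine mem_bot.mpr (eq_one_of_fix A h2 hout hb (Odd.of_dvd_nat hD ?_) (hDα d hd1) hu hu2 h4)
    have := orderOf_dvd_natCard (⟨d, hd1⟩ : D)
    rwa [Subgroup.orderOf_mk] at this
  rw [eq_bot_iff]
  refine Lib.KleinGen.le_of_klein D ⊥ hD (MulAut.conj v) (MulAut.conj w) ?_ ?_ ?_ hDv hDw
    (key v hv hv2) (key w hw hw2) ?_
  · rw [← map_mul, hv2, map_one]
  · rw [← map_mul, hw2, map_one]
  · rw [← map_mul, hcomm, map_mul]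
  · rw [← map_mul]
    refine key (v * w) ?_ ?_
    · intro h
      apply hvw
      have h3 : v⁻¹ = v := inv_eq_of_mul_eq_one_left hv2
      rw [mul_eq_one_iff_inv_eq, h3] at h
      exact h
    · calc v * w * (v * w) = v * (w * v) * w := by group
        _ = (v * v) * (w * w) := by rw [← hcomm]; group
        _ = 1 := by rw [hv2, hw2, one_mul]

end Cfsg.Agent.UAlt.SmallLThreeModel
end
end
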