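import Cfsg.Agent.UGT.Blk.SysOf_m3
import Cfsg.Agent.OddHalf.D9.DoubleKill_m3
import Cfsg.Agent.UGT.I34.HeP.FalseE_m3
import Cfsg.Agent.SignalizersComponents.CoprimeGen
import Cfsg.Agent.UGT.I34.Cov_m3
import Cfsg.Agent.UGT.Triple
import Mathlib
import Cfsg.Agent.UGT.I34.OnCode_m3
import Cfsg.Agent.UGT.A7.Mu_m3
import Cfsg.Agent.KFacts.He.Classes
import Cfsg.Agent.Held.HeldCardEq_m3
import Cfsg.Agent.SignalizersComponents.EvenComponent
import Cfsg.Agent.SignalizersComponents.LayerBasic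
import Cfsg.Agent.SignalizersComponents.StandardTools
import Cfsg.Agent.LFourR.FixTorus_m3
import Cfsg.Agent.UGT.N2W.Germ_m3
import Cfsg.Agent.Intrinsic.Ext_mg
import Cfsg.Agent.Lib.GoldschmidtFusion
import Cfsg.Agent.LFourB.RelExt
import Cfsg.Agent.Transfer.ThompsonTransfer
import Cfsg.Agent.UGT.HFAbs_m3
import Cfsg.Agent.McLLyComp.PumpT
import Cfsg.Agent.Intrinsic.TypeGTwo_m3
import Cfsg.Agent.Intrinsic.NZTransfer_m3
import Cfsg.Agent.UGT.Parity_m3
import Cfsg.Agent.Intrinsic.Lifting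
import Cfsg.Agent.Intrinsic.Basic
import Cfsg.Agent.FastGrp
import Cfsg.Agent.Prune
set_option linter.all false

section
prune_inst 0x7f00000000000000000000000000000000000000000000000000000000000000000000000000000000000000000000000000000000000000000000000000000000000000000000000000000000000000003fffffffffffffffffffffffffffbeffbdffffffff

section
prune_inst 0xfcfefbaff8bddfffff7e7ffffddffdfdfcffffffdffbfbfffdfbffffff6b6fffe5fbaf7fecd8ffdef7e0b430f87b53fdffceffeb6bdc7ffffd5ff45ffbff9fffffbf8d51d6b83e1ffe6ffffbf37fffffc00000000000000000000000000041004200000000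

-- part: UGT/I34/HeP/Base
section
prune_inst 0x101041001422000000180000200020003000000200400000004000000840000120450801307002100130a8e0600a802003000049023000002000820040040000040322e2907c1c0011000040c800000000000000000000000000000000000000000000000
set_option linter.all false
open scoped Cfsg.Agent.FastGrp

/-!
# I34 [C], supply of `FrameE`: the fields independent of (5.2)-(5.5)

* `HeX κ`: facts on the targets `(He, z, C(z)^∞)`: (HE1), (HE2).
* `SW κ D L`: the part of the world used here.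
* fields `ord`, `conj`, `L_conj`, `L_comp`, `self_mem`, `symm`, `exists_inv`, `cmp_*`, `mem_cmp`, `of_cmp`, `cmp_fix`;
  `cmp x u = pump x (L u)`.
-/

set_option autoImplicit false
set_option linter.unusedSectionVars false
set_option linter.unusedVariables false

open Cfsg Subgroup
open Cfsg.Agent.SignalizersComponents Cfsg.Agent.Lib
open Cfsg.Agent.SignalizersComponents.IntrinsicBasic
open Cfsg.Agent.SignalizersComponents.PLayerAut
open Cfsg.Agent.SignalizersComponents.RelSylow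
open Cfsg.Agent.Intrinsic
open Cfsg.Agent.Intrinsic.Basic hiding IsPair PQS Target IsPair.sq IsPair.ne_one IsPair.cj
open Cfsg.Agent.Intrinsic.Cen hiding pair_comm pair_mem_cen exists_pump pump_unique
open Cfsg.Agent.Intrinsic.Quot hiding Big isPair_quot small_or_big
open Cfsg.Agent.Intrinsic.WOneA (Ce OC)
open Cfsg.Agent.UGT.I34.Pair Cfsg.Agent.UGT.I34.WOne
open Cfsg.Agent.UGT.I34.Four (Sett Can HeT Klein)
open Cfsg.Agent.McLLyComp.Act hiding mk_eq_one_iff

namespace Cfsg.Agent.UGT.I34.HeP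

universe v

/-- Facts on the targets `(He, z, C(z)^∞)`. -/
structure HeX (κ : Kind.{v}) : Prop where
  /-- (HE1) -/
  fix : ∀ {Y : Type v} [Group Y] [Finite Y] {z : Y} {L : Subgroup Y}, κ.T Y z L → IsPair κ z L →
    ∀ φ : MulAut Y, φ * φ = 1 → ∃ g, φ (g * z * g⁻¹) = g * z * g⁻¹
  /-- (HE2) -/
  conn : ∀ {Y : Type v} [Group Y] [Finite Y] {z : Y} {L : Subgroup Y}, κ.T Y z L → IsPair κ z L →
    ∀ S : Set Y, z ∈ S → (∀ s ∈ S, ∀ g, s * (g * z * g⁻¹) = g * z * g⁻¹ * s → g * z * g⁻¹ ∈ S) →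
      ∀ g, g * z * g⁻¹ ∈ S

/-- The part of the world used in the supply. -/
structure SW (κ : Kind.{v}) {G : Type v} [Group G] [Finite G] (D : Set G) (L : G → Subgroup G) :
    Prop where
  sett : Sett κ G
  hex : HeX κ
  solv : ∀ {K : Type v} [Group K] [Finite K], κ.P K → ∀ t : K, t * t = 1 → t ∉ center K →
    ∀ A : Subgroup K, (∀ a ∈ A, a * t = t * a) → ⁅A, A⁆ = A → A = ⊥
  pair : ∀ {u : G}, u ∈ D → IsPair κ u (L u)
  one : ∀ {u : G}, u ∈ D → ∀ {X : Subgroup G}, IsPair κ u X → X = L u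
  conj : ∀ {u : G}, u ∈ D → ∀ g : G, g * u * g⁻¹ ∈ D
  vess : ∀ {u w : G}, u ∈ D → w ∈ L u → w * w = 1 → w ≠ 1 → Fixes w (L u) → w ∈ D
  can : ∀ {u t : G}, u ∈ D → ∀ ht : t ∈ L u, t * t = 1 →
    Can (QuotientGroup.mk ⟨t, ht⟩ : ↥(L u) ⧸ oddCore ↥(L u)) → t ∈ D ∧ u ∈ L t
  cls : ∀ {u x t : G}, u ∈ D → x * x = 1 → x ≠ 1 → x * u = u * x → Fixes x (L u) →
    IsBig κ u (L u) x → t ∈ D → t ∈ pump x (L u) → ∃ g ∈ pump x (L u), g * u * g⁻¹ = t
  prod : ∀ {u s : G}, ZP D L u s → u * s ∉ D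

section general

variable {G : Type v} [Group G] [Finite G]

theorem sq_of {x : G} (h : orderOf x = 2) : x * x = 1 := by
  rw [← pow_two, ← h]; exact pow_orderOf_eq_one x

theorem ne_of {x : G} (h : orderOf x = 2) : x ≠ 1 := by
  rintro rfl; rw [orderOf_one] at h; omega

theorem order_two {x : G} (hx2 : x * x = 1) (hx1 : x ≠ 1) : orderOf x = 2 :=
  orderOf_eq_prime (by rw [pow_two]; exact hx2) hx1

theorem sq_cj {g y : G} (hy : y * y = 1) : g * y * g⁻¹ * (g * y * g⁻¹) = 1 := by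
  rw [show g * y * g⁻¹ * (g * y * g⁻¹) = g * (y * y) * g⁻¹ by group, hy]; group

/-- an involution normalizing `M` and commuting modulo `O(M)` with the 2-element `c` has a conjugate under `O(M)`
which commutes with `c`. -/
theorem exists_core_comm {M : Subgroup G} {c y : G} {n : ℕ} (hc : c ^ 2 ^ n = 1)
    (hcM : c ∈ normalizer (M : Set G)) (hy : y * y = 1) (hyM : y ∈ normalizer (M : Set G))
    (h : y⁻¹ * (c * y * c⁻¹) ∈ core M) : ∃ o ∈ core M, Commute (o * y * o⁻¹) c := by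
  have hcN := normalizer_le_normalizer_core M hcM
  have hyN := normalizer_le_normalizer_core M hyM
  obtain ⟨o, ho, h1, h2⟩ := Lifting.exists_involution (odd_card_core M) hc hcN hyN
    (by rw [hy]; exact one_mem _) h
  obtain ⟨p, hp, h3⟩ := Lifting.exists_conj_eq (odd_card_core M) (v := y) (v' := y * o) (n := 1)
    (m := 1) (by rw [pow_one, pow_two, hy]) (by rw [pow_one, pow_two, h1]) hyN
    (by rw [inv_mul_cancel_left]; exact ho)
  refine ⟨p, hp, ?_⟩
  rw [h3]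
  exact h2.symm

/-- the same for involutions of `M`, in the language of `M / O(M)` -/
theorem exists_core_comm' {M : Subgroup G} {c y : G} {n : ℕ} (hc : c ^ 2 ^ n = 1)
    (hcM : c ∈ M) (hy : y * y = 1) (hyM : y ∈ M)
    (h : (QuotientGroup.mk ⟨y, hyM⟩ : ↥M ⧸ oddCore ↥M) * QuotientGroup.mk ⟨c, hcM⟩ =
      QuotientGroup.mk ⟨c, hcM⟩ * QuotientGroup.mk ⟨y, hyM⟩) :
    ∃ o ∈ core M, Commute (o * y * o⁻¹) c :=
  exists_core_comm hc (le_normalizer hcM) hy (le_normalizer hyM) ((mk_comm_iff hyM hcM).mp h)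

/-- congruent involutions of `M` are conjugate under `O(M)` -/
theorem exists_core_conj {M : Subgroup G} {x y : G} (hx : x ∈ M) (hy : y ∈ M) (hx2 : x * x = 1)
    (hy2 : y * y = 1) (h : (QuotientGroup.mk ⟨x, hx⟩ : ↥M ⧸ oddCore ↥M) = QuotientGroup.mk ⟨y, hy⟩) :
    ∃ o ∈ core M, o * x * o⁻¹ = y :=
  Lifting.exists_conj_eq (odd_card_core M) (n := 1) (m := 1) (by rw [pow_one, pow_two, hx2])
    (by rw [pow_one, pow_two, hy2]) (le_normalizer_core M hx) ((mk_eq_mk_iff' hx hy).mp h)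

end general

/-- In a big pump-up `O(J) ≤ O(M)`. -/
theorem big_core_le {κ : Kind.{v}} (hX : HeT κ) {G : Type v} [Group G] [Finite G] {u : G}
    {J M : Subgroup G} (hJM : J ≤ M) {hu : u ∈ M}
    (hT : κ.T (↥M ⧸ oddCore ↥M) (QuotientGroup.mk ⟨u, hu⟩) (qs M J))
    (hp : IsPair κ (QuotientGroup.mk ⟨u, hu⟩ : ↥M ⧸ oddCore ↥M) (qs M J)) : core J ≤ core M := by
  have h4 := hX.core hT hp
  obtain ⟨e, he⟩ := exists_qs_equiv hJM
  intro j hj
  have hjJ := Basic.core_le J hj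
  have h1 := he j hjJ
  rw [(mk_eq_one_iff hjJ).mpr hj, map_one] at h1
  have h2 := (QuotientGroup.eq_one_iff _).mp h1.symm
  rw [h4, mem_bot] at h2
  exact (mk_eq_one_iff (hJM hjJ)).mp (congrArg Subtype.val h2)

namespace SW

variable {G : Type v} [Group G] [Finite G] {κ : Kind.{v}} {D : Set G} {L : G → Subgroup G}
  {u v t x s a b : G}

theorem sq (h : SW κ D L) (hu : u ∈ D) : u * u = 1 := (h.pair hu).sq

theorem ne_one (h : SW κ D L) (hu : u ∈ D) : u ≠ 1 := (h.pair hu).ne_one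

theorem mem (h : SW κ D L) (hu : u ∈ D) : u ∈ L u := (h.pair hu).mem

theorem comp (h : SW κ D L) (hu : u ∈ D) : IsComp (centralizer ({u} : Set G)) (L u) :=
  (h.pair hu).comp

theorem comm (h : SW κ D L) (hu : u ∈ D) (hx : x ∈ L u) : x * u = u * x := pair_comm (h.pair hu) hx

theorem L_conj (h : SW κ D L) (hu : u ∈ D) (g : G) : L (g * u * g⁻¹) = cj g (L u) :=
  (h.one (h.conj hu g) ((h.pair hu).cj g)).symm

theorem norm (h : SW κ D L) (hu : u ∈ D) {a : G} (ha : a * u = u * a) :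
    a ∈ normalizer (L u : Set G) := by
  have h1 := h.L_conj hu a
  rw [ha, mul_inv_cancel_right] at h1
  rw [mem_normalizer_iff_cj]
  exact h1.symm

theorem symm (h : SW κ D L) (hu : u ∈ D) (hv : v ∈ D) (huv : u * v = v * u) (hf : Fixes v (L u)) :
    Fixes u (L v) := typeZero_symm' (h.pair hu) (h.pair hv) huv hf

theorem small_or_big (h : SW κ D L) (hu : u ∈ D) (hxx : x * x = 1) (hx1 : x ≠ 1)
    (hx : x * u = u * x) (hf : Fixes x (L u)) : IsSmall (L u) x ∨ IsBig κ u (L u) x :=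
  isSmall_or_isBig h.sett.ih h.sett.cent (h.pair hu) hxx hx1 hx hf

theorem fixes_self (h : SW κ D L) (hu : u ∈ D) : Fixes u (L u) := by
  rw [fixes_iff_conj]
  refine ⟨le_normalizer (h.mem hu), fun y hy => ?_⟩
  rw [← h.comm hu hy, mul_inv_cancel_right, inv_mul_cancel]
  exact one_mem _

theorem mem_K (h : SW κ D L) (hu : u ∈ D) : x ∈ cenMod (Ce u) (L u) ↔ x * u = u * x ∧ Fixes x (L u) := by
  constructor
  · intro hx
    have h1 := cenMod_le _ _ hx
    exact ⟨mem_centralizer_singleton_iff.mp h1, ((h.comp hu).fixes_iff h1).mpr hx⟩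
  · rintro ⟨h1, h2⟩
    exact ((h.comp hu).fixes_iff (mem_centralizer_singleton_iff.mpr h1)).mp h2

theorem self_mem_K (h : SW κ D L) (hu : u ∈ D) : u ∈ cenMod (Ce u) (L u) :=
  (h.mem_K hu).mpr ⟨rfl, h.fixes_self hu⟩

/-- the structure of a big pump-up -/
theorem big_pair (h : SW κ D L) (hu : u ∈ D) (hxx : x * x = 1) (hx : x * u = u * x)
    (hf : Fixes x (L u)) (hb : IsBig κ u (L u) x) : ∃ huM : u ∈ pump x (L u),
      κ.T (↥(pump x (L u)) ⧸ oddCore ↥(pump x (L u))) (QuotientGroup.mk ⟨u, huM⟩)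
        (qs (pump x (L u)) (cen (L u) x)) ∧
      IsPair κ (QuotientGroup.mk ⟨u, huM⟩ : ↥(pump x (L u)) ⧸ oddCore ↥(pump x (L u)))
        (qs (pump x (L u)) (cen (L u) x)) := by
  obtain ⟨huM, hT⟩ := hb
  exact ⟨huM, hT, isPair_quot (h.sq hu) (h.ne_one hu) (pair_mem_cen (h.pair hu) hx) huM
    (isComp_cen_inf (h.pair hu) hxx hx hf)
    ((kind_cen (h.comp hu) (mem_centralizer_singleton_iff.mpr hx) hxx hf).mpr (h.pair hu).kind)⟩

/-! ### fields of the record -/

theorem ord (h : SW κ D L) : ∀ u ∈ D, orderOf u = 2 := fun _ hu => (h.pair hu).inv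

theorem L_comp (h : SW κ D L) : ∀ u ∈ D, TC (Ce u) (L u) := fun _ hu => (h.comp hu).tc

theorem symm' (h : SW κ D L) : ∀ u ∈ D, ∀ v ∈ D, v ∈ cenMod (Ce u) (L u) →
    u ∈ cenMod (Ce v) (L v) := by
  intro u hu v hv hK
  obtain ⟨h1, h2⟩ := (h.mem_K hu).mp hK
  exact (h.mem_K hv).mpr ⟨h1.symm, h.symm hu hv h1.symm h2⟩

theorem cmp_comp (h : SW κ D L) : ∀ u ∈ D, ∀ x ∈ cenMod (Ce u) (L u), orderOf x = 2 →
    TC (Ce x) (pump x (L u)) := by
  intro u hu x hx hx2
  obtain ⟨h1, h2⟩ := (h.mem_K hu).mp hx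
  exact (pump_comp (h.pair hu) (sq_of hx2) h1 h2).tc

theorem cmp_self (h : SW κ D L) : ∀ u ∈ D, pump u (L u) = L u := fun u hu =>
  pump_eq (h.pair hu) (h.sq hu) rfl (h.fixes_self hu) (h.comp hu) (cen_le _ _)

theorem cmp_conj (h : SW κ D L) : ∀ u ∈ D, ∀ x ∈ cenMod (Ce u) (L u), orderOf x = 2 →
    ∀ g : G, pump (g * x * g⁻¹) (L (g * u * g⁻¹)) = cj g (pump x (L u)) := by
  intro u hu x hx hx2 g
  obtain ⟨h1, h2⟩ := (h.mem_K hu).mp hx
  rw [h.L_conj hu]
  exact cj_pump (h.pair hu) (sq_of hx2) h1 h2 g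

theorem mem_cmp (h : SW κ D L) : ∀ u ∈ D, ∀ x ∈ cenMod (Ce u) (L u), orderOf x = 2 →
    ∀ a ∈ L u, ∀ n : ℕ, a ^ 2 ^ n = 1 → Commute a x → a ∈ pump x (L u) := by
  intro u hu x hx hx2 a ha n hn hc
  obtain ⟨h1, h2⟩ := (h.mem_K hu).mp hx
  exact mem_pump_of_mem (h.pair hu) (sq_of hx2) h1 h2 ha hc hn

/-- `of_cmp` -/
theorem of_cmp (h : SW κ D L) : ∀ u ∈ D, ∀ x ∈ cenMod (Ce u) (L u), orderOf x = 2 →
    ∀ a ∈ pump x (L u), orderOf a = 2 → a ∈ cenMod (Ce u) (L u) → a ∈ L u := by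
  intro u hu x hx hx2 a ha ha2 haK
  obtain ⟨h1, h2⟩ := (h.mem_K hu).mp hx
  obtain ⟨h3, h4⟩ := (h.mem_K hu).mp haK
  have hxx := sq_of hx2
  have hJ := isComp_cen_inf (h.pair hu) hxx h1 h2
  have hM := pump_comp (h.pair hu) hxx h1 h2
  have hle := cen_le_pump (h.pair hu) hxx h1 h2
  have hax : a * x = x * a := mem_centralizer_singleton_iff.mp (hM.le ha)
  have key : ∃ j ∈ cen (L u) x, j⁻¹ * a ∈ core (pump x (L u)) := by
    rcases h.small_or_big hu hxx (ne_of hx2) h1 h2 with hs | hb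
    · exact exists_mul_of_sup hs ha
    · obtain ⟨huM, hT, hp⟩ := h.big_pair hu hxx h1 h2 hb
      have h5 := h.sett.he.cent hT hp
      have h6 : (QuotientGroup.mk ⟨a, ha⟩ : ↥(pump x (L u)) ⧸ oddCore ↥(pump x (L u))) ∈
          centralizer ((qs (pump x (L u)) (cen (L u) x) : Subgroup _) : Set _) := by
        rw [mem_centralizer_iff]
        intro y hy
        obtain ⟨⟨y, hyM⟩, rfl⟩ := QuotientGroup.mk_surjective y
        obtain ⟨j, hj, hjy⟩ := (mem_qs hyM).mp hy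
        have e1 : (QuotientGroup.mk ⟨y, hyM⟩ : ↥(pump x (L u)) ⧸ oddCore ↥(pump x (L u))) =
            QuotientGroup.mk ⟨j, hj.2⟩ := ((mk_eq_mk_iff' hj.2 hyM).mpr hjy).symm
        rw [e1, mk_comm_iff]
        have haJ : a ∈ normalizer (cen (L u) x : Set G) := mem_normalizer_cen h4.1 hax
        have hs := (isComp_cen (h.comp hu) (mem_centralizer_singleton_iff.mpr h1) hxx h2).2
        have haf : Fixes a (cen (L u) x) := (fixes_iff_of_sup hs haJ h4.1).mpr h4
        exact big_core_le h.sett.he hle hT hp ((fixes_iff_conj.mp haf).2 j hj.1)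
      have h7 := h5 h6
      obtain ⟨j, hj, hc⟩ := (mem_qs ha).mp h7
      exact ⟨j, hj.1, hc⟩
  obtain ⟨j, hj, hc⟩ := key
  exact cen_le _ _ (RankOne.mem_of_two' hJ h3 hj hc (n := 1) (by rw [pow_one, pow_two, sq_of ha2]))

/-- a central involution of `L u / O(L u)` other than `u` lifts to an involution commuting with a 2-group fixing
`L u` -/
theorem exists_vessel (h : SW κ D L) (hu : u ∈ D) {V : Subgroup G} (hV : IsPGroup 2 V)
    (hf : ∀ a ∈ V, Fixes a (L u)) :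
    ∃ t ∈ L u, t * t = 1 ∧ t ≠ 1 ∧ t ≠ u ∧ Fixes t (L u) ∧ ∀ a ∈ V, a * t = t * a := by
  have hk := (h.pair hu).kind
  have hcard := h.sett.kl.card hk
  have hsq := h.sett.kl.sq hk
  have humem := h.mem hu
  -- a third central element
  obtain ⟨t', ht'c, ht'1, ht'u⟩ : ∃ t' ∈ center (↥(L u) ⧸ oddCore ↥(L u)), t' ≠ 1 ∧
      t' ≠ QuotientGroup.mk ⟨u, humem⟩ := by
    by_contra hcon
    push Not at hcon
    have h1 : (center (↥(L u) ⧸ oddCore ↥(L u)) : Set (↥(L u) ⧸ oddCore ↥(L u))) ⊆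
        {1, (QuotientGroup.mk ⟨u, humem⟩ : ↥(L u) ⧸ oddCore ↥(L u))} := by
      intro t' ht'
      by_cases e : t' = 1
      · exact Or.inl e
      · exact Or.inr (hcon t' ht' e)
    have h2 := Set.ncard_le_ncard h1 (Set.toFinite _)
    have h3 := Set.ncard_insert_le (1 : ↥(L u) ⧸ oddCore ↥(L u))
      {(QuotientGroup.mk ⟨u, humem⟩ : ↥(L u) ⧸ oddCore ↥(L u))}
    rw [Set.ncard_singleton] at h3
    have h4 : (center (↥(L u) ⧸ oddCore ↥(L u)) : Set (↥(L u) ⧸ oddCore ↥(L u))).ncard = 4 := by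
      rw [← hcard]; rfl
    omega
  have ht2 : t' * t' = 1 := hsq t' ht'c
  obtain ⟨⟨t₀, ht₀⟩, rfl⟩ := QuotientGroup.mk_surjective t'
  have hVN : V ≤ normalizer (core (L u) : Set G) := fun a ha =>
    normalizer_le_normalizer_core (L u) (hf a ha).1
  obtain ⟨o, ho, h4⟩ := Lifting.exists_commute_group (odd_card_core (L u)) hV hVN (m := t₀)
    (fun a ha => (fixes_iff_conj.mp (hf a ha)).2 t₀ ht₀)
  have h3 : t₀ * t₀ ∈ core (L u) := by
    have e : (QuotientGroup.mk ⟨t₀ * t₀, (L u).mul_mem ht₀ ht₀⟩ : ↥(L u) ⧸ oddCore ↥(L u)) = 1 := ht2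
    rwa [mk_eq_one_iff] at e
  have h5 : (t₀ * o) ^ 2 ^ 1 ∈ core (L u) := by
    have h6 := conj_mem_core (x := t₀) (le_normalizer ht₀) ho
    have h7 : (t₀ * o) ^ 2 ^ 1 = (t₀ * o * t₀⁻¹) * (t₀ * t₀) * o := by
      rw [pow_one, pow_two]; group
    rw [h7]
    exact mul_mem (mul_mem h6 h3) ho
  obtain ⟨k, h6, h7⟩ := Lifting.exists_two_part (odd_card_core (L u)) h5
  have hmem : t₀ * o ∈ L u := (L u).mul_mem ht₀ (core_le (L u) ho)
  have hk := (L u).pow_mem hmem k
  have e : (QuotientGroup.mk ⟨(t₀ * o) ^ k, hk⟩ : ↥(L u) ⧸ oddCore ↥(L u)) = QuotientGroup.mk ⟨t₀, ht₀⟩ := by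
    have h8 : (QuotientGroup.mk ⟨t₀ * o, hmem⟩ : ↥(L u) ⧸ oddCore ↥(L u)) =
        QuotientGroup.mk ⟨(t₀ * o) ^ k, hk⟩ := (mk_eq_mk_iff' hmem hk).mpr h7
    rw [← h8]
    symm
    rw [mk_eq_mk_iff', inv_mul_cancel_left]
    exact ho
  refine ⟨(t₀ * o) ^ k, hk, by rwa [pow_one, pow_two] at h6, ?_, ?_, ?_, fun a ha => ?_⟩
  · intro h8
    apply ht'1
    rw [← e, mk_eq_one_iff, h8]
    exact one_mem _
  · intro h8
    apply ht'u
    rw [← e]
    congr 1
    exact Subtype.ext h8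
  · rw [← W1.mk_center_iff hk, e]
    exact ht'c
  · exact ((show Commute a (t₀ * o) from h4 a ha).pow_right k).eq

/-- `exists_inv` -/
theorem exists_inv (h : SW κ D L) : ∀ u ∈ D, ∀ V : Subgroup G, IsPGroup 2 V →
    V ≤ cenMod (Ce u) (L u) → ∃ t ∈ L u, t ∈ D ∧ t ≠ u ∧ u * t ∈ D ∧ ∀ v ∈ V, Commute t v := by
  intro u hu V hV hle
  obtain ⟨t, ht, h1, h2, h3, h4, h5⟩ := h.exists_vessel hu hV
    (fun a ha => ((h.mem_K hu).mp (hle ha)).2)
  have htu := h.comm hu ht
  refine ⟨t, ht, h.vess hu ht h1 h2 h4, h3, ?_, fun v hv => (h5 v hv).symm⟩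
  exact h.vess hu ((L u).mul_mem (h.mem hu) ht) (mul_sq (h.sq hu) h1 htu.symm)
    (mul_ne_one h1 (Ne.symm h3)) (fixes_mul (h.fixes_self hu) h4)

/-- `cmp_fix` -/
theorem cmp_fix (h : SW κ D L) : ∀ u ∈ D, ∀ x ∈ cenMod (Ce u) (L u), orderOf x = 2 →
    ∀ c ∈ pump x (L u), orderOf c = 2 → ∃ d ∈ D, d ∈ pump x (L u) ∧ Commute d c := by
  intro u hu x hx hx2 c hc hc2
  obtain ⟨h1, h2⟩ := (h.mem_K hu).mp hx
  have hxx := sq_of hx2
  have huM := mem_pump (h.pair hu) hxx h1 h2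
  have hcc : c ^ 2 ^ 1 = 1 := by rw [pow_one, pow_two, sq_of hc2]
  rcases h.small_or_big hu hxx (ne_of hx2) h1 h2 with hs | hb
  · have hf := hs.fixes (h.pair hu) h1
    have h3 : (QuotientGroup.mk ⟨u, huM⟩ : ↥(pump x (L u)) ⧸ oddCore ↥(pump x (L u))) ∈ center _ :=
      (W1.mk_center_iff huM).mpr hf
    obtain ⟨o, ho, hcom⟩ := exists_core_comm' hcc hc (h.sq hu) huM (mem_center_iff.mp h3 _).symm
    refine ⟨_, h.conj hu o, ?_, hcom⟩
    have hoM := Basic.core_le _ ho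
    exact mul_mem (mul_mem hoM huM) (inv_mem hoM)
  · obtain ⟨huM', hT, hp⟩ := h.big_pair hu hxx h1 h2 hb
    obtain ⟨g, hg⟩ := h.hex.fix hT hp (MulAut.conj (QuotientGroup.mk ⟨c, hc⟩)) (by
      rw [← map_mul]
      have : (QuotientGroup.mk ⟨c, hc⟩ : ↥(pump x (L u)) ⧸ oddCore ↥(pump x (L u))) *
          QuotientGroup.mk ⟨c, hc⟩ = 1 := W1.mk_sq hc (sq_of hc2)
      rw [this, map_one])
    obtain ⟨⟨g, hgM⟩, rfl⟩ := QuotientGroup.mk_surjective g
    have hyM : g * u * g⁻¹ ∈ pump x (L u) := mul_mem (mul_mem hgM huM) (inv_mem hgM)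
    have h3 : (QuotientGroup.mk ⟨c, hc⟩ : ↥(pump x (L u)) ⧸ oddCore ↥(pump x (L u))) *
        QuotientGroup.mk ⟨g * u * g⁻¹, hyM⟩ * (QuotientGroup.mk ⟨c, hc⟩)⁻¹ =
        QuotientGroup.mk ⟨g * u * g⁻¹, hyM⟩ := hg
    have h4 : (QuotientGroup.mk ⟨g * u * g⁻¹, hyM⟩ : ↥(pump x (L u)) ⧸ oddCore ↥(pump x (L u))) *
        QuotientGroup.mk ⟨c, hc⟩ = QuotientGroup.mk ⟨c, hc⟩ * QuotientGroup.mk ⟨g * u * g⁻¹, hyM⟩ := by
      rw [mul_inv_eq_iff_eq_mul] at h3
      exact h3.symm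
    obtain ⟨o, ho, hcom⟩ := exists_core_comm' hcc hc (sq_cj (h.sq hu)) hyM h4
    refine ⟨_, h.conj (h.conj hu g) o, ?_, hcom⟩
    have hoM := Basic.core_le _ ho
    exact mul_mem (mul_mem hoM hyM) (inv_mem hoM)

end SW

end Cfsg.Agent.UGT.I34.HeP
end

-- part: UGT/I34/FourKind_mg
section
prune_inst 0x180000000020001000000200400000000000000000000120000800302002100120286000080020030000490010000020000200400000000002208200000000000000008800000000000000000000000000000000000000000000000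
set_option linter.all false
open scoped Cfsg.Agent.FastGrp

-- part: UGT/I34/FourKind
section
/-!
# THEOREM I34, part [C]: the kind `2².L₃(4)` and the two targets

* `four`: the kind of the covers with centre a four-group; the exceptional group is `He`.
* `SimpleCaseB κ`: the main theorem for simple groups with the B-property.
* `TripleCase κ`: no triple `(x, c, M)`, `x ∈ X`, `c ∈ M`, of kind `κ` in a simple group `X`.
-/

set_option autoImplicit false

open Cfsg Subgroup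
open Cfsg.Agent.UGT.Iface Cfsg.Agent.UGT.Triple
open Cfsg.Agent.UGT.I34.Pair Cfsg.Agent.UGT.I34.Cov

namespace Cfsg.Agent.UGT.I34.FourKind

universe u

/-- the exceptional group -/
def T22 : (X : Type u) → [Group X] → X → Subgroup X → Prop := fun X _ _ _ => Cfsg.Spor.IsoHe X

/-- the kind `2².L₃(4)` -/
def four : Kind.{u} := kind' 4 4 T22

theorem four_iff {K : Type u} [Group K] : four.P K ↔ IsCv 4 4 K := by
  change (IsCv 4 4 K ∧ True) ↔ _
  rw [and_true]

/-- the main theorem for simple groups with the B-property -/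
def SimpleCaseB (κ : Kind.{u}) : Prop :=
  ∀ (X : Type u) [Group X] [Finite X] [IsSimpleGroup X], HasBProperty X → PQS κ (Nat.card X) →
    ∀ (z : X) (L : Subgroup X), IsPair κ z L → κ.T X z L

/-- no triples of kind `κ` in a simple group -/
def TripleCase (κ : Kind.{u}) : Prop :=
  ∀ (X : Type u) [Group X] [Finite X] [IsSimpleGroup X], PQS κ (Nat.card X) →
    ∀ (x c : X) (M : Subgroup X), IsTriple x c M → c ∈ M → ¬ κ.P (Bar M)

end Cfsg.Agent.UGT.I34.FourKind
end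

-- part: KFacts/He/RecGraph
section
/-!
# The commuting graph on the involutions of type 2A of the Held group is connected

`conn`: a set of elements containing an element of type 2A and closed under passing to commuting elements of type 2A
contains all elements of type 2A.
-/

set_option autoImplicit false

namespace Cfsg.Agent.KFacts.He.RecGraph

open Subgroup Cfsg
open Cfsg.Spor Cfsg.Spor.He Cfsg.Agent.SporadicB.HePerm Cfsg.Agent.FixBN.HeStab
open Cfsg.Agent.KFacts.He.Lv Cfsg.Agent.KFacts.He.TwoACent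

/-- adjacency -/
def Adj (x y : Cfsg.Spor.He) : Prop := IsConj (gn .a) x ∧ IsConj (gn .a) y ∧ x * y = y * x

theorem Adj.symm {x y : Cfsg.Spor.He} (h : Adj x y) : Adj y x := ⟨h.2.1, h.1, h.2.2.symm⟩

theorem Adj.conj {x y : Cfsg.Spor.He} (h : Adj x y) (g : Cfsg.Spor.He) :
    Adj (g * x * g⁻¹) (g * y * g⁻¹) := by
  refine ⟨h.1.trans (isConj_iff.mpr ⟨g, rfl⟩), h.2.1.trans (isConj_iff.mpr ⟨g, rfl⟩), ?_⟩
  calc g * x * g⁻¹ * (g * y * g⁻¹) = g * (x * y) * g⁻¹ := by group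
    _ = g * (y * x) * g⁻¹ := by rw [h.2.2]
    _ = g * y * g⁻¹ * (g * x * g⁻¹) := by group

/-- reachability -/
def Re (x y : Cfsg.Spor.He) : Prop := Relation.ReflTransGen Adj x y

theorem Re.symm {x y : Cfsg.Spor.He} (h : Re x y) : Re y x := by
  unfold Re at *
  induction h with
  | refl => exact .refl
  | tail _ h1 ih => exact Relation.ReflTransGen.head h1.symm ih

theorem Re.trans {x y z : Cfsg.Spor.He} (h : Re x y) (h' : Re y z) : Re x z :=
  Relation.ReflTransGen.trans h h'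

theorem Re.conj {x y : Cfsg.Spor.He} (h : Re x y) (g : Cfsg.Spor.He) : Re (g * x * g⁻¹) (g * y * g⁻¹) := by
  unfold Re at *
  induction h with
  | refl => exact .refl
  | tail _ h1 ih => exact ih.tail (h1.conj g)

/-- the stabilizer of the component of `a` -/
def N : Subgroup Cfsg.Spor.He where
  carrier := {g | Re (gn .a) (g * gn .a * g⁻¹)}
  one_mem' := by
    show Re _ _
    rw [one_mul, inv_one, mul_one]
    exact .refl
  mul_mem' := by
    intro g h hg hh
    show Re _ _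
    have h1 := Re.conj hh g
    refine Re.trans hg ?_
    rwa [show g * h * gn .a * (g * h)⁻¹ = g * (h * gn .a * h⁻¹) * g⁻¹ by group]
  inv_mem' := by
    intro g hg
    show Re _ _
    have h1 := Re.symm (Re.conj hg g⁻¹)
    rwa [show g⁻¹ * (g * gn .a * g⁻¹) * g⁻¹⁻¹ = gn .a by group] at h1

/-- the element `(ab)²` -/
def tw : List Gen := [.a, .b, .a, .b]

/-- `(ab)²` is conjugate to `a` -/
def cw : List Gen := [.c, .d, .f, .c, .d, .c, .d, .f, .d, .c, .d, .c, .b]

theorem t_conj : IsConj (gn .a) (wd tw) := by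
  have h := eq_of_chkB (v := cw ++ ([.a] : List Cfsg.Spor.He.Gen)) (w := tw ++ cw) (by decide +kernel)
  rw [wd_append, wd_append, wd_one] at h
  exact isConj_iff.mpr ⟨wd cw, by rw [h, mul_inv_cancel_right]⟩

theorem t_comm_a : gn .a * wd tw = wd tw * gn .a := by
  have h := eq_of_chkB (v := ([.a] : List Cfsg.Spor.He.Gen) ++ tw) (w := tw ++ ([.a] : List Cfsg.Spor.He.Gen)) (by decide +kernel)
  rwa [wd_append, wd_append, wd_one] at h

theorem t_comm_b : gn .b * wd tw = wd tw * gn .b := by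
  have h := eq_of_chkB (v := ([.b] : List Cfsg.Spor.He.Gen) ++ tw) (w := tw ++ ([.b] : List Cfsg.Spor.He.Gen)) (by decide +kernel)
  rwa [wd_append, wd_append, wd_one] at h

theorem b_mem_N : gn .b ∈ N := by
  show Re _ _
  have h1 : Re (gn .a) (wd tw) := .single ⟨IsConj.refl _, t_conj, t_comm_a⟩
  have h2 := h1.conj (gn .b)
  rw [t_comm_b, mul_inv_cancel_right] at h2
  exact h1.trans h2.symm

theorem comm_mem_N {x : Cfsg.Spor.He} (h : x * gn .a = gn .a * x) : x ∈ N := by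
  show Re _ _
  rw [h, mul_inv_cancel_right]
  exact .refl

theorem N_eq_top : N = ⊤ := by
  rw [eq_top_iff, ← PresentedGroup.closure_range_of, closure_le]
  rintro _ ⟨m, rfl⟩
  show gn m ∈ N
  cases m
  · exact comm_mem_N rfl
  · exact b_mem_N
  all_goals exact comm_mem_N (L_comm_a (gn_mem_L (by simp)))

theorem reach {x y : Cfsg.Spor.He} (hx : IsConj (gn .a) x) (hy : IsConj (gn .a) y) : Re x y := by
  have key : ∀ {x : Cfsg.Spor.He}, IsConj (gn .a) x → Re (gn .a) x := by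
    intro x hx
    obtain ⟨g, hg⟩ := isConj_iff.mp hx
    have h1 : g ∈ N := by rw [N_eq_top]; trivial
    have h2 : Re (gn .a) (g * gn .a * g⁻¹) := h1
    rwa [hg] at h2
  exact (key hx).symm.trans (key hy)

/-- **The commuting graph on the class 2A is connected.** -/
theorem conn {S : Set Cfsg.Spor.He} {x : Cfsg.Spor.He} (hx : IsConj (gn .a) x) (hxS : x ∈ S)
    (h : ∀ t ∈ S, IsConj (gn .a) t → ∀ t', IsConj (gn .a) t' → t * t' = t' * t → t' ∈ S)
    {y : Cfsg.Spor.He} (hy : IsConj (gn .a) y) : y ∈ S := by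
  have h1 := reach hx hy
  unfold Re at h1
  induction h1 with
  | refl => exact hxS
  | tail _ h2 ih => exact h _ (ih h2.1) h2.1 _ h2.2.1 h2.2.2

end Cfsg.Agent.KFacts.He.RecGraph
end

-- part: UGT/I34/HeRec
section
/-!
# The K-facts on the Held group for `X / O(X)` of type `2².L₃(4)`

* `isComp_map` : transport of 2-components.
* `isComp_L`, `comp_a` : `L` is the only 2-component of `C(a)` in the Held group.
* `exists_iso` : a pair `(z, L')` of `Y ≅ He` (`5 ∣ |L'|`) is the image of `(a, L)`.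
* `HeKind κ` : the exceptional configurations are in `He`, and 5 divides the order; `heKind` : it holds for `kind' 4 4`.
* `heT` : the record `HeT`.
* `conn` : the commuting graph on the conjugates of `z` is connected.
-/

set_option autoImplicit false

open Cfsg Subgroup
open Cfsg.Agent.SignalizersComponents Cfsg.Agent.Lib
open Cfsg.Agent.SignalizersComponents.IntrinsicBasic
open Cfsg.Agent.SignalizersComponents.PLayerAut
open Cfsg.Agent.Intrinsic.Basic hiding IsPair PQS Target IsPair.sq IsPair.ne_one IsPair.cj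
open Cfsg.Agent.UGT.I34.Pair Cfsg.Agent.UGT.I34.Four
open Cfsg.Agent.KFacts.He.Lv (gn)
open Cfsg.Agent.KFacts.He.TwoACent (L V v)
open scoped commutatorElement

namespace Cfsg.Agent.UGT.I34.HeRec

universe u

open Cfsg.Agent.KFacts.He

/-! ### transport -/

section transport

variable {A B : Type*} [Group A] [Group B]

theorem map_cent (e : A ≃* B) (t : A) :
    (centralizer ({t} : Set A)).map e.toMonoidHom = centralizer ({e t} : Set B) := by
  have hcen : ∀ g, g ∈ centralizer ({t} : Set A) ↔ e g ∈ centralizer ({e t} : Set B) := by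
    intro g
    rw [mem_centralizer_singleton_iff, mem_centralizer_singleton_iff, ← map_mul, ← map_mul,
      e.injective.eq_iff]
  ext g
  constructor
  · rintro ⟨g, hg, rfl⟩; exact (hcen g).mp hg
  · intro hg
    obtain ⟨g, rfl⟩ := e.surjective g
    exact ⟨g, (hcen g).mpr hg, rfl⟩

theorem isComp_map (e : A ≃* B) {H K : Subgroup A} (h : IsComp H K) :
    IsComp (H.map e.toMonoidHom) (K.map e.toMonoidHom) := by
  let ec : ↥H ≃* ↥(H.map e.toMonoidHom) := Subgroup.equivMapOfInjective _ e.toMonoidHom e.injective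
  refine ⟨Subgroup.map_mono h.1, ?_⟩
  have h1 := isPComponent_map_equiv 2 ec h.2
  have h2 : (K.subgroupOf H).map ec.toMonoidHom = (K.map e.toMonoidHom).subgroupOf (H.map e.toMonoidHom) := by
    ext ⟨g, hg⟩
    constructor
    · rintro ⟨y, hy, h3⟩
      rw [mem_subgroupOf]
      exact ⟨y, hy, congrArg Subtype.val h3⟩
    · intro h3
      rw [mem_subgroupOf] at h3
      obtain ⟨y, hy, h4⟩ := h3
      exact ⟨⟨y, h.1 hy⟩, mem_subgroupOf.mpr hy, Subtype.ext h4⟩
  rw [← h2]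
  exact h1

theorem isComp_map_iff (e : A ≃* B) {H K : Subgroup A} :
    IsComp (H.map e.toMonoidHom) (K.map e.toMonoidHom) ↔ IsComp H K := by
  refine ⟨fun h => ?_, isComp_map e⟩
  have h1 := isComp_map e.symm h
  have key : ∀ S : Subgroup A, (S.map e.toMonoidHom).map e.symm.toMonoidHom = S := by
    intro S
    rw [Subgroup.map_map]
    have : e.symm.toMonoidHom.comp e.toMonoidHom = MonoidHom.id A := by
      ext x; exact e.symm_apply_apply x
    rw [this, Subgroup.map_id]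
  rwa [key, key] at h1

end transport

/-! ### the Held group -/

theorem even_L : 2 ∣ Nat.card ↥L := by
  have h1 : Nat.card V ∣ Nat.card L := Subgroup.card_dvd_of_le TwoACent.V_le_L
  rw [TwoACent.card_V] at h1
  exact Dvd.dvd.trans (by norm_num) h1

theorem isComp_L : IsComp (centralizer ({gn .a} : Set Cfsg.Spor.He)) L := by
  have hp2 : Fact (Nat.Prime 2) := ⟨Nat.prime_two⟩
  obtain ⟨h1, h2, h3, -⟩ := TwoA.two_a
  refine ⟨h1, ?_⟩
  apply EvenComponent.isPComponent_of_isComponent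
  · refine ⟨?_, ?_⟩
    · exact h2.isSubnormal
    · exact PCompQuot.quasisimple_congr (Subgroup.subgroupOfEquivOfLe h1).symm h3
  · rw [Nat.card_congr (Subgroup.subgroupOfEquivOfLe h1).toEquiv]
    exact even_L

/-- `L` is the only 2-component of `C(a)` -/
theorem comp_a {L' : Subgroup Cfsg.Spor.He} (h : IsComp (centralizer ({gn .a} : Set Cfsg.Spor.He)) L') :
    L' = L := by
  have h1 : L' ≤ L := by
    rw [← h.perfect, commutator_le]
    intro x hx y hy
    have cx := mem_centralizer_singleton_iff.mp (h.le hx)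
    have cy := mem_centralizer_singleton_iff.mp (h.le hy)
    have key : ∀ {p q : Cfsg.Spor.He}, p * gn .a = gn .a * p → q * gn .a = gn .a * q → p ∈ L → ⁅p, q⁆ ∈ L := by
      intro p q _ hq hp
      rw [commutatorElement_def, mul_assoc, mul_assoc]
      refine L.mul_mem hp ?_
      rw [← mul_assoc]
      exact TwoACent.norm hq (L.inv_mem hp)
    rcases TwoACent.two cx cy with h2 | h2 | h2
    · exact key cx cy h2
    · rw [← commutatorElement_inv]
      exact L.inv_mem (key cy cx h2)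
    · have h3 := TwoACent.norm (c := x⁻¹) (by
        rw [inv_mul_eq_iff_eq_mul, ← mul_assoc, cx, mul_inv_cancel_right]) h2
      have h4 : ⁅x, y⁆ = x * y * (x⁻¹ * (x * y) * x⁻¹⁻¹)⁻¹ := by
        rw [commutatorElement_def]; group
      rw [h4]
      exact L.mul_mem h2 (L.inv_mem h3)
  exact h.eq_of_le isComp_L h1

theorem z_no {L' : Subgroup Cfsg.Spor.He}
    (h : IsComp (centralizer ({Bound.z} : Set Cfsg.Spor.He)) L') : ¬ 5 ∣ Nat.card ↥L' := by
  intro h1
  have h2 := h1.trans (Subgroup.card_dvd_of_le h.le)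
  rw [Cent.card_cent] at h2
  norm_num at h2

theorem conj_iso {X : Type*} [Group X] (e : Cfsg.Spor.He ≃* X) (g : Cfsg.Spor.He) (x : Cfsg.Spor.He) :
    ((MulAut.conj g).trans e) x = e (g * x * g⁻¹) := rfl

/-- **Every pair of the Held group is the image of `(a, L)`.** -/
theorem exists_iso {Y : Type*} [Group Y] (hY : Spor.IsoHe Y) {t : Y} {L' : Subgroup Y} (ht : orderOf t = 2)
    (hL : IsComp (centralizer ({t} : Set Y)) L') (h5 : 5 ∣ Nat.card ↥L') :
    ∃ e : Cfsg.Spor.He ≃* Y, e (gn .a) = t ∧ L.map e.toMonoidHom = L' := by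
  obtain ⟨e'⟩ := hY
  obtain ⟨e, he⟩ : ∃ e : Cfsg.Spor.He ≃* Y, e = e'.symm := ⟨_, rfl⟩
  obtain ⟨t0, rfl⟩ := e.surjective t
  have ht0 : orderOf t0 = 2 := by
    rw [← ht]; exact (orderOf_injective e.toMonoidHom e.injective t0).symm
  have h1 : t0 * t0 = 1 := by rw [← pow_two, ← ht0, pow_orderOf_eq_one]
  have h2 : t0 ≠ 1 := by rintro rfl; rw [orderOf_one] at ht0; norm_num at ht0
  -- pull back `L'`
  obtain ⟨L0, hL0⟩ : ∃ L0, L0 = L'.comap e.toMonoidHom := ⟨_, rfl⟩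
  have hm : L0.map e.toMonoidHom = L' := by
    rw [hL0]; exact Subgroup.map_comap_eq_self_of_surjective e.surjective L'
  have hc0 : IsComp (centralizer ({t0} : Set Cfsg.Spor.He)) L0 := by
    rw [← isComp_map_iff e, map_cent, hm]; exact hL
  have h50 : 5 ∣ Nat.card ↥L0 := by
    rw [← hm, Nat.card_congr (L0.equivMapOfInjective e.toMonoidHom e.injective).symm.toEquiv] at h5
    exact h5
  rcases Classes.two_classes_a h1 h2 with ⟨g, hg⟩ | ⟨g, hg⟩
  · exfalso
    -- `t0` is conjugate to `z`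
    have h3 := isComp_map (MulAut.conj g⁻¹) hc0
    rw [map_cent] at h3
    have h4 : (MulAut.conj g⁻¹) t0 = Bound.z := by
      rw [MulAut.conj_apply, inv_inv, ← hg]; group
    rw [h4] at h3
    apply z_no h3
    rw [Nat.card_congr (L0.equivMapOfInjective _ (MulAut.conj g⁻¹).injective).symm.toEquiv]
    exact h50
  · have h3 := isComp_map (MulAut.conj g⁻¹) hc0
    rw [map_cent] at h3
    have h4 : (MulAut.conj g⁻¹) t0 = gn .a := by
      rw [MulAut.conj_apply, inv_inv, ← hg]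
      show g⁻¹ * (g * gn .a * g⁻¹) * g = gn .a
      group
    rw [h4] at h3
    have h5' := comp_a h3
    refine ⟨(MulAut.conj g).trans e, ?_, ?_⟩
    · rw [conj_iso]; exact congrArg e hg
    · rw [← h5', ← hm]
      ext y
      constructor
      · rintro ⟨_, ⟨x, hx, rfl⟩, rfl⟩
        refine ⟨x, hx, ?_⟩
        show e x = e (g * (g⁻¹ * x * g⁻¹⁻¹) * g⁻¹)
        congr 1; group
      · rintro ⟨x, hx, rfl⟩
        refine ⟨_, ⟨x, hx, rfl⟩, ?_⟩
        show e (g * (g⁻¹ * x * g⁻¹⁻¹) * g⁻¹) = e x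
        congr 1; group

/-! ### the first record -/

theorem center_He : center Cfsg.Spor.He = ⊥ := by
  rcases Cent.simpleHe.eq_bot_or_eq_top_of_normal (center Cfsg.Spor.He) inferInstance with h | h
  · exact h
  · exfalso
    have h1 : V = ⊤ := by
      rw [eq_top_iff]
      intro g _
      rw [TwoACent.mem_V]
      intro l _
      have h2 : l ∈ center Cfsg.Spor.He := by rw [h]; exact mem_top _
      exact (mem_center_iff.mp h2 g).symm
    have h2 := TwoACent.card_V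
    rw [h1, Subgroup.card_top, Cent.card_He] at h2
    norm_num at h2

theorem core_L : oddCore ↥L = ⊥ := by
  rcases LayerBasic.quasisimple_normal TwoA.isQuasisimple_L (oddCore ↥L) (by unfold oddCore; infer_instance) with h | h
  · exfalso
    have h3 := odd_card_core L
    rw [core, h, ← MonoidHom.range_eq_map, Subgroup.range_subtype] at h3
    exact (Nat.not_even_iff_odd.mpr h3) (even_iff_two_dvd.mpr even_L)
  · rw [eq_bot_iff]
    intro x hx
    have h1 := RecL.center_sq (h hx)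
    have h2 : (x : Cfsg.Spor.He) ∈ core L := ⟨x, hx, rfl⟩
    have h3 := eq_one_of_mem_core_sq h2 (congrArg Subtype.val h1)
    rw [mem_bot]
    exact Subtype.ext h3

/-- what is used of the kind: the exceptional configurations are in `He`, and 5 divides the order -/
structure HeKind (κ : Kind.{u}) : Prop where
  iso : ∀ {Y : Type u} [Group Y] {z : Y} {L : Subgroup Y}, κ.T Y z L → Spor.IsoHe Y
  five : ∀ {K : Type u} [Group K] [Finite K], κ.P K → 5 ∣ Nat.card K

theorem heKind : HeKind (Cov.kind'.{u} 4 4 fun X _ _ _ => Spor.IsoHe X) where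
  iso h := h
  five h := by rw [h.1.card_K]; norm_num

section records

variable {κ : Kind.{u}} (hκ : HeKind κ) {Y : Type u} [Group Y] [Finite Y] {z : Y} {L' : Subgroup Y}

include hκ in
theorem exists_pair_iso (hT : κ.T Y z L') (hp : IsPair κ z L') :
    ∃ e : Cfsg.Spor.He ≃* Y, e (gn .a) = z ∧ L.map e.toMonoidHom = L' := by
  refine exists_iso (hκ.iso hT) hp.inv hp.comp ?_
  have h1 := hκ.five hp.kind
  exact h1.trans (Subgroup.card_quotient_dvd_card _)

omit [Finite Y] in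
/-- `L / O(L) ≅ L` for the image of `L` -/
theorem core_map (e : Cfsg.Spor.He ≃* Y) : oddCore ↥(L.map e.toMonoidHom) = ⊥ := by
  have h1 := Lib.Cores.map_equiv_pPrimeCore (L.equivMapOfInjective e.toMonoidHom e.injective) 2
  show Cfsg.pPrimeCore 2 _ = ⊥
  rw [← h1, show Cfsg.pPrimeCore 2 ↥L = ⊥ from core_L, Subgroup.map_bot]

/-- the isomorphism `L → e L / O(e L)` -/
noncomputable def quot (e : Cfsg.Spor.He ≃* Y) :
    ↥L ≃* ↥(L.map e.toMonoidHom) ⧸ oddCore ↥(L.map e.toMonoidHom) :=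
  (L.equivMapOfInjective e.toMonoidHom e.injective).trans
    ((QuotientGroup.quotientMulEquivOfEq (core_map e)).trans QuotientGroup.quotientBot).symm

omit [Finite Y] in
theorem quot_apply (e : Cfsg.Spor.He ≃* Y) {x : Cfsg.Spor.He} (hx : x ∈ L) :
    quot e ⟨x, hx⟩ = QuotientGroup.mk ⟨e x, ⟨x, hx, rfl⟩⟩ := by
  unfold quot
  rw [MulEquiv.trans_apply, MulEquiv.symm_apply_eq]
  rfl

theorem can_to_klein {t : ↥L} (h : Four.Can t) : Cfsg.Agent.UGT.Cov.Klein.Can t := h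

include hκ in
/-- **The record `HeT`.** -/
theorem heT : HeT κ where
  center := fun {Y _ _ z L'} hT hp => by
    obtain ⟨e, -, -⟩ := exists_pair_iso hκ hT hp
    rw [← Cov.map_center e, center_He, Subgroup.map_bot]
  core := fun {Y _ _ z L'} hT hp => by
    obtain ⟨e, -, rfl⟩ := exists_pair_iso hκ hT hp
    exact core_map e
  cent := fun {Y _ _ z L'} hT hp => by
    obtain ⟨e, -, rfl⟩ := exists_pair_iso hκ hT hp
    intro y hy
    obtain ⟨x, rfl⟩ := e.surjective y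
    refine ⟨x, TwoACent.V_le_L (TwoACent.mem_V.mpr fun l hl => ?_), rfl⟩
    apply e.injective
    rw [map_mul, map_mul]
    exact mem_centralizer_iff.mp hy (e l) ⟨l, hl, rfl⟩
  one := fun {Y _ _ z L' L''} hT hp hc => by
    obtain ⟨e, rfl, rfl⟩ := exists_pair_iso hκ hT hp
    have h1 := isComp_map e.symm hc
    rw [map_cent, e.symm_apply_apply] at h1
    have h2 := comp_a h1
    rw [← h2, Subgroup.map_map]
    have : e.toMonoidHom.comp e.symm.toMonoidHom = MonoidHom.id Y := by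
      ext x; exact e.apply_symm_apply x
    rw [this, Subgroup.map_id]
  can := fun {Y _ _ z L'} hT hp => by
    obtain ⟨e, rfl, rfl⟩ := exists_pair_iso hκ hT hp
    rintro t ⟨t0, ht0, rfl⟩ hcan
    have h1 : Four.Can (quot e ⟨t0, ht0⟩) := by rw [quot_apply]; exact hcan
    have h2 := can_to_klein ((Four.Can.map_iff (quot e)).mp h1)
    obtain ⟨g, hg1, hg2⟩ := RecL.of_can h2
    refine ⟨e g, ?_, ?_⟩
    · rw [← map_mul, ← map_inv, ← map_mul, hg1]; rfl
    · rw [mem_cj]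
      exact ⟨_, hg2, by
        show e (g⁻¹ * gn .a * g) = _
        rw [map_mul, map_mul, map_inv]⟩

include hκ in
/-- **(HE2)** -/
theorem conn (hT : κ.T Y z L') (hp : IsPair κ z L') (S : Set Y) (hz : z ∈ S)
    (h : ∀ s ∈ S, ∀ g, s * (g * z * g⁻¹) = g * z * g⁻¹ * s → g * z * g⁻¹ ∈ S) (g : Y) : g * z * g⁻¹ ∈ S := by
  obtain ⟨e, rfl, -⟩ := exists_pair_iso hκ hT hp
  obtain ⟨g, rfl⟩ := e.surjective g
  have key := RecGraph.conn (S := e ⁻¹' S) (x := gn .a) (IsConj.refl _) hz ?_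
    (y := g * gn .a * g⁻¹) (isConj_iff.mpr ⟨g, rfl⟩)
  · have h1 : e (g * gn .a * g⁻¹) ∈ S := key
    rwa [map_mul, map_mul, map_inv] at h1
  · intro t ht _ t' ht' htt
    obtain ⟨k, rfl⟩ := isConj_iff.mp ht'
    show e (k * gn .a * k⁻¹) ∈ S
    rw [map_mul, map_mul, map_inv]
    apply h _ ht
    rw [← map_inv, ← map_mul, ← map_mul, ← map_mul, ← map_mul]
    exact congrArg e htt

end records

end Cfsg.Agent.UGT.I34.HeRec
end

-- part: UGT/I34/FiveC/Local
section
/-!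
# THEOREM I34, part [C] (`Z = 2²`), (5.2): the local theory

`R` a 2-group, `z`, `e` central involutions; `A : Side R K₁ z e`, `B : Side R K₂ e z` (see `Loc.lean`);
`Uz A` = the elements of `A.S` over `Z(K₁)` (the vessel of `z`).

* `CanF K`: the two facts on canonical involutions used here;
* `fix_or`: if `A.ρ x = 1` then `B.ρ (x w) = 1` for some `w ∈ Uz A`.
-/

set_option autoImplicit false
set_option linter.unusedSectionVars false

open Cfsg Subgroup
open Cfsg.Agent.UGT.I34.KF Cfsg.Agent.UGT.I34.Loc Cfsg.Agent.UGT.I34.Four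
open scoped commutatorElement

namespace Cfsg.Agent.UGT.I34.FiveC

/-- The facts on canonical involutions of `K = 2².L₃(4)`. -/
structure CanF (K : Type*) [Group K] : Prop where
  /-- `C(t)` has class two -/
  class2 : ∀ {t : K}, NInv t → ∀ a ∈ centralizer ({t} : Set K), ∀ b ∈ centralizer ({t} : Set K),
    ⁅a, b⁆ ∈ DZ t
  /-- `Y` the canonical line of `Z(C(t))` -/
  line : ∀ {t : K}, Can t → ∀ Y : Subgroup K, Y ≤ DZ t → t ∈ Y → Nat.card Y = 4 →
    (∀ y ∈ Y, y ≠ 1 → Can y) → ∀ x ∈ centralizer ({t} : Set K),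
    (∀ p ∈ centralizer ({t} : Set K), ⁅x, p⁆ ∈ Y) → x ∈ DZ t

/-- the centre is a four-group -/
structure CenF (K : Type*) [Group K] : Prop where
  card : Nat.card (center K) = 4
  sq : ∀ c ∈ center K, c * c = 1

section DZ

variable {K : Type*} [Group K] {t : K}

theorem center_le_DZ : center K ≤ DZ t := by
  intro c hc
  refine ⟨mem_centralizer_singleton_iff.mpr (mem_center_iff.mp hc t).symm, ?_⟩
  exact mem_centralizer_iff.mpr fun h _ => mem_center_iff.mp hc h

theorem DZ_comm {d p : K} (hd : d ∈ DZ t) (hp : p ∈ centralizer ({t} : Set K)) : d * p = p * d :=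
  (mem_centralizer_iff.mp hd.2 p hp).symm

end DZ

section one

variable {R : Type*} [Group R] {K : Type*} [Group K] [Finite K] {z e : R} (A : Side R K z e)

/-- the elements of `S` over `Z(K)` -/
def Uz : Subgroup R := ((center K).comap A.j).map A.S.subtype

theorem mem_Uz {w : R} : w ∈ Uz A ↔ ∃ hw : w ∈ A.S, A.j ⟨w, hw⟩ ∈ center K := by
  constructor
  · rintro ⟨s, hs, rfl⟩
    exact ⟨s.2, hs⟩
  · rintro ⟨hw, h⟩
    exact ⟨⟨w, hw⟩, h, rfl⟩

theorem Uz_le : Uz A ≤ A.S := fun _ h => ((mem_Uz A).mp h).1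

theorem z_mem_Uz : z ∈ Uz A := (mem_Uz A).mpr ⟨A.zS, A.jz⟩

theorem ρ_Uz {w : R} (hw : w ∈ Uz A) : A.ρ w = 1 := by
  obtain ⟨h1, h2⟩ := (mem_Uz A).mp hw
  rw [A.ρ_S ⟨w, h1⟩]
  exact conj_eq_one_iff.mpr h2

theorem mem_Uz_of_ρ {w : R} (hw : w ∈ A.S) (h : A.ρ w = 1) : w ∈ Uz A := by
  refine (mem_Uz A).mpr ⟨hw, ?_⟩
  rw [A.ρ_S ⟨w, hw⟩] at h
  exact conj_eq_one_iff.mp h

theorem conj_Uz (r : R) {w : R} (hw : w ∈ Uz A) : r * w * r⁻¹ ∈ Uz A := by
  obtain ⟨h1, h2⟩ := (mem_Uz A).mp hw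
  refine (mem_Uz A).mpr ⟨A.normal.conj_mem w h1 r, ?_⟩
  have := A.ρ_j r ⟨w, h1⟩
  rw [← this]
  exact map_center _ h2

theorem card_Uz : Nat.card (Uz A) = Nat.card (center K) := by
  unfold Uz
  rw [card_map_of_injective A.S.subtype_injective]
  refine Nat.card_congr (Equiv.ofBijective (fun s : ↥((center K).comap A.j) => (⟨A.j s.1, s.2⟩ :
    ↥(center K))) ⟨?_, ?_⟩)
  · intro a b h
    exact Subtype.ext (A.inj (congrArg Subtype.val h))
  · rintro ⟨c, hc⟩
    obtain ⟨s, hs⟩ := A.surj c (mem_center_iff.mp hc _).symm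
    exact ⟨⟨s, by rw [mem_comap, hs]; exact hc⟩, Subtype.ext hs⟩

theorem j_mem_C (C : Cen R z e) (s : ↥A.S) : A.j s ∈ centralizer ({A.t} : Set K) :=
  mem_centralizer_singleton_iff.mpr (A.j_t C s.2)

/-- elements of `S` whose images commute commute -/
theorem comm_of_j {a b : R} (ha : a ∈ A.S) (hb : b ∈ A.S)
    (h : A.j ⟨a, ha⟩ * A.j ⟨b, hb⟩ = A.j ⟨b, hb⟩ * A.j ⟨a, ha⟩) : a * b = b * a := by
  have h1 : A.j (⟨a, ha⟩ * ⟨b, hb⟩) = A.j (⟨b, hb⟩ * ⟨a, ha⟩) := by rw [map_mul, map_mul, h]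
  exact congrArg Subtype.val (A.inj h1)

/-- `A.ρ x = 1`: `x` centralizes `S` -/
theorem comm_of_ρ {x s : R} (hx : A.ρ x = 1) (hs : s ∈ A.S) : x * s = s * x := by
  have h1 := A.ρ_j x ⟨s, hs⟩
  rw [hx] at h1
  have h2 : (⟨s, hs⟩ : ↥A.S) = ⟨x * s * x⁻¹, A.normal.conj_mem s hs x⟩ := A.inj h1
  have h3 : s = x * s * x⁻¹ := congrArg Subtype.val h2
  rw [eq_mul_inv_iff_mul_eq] at h3
  exact h3.symm

/-- `S ≃ C_K(t)` -/
theorem card_S (C : Cen R z e) :
    Nat.card A.S = Nat.card (centralizer ({A.t} : Set K)) := by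
  refine Nat.card_congr (Equiv.ofBijective (fun s : ↥A.S => (⟨A.j s, j_mem_C A C s⟩ :
    ↥(centralizer ({A.t} : Set K)))) ⟨?_, ?_⟩)
  · intro a b h
    exact A.inj (congrArg Subtype.val h)
  · rintro ⟨k, hk⟩
    obtain ⟨s, hs⟩ := A.surj k (mem_centralizer_singleton_iff.mp hk)
    exact ⟨s, Subtype.ext hs⟩

end one

section two

variable {R : Type*} [Group R] {K₁ K₂ : Type*} [Group K₁] [Group K₂] [Finite K₁] [Finite K₂]
  {z e : R} (A : Side R K₁ z e) (B : Side R K₂ e z)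

/-- the vessel of `z` lies in `B.S` and consists of canonical involutions -/
def Ves : Prop := ∀ w ∈ Uz A, ∃ hw : w ∈ B.S, w ≠ 1 → Can (B.j ⟨w, hw⟩)

variable {A B} (C : Cen R z e)

include C

theorem ρ_ne (h : Ves A B) {w : R} (hw : w ∈ Uz A) (hw1 : w ≠ 1) : B.ρ w ≠ 1 := by
  obtain ⟨hwS, hc⟩ := h w hw
  intro h1
  rw [B.ρ_S ⟨w, hwS⟩] at h1
  exact (hc hw1).1.2 (conj_eq_one_iff.mp h1)

theorem Uz_sq (Z₁ : CenF K₁) {w : R} (hw : w ∈ Uz A) : w * w = 1 := by
  obtain ⟨h1, h2⟩ := (mem_Uz A).mp hw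
  have h3 := Z₁.sq _ h2
  rw [← map_mul] at h3
  exact congrArg Subtype.val (A.inj (h3.trans (map_one A.j).symm))

/-- the vessel of `z` is central in `B.S` -/
theorem mem_DZ (Z₁ : CenF K₁) (F₂ : TFacts K₂) (h : Ves A B) {w : R} (hw : w ∈ Uz A)
    (hwB : w ∈ B.S) : B.j ⟨w, hwB⟩ ∈ DZ B.t := by
  obtain ⟨V, hV⟩ : ∃ V : Subgroup (MulAut K₂), V = (Uz A).map B.ρ := ⟨_, rfl⟩
  have hinj : Set.InjOn B.ρ (Uz A : Set R) := by
    intro a ha b hb hab
    by_contra hne
    refine ρ_ne C h (mul_mem ha (inv_mem hb)) (fun h1 => hne (mul_inv_eq_one.mp h1)) ?_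
    rw [map_mul, map_inv, hab, mul_inv_cancel]
  have hcard : Nat.card V = 4 := by
    rw [hV, ← Z₁.card, ← card_Uz A]
    refine (Nat.card_congr (Equiv.ofBijective (fun w : ↥(Uz A) => (⟨B.ρ w, ⟨w, w.2, rfl⟩⟩ :
      ↥((Uz A).map B.ρ))) ⟨?_, ?_⟩)).symm
    · intro a b hab
      exact Subtype.ext (hinj a.2 b.2 (congrArg Subtype.val hab))
    · rintro ⟨_, w, hw, rfl⟩
      exact ⟨⟨w, hw⟩, rfl⟩
  have key := F₂.four B.je V hcard (by
    rw [hV]
    rintro _ ⟨w, hw, rfl⟩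
    rw [← map_mul, Uz_sq C Z₁ hw, map_one]) (by
    rw [hV]
    refine ⟨z, z_mem_Uz A, ?_⟩
    exact B.ρ_S ⟨z, B.eS⟩) (by
    rw [hV]
    rintro x hx _ ⟨w, hw, rfl⟩
    obtain ⟨s, rfl⟩ := B.surj x (mem_centralizer_singleton_iff.mp hx)
    refine ⟨s * w * (s : R)⁻¹, conj_Uz A s hw, ?_⟩
    rw [map_mul, map_mul, map_inv, B.ρ_S s])
  obtain ⟨d, hd, hd1⟩ := (key (B.ρ w)).mp (by rw [hV]; exact ⟨w, hw, rfl⟩)
  rw [B.ρ_S ⟨w, hwB⟩] at hd1
  obtain ⟨c, hc, hc1⟩ := conj_eq_iff.mp hd1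
  rw [hc1]
  exact mul_mem hd (center_le_DZ hc)

/-- `Z(C(t)) = Z(K) × (image of the vessel of z)` -/
theorem exists_of_DZ (Z₁ : CenF K₁) (Z₂ : CenF K₂) (F₂ : TFacts K₂) (h : Ves A B) {d : K₂}
    (hd : d ∈ DZ B.t) : ∃ w ∈ Uz A, ∃ hw : w ∈ B.S, ∃ c ∈ center K₂, d = B.j ⟨w, hw⟩ * c := by
  classical
  let f : ↥(Uz A) × ↥(center K₂) → ↥(DZ B.t) := fun p =>
    ⟨B.j ⟨p.1, (h p.1 p.1.2).1⟩ * p.2, mul_mem (mem_DZ C Z₁ F₂ h p.1.2 _) (center_le_DZ p.2.2)⟩
  have hf : Function.Injective f := by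
    rintro ⟨⟨a, ha⟩, ⟨c, hc⟩⟩ ⟨⟨b, hb⟩, ⟨d, hd⟩⟩ hab
    have h1 : B.j ⟨a, (h a ha).1⟩ * c = B.j ⟨b, (h b hb).1⟩ * d := congrArg Subtype.val hab
    have h2 : B.j (⟨b, (h b hb).1⟩⁻¹ * ⟨a, (h a ha).1⟩) = d * c⁻¹ := by
      rw [map_mul, map_inv, inv_mul_eq_iff_eq_mul, ← mul_assoc, ← h1, mul_inv_cancel_right]
    have h3 : b⁻¹ * a = 1 := by
      by_contra hne
      refine ρ_ne C h (mul_mem (inv_mem hb) ha) hne ?_
      have h4 := B.ρ_S (⟨b, (h b hb).1⟩⁻¹ * ⟨a, (h a ha).1⟩)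
      have h5 : B.ρ (b⁻¹ * a) = MulAut.conj (d * c⁻¹) := by rw [← h2]; exact h4
      rw [h5]
      exact conj_eq_one_iff.mpr (mul_mem hd (inv_mem hc))
    have h4 : a = b := (inv_mul_eq_one.mp h3).symm
    subst h4
    have h5 : c = d := mul_left_cancel h1
    subst h5
    rfl
  have hcard : Nat.card (↥(Uz A) × ↥(center K₂)) = Nat.card ↥(DZ B.t) := by
    rw [Nat.card_prod, card_Uz A, Z₁.card, Z₂.card, F₂.card_DZ B.ht]
  have hs : Function.Surjective f := by
    have : Finite ↥(Uz A) := Nat.finite_of_card_ne_zero (by rw [card_Uz A, Z₁.card]; norm_num)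
    exact ((Nat.bijective_iff_injective_and_card f).mpr ⟨hf, hcard⟩).2
  obtain ⟨⟨⟨w, hw⟩, ⟨c, hc⟩⟩, hp⟩ := hs ⟨d, hd⟩
  exact ⟨w, hw, (h w hw).1, c, hc, (congrArg Subtype.val hp).symm⟩

/-- `A.S` acts on `K₂` as inner automorphisms by elements of `C(t)` -/
theorem exists_conj (Z₁ : CenF K₁) (Z₂ : CenF K₂) (F₂ : TFacts K₂) (h : Ves A B) {r : R} (hrV : ∀ v ∈ Uz B, r * v = v * r) (hrU : ∀ w ∈ Uz A, r * w = w * r) :
    ∃ s : ↥B.S, B.ρ r = MulAut.conj (B.j s) := by
  have hfix : ∀ (w : R) (hw : w ∈ B.S), r * w = w * r → B.ρ r (B.j ⟨w, hw⟩) = B.j ⟨w, hw⟩ := by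
    intro w hw hrw
    rw [B.ρ_j]
    congr 1
    apply Subtype.ext
    change r * w * r⁻¹ = w
    rw [hrw, mul_inv_cancel_right]
  obtain ⟨n, hn⟩ := C.two r
  obtain ⟨p, hp, hp1⟩ := F₂.inn B.je (B.ρ r) ⟨n, by rw [← map_pow, hn, map_one]⟩ (by
    intro c hc
    obtain ⟨s, rfl⟩ := B.surj c (mem_center_iff.mp hc _).symm
    exact hfix s s.2 (hrV s ((mem_Uz B).mpr ⟨s.2, hc⟩))) (by
    intro d hd
    obtain ⟨w, hw, hwB, c, hc, rfl⟩ := exists_of_DZ C Z₁ Z₂ F₂ h hd
    obtain ⟨s, rfl⟩ := B.surj c (mem_center_iff.mp hc _).symm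
    refine ⟨1, one_mem _, ?_⟩
    rw [mul_one, map_mul, hfix w hwB (hrU w hw), hfix s s.2 (hrV s ((mem_Uz B).mpr ⟨s.2, hc⟩))])
  obtain ⟨s, rfl⟩ := B.surj p (mem_centralizer_singleton_iff.mp hp)
  exact ⟨s, hp1⟩

/-- the vessels are central in `A.S` -/
theorem comm_V (Z₂ : CenF K₂) (F₁ : TFacts K₁) (h' : Ves B A) {s v : R} (hs : s ∈ A.S)
    (hv : v ∈ Uz B) : s * v = v * s := by
  obtain ⟨hvA, -⟩ := h' v hv
  refine comm_of_j A hs hvA ?_
  exact (DZ_comm (mem_DZ C.symm Z₂ F₁ h' hv hvA) (j_mem_C A C ⟨s, hs⟩)).symm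

theorem comm_U {s w : R} (hs : s ∈ A.S) (hw : w ∈ Uz A) : s * w = w * s :=
  (comm_of_ρ A (ρ_Uz A hw) hs).symm

/-- an element of `A.S` over `Z(C(t))` which is trivial on `K₂` is in the vessel of `e` -/
theorem mem_of_DZ (Z₁ : CenF K₁) (Z₂ : CenF K₂) (F₁ : TFacts K₁) (h : Ves A B) (h' : Ves B A) {n : R}
    (hn : n ∈ A.S) (hd : A.j ⟨n, hn⟩ ∈ DZ A.t) (h1 : B.ρ n = 1) : n ∈ Uz B := by
  obtain ⟨v, hv, hvA, c, hc, he⟩ := exists_of_DZ C.symm Z₂ Z₁ F₁ h' hd
  have h2 : A.j (⟨v, hvA⟩⁻¹ * ⟨n, hn⟩) = c := by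
    rw [map_mul, map_inv, inv_mul_eq_iff_eq_mul]; exact he
  have h3 : v⁻¹ * n ∈ Uz A := (mem_Uz A).mpr ⟨mul_mem (inv_mem hvA) hn, by
    have : (⟨v⁻¹ * n, mul_mem (inv_mem hvA) hn⟩ : ↥A.S) = ⟨v, hvA⟩⁻¹ * ⟨n, hn⟩ := rfl
    rw [this, h2]; exact hc⟩
  have h4 : v⁻¹ * n = 1 := by
    by_contra hne
    refine ρ_ne C h h3 hne ?_
    rw [map_mul, map_inv, ρ_Uz B hv, h1, inv_one, one_mul]
  rw [← inv_mul_eq_one.mp h4]
  exact hv

/-- **the kernel of `A.S` on `K₂` is the vessel of `e`** -/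
theorem mem_of_ker (Z₁ : CenF K₁) (Z₂ : CenF K₂) (F₁ : TFacts K₁) (G₁ : CanF K₁) (h : Ves A B)
    (h' : Ves B A) {n : R} (hn : n ∈ A.S) (h1 : B.ρ n = 1) : n ∈ Uz B := by
  have hUA : ∀ v ∈ Uz B, v ∈ A.S := fun v hv => (h' v hv).1
  obtain ⟨Y, hY⟩ : ∃ Y : Subgroup K₁, Y = ((Uz B).subgroupOf A.S).map A.j := ⟨_, rfl⟩
  have hmY : ∀ v (hv : v ∈ Uz B), A.j ⟨v, hUA v hv⟩ ∈ Y := fun v hv => by
    rw [hY]; exact ⟨⟨v, hUA v hv⟩, hv, rfl⟩
  have hcan : Can A.t := (h' e (z_mem_Uz B)).2 C.e1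
  refine mem_of_DZ C Z₁ Z₂ F₁ h h' hn ?_ h1
  refine G₁.line hcan Y ?_ (hmY e (z_mem_Uz B)) ?_ ?_ _ (j_mem_C A C ⟨n, hn⟩) ?_
  · rw [hY]
    rintro _ ⟨⟨v, hvA⟩, hv, rfl⟩
    exact mem_DZ C.symm Z₂ F₁ h' hv hvA
  · rw [hY, card_map_of_injective A.inj, Nat.card_congr (subgroupOfEquivOfLe hUA).toEquiv, card_Uz B,
      Z₂.card]
  · rw [hY]
    rintro _ ⟨⟨v, hvA⟩, hv, rfl⟩ hne
    refine (h' v hv).2 ?_
    rintro rfl
    exact hne (map_one A.j)
  · intro p hp
    obtain ⟨s, rfl⟩ := A.surj p (mem_centralizer_singleton_iff.mp hp)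
    have h2 : ⁅A.j ⟨n, hn⟩, A.j s⁆ = A.j ⁅(⟨n, hn⟩ : ↥A.S), s⁆ := (map_commutatorElement _ _ _).symm
    have h3 : B.ρ (⁅(⟨n, hn⟩ : ↥A.S), s⁆ : ↥A.S) = 1 := by
      change B.ρ (n * (s : R) * n⁻¹ * (s : R)⁻¹) = 1
      rw [map_mul, map_mul, map_mul, map_inv, map_inv, h1]
      group
    have h4 : ((⁅(⟨n, hn⟩ : ↥A.S), s⁆ : ↥A.S) : R) ∈ Uz B := by
      refine mem_of_DZ C Z₁ Z₂ F₁ h h' (⁅(⟨n, hn⟩ : ↥A.S), s⁆ : ↥A.S).2 ?_ h3
      change A.j ⁅(⟨n, hn⟩ : ↥A.S), s⁆ ∈ _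
      rw [← h2]
      exact G₁.class2 A.ht _ (j_mem_C A C _) _ (j_mem_C A C _)
    rw [h2]
    exact hmY _ h4

/-- **`A.S` induces on `K₂` the same group as `B.S`** -/
theorem exists_same (Z₁ : CenF K₁) (Z₂ : CenF K₂) (F₁ : TFacts K₁) (F₂ : TFacts K₂) (G₁ : CanF K₁)
    (h : Ves A B) (h' : Ves B A) (s : ↥B.S) : ∃ r ∈ A.S, B.ρ r = B.ρ s := by
  let fA : ↥A.S →* MulAut K₂ := B.ρ.comp A.S.subtype
  let fB : ↥B.S →* MulAut K₂ := B.ρ.comp B.S.subtype
  have hUA : ∀ v ∈ Uz B, v ∈ A.S := fun v hv => (h' v hv).1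
  have hkA : fA.ker = (Uz B).subgroupOf A.S := by
    ext ⟨n, hn⟩
    exact ⟨fun h1 => mem_of_ker C Z₁ Z₂ F₁ G₁ h h' hn h1, fun h1 => ρ_Uz B h1⟩
  have hkB : fB.ker = (Uz B).subgroupOf B.S := by
    ext ⟨n, hn⟩
    exact ⟨fun h1 => mem_Uz_of_ρ B hn h1, fun h1 => ρ_Uz B h1⟩
  have cA : Nat.card fA.range * 4 = 256 := by
    have h1 := fA.ker.card_mul_index
    rw [index_ker, hkA, Nat.card_congr (subgroupOfEquivOfLe hUA).toEquiv, card_Uz B, Z₂.card,
      card_S A C, F₁.card A.ht] at h1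
    rw [mul_comm]; exact h1
  have cB : Nat.card fB.range * 4 = 256 := by
    have h1 := fB.ker.card_mul_index
    rw [index_ker, hkB, Nat.card_congr (subgroupOfEquivOfLe (Uz_le B)).toEquiv, card_Uz B, Z₂.card,
      card_S B C.symm, F₂.card B.ht] at h1
    rw [mul_comm]; exact h1
  have hle : fA.range ≤ fB.range := by
    rintro _ ⟨⟨r, hr⟩, rfl⟩
    obtain ⟨s', hs'⟩ := exists_conj C Z₁ Z₂ F₂ h (fun v hv => comm_V C Z₂ F₁ h' hr hv)
      (fun w hw => comm_U C hr hw)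
    refine ⟨s', ?_⟩
    change B.ρ s' = B.ρ r
    rw [hs', B.ρ_S]
  have heq : fA.range = fB.range := by
    have : Finite ↥fB.range := Nat.finite_of_card_ne_zero (by omega)
    exact Subgroup.eq_of_le_of_card_ge hle (by omega)
  have h1 : fB s ∈ fA.range := by rw [heq]; exact ⟨s, rfl⟩
  obtain ⟨⟨r, hr⟩, h2⟩ := h1
  exact ⟨r, hr, h2⟩

/-- **(5.2)** -/
theorem fix_or (Z₁ : CenF K₁) (Z₂ : CenF K₂) (F₁ : TFacts K₁) (F₂ : TFacts K₂) (G₁ : CanF K₁)
    (h : Ves A B) (h' : Ves B A) {x : R} (hx : A.ρ x = 1) : ∃ w ∈ Uz A, B.ρ (x * w) = 1 := by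
  have hxA : ∀ s ∈ A.S, x * s = s * x := fun s hs => comm_of_ρ A hx hs
  obtain ⟨s, hs⟩ := exists_conj C Z₁ Z₂ F₂ h (r := x) (fun v hv => hxA v (h' v hv).1)
    (fun w hw => hxA w (Uz_le A hw))
  -- `B.j s` is central in `C(t)` modulo the centre
  have h1 : ∀ p ∈ centralizer ({B.t} : Set K₂), ⁅p, B.j s⁆ ∈ center K₂ := by
    intro p hp
    obtain ⟨b, rfl⟩ := B.surj p (mem_centralizer_singleton_iff.mp hp)
    obtain ⟨r, hr, hrb⟩ := exists_same C Z₁ Z₂ F₁ F₂ G₁ h h' b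
    have h2 : B.ρ x * B.ρ r = B.ρ r * B.ρ x := by rw [← map_mul, ← map_mul, hxA r hr]
    rw [hs, hrb, B.ρ_S b] at h2
    rw [← Loc.conj_eq_one_iff, commutatorElement_def, map_mul, map_mul, map_mul, map_inv, map_inv, ← h2,
      mul_inv_cancel_right, mul_inv_cancel]
  have h2 : B.j s ∈ DZ B.t := by
    by_contra hne
    have h3 := F₂.cE B.ht _ (j_mem_C B C.symm s) hne (centralizer ({B.t} : Set K₂)) le_rfl h1
    rw [F₂.card B.ht] at h3
    omega
  obtain ⟨w, hw, hwB, c, hc, he⟩ := exists_of_DZ C Z₁ Z₂ F₂ h h2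
  refine ⟨w, hw, ?_⟩
  have hww := Uz_sq C Z₁ hw
  rw [map_mul, hs, he, map_mul, conj_eq_one_iff.mpr hc, mul_one, B.ρ_S ⟨w, hwB⟩, ← map_mul, ← map_mul]
  have : (⟨w, hwB⟩ : ↥B.S) * ⟨w, hwB⟩ = 1 := Subtype.ext hww
  rw [this, map_one, map_one]

end two

end Cfsg.Agent.UGT.I34.FiveC
end

-- part: UGT/I34/FiveC/Cfg
section
/-!
# THEOREM I34, part [C] (`Z = 2²`), (5.2): type I pairs and the local configuration

* `TI κ u t X Y`: `(u, X)`, `(t, Y)` form a type I pair, with everything that follows from `World.ti`;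
* `sideC`: the side `X` of the configuration;
* `fixes_or`: **(5.2)**: `x` a 2-element commuting with `u`, `t` and fixing `X`: `x w` fixes `Y` for some `w` in the
  vessel of `X`.
-/

set_option autoImplicit false

open Cfsg Subgroup
open Cfsg.Agent.SignalizersComponents Cfsg.Agent.Lib
open Cfsg.Agent.SignalizersComponents.IntrinsicBasic
open Cfsg.Agent.SignalizersComponents.PLayerAut
open Cfsg.Agent.Intrinsic
open Cfsg.Agent.Intrinsic.Basic hiding IsPair PQS Target IsPair.sq IsPair.ne_one IsPair.cj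
open Cfsg.Agent.Intrinsic.Cen hiding pair_comm pair_mem_cen exists_pump pump_unique
open Cfsg.Agent.Intrinsic.Quot hiding Big isPair_quot small_or_big
open Cfsg.Agent.McLLyComp.Act hiding mk_eq_one_iff
open Cfsg.Agent.UGT.I34.Pair Cfsg.Agent.UGT.I34.KAut
open Cfsg.Agent.UGT.I34.KF (NInv) 
open Cfsg.Agent.UGT.I34.Loc (Side Cen)
open Cfsg.Agent.UGT.I34.Four
open scoped commutatorElement

namespace Cfsg.Agent.UGT.I34.FiveC

universe v

section syl

theorem relIndex_dvd {H : Type*} [Group H] [Finite H] (P X : Subgroup H) [X.Normal] :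
    P.relIndex X ∣ P.index := by
  have h1 : X.relIndex P * P.index = (X ⊓ P).index := by
    rw [← inf_relIndex_right, relIndex_mul_index inf_le_right]
  have h2 : P.relIndex X * X.index = (X ⊓ P).index := by
    rw [← inf_relIndex_right, inf_comm, relIndex_mul_index inf_le_left]
  have h3 : X.relIndex P * (P ⊔ X).index = X.index := by
    rw [← relIndex_sup_right P X, relIndex_mul_index le_sup_right]
  have h4 : X.relIndex P ≠ 0 := (FiniteIndex.index_ne_zero : (X.subgroupOf P).index ≠ 0)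
  refine ⟨(P ⊔ X).index, Nat.eq_of_mul_eq_mul_left (Nat.pos_of_ne_zero h4) ?_⟩
  rw [h1, ← h2, ← h3]
  ring

/-- a normal section which is a 2-group is covered by a Sylow 2-subgroup -/
theorem exists_in_sylow {G : Type*} [Group G] [Finite G] {R H X : Subgroup G} (_hRH : R ≤ H)
    (hodd : ¬ 2 ∣ R.relIndex H) (hXH : X ≤ H) (hn : ∀ h ∈ H, ∀ x ∈ X, h * x * h⁻¹ ∈ X)
    {Q : Type*} [Group Q] (f : ↥X →* Q) (hf : Function.Surjective f) (hQ : IsPGroup 2 Q) (q : Q) :
    ∃ (x : G) (hx : x ∈ X), x ∈ R ∧ f ⟨x, hx⟩ = q := by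
  have h2 : Fact (Nat.Prime 2) := ⟨Nat.prime_two⟩
  have hnorm : (X.subgroupOf H).Normal := ⟨fun x hx g => hn g g.2 x hx⟩
  have h3 : R.relIndex X ∣ R.relIndex H := by
    have := relIndex_dvd (R.subgroupOf H) (X.subgroupOf H)
    rwa [relIndex_subgroupOf hXH] at this
  have h4 : ((R.subgroupOf X).map f).index ∣ R.relIndex H :=
    (Subgroup.index_map_dvd _ hf).trans h3
  have hfin : Finite Q := Finite.of_surjective f hf
  obtain ⟨k, hk⟩ := hQ.index ((R.subgroupOf X).map f)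
  have h5 : (R.subgroupOf X).map f = ⊤ := by
    rw [← Subgroup.index_eq_one]
    rcases Nat.eq_zero_or_pos k with h6 | h6
    · rw [hk, h6, pow_zero]
    · exact absurd ((dvd_pow_self 2 h6.ne').trans (hk ▸ h4)) hodd
  have h6 : q ∈ (R.subgroupOf X).map f := by rw [h5]; trivial
  obtain ⟨⟨x, hx⟩, hxR, hxq⟩ := h6
  exact ⟨x, hx, hxR, hxq⟩

end syl

variable {G : Type v} [Group G] {κ : Kind.{v}} {u t x w : G} {X Y : Subgroup G}

/-- a type I pair -/
structure TI (κ : Kind.{v}) (u t : G) (X Y : Subgroup G) : Prop where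
  pu : IsPair κ u X
  pt : IsPair κ t Y
  comm : u * t = t * u
  tX : t ∈ X
  uY : u ∈ Y
  ct : Can (QuotientGroup.mk ⟨t, tX⟩ : ↥X ⧸ oddCore ↥X)
  cu : Can (QuotientGroup.mk ⟨u, uY⟩ : ↥Y ⧸ oddCore ↥Y)
  uX : ∀ X', IsPair κ u X' → X' = X
  tY : ∀ Y', IsPair κ t Y' → Y' = Y

/-- the K-facts used for (5.2)-(5.5) -/
structure KI5 (κ : Kind.{v}) : Prop where
  tf : ∀ {K : Type v} [Group K] [Finite K], κ.P K → TFacts K
  cf : ∀ {K : Type v} [Group K] [Finite K], κ.P K → CanF K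

namespace TI

theorem symm (h : TI κ u t X Y) : TI κ t u Y X :=
  ⟨h.pt, h.pu, h.comm.symm, h.uY, h.tX, h.cu, h.ct, h.tY, h.uX⟩

theorem tu (h : TI κ u t X Y) : t ≠ u := by
  rintro rfl
  exact h.ct.1.2 (pair_mk_center h.pu)

theorem norm (h : TI κ u t X Y) {a : G} (ha : a * u = u * a) : a ∈ normalizer (X : Set G) := by
  rw [mem_normalizer_iff_cj]
  apply h.uX
  have := h.pu.cj a
  rwa [ha, mul_inv_cancel_right] at this

theorem not_fixes (h : TI κ u t X Y) : ¬ Fixes t X := fun hf =>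
  h.ct.1.2 ((mk_mem_center_iff h.tX).mpr hf)

end TI

variable [Finite G]

/-- the result on type I pairs -/
theorem ti (W : World κ G) (hu : IsPair κ u X) (ht : IsPair κ t Y) (hc : u * t = t * u)
    (hi : IsInn t X) (hf : ¬ Fixes t X) : TI κ u t X Y := by
  obtain ⟨⟨h1, h2⟩, h3, h4⟩ := W.ti u t X Y hu ht hc hi hf
  have hf' : ¬ Fixes u Y := fun h => hf (typeZero_symm' ht hu hc.symm h)
  obtain ⟨⟨k1, k2⟩, -, k4⟩ := W.ti t u Y X ht hu hc.symm h3 hf'
  exact ⟨hu, ht, hc, h1, k1, h2, k2, h4, k4⟩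

theorem TI.of_mem (W : World κ G) (hu : IsPair κ u X) (ht : IsPair κ t Y) (htX : t ∈ X)
    (hf : ¬ Fixes t X) : TI κ u t X Y :=
  ti W hu ht (pair_comm hu htX).symm (isInn_of_mem htX) hf

/-- the elements of the vessel -/
theorem TI.ves (W : World κ G) (h : TI κ u t X Y) (hw : w ∈ X) (hww : w * w = 1) (hw1 : w ≠ 1)
    (hf : Fixes w X) (hwt : w * t = t * w) : ∃ M, TI κ w t M Y ∧ u ∈ M ∧ cen X w ≤ M ∧
      cen X w ⊔ core M = M ∧ cen X w ⊔ core X = X ∧
      ∀ a : G, a * w = w * a → a ∈ normalizer (X : Set G) → (Fixes a M ↔ Fixes a X) := by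
  obtain ⟨M, h1, h2, h3, h4, h5, h6⟩ := W.sett.vess h.pu hw hww hw1 hf
  have htM : t ∈ M := h3 (mem_cen_of_sq h.tX hwt.symm h.pt.sq)
  have hnf : ¬ Fixes t M := fun hf' => h.not_fixes ((h6 t hwt.symm (le_normalizer h.tX)).mp hf')
  exact ⟨M, ti W h1 h.pt hwt (isInn_of_mem htM) hnf, h2, h3, h4, h5, h6⟩

theorem cenF (W : World κ G) (hu : IsPair κ u X) : CenF (↥X ⧸ oddCore ↥X) :=
  ⟨W.sett.kl.card hu.kind, W.sett.kl.sq hu.kind⟩

/-! ### the configuration -/

/-- `R` a 2-subgroup of `C(u, t)` of odd index -/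
structure CfgC (u t : G) (R : Subgroup G) : Prop where
  two : IsPGroup 2 R
  le : R ≤ centralizer ({u} : Set G) ⊓ centralizer ({t} : Set G)
  odd : ¬ 2 ∣ R.relIndex (centralizer ({u} : Set G) ⊓ centralizer ({t} : Set G))

namespace CfgC

variable {R : Subgroup G}

omit [Finite G] in
theorem symm (c : CfgC u t R) : CfgC t u R where
  two := c.two
  le := by rw [inf_comm]; exact c.le
  odd := by rw [inf_comm]; exact c.odd

omit [Finite G] in
theorem comm_u (c : CfgC u t R) {r : G} (hr : r ∈ R) : r * u = u * r :=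
  mem_centralizer_singleton_iff.mp (c.le hr).1

omit [Finite G] in
theorem comm_t (c : CfgC u t R) {r : G} (hr : r ∈ R) : r * t = t * r :=
  mem_centralizer_singleton_iff.mp (c.le hr).2

/-- central involutions of `C(u, t)` are in `R` -/
theorem mem_of_central (c : CfgC u t R) {y : G}
    (hy : y ∈ centralizer ({u} : Set G) ⊓ centralizer ({t} : Set G))
    (hc : ∀ g ∈ centralizer ({u} : Set G) ⊓ centralizer ({t} : Set G), g * y = y * g) (hyy : y * y = 1) :
    y ∈ R := by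
  have h2 : Fact (Nat.Prime 2) := ⟨Nat.prime_two⟩
  have hp : IsPGroup 2 ↥(zpowers y) := by
    rintro ⟨_, k, rfl⟩
    refine ⟨1, ?_⟩
    apply Subtype.ext
    change (y ^ k) ^ 2 ^ 1 = 1
    rw [pow_one, ← zpow_natCast, ← zpow_mul, mul_comm, zpow_mul, zpow_natCast, pow_two, hyy, one_zpow]
  obtain ⟨x, hx, hxR, hxy⟩ := FiveC.exists_in_sylow (X := zpowers y) (Q := ↥(zpowers y)) c.le c.odd
    (zpowers_le.mpr hy) (by
      intro g hg x hx
      obtain ⟨k, rfl⟩ := mem_zpowers_iff.mp hx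
      have h3 : Commute g y := hc g hg
      rw [(h3.zpow_right k).eq, mul_inv_cancel_right]
      exact hx) (MonoidHom.id _) Function.surjective_id hp ⟨y, mem_zpowers y⟩
  have h3 : x = y := congrArg Subtype.val hxy
  rwa [← h3]

theorem uR (c : CfgC u t R) (h : TI κ u t X Y) : u ∈ R :=
  c.mem_of_central ⟨mem_centralizer_singleton_iff.mpr rfl, mem_centralizer_singleton_iff.mpr h.comm⟩
    (fun _ hg => mem_centralizer_singleton_iff.mp hg.1) h.pu.sq

theorem tR (c : CfgC u t R) (h : TI κ u t X Y) : t ∈ R := c.symm.uR h.symm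

theorem cen (c : CfgC u t R) (h : TI κ u t X Y) : Cen ↥R ⟨u, c.uR h⟩ ⟨t, c.tR h⟩ where
  two := c.two
  cz r := Subtype.ext (c.comm_u r.2)
  ce r := Subtype.ext (c.comm_t r.2)
  zz := Subtype.ext h.pu.sq
  ee := Subtype.ext h.pt.sq
  z1 := fun h' => h.pu.ne_one (congrArg Subtype.val h')
  e1 := fun h' => h.pt.ne_one (congrArg Subtype.val h')
  ze := fun h' => h.tu.symm (congrArg Subtype.val h')

/-- the side `X` of the configuration -/
noncomputable def side (c : CfgC u t R) (h : TI κ u t X Y) (F : KI5 κ) :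
    Side ↥R (↥X ⧸ oddCore ↥X) ⟨u, c.uR h⟩ ⟨t, c.tR h⟩ where
  S := X.subgroupOf R
  normal := ⟨fun s hs r => (mem_normalizer_iff.mp (h.norm (c.comm_u r.2)) s).mp hs⟩
  zS := h.pu.mem
  eS := h.tX
  j := { toFun := fun s => QuotientGroup.mk ⟨((s : ↥R) : G), s.2⟩
         map_one' := rfl
         map_mul' := fun _ _ => rfl }
  inj := by
    rw [injective_iff_map_eq_one]
    rintro ⟨⟨s, hsR⟩, hs⟩ hs1
    have h1 : s ∈ core X := (mk_eq_one_iff (M := X) (x := s) hs).mp hs1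
    obtain ⟨n, hn⟩ := c.two ⟨s, hsR⟩
    have h2 : s = 1 := eq_one_of_mem_core h1 (congrArg Subtype.val hn)
    apply Subtype.ext
    exact Subtype.ext h2
  jz := pair_mk_center h.pu
  je := h.ct.1
  surj := by
    intro k hk
    have h2 : Fact (Nat.Prime 2) := ⟨Nat.prime_two⟩
    have hk' : k ∈ centralizer ({(QuotientGroup.mk ⟨t, h.tX⟩ : ↥X ⧸ oddCore ↥X)} :
        Set (↥X ⧸ oddCore ↥X)) := mem_centralizer_singleton_iff.mpr hk
    have hQ : IsPGroup 2 ↥(centralizer ({(QuotientGroup.mk ⟨t, h.tX⟩ : ↥X ⧸ oddCore ↥X)} :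
        Set (↥X ⧸ oddCore ↥X))) :=
      IsPGroup.of_card (n := 8) (by rw [(F.tf h.pu.kind).card h.ct.1]; norm_num)
    let f : ↥(X ⊓ centralizer ({t} : Set G)) →*
        ↥(centralizer ({(QuotientGroup.mk ⟨t, h.tX⟩ : ↥X ⧸ oddCore ↥X)} : Set (↥X ⧸ oddCore ↥X))) :=
      { toFun := fun x => ⟨QuotientGroup.mk ⟨x, x.2.1⟩, mem_centralizer_singleton_iff.mpr
          (congrArg QuotientGroup.mk (Subtype.ext (mem_centralizer_singleton_iff.mp x.2.2) :
            (⟨(x : G) * t, X.mul_mem x.2.1 h.tX⟩ : ↥X) = ⟨t * x, X.mul_mem h.tX x.2.1⟩))⟩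
        map_one' := rfl
        map_mul' := fun _ _ => rfl }
    have hf : Function.Surjective f := by
      rintro ⟨y, hy⟩
      obtain ⟨⟨m, hm⟩, rfl⟩ := QuotientGroup.mk_surjective y
      have h3 := (mk_comm_iff hm h.tX).mp (mem_centralizer_singleton_iff.mp hy)
      obtain ⟨o, ho, h4⟩ := Lifting.exists_commute (odd_card_core X) (n := 1)
        (by rw [pow_one, pow_two, h.pt.sq]) (le_normalizer_core _ h.tX) h3
      have hmo : m * o ∈ X := X.mul_mem hm (core_le _ ho)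
      refine ⟨⟨m * o, hmo, mem_centralizer_singleton_iff.mpr h4.symm⟩, Subtype.ext ?_⟩
      change (QuotientGroup.mk ⟨m * o, hmo⟩ : ↥X ⧸ oddCore ↥X) = QuotientGroup.mk ⟨m, hm⟩
      rw [mk_eq_iff]
      have : (m * o)⁻¹ * m = o⁻¹ := by group
      rw [this]
      exact inv_mem ho
    obtain ⟨x, hx, hxR, hxk⟩ := FiveC.exists_in_sylow (X := X ⊓ centralizer ({t} : Set G)) c.le c.odd
      (inf_le_inf_right _ fun x hx => mem_centralizer_singleton_iff.mpr (pair_comm h.pu hx)) (by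
        intro g hg x hx
        have h3 := h.norm (mem_centralizer_singleton_iff.mp hg.1)
        exact ⟨(mem_normalizer_iff.mp h3 x).mp hx.1, (centralizer ({t} : Set G)).mul_mem
          ((centralizer ({t} : Set G)).mul_mem hg.2 hx.2) ((centralizer ({t} : Set G)).inv_mem hg.2)⟩)
      f hf hQ ⟨k, hk'⟩
    exact ⟨⟨⟨x, hxR⟩, hx.1⟩, congrArg Subtype.val hxk⟩
  ρ := (act X).comp (inclusion (fun r hr => h.norm (c.comm_u hr)))
  ρ_j r s := rfl
  ρ_S s := by
    apply MulEquiv.ext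
    intro x
    obtain ⟨⟨y, hy⟩, rfl⟩ := QuotientGroup.mk_surjective x
    rfl

theorem side_ρ_eq_one_iff (c : CfgC u t R) (h : TI κ u t X Y) (F : KI5 κ) {r : G} (hr : r ∈ R) :
    (c.side h F).ρ ⟨r, hr⟩ = 1 ↔ Fixes r X := by
  change act X ⟨r, h.norm (c.comm_u hr)⟩ = 1 ↔ _
  rw [act_eq_one_iff]

/-- the vessel of `u` in `R` -/
theorem mem_Uz (c : CfgC u t R) (h : TI κ u t X Y) (F : KI5 κ) {w : ↥R} :
    w ∈ Uz (c.side h F) ↔ (w : G) ∈ X ∧ Fixes (w : G) X := by
  rw [FiveC.mem_Uz]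
  constructor
  · rintro ⟨h1, h2⟩
    have h1' : (w : G) ∈ X := h1
    exact ⟨h1', (mk_mem_center_iff h1').mp h2⟩
  · rintro ⟨h1, h2⟩
    exact ⟨h1, (mk_mem_center_iff h1).mpr h2⟩

theorem ves (W : World κ G) (c : CfgC u t R) (h : TI κ u t X Y) (F : KI5 κ) :
    Ves (c.side h F) (c.symm.side h.symm F) := by
  rintro ⟨w, hwR⟩ hw
  have hww : w * w = 1 := congrArg Subtype.val (Uz_sq (c.cen h) (cenF W h.pu) hw)
  obtain ⟨hwX, hwf⟩ := (c.mem_Uz h F).mp hw
  by_cases hw1 : w = 1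
  · subst hw1
    exact ⟨one_mem Y, fun h' => absurd rfl h'⟩
  · obtain ⟨M, hM, -⟩ := h.ves W hwX hww hw1 hwf (c.comm_t hwR)
    exact ⟨hM.uY, fun _ => hM.cu⟩

/-- existence of `R` containing a given 2-subgroup -/
theorem exists_cfg (u t : G) {V : Subgroup G} (hV : IsPGroup 2 V)
    (hVle : V ≤ centralizer ({u} : Set G) ⊓ centralizer ({t} : Set G)) : ∃ R, CfgC u t R ∧ V ≤ R := by
  have h2 : Fact (Nat.Prime 2) := ⟨Nat.prime_two⟩
  obtain ⟨H, hH⟩ : ∃ H, H = centralizer ({u} : Set G) ⊓ centralizer ({t} : Set G) := ⟨_, rfl⟩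
  have hV' : IsPGroup 2 ↥(V.subgroupOf H) := hV.comap_of_injective H.subtype H.subtype_injective
  obtain ⟨P, hP⟩ := hV'.exists_le_sylow
  refine ⟨(P : Subgroup ↥H).map H.subtype, ⟨P.2.map _, ?_, ?_⟩, ?_⟩
  · rw [← hH]; exact map_subtype_le _
  · rw [← hH]
    have h3 : ((P : Subgroup ↥H).map H.subtype).relIndex H = (P : Subgroup ↥H).index := by
      rw [relIndex, ← comap_subtype, comap_map_eq_self_of_injective H.subtype_injective]
    rw [h3]
    exact P.not_dvd_index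
  · intro x hx
    rw [← hH] at hVle
    exact ⟨⟨x, hVle hx⟩, hP hx, rfl⟩

end CfgC

/-- **(5.2)** for a 2-group `V` -/
theorem fixes_or (W : World κ G) (F : KI5 κ) (h : TI κ u t X Y) {V : Subgroup G} (hV : IsPGroup 2 V)
    (hVu : ∀ a ∈ V, a * u = u * a) (hVt : ∀ a ∈ V, a * t = t * a) (hx : x ∈ V) (hf : Fixes x X) :
    ∃ w ∈ X, w * w = 1 ∧ Fixes w X ∧ w * t = t * w ∧ w * x = x * w ∧ Fixes (x * w) Y := by
  obtain ⟨R, c, hVR⟩ := CfgC.exists_cfg u t hV fun a ha =>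
    ⟨mem_centralizer_singleton_iff.mpr (hVu a ha), mem_centralizer_singleton_iff.mpr (hVt a ha)⟩
  have hxR := hVR hx
  have hA : (c.side h F).ρ ⟨x, hxR⟩ = 1 := (c.side_ρ_eq_one_iff h F hxR).mpr hf
  obtain ⟨⟨w, hwR⟩, hw, h1⟩ := fix_or (c.cen h) (cenF W h.pu) (cenF W h.pt) (F.tf h.pu.kind)
    (F.tf h.pt.kind) (F.cf h.pu.kind) (c.ves W h F) (c.symm.ves W h.symm F) hA
  have hww : w * w = 1 := congrArg Subtype.val (Uz_sq (c.cen h) (cenF W h.pu) hw)
  obtain ⟨hwX, hwf⟩ := (c.mem_Uz h F).mp hw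
  refine ⟨w, hwX, hww, hwf, c.comm_t hwR, ?_, ?_⟩
  · have := comm_of_ρ (c.side h F) hA ((mem_Uz (c.side h F)).mp hw).1
    exact (congrArg Subtype.val this).symm
  · exact (c.symm.side_ρ_eq_one_iff h.symm F (mul_mem hxR hwR)).mp h1

end Cfsg.Agent.UGT.I34.FiveC
end

-- part: UGT/I34/FiveC/Five
section
/-!
# THEOREM I34, part [C] (`Z = 2²`), (5.3)-(5.5)

* `W5 κ G`: the world, no pair with partners of type (0) only;
* `isBig_iff`: **(5.3)**;
* `isBig_of_pair`: **(5.5)**: a type (0) partner `s ∉ X` is big;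
* `not_both`: at most one of `y w`, `w` in the vessel, is big.
-/

set_option autoImplicit false

open Cfsg Subgroup
open Cfsg.Agent.SignalizersComponents Cfsg.Agent.Lib
open Cfsg.Agent.SignalizersComponents.IntrinsicBasic
open Cfsg.Agent.SignalizersComponents.PLayerAut
open Cfsg.Agent.Intrinsic
open Cfsg.Agent.Intrinsic.Basic hiding IsPair PQS Target IsPair.sq IsPair.ne_one IsPair.cj
open Cfsg.Agent.Intrinsic.Cen hiding pair_comm pair_mem_cen exists_pump pump_unique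
open Cfsg.Agent.Intrinsic.Quot hiding Big isPair_quot small_or_big
open Cfsg.Agent.McLLyComp.Act hiding mk_eq_one_iff
open Cfsg.Agent.UGT.I34.Pair Cfsg.Agent.UGT.I34.KAut Cfsg.Agent.UGT.I34.WOne
open Cfsg.Agent.UGT.I34.KF (NInv)
open Cfsg.Agent.UGT.I34.Four
open scoped commutatorElement

namespace Cfsg.Agent.UGT.I34.FiveC

universe v

/-- The world of (5.2)-(5.5). -/
structure W5 (κ : Kind.{v}) (G : Type v) [Group G] : Prop where
  w : World κ G
  k : KI5 κ
  conj : ∀ {K : Type v} [Group K] [Finite K], κ.P K → ∀ s t : K, Can s → Can t → ∃ g, g * s * g⁻¹ = t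
  /-- no pair has partners of type (0) only -/
  ex : ∀ {u : G} {X : Subgroup G}, IsPair κ u X → ∃ v Y, IsPair κ v Y ∧ u * v = v * u ∧ ¬ Fixes v X

variable {G : Type v} [Group G] [Finite G] {κ : Kind.{v}} {u t x w s y : G} {X Y S M : Subgroup G}

namespace W5

/-- a type I partner commuting with a 2-group which fixes `X` -/
theorem exists_t (h : W5 κ G) (hu : IsPair κ u X) {P : Subgroup G} (hP : IsPGroup 2 P)
    (hf : ∀ p ∈ P, Fixes p X) : ∃ t Y, TI κ u t X Y ∧ ∀ p ∈ P, p * t = t * p := by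
  obtain ⟨t', ht'⟩ := h.w.sett.kl.exCan hu.kind
  obtain ⟨a, ha, haa, hcom, hmk⟩ := exists_lift_group hP (fun p hp => (hf p hp).1) (x := t') (by
    intro p hp
    rw [(act_eq_one_iff (hf p hp).1).mpr (hf p hp)]
    rfl) ht'.1.1
  have hcan : Can (QuotientGroup.mk ⟨a, ha⟩ : ↥X ⧸ oddCore ↥X) := hmk ▸ ht'
  obtain ⟨v, X', hv, huv, hnf⟩ := h.ex hu
  obtain ⟨Y, hY, -⟩ := h.w.canP hu (h.conj hu.kind) hv huv hnf ha haa hcan
  refine ⟨a, Y, TI.of_mem h.w hu hY ha fun hfa => ?_, hcom⟩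
  exact hcan.1.2 ((mk_mem_center_iff ha).mpr hfa)

/-- `|Ω_u| = 1` -/
theorem one (h : W5 κ G) (hu : IsPair κ u X) (hu' : IsPair κ u Y) : Y = X := by
  obtain ⟨v, X', hv, huv, hnf⟩ := h.ex hu
  exact h.w.one_of hu hv huv hnf Y hu'

theorem norm (h : W5 κ G) (hu : IsPair κ u X) {a : G} (ha : a * u = u * a) :
    a ∈ normalizer (X : Set G) := by
  rw [mem_normalizer_iff_cj]
  apply h.one hu
  have := hu.cj a
  rwa [ha, mul_inv_cancel_right] at this

theorem small_or_big (h : W5 κ G) (hu : IsPair κ u X) (hxx : x * x = 1) (hx1 : x ≠ 1)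
    (hx : x * u = u * x) (hf : Fixes x X) : IsSmall X x ∨ IsBig κ u X x :=
  isSmall_or_isBig h.w.sett.ih h.w.sett.cent hu hxx hx1 hx hf

end W5

section five

variable (h : W5 κ G) (hT : TI κ u t X Y) (hxx : x * x = 1) (hxu : x * u = u * x)
  (hxt : x * t = t * x) (hf : Fixes x X)

include hT hxx hxu hxt hf

theorem not_fixes_pump : ¬ Fixes t (pump x X) := fun hft =>
  hT.not_fixes (fixes_of_pump hT.pu hxx hxu hf (le_normalizer hT.tX) hxt.symm hft)

/-- **(5.3), first half** -/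
theorem pump_eq_pump (hfY : Fixes x Y) : pump x X = pump x Y := by
  by_contra hne
  have h1 := pump_comp hT.pu hxx hxu hf
  have h2 := pump_comp hT.pt hxx hxt hfY
  exact not_fixes_pump hT hxx hxu hxt hf
    (h1.fixes_of_mem h2 hne (mem_pump hT.pt hxx hxt hfY))

include h in
theorem isBig_of_fixes (hx1 : x ≠ 1) (hfY : Fixes x Y) : IsBig κ u X x := by
  refine (h.small_or_big hT.pu hxx hx1 hxu hf).resolve_left fun hs => ?_
  have h1 := hs.fixes hT.pu hxu
  rw [pump_eq_pump hT hxx hxu hxt hf hfY] at h1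
  exact not_fixes_pump hT.symm hxx hxt hxu hfY h1

end five

/-- a big pump-up as a pair of `M / O(M)` -/
theorem big_pair (hu : IsPair κ u X) (hxx : x * x = 1) (hx : x * u = u * x) (hf : Fixes x X)
    (hb : IsBig κ u X x) : ∃ huM : u ∈ pump x X,
      κ.T (↥(pump x X) ⧸ oddCore ↥(pump x X)) (QuotientGroup.mk ⟨u, huM⟩)
        (qs (pump x X) (cen X x)) ∧
      IsPair κ (QuotientGroup.mk ⟨u, huM⟩ : ↥(pump x X) ⧸ oddCore ↥(pump x X))
        (qs (pump x X) (cen X x)) := by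
  obtain ⟨huM, hT⟩ := hb
  exact ⟨huM, hT, isPair_quot hu.sq hu.ne_one (pair_mem_cen hu hx) huM
    (isComp_cen_inf hu hxx hx hf)
    ((kind_cen hu.comp (mem_centralizer_singleton_iff.mpr hx) hxx hf).mpr hu.kind)⟩

/-- involutions conjugate modulo the core are conjugate -/
theorem exists_conj_of_mk {M : Subgroup G} {a b : G} (ha : a ∈ M) (hb : b ∈ M) (haa : a * a = 1)
    (hbb : b * b = 1) (hc : ∃ g, g * (QuotientGroup.mk ⟨a, ha⟩ : ↥M ⧸ oddCore ↥M) * g⁻¹ =
      QuotientGroup.mk ⟨b, hb⟩) : ∃ g ∈ M, g * a * g⁻¹ = b := by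
  obtain ⟨g, hg⟩ := hc
  obtain ⟨⟨k, hk⟩, rfl⟩ := QuotientGroup.mk_surjective g
  have h1 : (k * a * k⁻¹)⁻¹ * b ∈ core M :=
    (mk_eq_iff (conj_mem (le_normalizer hk) ha) hb).mp hg
  obtain ⟨o, ho1, ho2⟩ := Lifting.exists_conj_eq (odd_card_core M) (n := 1) (m := 1)
    (by
      rw [pow_one, pow_two]
      calc k * a * k⁻¹ * (k * a * k⁻¹) = k * (a * a) * k⁻¹ := by group
        _ = 1 := by rw [haa]; group)
    (by rw [pow_one, pow_two, hbb])
    (normalizer_le_normalizer_core M (mul_mem (mul_mem (le_normalizer hk) (le_normalizer ha))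
      (inv_mem (le_normalizer hk)))) h1
  refine ⟨o * k, mul_mem (core_le M ho1) hk, ?_⟩
  rw [← ho2]; group

/-- elements of `J` canonical in `X` are canonical in `qs M J` -/
theorem can_qs (hu : IsPair κ u X) (hxx : x * x = 1) (hx : x * u = u * x) (hf : Fixes x X)
    (ht : t ∈ X) (htJ : t ∈ cen X x) (hc : Can (QuotientGroup.mk ⟨t, ht⟩ : ↥X ⧸ oddCore ↥X)) :
    ∃ h : (QuotientGroup.mk ⟨t, cen_le_pump hu hxx hx hf htJ⟩ :
        ↥(pump x X) ⧸ oddCore ↥(pump x X)) ∈ qs (pump x X) (cen X x),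
      Can (QuotientGroup.mk ⟨_, h⟩ : ↥(qs (pump x X) (cen X x)) ⧸ oddCore ↥(qs (pump x X) (cen X x))) := by
  have hsup := (isComp_cen hu.comp (mem_centralizer_singleton_iff.mpr hx) hxx hf).2
  have hle := cen_le_pump hu hxx hx hf
  obtain ⟨e1, he1⟩ := exists_quotEquiv hsup
  obtain ⟨e2, he2⟩ := exists_qs_equiv hle
  have hc1 : Can (QuotientGroup.mk ⟨t, htJ⟩ : ↥(cen X x) ⧸ oddCore ↥(cen X x)) := by
    rw [← Can.map_iff e1, he1 t htJ ht]
    exact hc
  have hc2 := hc1.map e2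
  rw [he2 t htJ] at hc2
  exact ⟨_, hc2⟩

section six

variable (h : W5 κ G) (hT : TI κ u t X Y) (hxx : x * x = 1) (hxu : x * u = u * x)
  (hxt : x * t = t * x) (hf : Fixes x X)

include h hT hxx hxu hxt hf

/-- **(5.3), second half** -/
theorem of_isBig (hb : IsBig κ u X x) : Fixes x Y ∧ pump x Y = pump x X := by
  obtain ⟨huM, hTT, hp⟩ := big_pair hT.pu hxx hxu hf hb
  have htJ : t ∈ cen X x := mem_cen_of_sq hT.tX hxt.symm hT.pt.sq
  obtain ⟨hm, hc⟩ := can_qs hT.pu hxx hxu hf hT.tX htJ hT.ct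
  obtain ⟨gb, hg, -⟩ := h.w.sett.he.can hTT hp _ hm hc
  obtain ⟨g, hgM, hgt⟩ := exists_conj_of_mk huM (cen_le_pump hT.pu hxx hxu hf htJ) hT.pu.sq hT.pt.sq
    ⟨gb, hg⟩
  have hM := pump_comp hT.pu hxx hxu hf
  have hgx : g * x = x * g := mem_centralizer_singleton_iff.mp (hM.le hgM)
  have hxg : g * x * g⁻¹ = x := by rw [hgx, mul_inv_cancel_right]
  have hY : cj g X = Y := hT.tY _ (hgt ▸ hT.pu.cj g)
  have h1 : Fixes x Y := by
    have := hf.cj g
    rwa [hY, hxg] at this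
  refine ⟨h1, ?_⟩
  have h2 := cj_pump hT.pu hxx hxu hf g
  rw [hxg, hY, cj_eq_self_of_mem hgM] at h2
  exact h2

end six

/-- commuting involutions fixing `X` -/
theorem isPGroup_two {a b : G} (ha : a * a = 1) (hb : b * b = 1) (hab : a * b = b * a) :
    IsPGroup 2 (closure ({a, b} : Set G)) := by
  refine isPGroup_closure ?_ ?_
  · rintro x (rfl | rfl)
    · exact ha
    · exact hb
  · rintro x (rfl | rfl) y (rfl | rfl)
    · rfl
    · exact hab
    · exact hab.symm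
    · rfl

theorem fixes_closure {A : Set G} (hA : ∀ a ∈ A, Fixes a X) : ∀ a ∈ closure A, Fixes a X := by
  intro a ha
  refine closure_induction (p := fun a _ => Fixes a X) hA (fixes_one X)
    (fun _ _ _ _ h1 h2 => fixes_mul h1 h2) (fun a _ h1 => ?_) ha
  exact fixes_inv h1

/-- **at most one** of `y`, `y w` is big -/
theorem not_both (h : W5 κ G) (hu : IsPair κ u X) (hyy : y * y = 1) (hyu : y * u = u * y)
    (hf : Fixes y X) (hb : IsBig κ u X y) (hw : w ∈ X) (hww : w * w = 1) (hw1 : w ≠ 1)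
    (hwf : Fixes w X) (hwy : w * y = y * w) : ¬ IsBig κ u X (y * w) := by
  intro hb'
  obtain ⟨t, Y, hT, hcom⟩ := h.exists_t hu (isPGroup_two hyy hww hwy.symm)
    (fixes_closure (by
      rintro a (rfl | rfl)
      · exact hf
      · exact hwf))
  have hyt : y * t = t * y := hcom y (subset_closure (Or.inl rfl))
  have hwt : w * t = t * w := hcom w (subset_closure (Or.inr rfl))
  have hwu : w * u = u * w := pair_comm hu hw
  have h1 := (of_isBig h hT hyy hyu hyt hf hb).1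
  have h2 := (of_isBig h hT (mul_sq hyy hww hwy.symm) (comm_mul hyu hwu) (comm_mul hyt hwt)
    (fixes_mul hf hwf) hb').1
  have h3 : Fixes w Y := (fixes_mul_iff_right h1).mp h2
  obtain ⟨M, hM, -⟩ := hT.ves h.w hw hww hw1 hwf hwt
  exact hM.symm.not_fixes h3

end Cfsg.Agent.UGT.I34.FiveC
end

-- part: UGT/I34/FiveC/Big
section
/-!
# THEOREM I34, part [C] (`Z = 2²`), (5.5) and its consequences

* `isBig_of_pair`: **(5.5)**: a type (0) partner `s ∉ X` is big;
* `prod`: `s w` is not the involution of a pair (`w` in the vessel);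
* `cls`: the involutions of pairs in a big pump-up are conjugate to `u`;
* `cen5`: commuting type (0) partners `s, j ∉ X`: `j` fixes the pump-up at `s`.
-/

set_option autoImplicit false

open Cfsg Subgroup
open Cfsg.Agent.SignalizersComponents Cfsg.Agent.Lib
open Cfsg.Agent.SignalizersComponents.IntrinsicBasic
open Cfsg.Agent.SignalizersComponents.PLayerAut
open Cfsg.Agent.Intrinsic
open Cfsg.Agent.Intrinsic.Basic hiding IsPair PQS Target IsPair.sq IsPair.ne_one IsPair.cj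
open Cfsg.Agent.Intrinsic.Cen hiding pair_comm pair_mem_cen exists_pump pump_unique
open Cfsg.Agent.Intrinsic.Quot hiding Big isPair_quot small_or_big
open Cfsg.Agent.McLLyComp.Act hiding mk_eq_one_iff
open Cfsg.Agent.UGT.I34.Pair Cfsg.Agent.UGT.I34.KAut Cfsg.Agent.UGT.I34.WOne
open Cfsg.Agent.UGT.I34.KF (NInv)
open Cfsg.Agent.UGT.I34.Four
open Cfsg.Agent.UGT.I34.HeP.Bal (AutL)
open scoped commutatorElement

namespace Cfsg.Agent.UGT.I34.FiveC

universe v

/-- (HE0): the involutions of `He` -/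
def HeTwo (κ : Kind.{v}) : Prop :=
  ∀ {Y : Type v} [Group Y] [Finite Y] {z : Y} {L : Subgroup Y}, κ.T Y z L → IsPair κ z L →
    ∀ t : Y, t * t = 1 → t ≠ 1 → (∃ g, g * z * g⁻¹ = t) ∨
      ∃ g, ∃ ht : g * t * g⁻¹ ∈ L, ¬ Can (QuotientGroup.mk ⟨g * t * g⁻¹, ht⟩ : ↥L ⧸ oddCore ↥L) ∧
        ∃ l ∈ L, l * (g * t * g⁻¹) ≠ (g * t * g⁻¹) * l

variable {G : Type v} [Group G] [Finite G] {κ : Kind.{v}} {u t x w s y j : G} {X Y S M V : Subgroup G}

theorem big_nf (h : W5 κ G) (hu : IsPair κ u X) (hxx : x * x = 1) (hx : x * u = u * x)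
    (hf : Fixes x X) (hb : IsBig κ u X x) {a : G} (ha : a ∈ pump x X) (haa : a * a = 1)
    (ha1 : a ≠ 1) : ¬ Fixes a (pump x X) :=
  h.w.sett.big_not_fixes hb hu.inv (pair_mem_cen hu hx) (isComp_cen_pump hu hxx hx hf)
    ((kind_cen hu.comp (mem_centralizer_singleton_iff.mpr hx) hxx hf).mpr hu.kind)
    (pump_comp hu hxx hx hf) (cen_le_pump hu hxx hx hf) ha haa ha1

/-- **(5.5)** -/
theorem isBig_of_pair (h : W5 κ G) (hu : IsPair κ u X) (hs : IsPair κ s S) (hsu : s * u = u * s)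
    (hf : Fixes s X) (hsX : s ∉ X) : IsBig κ u X s := by
  have hV := isPGroup_two hs.sq hs.sq rfl
  obtain ⟨t, Y, hT, hcom⟩ := h.exists_t hu hV (fixes_closure (by
    rintro a (rfl | rfl) <;> exact hf))
  have hsV : s ∈ closure ({s, s} : Set G) := subset_closure (Or.inl rfl)
  have hst := hcom s hsV
  have hVu : ∀ a ∈ closure ({s, s} : Set G), a * u = u * a := by
    have : closure ({s, s} : Set G) ≤ centralizer ({u} : Set G) := by
      rw [closure_le]
      rintro a (rfl | rfl) <;> exact mem_centralizer_singleton_iff.mpr hsu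
    exact fun a ha => mem_centralizer_singleton_iff.mp (this ha)
  obtain ⟨w, hwX, hww, hwf, hwt, hws, hfY⟩ := fixes_or h.w h.k hT hV hVu hcom hsV hf
  have hwu : w * u = u * w := pair_comm hu hwX
  have hsw1 : s * w ≠ 1 := by
    intro h1
    apply hsX
    rw [eq_inv_of_mul_eq_one_left h1]
    exact inv_mem hwX
  have hsww : (s * w) * (s * w) = 1 := mul_sq hs.sq hww hws.symm
  have hswu : (s * w) * u = u * (s * w) := comm_mul hsu hwu
  have hswf : Fixes (s * w) X := fixes_mul hf hwf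
  have hb : IsBig κ u X (s * w) := isBig_of_fixes h hT hsww hswu (comm_mul hst hwt) hswf hsw1 hfY
  by_cases hw1 : w = 1
  · rwa [hw1, mul_one] at hb
  exfalso
  obtain ⟨Mw, hMw, huM, hle, hs1, hs2, hfix⟩ := h.w.sett.vess hu hwX hww hw1 hwf
  have h1 : Fixes s Mw := (hfix s hws.symm hf.1).mpr hf
  have h2 : Fixes w S := typeZero_symm' hMw hs hws h1
  have h3 : Fixes (s * w) S := fixes_mul (pair_fixes hs) h2
  have hxs : (s * w) * s = s * (s * w) := by rw [mul_assoc, hws]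
  have hwx : w * (s * w) = (s * w) * w := by rw [← mul_assoc, hws]
  have hM := pump_comp hu hsww hswu hswf
  have hM' := pump_comp hs hsww hxs h3
  have hwM : w ∈ pump (s * w) X := mem_pump_of_mem hu hsww hswu hswf hwX hwx (k := 1)
    (by rw [pow_one, pow_two, hww])
  have hsM' : s ∈ pump (s * w) S := mem_pump hs hsww hxs h3
  have hxM : Fixes (s * w) (pump (s * w) X) := fixes_of_le_cent hM.le
  have heq : pump (s * w) X = pump (s * w) S := by
    by_contra hne
    have h4 : Fixes s (pump (s * w) X) := hM.fixes_of_mem hM' hne hsM'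
    exact big_nf h hu hsww hswu hswf hb hwM hww hw1 ((fixes_mul_iff_right h4).mp hxM)
  rw [← heq] at hsM'
  exact big_nf h hu hsww hswu hswf hb (mul_mem hsM' hwM) hsww hsw1 hxM

/-- the product of `s` and an involution of the vessel is not the involution of a pair -/
theorem prod (h : W5 κ G) (hu : IsPair κ u X) (hs : IsPair κ s S) (hsu : s * u = u * s)
    (hf : Fixes s X) (hsX : s ∉ X) (hw : w ∈ X) (hww : w * w = 1) (hw1 : w ≠ 1)
    (hwf : Fixes w X) (hws : w * s = s * w) : ¬ IsPair κ (s * w) Y := by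
  intro hY
  have hwu : w * u = u * w := pair_comm hu hw
  refine not_both h hu hs.sq hsu hf (isBig_of_pair h hu hs hsu hf hsX) hw hww hw1 hwf hws
    (isBig_of_pair h hu hY (comm_mul hsu hwu) (fixes_mul hf hwf) fun h1 => hsX ?_)
  have := mul_mem h1 (inv_mem hw)
  rwa [mul_inv_cancel_right] at this

/-- **(5.4)**: `D ∩ He` is one class -/
theorem cls (h : W5 κ G) (F : HeTwo κ) (hu : IsPair κ u X) (hxx : x * x = 1) (hx : x * u = u * x)
    (hf : Fixes x X) (hb : IsBig κ u X x) (ht : IsPair κ t Y) (htM : t ∈ pump x X) :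
    ∃ g ∈ pump x X, g * u * g⁻¹ = t := by
  obtain ⟨huM, hTT, hp⟩ := big_pair hu hxx hx hf hb
  have hle := cen_le_pump hu hxx hx hf
  rcases F hTT hp (QuotientGroup.mk ⟨t, htM⟩) (mk_sq_one htM ht.sq) (mk_ne_one' htM ht.sq ht.ne_one)
    with h1 | ⟨gb, hg⟩
  · exact exists_conj_of_mk huM htM hu.sq ht.sq h1
  · exfalso
    obtain ⟨⟨k, hk⟩, rfl⟩ := QuotientGroup.mk_surjective gb
    obtain ⟨hL, hnc, l, hl, hln⟩ := hg
    have hkt : k * t * k⁻¹ ∈ pump x X := conj_mem (le_normalizer hk) htM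
    have hL' : (QuotientGroup.mk ⟨k * t * k⁻¹, hkt⟩ : ↥(pump x X) ⧸ oddCore ↥(pump x X)) ∈
      qs (pump x X) (cen X x) := hL
    obtain ⟨i, ⟨hiJ', -⟩, hic⟩ := (mem_qs hkt).mp hL'
    have hiJ : i ∈ cen X x := hiJ'
    have hcore : core (cen X x) ≤ core (pump x X) := HeP.big_core_le h.w.sett.he hle hTT hp
    -- an involution of `J` over `k t k⁻¹`
    have hiM := hle hiJ
    have hmki : (QuotientGroup.mk ⟨i, hiM⟩ : ↥(pump x X) ⧸ oddCore ↥(pump x X)) =
        QuotientGroup.mk ⟨k * t * k⁻¹, hkt⟩ := (mk_eq_iff hiM hkt).mpr hic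
    have hktt : (k * t * k⁻¹) * (k * t * k⁻¹) = 1 := by
      calc k * t * k⁻¹ * (k * t * k⁻¹) = k * (t * t) * k⁻¹ := by group
        _ = 1 := by rw [ht.sq]; group
    have hii : i ^ 2 ^ 1 ∈ core (cen X x) := by
      refine inf_core_le (M := pump x X) (hle.trans le_normalizer) ⟨pow_mem hiJ _, ?_⟩
      change i ^ 2 ^ 1 ∈ core (pump x X)
      rw [← mk_eq_one_iff (pow_mem hiM _)]
      have e1 : (QuotientGroup.mk ⟨i ^ 2 ^ 1, pow_mem hiM _⟩ : ↥(pump x X) ⧸ oddCore ↥(pump x X)) =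
          QuotientGroup.mk ⟨i, hiM⟩ * QuotientGroup.mk ⟨i, hiM⟩ := by
        rw [← QuotientGroup.mk_mul]
        congr 1
        exact Subtype.ext (by
          change i ^ 2 ^ 1 = i * i
          rw [pow_one, pow_two])
      rw [e1, hmki]
      exact mk_sq_one hkt hktt
    obtain ⟨n, hn1, hn2⟩ := Lifting.exists_two_part (odd_card_core (cen X x)) hii
    obtain ⟨c, hc⟩ : ∃ c, c = i ^ n := ⟨_, rfl⟩
    rw [← hc] at hn1 hn2
    have hcJ : c ∈ cen X x := hc ▸ pow_mem hiJ n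
    have hcM := hle hcJ
    have hcX := cen_le X x hcJ
    have hcc : c * c = 1 := by rw [← pow_two, ← hn1, pow_one]
    have hmkc : (QuotientGroup.mk ⟨c, hcM⟩ : ↥(pump x X) ⧸ oddCore ↥(pump x X)) =
        QuotientGroup.mk ⟨k * t * k⁻¹, hkt⟩ := by
      rw [← hmki, eq_comm, mk_eq_iff]
      exact hcore hn2
    -- `c` is the involution of a pair
    obtain ⟨g, hgM, hg⟩ := exists_conj_of_mk htM hcM ht.sq hcc ⟨QuotientGroup.mk ⟨k, hk⟩, by
      rw [hmkc]; rfl⟩
    have hcP := pair_conj ht hg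
    -- `c` is not canonical
    have hnc' : ¬ Can (QuotientGroup.mk ⟨c, hcX⟩ : ↥X ⧸ oddCore ↥X) := by
      intro hcan
      obtain ⟨hm, hcan'⟩ := can_qs hu hxx hx hf hcX hcJ hcan
      apply hnc
      have e2 : (⟨_, hm⟩ : ↥(qs (pump x X) (cen X x))) = ⟨_, hL⟩ := Subtype.ext hmkc
      rw [e2] at hcan'
      exact hcan'
    have hcf : ¬ Fixes c X := by
      intro hcf
      apply hln
      obtain ⟨⟨l, hlM⟩, rfl⟩ := QuotientGroup.mk_surjective l
      obtain ⟨m, ⟨hmJ', -⟩, hml⟩ := (mem_qs hlM).mp hl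
      have hmJ : m ∈ cen X x := hmJ'
      have e3 : (QuotientGroup.mk ⟨l, hlM⟩ : ↥(pump x X) ⧸ oddCore ↥(pump x X)) =
          QuotientGroup.mk ⟨m, hle hmJ⟩ := ((mk_eq_iff (hle hmJ) hlM).mpr hml).symm
      have e4 : (QuotientGroup.mk ⟨k, hk⟩ : ↥(pump x X) ⧸ oddCore ↥(pump x X)) *
          QuotientGroup.mk ⟨t, htM⟩ * (QuotientGroup.mk ⟨k, hk⟩)⁻¹ = QuotientGroup.mk ⟨c, hcM⟩ :=
        hmkc.symm
      rw [e3, e4, mk_comm_iff]
      have hsup := (isComp_cen hu.comp (mem_centralizer_singleton_iff.mpr hx) hxx hf).2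
      have hcJn : c ∈ normalizer (cen X x : Set G) := le_normalizer hcJ
      have h5 : Fixes c (cen X x) := (fixes_iff_of_sup hsup hcJn hcf.1).mpr hcf
      exact hcore ((fixes_iff_conj.mp h5).2 m hmJ)
    exact h.w.not_D hu hcX hnc' hcf hcP

end Cfsg.Agent.UGT.I34.FiveC
end
end

-- part: UGT/I34/NZRec_mg
section
prune_inst 0x180000000000000000000000000000000000000000000000000801000002000020004000000020020000000010000000000000400000000000000010000000000000000800000000000000000000000000000000000000000000000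
set_option linter.all false
open scoped Cfsg.Agent.FastGrp

-- part: UGT/I34/NZRec
section
/-!
# Theorem I34, (5.6): world NZ (`D ∩ K_z = {z}`) with big pump-ups

`Rec D L Cc`: `D` the class of `z`, `L u` the intrinsic 2-component of `C(u)`, no pairs of type (0); `Cc u v`: `v` is of
type `c` on `L u`.  `BM d M`: `M` is a 2-component of `C(d)` all of whose involutions are in `D` and fixed by `d` (big
pump-up).  Then every `w ∈ D ∩ C(d)` is in `M` (`mem_of_BM`), hence `D₀ = {x ∈ T | x fixes L z and L e}` is strongly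
closed (`closed`), and S1173 gives a contradiction (`false_of`).  No information about `Aut(M / O(M))` is used.
-/

set_option autoImplicit false

open Cfsg Subgroup
open Cfsg.Agent.SignalizersComponents
open Cfsg.Agent.SignalizersComponents.IntrinsicBasic
open Cfsg.Agent.SignalizersComponents.PLayerAut
open Cfsg.Agent.TwoFusion
open Cfsg.Agent.Intrinsic Cfsg.Agent.Intrinsic.Basic Cfsg.Agent.Intrinsic.Cen Cfsg.Agent.Intrinsic.Diag
open Cfsg.Agent.Intrinsic.WZero (fixes_mul fixes_one fixes_inv fixSub mem_cent mem_fixSub)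
open scoped commutatorElement

namespace Cfsg.Agent.UGT.I34.NZRec

universe u

variable {G : Type u} [Group G]

/-- World W1 of Theorem I34 without pairs of type (0). -/
structure Rec (D : Set G) (L : G → Subgroup G) (Cc : G → G → Prop) : Prop where
  sq : ∀ u ∈ D, u * u = 1
  ne : ∀ u ∈ D, u ≠ 1
  conjD : ∀ u ∈ D, ∀ g : G, g * u * g⁻¹ ∈ D
  L_conj : ∀ u ∈ D, ∀ g : G, L (g * u * g⁻¹) = cj g (L u)
  comp : ∀ u ∈ D, IsComp (centralizer ({u} : Set G)) (L u)
  self_mem : ∀ u ∈ D, u ∈ L u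
  /-- all involutions of `L u` are in `D` -/
  invol : ∀ u ∈ D, ∀ t ∈ L u, t * t = 1 → t ≠ 1 → t ∈ D
  /-- (5.1) -/
  symI : ∀ u ∈ D, ∀ v ∈ D, v ∈ L u → u ∈ L v
  /-- NZ -/
  nz : ∀ u ∈ D, ∀ v ∈ D, v * u = u * v → Fixes v (L u) → v = u
  tri : ∀ u ∈ D, ∀ v ∈ D, v * u = u * v → v ≠ u → v ∈ L u ∨ Cc u v
  symC : ∀ u ∈ D, ∀ v ∈ D, v * u = u * v → Cc u v → Cc v u
  /-- a product of two automorphisms of type `c` is inner -/
  cc : ∀ u ∈ D, ∀ v ∈ D, ∀ w ∈ D, v * u = u * v → w * u = u * w → v * w = w * v → v * w ∈ D →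
    Cc u v → Cc u w → ¬ Cc u (v * w)
  /-- `C_{L u}(v, d)` contains an involution different from `u` -/
  exY : ∀ u ∈ D, ∀ v ∈ D, v * u = u * v → Cc u v → ∀ d : G, d * d = 1 → d * u = u * d → d * v = v * d →
    Fixes d (L u) → ∃ y ∈ L u, y * y = 1 ∧ y ≠ 1 ∧ y ≠ u ∧ y * v = v * y ∧ y * d = d * y

/-- `M` is a big 2-component of `C(d)`. -/
structure BM (D : Set G) (L : G → Subgroup G) (d : G) (M : Subgroup G) : Prop where
  comp : IsComp (centralizer ({d} : Set G)) M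
  inD : ∀ a ∈ M, a * a = 1 → a ≠ 1 → a ∈ D
  fix : ∀ a ∈ M, a * a = 1 → a ≠ 1 → Fixes d (L a)
  cle : ∀ a ∈ M, a * a = 1 → a ≠ 1 → cen (L a) d ≤ M
  two : ∀ a ∈ M, a * a = 1 → a ≠ 1 → ∃ b ∈ M, b * b = 1 ∧ b ≠ 1 ∧ b ≠ a ∧ b * a = a * b

variable {D : Set G} {L : G → Subgroup G} {Cc : G → G → Prop}

theorem Rec.conj_eq (R : Rec D L Cc) {a w : G} (ha : a ∈ D) (hw : w * a = a * w) : cj w (L a) = L a := by
  rw [← R.L_conj a ha w, hw, mul_inv_cancel_right]

theorem Rec.mem_normalizer (R : Rec D L Cc) {a w : G} (ha : a ∈ D) (hw : w * a = a * w) :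
    w ∈ normalizer (L a : Set G) := mem_normalizer_iff_cj.mpr (R.conj_eq ha hw)

theorem sq_conj {a : G} (h : a * a = 1) (g : G) : g * a * g⁻¹ * (g * a * g⁻¹) = 1 := by
  calc g * a * g⁻¹ * (g * a * g⁻¹) = g * (a * a) * g⁻¹ := by group
    _ = 1 := by rw [h]; group

theorem ne_conj {a : G} (h : a ≠ 1) (g : G) : g * a * g⁻¹ ≠ 1 := by
  intro h1
  apply h
  calc a = g⁻¹ * (g * a * g⁻¹) * g := by group
    _ = 1 := by rw [h1]; group

theorem BM.conj (R : Rec D L Cc) {d : G} {M : Subgroup G} (B : BM D L d M) (g : G) :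
    BM D L (g * d * g⁻¹) (cj g M) := by
  have key : ∀ a ∈ cj g M, a * a = 1 → a ≠ 1 → g⁻¹ * a * g ∈ M ∧ g⁻¹ * a * g * (g⁻¹ * a * g) = 1 ∧
      g⁻¹ * a * g ≠ 1 ∧ a = g * (g⁻¹ * a * g) * g⁻¹ := by
    intro a ha haa ha1
    refine ⟨mem_cj.mp ha, ?_, ?_, by group⟩
    · have := sq_conj haa g⁻¹
      rwa [inv_inv] at this
    · have := ne_conj ha1 g⁻¹
      rwa [inv_inv] at this
  refine ⟨?_, ?_, ?_, ?_, ?_⟩
  · have h := B.comp.cj g
    rwa [cj_centralizer] at h
  · intro a ha haa ha1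
    obtain ⟨h1, h2, h3, h4⟩ := key a ha haa ha1
    rw [h4]
    exact R.conjD _ (B.inD _ h1 h2 h3) g
  · intro a ha haa ha1
    obtain ⟨h1, h2, h3, h4⟩ := key a ha haa ha1
    rw [h4, R.L_conj _ (B.inD _ h1 h2 h3)]
    exact (B.fix _ h1 h2 h3).cj g
  · intro a ha haa ha1
    obtain ⟨h1, h2, h3, h4⟩ := key a ha haa ha1
    rw [h4, R.L_conj _ (B.inD _ h1 h2 h3), ← cj_cen]
    exact Subgroup.map_mono (B.cle _ h1 h2 h3)
  · intro a ha haa ha1
    obtain ⟨h1, h2, h3, h4⟩ := key a ha haa ha1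
    obtain ⟨b, hb, hbb, hb1, hba, hc⟩ := B.two _ h1 h2 h3
    refine ⟨g * b * g⁻¹, conj_mem_cj hb, sq_conj hbb g, ne_conj hb1 g, ?_, ?_⟩
    · intro h
      apply hba
      calc b = g⁻¹ * (g * b * g⁻¹) * g := by group
        _ = _ := by rw [h]
    · calc g * b * g⁻¹ * a = g * (b * (g⁻¹ * a * g)) * g⁻¹ := by group
        _ = g * (g⁻¹ * a * g * b) * g⁻¹ := by rw [hc]
        _ = _ := by group

variable [Finite G]

/-- an element of `C(a, d)` fixing the big component fixes `L a` -/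
theorem BM.fixL (R : Rec D L Cc) {d : G} {M : Subgroup G} (B : BM D L d M) (hd : d * d = 1) {a w : G}
    (ha : a ∈ M) (haa : a * a = 1) (ha1 : a ≠ 1) (hwa : w * a = a * w) (hwd : w * d = d * w)
    (hw : Fixes w M) : Fixes w (L a) := by
  have haD := B.inD a ha haa ha1
  have hda : d * a = a * d := (mem_centralizer_singleton_iff.mp (B.comp.le ha)).symm
  have hdC : d ∈ centralizer ({a} : Set G) := mem_cent.mpr hda
  obtain ⟨h1, h2⟩ := isComp_cen (R.comp a haD) hdC hd (B.fix a ha haa ha1)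
  have hwL := R.mem_normalizer haD hwa
  have hwJ : w ∈ normalizer (cen (L a) d : Set G) := mem_normalizer_cen hwL hwd
  refine (fixes_iff_of_sup h2 hwJ hwL).mp ⟨hwJ, fun j hj => ?_⟩
  have hjM := B.cle a ha haa ha1 hj
  have h3 : ⁅w, j⁆ ∈ core M := hw.2 j hjM
  have h4 : ⁅w, j⁆ ∈ cen (L a) d := by
    rw [commutatorElement_def]
    exact mul_mem ((mem_normalizer_iff.mp hwJ j).mp hj) (inv_mem hj)
  have h5 : cen (L a) d ⊓ core M ≤ core (cen (L a) d) := by
    refine le_core inf_le_left ?_ (Odd.of_dvd_nat (odd_card_core M) (card_dvd_of_le inf_le_right))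
    intro x hx
    have e1 : x ∈ normalizer (cen (L a) d : Set G) := le_normalizer hx
    have e2 : x ∈ normalizer (core M : Set G) := le_normalizer_core M (B.cle a ha haa ha1 hx)
    rw [mem_normalizer_iff_cj] at e1 e2 ⊢
    rw [cj_inf, e1, e2]
  exact h5 ⟨h4, h3⟩

/-- no element of `D ∩ C(d)` fixes the big component -/
theorem BM.not_fixes (R : Rec D L Cc) {d : G} {M : Subgroup G} (B : BM D L d M) (hd : d * d = 1) {w : G}
    (hw : w ∈ D) (hwd : w * d = d * w) (hf : Fixes w M) : False := by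
  have h2 : Fact (Nat.Prime 2) := ⟨Nat.prime_two⟩
  have hww := R.sq w hw
  obtain ⟨t, ht⟩ := exists_prime_orderOf_dvd_card' (G := ↥M) 2 B.comp.even
  have htt : (t : G) * t = 1 := by
    have h3 : t * t = 1 := by rw [← pow_two, ← ht, pow_orderOf_eq_one]
    exact congrArg Subtype.val h3
  have ht1 : (t : G) ≠ 1 := by
    intro h
    have h3 : t = 1 := Subtype.ext h
    rw [h3, orderOf_one] at ht
    omega
  have hwp : IsPGroup 2 (zpowers w) := SL.two_isPGroup hww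
  -- an involution of `t O(M)` commuting with `w`
  obtain ⟨a, hta, haa, haw⟩ := SL.exists_fixed_involution (odd_card_core M) hwp htt
    (fun x hx => conj_mem_core (le_normalizer t.2) hx)
    (fun x hx y hy => conj_mem_core ((zpowers_le.mpr hf.1) hx) hy)
    (fun x hx => by
      have h3 : Fixes x M := mem_fixSub.mp ((zpowers_le.mpr (mem_fixSub.mpr hf)) hx)
      have h4 := h3.2 t t.2
      have h5 : (t : G) * (x * t * x⁻¹) = t * ⁅x, (t : G)⁆ * (t : G)⁻¹ := by
        rw [commutatorElement_def]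
        have : (t : G)⁻¹ = t := inv_eq_of_mul_eq_one_left htt
        calc (t : G) * (x * t * x⁻¹) = t * (x * t * x⁻¹) * ((t : G)⁻¹ * (t : G)⁻¹) := by
              rw [this, htt, mul_one]
          _ = _ := by group
      rw [h5]
      exact conj_mem_core (le_normalizer t.2) h4)
  have haM : a ∈ M := by
    have h3 : a = (t : G)⁻¹ * (t * a) := by group
    rw [h3]
    exact M.mul_mem (M.inv_mem t.2) (core_le M hta)
  have ha1 : a ≠ 1 := by
    rintro rfl
    rw [mul_one] at hta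
    exact ht1 (eq_one_of_mem_core_sq hta htt)
  have hwa : w * a = a * w := haw w (mem_zpowers w)
  -- `w` equals every involution of `M` commuting with it
  have key : ∀ b ∈ M, b * b = 1 → b ≠ 1 → w * b = b * w → w = b := by
    intro b hb hbb hb1 hwb
    exact R.nz b (B.inD b hb hbb hb1) w hw hwb (B.fixL R hd hb hbb hb1 hwb hwd hf)
  have h3 := key a haM haa ha1 hwa
  obtain ⟨b, hb, hbb, hb1, hba, hc⟩ := B.two a haM haa ha1
  have h4 := key b hb hbb hb1 (by rw [h3]; exact hc.symm)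
  exact hba (by rw [← h4, h3])

/-- **every element of `D ∩ C(d)` is in the big component** -/
theorem BM.mem (R : Rec D L Cc) {d : G} {M : Subgroup G} (B : BM D L d M) (hd : d * d = 1) {w : G}
    (hw : w ∈ D) (hwd : w * d = d * w) : w ∈ M := by
  have h2 : Fact (Nat.Prime 2) := ⟨Nat.prime_two⟩
  have hww := R.sq w hw
  have hwC : w ∈ centralizer ({d} : Set G) := mem_cent.mpr hwd
  -- `w` normalises `M`
  have hwM : w ∈ normalizer (M : Set G) := by
    rw [mem_normalizer_iff_cj]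
    by_contra hne
    have hM' := isComp_cj_of_mem B.comp hwC
    obtain ⟨t, ht⟩ := exists_prime_orderOf_dvd_card' (G := ↥M) 2 B.comp.even
    have htt : (t : G) * t = 1 := by
      have h3 : t * t = 1 := by rw [← pow_two, ← ht, pow_orderOf_eq_one]
      exact congrArg Subtype.val h3
    have ht1 : (t : G) ≠ 1 := by
      intro h
      have h3 : t = 1 := Subtype.ext h
      rw [h3, orderOf_one] at ht
      omega
    have h3 := R.conjD t (B.inD t t.2 htt ht1) w
    have h4 : w * t * w⁻¹ ∈ cj w M := conj_mem_cj t.2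
    exact B.not_fixes R hd h3 (mem_centralizer_singleton_iff.mp (hM'.le h4))
      (B.comp.fixes_of_mem hM' (Ne.symm hne) h4)
  -- an involution of `M` commuting with `w`
  obtain ⟨a, haM, haa, ha1, hwa⟩ : ∃ a ∈ M, a * a = 1 ∧ a ≠ 1 ∧ w * a = a * w := by
    obtain ⟨a, ha, ha2, hwa⟩ := StandardTools.exists_involution_commute
      (even_iff_two_dvd.mpr B.comp.even) hww hwM
    refine ⟨a, ha, by rw [← pow_two, ← ha2, pow_orderOf_eq_one], ?_, hwa⟩
    rintro rfl
    rw [orderOf_one] at ha2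
    omega
  have haD := B.inD a haM haa ha1
  -- elements of `L b` commuting with `d` are in `M`
  have inM : ∀ b ∈ M, b * b = 1 → b ≠ 1 → ∀ x ∈ L b, x * x = 1 → x * d = d * x → x ∈ M := by
    intro b hb hbb hb1 x hx hxx hxd
    exact B.cle b hb hbb hb1 (mem_cen_of_sq hx hxd hxx)
  by_cases hwa' : w = a
  · rw [hwa']; exact haM
  rcases R.tri a haD w hw hwa hwa' with h | h
  · exact inM a haM haa ha1 w h hww hwd
  have hda : d * a = a * d := (mem_centralizer_singleton_iff.mp (B.comp.le haM)).symm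
  obtain ⟨y, hyL, hyy, hy1, hya, hyw, hyd⟩ := R.exY a haD w hw hwa h d hd hda hwd.symm (B.fix a haM haa ha1)
  have hyM := inM a haM haa ha1 y hyL hyy hyd
  have hyD := B.inD y hyM hyy hy1
  have hya' : y * a = a * y := mem_centralizer_singleton_iff.mp ((R.comp a haD).le hyL)
  have hayM : a * y ∈ M := M.mul_mem haM hyM
  have hay2 : a * y * (a * y) = 1 := by
    calc a * y * (a * y) = a * (y * a) * y := by group
      _ = (a * a) * (y * y) := by rw [hya']; group
      _ = 1 := by rw [haa, hyy, one_mul]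
  have hay1 : a * y ≠ 1 := by
    intro h3
    apply hya
    have h4 : a⁻¹ = a := inv_eq_of_mul_eq_one_left haa
    rw [← h4]
    exact (inv_eq_of_mul_eq_one_right h3).symm
  have hayw : w * (a * y) = a * y * w := by
    calc w * (a * y) = w * a * y := by group
      _ = a * (w * y) := by rw [hwa]; group
      _ = a * (y * w) := by rw [← hyw]
      _ = _ := by group
  by_cases hwy' : w = y
  · rw [hwy']; exact hyM
  by_cases hway' : w = a * y
  · rw [hway']; exact hayM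
  rcases R.tri y hyD w hw hyw.symm hwy' with h3 | h3
  · exact inM y hyM hyy hy1 w h3 hww hwd
  have hayD := B.inD _ hayM hay2 hay1
  rcases R.tri (a * y) hayD w hw hayw hway' with h4 | h4
  · exact inM _ hayM hay2 hay1 w h4 hww hwd
  exfalso
  exact R.cc w hw a haD y hyD hwa.symm hyw hya'.symm hayD (R.symC a haD w hw hwa h)
    (R.symC y hyD w hw hyw.symm h3) (R.symC _ hayD w hw hayw h4)

/-- a strongly closed subgroup cannot act trivially on a 2-component (`h1173` = statement S1173 for `G`) -/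
theorem false_of_closed [IsSimpleGroup G] {H X A : Subgroup G} (hXC : IsComp H X) (T : Sylow 2 G)
    (hA : IsStronglyClosed A (T : Subgroup G)) (hfix : ∀ a ∈ A, Fixes a X) {u : G} (huA : u ∈ A) (hu1 : u ≠ 1)
    (h1173 : ∀ (S : Sylow 2 G) (T : Subgroup G), IsStronglyClosed T (S : Subgroup G) →
      ((⨅ n : ℕ, derivedSeries ↥(centralizer (T : Set G)) n).map
        (centralizer (T : Set G)).subtype).Normal) : False := by
  have hp2 : Fact (Nat.Prime 2) := ⟨Nat.prime_two⟩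
  have hn := h1173 T A hA
  rw [CentResidual.map_iInf_derivedSeries] at hn
  have hA2 : IsPGroup 2 A := T.isPGroup'.to_le hA.1
  have hodd := odd_card_core X
  have hAn : A ≤ normalizer (core X : Set G) := fun a ha =>
    normalizer_le_normalizer_core X (hfix a ha).1
  rcases hn.eq_bot_or_eq_top with hb | ht
  · -- `C_G(A)` is solvable
    set C : Subgroup G := X ⊓ centralizer (A : Set G) with hC
    have hcov : C ⊔ core X = X := by
      refine sup_of_exists inf_le_left fun x hx => ?_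
      obtain ⟨o, ho, hc⟩ := Lifting.exists_commute_group hodd hA2 hAn (m := x) fun a ha =>
        (fixes_iff_conj.mp (hfix a ha)).2 x hx
      refine ⟨x * o, ⟨mul_mem hx (core_le X ho), ?_⟩, ?_⟩
      · exact mem_centralizer_iff.mpr hc
      · rw [mul_inv_rev, mul_assoc, inv_mul_cancel, mul_one]
        exact inv_mem ho
    have hPC : CentResidual.PR C = ⊥ := by
      rw [eq_bot_iff, ← hb]
      exact CentResidual.PR_mono inf_le_right
    -- image of `C` in `X / O(X)`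
    obtain ⟨π, hπ⟩ : ∃ π, π = QuotientGroup.mk' (oddCore ↥X) := ⟨_, rfl⟩
    have h1 : ((C.subgroupOf X).map π) = ⊤ := by
      rw [eq_top_iff]
      rintro q -
      obtain ⟨⟨x, hx⟩, rfl⟩ : ∃ x, π x = q := by rw [hπ]; exact QuotientGroup.mk'_surjective _ q
      obtain ⟨j, hj, hjx⟩ := exists_mul_of_sup hcov hx
      refine ⟨⟨j, hj.1⟩, hj, ?_⟩
      rw [hπ]
      exact QuotientGroup.eq.mpr ((mem_core_iff (mul_mem (inv_mem hj.1) hx)).mp hjx)
    have h2 : CentResidual.PR (C.subgroupOf X) = ⊥ := by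
      have h3 := CentResidual.map_subtype_PR X (C.subgroupOf X)
      rw [subgroupOf_map_subtype, inf_of_le_left (inf_le_left : C ≤ X), hPC] at h3
      exact (map_eq_bot_iff_of_injective _ X.subtype_injective).mp h3
    have h3 := CentResidual.map_PR π (C.subgroupOf X)
    rw [h1, h2, Subgroup.map_bot] at h3
    have hq : IsQuasisimple (↥X ⧸ oddCore ↥X) := (Red.tc_iff.mp hXC.tc).2.2.2
    have h4 : (⊤ : Subgroup (↥X ⧸ oddCore ↥X)) ≤ ⁅(⊤ : Subgroup (↥X ⧸ oddCore ↥X)), ⊤⁆ := by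
      have := hq.1.1
      rw [← _root_.commutator_def, this]
    rw [CentResidual.PR_eq_self h4] at h3
    have h5 : core X = X := by
      apply le_antisymm (core_le X)
      intro x hx
      rw [mem_core_iff hx, ← QuotientGroup.eq_one_iff, ← mem_bot, h3]
      exact mem_top _
    exact hXC.not_odd hodd h5.ge
  · have hCtop : centralizer (A : Set G) = ⊤ := by
      rw [eq_top_iff, ← ht]
      exact CentResidual.PR_le _
    have huZ : u ∈ center G := by
      rw [mem_center_iff]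
      intro g
      have hg : g ∈ centralizer (A : Set G) := by rw [hCtop]; trivial
      exact ((mem_centralizer_iff.1 hg) u huA).symm
    have hZn : (center G).Normal := inferInstance
    rcases hZn.eq_bot_or_eq_top with h1 | h1
    · rw [h1, mem_bot] at huZ
      exact hu1 huZ
    · apply hXC.ne_bot
      rw [← hXC.perfect, eq_bot_iff, commutator_le]
      intro a _ b _
      rw [mem_bot, commutatorElement_eq_one_iff_mul_comm]
      have hb : b ∈ center G := by rw [h1]; trivial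
      exact mem_center_iff.1 hb a

/-- `D₀ = {x ∈ T | x fixes L z and L e}` -/
def D0 (L : G → Subgroup G) (T : Subgroup G) (z e : G) : Subgroup G := T ⊓ (fixSub (L z) ⊓ fixSub (L e))

omit [Finite G] in
theorem mem_D0 {T : Subgroup G} {z e x : G} : x ∈ D0 L T z e ↔ x ∈ T ∧ Fixes x (L z) ∧ Fixes x (L e) := Iff.rfl

/-- The Sylow group `T` of `C(z)` and the big pump-ups of the involutions of `D₀`. -/
structure Big (D : Set G) (L : G → Subgroup G) (T : Sylow 2 G) (z e : G) : Prop where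
  zD : z ∈ D
  eL : e ∈ L z
  ee : e * e = 1
  e1 : e ≠ 1
  eT : e ∈ (T : Subgroup G)
  Tz : ∀ x ∈ (T : Subgroup G), x * z = z * x
  ne : ∃ x ∈ D0 L (T : Subgroup G) z e, x ≠ 1
  big : ∀ d ∈ D0 L (T : Subgroup G) z e, d * d = 1 → d ≠ 1 → ∃ M, BM D L d M ∧
    ∀ x ∈ D0 L (T : Subgroup G) z e, (∃ n : ℕ, x ^ n = d) → Fixes x M

omit [Finite G] in
/-- a nontrivial 2-element has a power of order 2 -/
theorem exists_pow_inv {x : G} {k : ℕ} (hx : x ^ 2 ^ k = 1) (hx1 : x ≠ 1) :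
    ∃ n : ℕ, x ^ n * x ^ n = 1 ∧ x ^ n ≠ 1 := by
  induction k with
  | zero => exact absurd (by simpa using hx) hx1
  | succ k ih =>
    by_cases h : x ^ 2 ^ k = 1
    · exact ih h
    · refine ⟨2 ^ k, ?_, h⟩
      rw [← pow_add, ← two_mul, ← pow_succ', hx]

/-- **`D₀` is strongly closed in `T`.** -/
theorem closed (R : Rec D L Cc) {T : Sylow 2 G} {z e : G} (B : Big D L T z e) :
    IsStronglyClosed (D0 L (T : Subgroup G) z e) (T : Subgroup G) := by
  refine ⟨inf_le_left, fun x hx g hg => ?_⟩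
  obtain ⟨hxT, hxz, hxe⟩ := mem_D0.mp hx
  by_cases hx1 : x = 1
  · rw [hx1, mul_one, mul_inv_cancel]; exact one_mem _
  obtain ⟨k, hk⟩ := T.isPGroup' ⟨x, hxT⟩
  have hk' : x ^ 2 ^ k = 1 := congrArg Subtype.val hk
  obtain ⟨n, hn, hn1⟩ := exists_pow_inv hk' hx1
  obtain ⟨M, BM0, hM⟩ := B.big (x ^ n) (pow_mem hx n) hn hn1
  have hf := hM x hx ⟨n, rfl⟩
  have BM1 := BM0.conj R g
  have hf1 : Fixes (g * x * g⁻¹) (cj g M) := hf.cj g
  have hdd : g * x ^ n * g⁻¹ * (g * x ^ n * g⁻¹) = 1 := sq_conj hn g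
  have hpow : g * x ^ n * g⁻¹ = (g * x * g⁻¹) ^ n := by rw [conj_pow]
  have hdT : g * x ^ n * g⁻¹ ∈ (T : Subgroup G) := by rw [hpow]; exact pow_mem hg n
  have hz1 := R.ne z B.zD
  have hzz := R.sq z B.zD
  have hzM : z ∈ cj g M := BM1.mem R hdd B.zD (B.Tz _ hdT).symm
  have hxd : g * x * g⁻¹ * (g * x ^ n * g⁻¹) = g * x ^ n * g⁻¹ * (g * x * g⁻¹) := by
    rw [hpow]; exact (pow_mul_comm' _ _).symm
  have hfz : Fixes (g * x * g⁻¹) (L z) := BM1.fixL R hdd hzM hzz hz1 (B.Tz _ hg) hxd hf1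
  -- elements of `T` fixing `L z` commute with `e`
  have hcomm : ∀ y ∈ (T : Subgroup G), Fixes y (L z) → y * e = e * y := by
    intro y hy hfy
    have h1 : ⁅y, e⁆ ∈ core (L z) := hfy.2 e B.eL
    have h2 : ⁅y, e⁆ ∈ (T : Subgroup G) := by
      rw [commutatorElement_def]
      exact mul_mem (mul_mem (mul_mem hy B.eT) (inv_mem hy)) (inv_mem B.eT)
    obtain ⟨j, hj⟩ := T.isPGroup' ⟨_, h2⟩
    have h3 := eq_one_of_mem_core h1 (congrArg Subtype.val hj : ⁅y, e⁆ ^ 2 ^ j = 1)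
    exact commutatorElement_eq_one_iff_mul_comm.mp h3
  have hxe' := hcomm _ hg hfz
  have hde : e * (g * x ^ n * g⁻¹) = g * x ^ n * g⁻¹ * e := by
    rw [hpow]
    exact ((Commute.pow_left (show Commute (g * x * g⁻¹) e from hxe') n).eq).symm
  have heM : e ∈ cj g M := BM1.cle z hzM hzz hz1 (mem_cen_of_sq B.eL hde B.ee)
  have hfe : Fixes (g * x * g⁻¹) (L e) := BM1.fixL R hdd heM B.ee B.e1 hxe' hxd hf1
  exact mem_D0.mpr ⟨hg, hfz, hfe⟩

/-- **World NZ with big pump-ups does not exist.** -/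
theorem false_of [IsSimpleGroup G] (R : Rec D L Cc) {T : Sylow 2 G} {z e : G} (B : Big D L T z e)
    (h1173 : ∀ (S : Sylow 2 G) (T : Subgroup G), IsStronglyClosed T (S : Subgroup G) →
      ((⨅ n : ℕ, derivedSeries ↥(centralizer (T : Set G)) n).map
        (centralizer (T : Set G)).subtype).Normal) : False := by
  obtain ⟨x, hx, hx1⟩ := B.ne
  exact false_of_closed (R.comp z B.zD) T (closed R B) (fun a ha => (mem_D0.mp ha).2.1) hx hx1 h1173

end Cfsg.Agent.UGT.I34.NZRec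
end

-- part: UGT/I34/HeP/Diag
section
/-!
# I34 [C], supply of `FrameE`: the field `diag`
-/

set_option autoImplicit false
set_option linter.unusedSectionVars false
set_option linter.unusedVariables false

open Cfsg Subgroup
open Cfsg.Agent.SignalizersComponents Cfsg.Agent.Lib
open Cfsg.Agent.SignalizersComponents.IntrinsicBasic
open Cfsg.Agent.SignalizersComponents.PLayerAut
open Cfsg.Agent.SignalizersComponents.RelSylow
open Cfsg.Agent.Intrinsic
open Cfsg.Agent.Intrinsic.Basic hiding IsPair PQS Target IsPair.sq IsPair.ne_one IsPair.cj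
open Cfsg.Agent.Intrinsic.Cen hiding pair_comm pair_mem_cen exists_pump pump_unique
open Cfsg.Agent.Intrinsic.Quot hiding Big isPair_quot small_or_big
open Cfsg.Agent.Intrinsic.Diag (exists_diag mem_diag)
open Cfsg.Agent.Intrinsic.WOneA (Ce OC)
open Cfsg.Agent.UGT.I34.Pair Cfsg.Agent.UGT.I34.WOne
open Cfsg.Agent.UGT.I34.Four (Sett Can HeT Klein)
open Cfsg.Agent.McLLyComp.Act hiding mk_eq_one_iff

namespace Cfsg.Agent.UGT.I34.HeP

universe v

variable {G : Type v} [Group G] [Finite G] {κ : Kind.{v}}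

namespace SW

variable {D : Set G} {L : G → Subgroup G} {u v t x s a b : G}

/-- an involution `c ∈ L b` whose centralizer in `L b` contains a 2-component of some subgroup is central modulo
`O(L b)` -/
theorem fixes_of_comp (h : SW κ D L) (hb : b ∈ D) {c : G} (hc : c ∈ L b) (hc2 : c * c = 1)
    {H N : Subgroup G} (hN : IsComp H N) (hNL : N ≤ L b) (hNc : ∀ y ∈ N, y * c = c * y) :
    Fixes c (L b) := by
  by_contra hf
  have h1 : (QuotientGroup.mk ⟨c, hc⟩ : ↥(L b) ⧸ oddCore ↥(L b)) ∉ center _ :=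
    fun h2 => hf ((W1.mk_center_iff hc).mp h2)
  have h2 := h.solv (h.pair hb).kind _ (W1.mk_sq hc hc2) h1
    ((N.subgroupOf (L b)).map (QuotientGroup.mk' (oddCore ↥(L b)))) ?_ ?_
  · refine hN.not_odd (odd_card_core (L b)) fun y hy => ?_
    have h3 : (QuotientGroup.mk ⟨y, hNL hy⟩ : ↥(L b) ⧸ oddCore ↥(L b)) ∈
        (N.subgroupOf (L b)).map (QuotientGroup.mk' (oddCore ↥(L b))) := ⟨⟨y, hNL hy⟩, hy, rfl⟩
    rw [h2, mem_bot, mk_eq_one_iff] at h3
    exact h3
  · rintro _ ⟨⟨y, hyL⟩, hy, rfl⟩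
    change (QuotientGroup.mk ⟨y * c, (L b).mul_mem hyL hc⟩ : ↥(L b) ⧸ oddCore ↥(L b)) =
      QuotientGroup.mk ⟨c * y, (L b).mul_mem hc hyL⟩
    congr 1
    exact Subtype.ext (hNc y hy)
  · rw [← map_commutator]
    congr 1
    apply map_injective (L b).subtype_injective
    rw [map_commutator, subgroupOf_map_subtype, inf_of_le_left hNL, hN.perfect]

/-- the field `diag` -/
theorem diag (h : SW κ D L) : ∀ b : G, orderOf b = 2 → ∀ v : G, ZP D L v (b * v * b⁻¹) →
    ∃ R, TC (Ce b) R ∧ v * (b * v * b⁻¹) ∈ R ∧ (b ∈ D → v * (b * v * b⁻¹) ∉ L b) := by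
  intro b hbo v hZ
  have hprod := h.prod hZ
  obtain ⟨hv, hwD, hmem, hnm⟩ := hZ
  have hbb := sq_of hbo
  have hbi : b⁻¹ = b := inv_eq_of_mul_eq_one_left hbb
  obtain ⟨w, hw⟩ : ∃ w, w = b * v * b⁻¹ := ⟨_, rfl⟩
  rw [← hw] at hprod hwD hmem hnm ⊢
  obtain ⟨hwv, hfw⟩ := (h.mem_K hv).mp hmem
  have hv2 := h.sq hv
  have hw2 := h.sq hwD
  have hne : w ≠ v := fun e => hnm (by rw [e]; exact h.mem hv)
  obtain ⟨c, hc⟩ : ∃ c, c = v * w := ⟨_, rfl⟩
  rw [← hc] at hprod ⊢
  have hcv : c * v = v * c := by rw [hc, mul_assoc, hwv]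
  have hcc : c * c = 1 := by
    rw [hc]
    exact mul_sq hv2 hw2 hwv.symm
  have hc1 : c ≠ 1 := by
    rw [hc]
    exact mul_ne_one hw2 (Ne.symm hne)
  have hco := order_two hcc hc1
  have hbwb : b * w * b⁻¹ = v := by
    rw [hw, hbi]
    calc b * (b * v * b) * b = (b * b) * v * (b * b) := by group
      _ = v := by rw [hbb, one_mul, mul_one]
  have hbc : b * c * b⁻¹ = c := by
    have : b * c * b⁻¹ = (b * v * b⁻¹) * (b * w * b⁻¹) := by rw [hc]; group
    rw [this, hbwb, ← hw, hwv, hc]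
  have hbc' : b * c = c * b := by
    calc b * c = b * c * b⁻¹ * b := by group
      _ = c * b := by rw [hbc]
  have hfv : Fixes v (L v) := h.fixes_self hv
  have hfc : Fixes c (L v) := by rw [hc]; exact fixes_mul hfv hfw
  have hpv := h.pair hv
  have hM := pump_comp hpv hcc hcv hfc
  have hvM := mem_pump hpv hcc hcv hfc
  have hcK : c ∈ cenMod (Ce v) (L v) := (h.mem_K hv).mpr ⟨hcv, hfc⟩
  obtain ⟨M, hMdef⟩ : ∃ M, M = pump c (L v) := ⟨_, rfl⟩
  rw [← hMdef] at hM hvM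
  have hbC : b ∈ centralizer ({c} : Set G) := mem_centralizer_singleton_iff.mpr hbc'
  have hwM : w ∈ cj b M := by rw [hw]; exact conj_mem_cj hvM
  have hmove : cj b M ≠ M := by
    intro h1
    rw [h1] at hwM
    have hcM : c ∈ M := by rw [hc]; exact mul_mem hvM hwM
    rw [hMdef] at hcM
    have h3 := h.of_cmp v hv c hcK hco c hcM hco hcK
    apply hnm
    have h4 : w = v * c := by rw [hc, ← mul_assoc, hv2, one_mul]
    rw [h4]
    exact (L v).mul_mem (h.mem hv) h3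
  obtain ⟨hN, -, -, -, -⟩ := exists_diag hM hbC hbb hmove
  have hcN : c ∈ Cfsg.Agent.Intrinsic.Diag.diag (centralizer ({c} : Set G)) M b :=
    mem_diag (mem_centralizer_singleton_iff.mpr rfl) hbc'.symm hvM
      (by rw [← hw, ← hc, inv_mul_cancel]; exact one_mem _) (n := 1)
      (by rw [pow_one, pow_two]; exact hcc)
  rw [inf_comm] at hN
  obtain ⟨R, hR, hNR⟩ := exists_pumpup hcc hcN hN
  refine ⟨R, hR.tc, hNR hcN, fun hbD hcL => ?_⟩
  have hf : Fixes c (L b) := by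
    by_cases e : L b = R
    · refine h.fixes_of_comp hbD hcL hcc hN (by rw [e]; exact hNR) fun y hy => ?_
      exact mem_centralizer_singleton_iff.mp (hN.le hy).2
    · exact (h.comp hbD).fixes_of_mem hR e (hNR hcN)
  exact hprod (h.vess hbD hcL hcc hc1 hf)

end SW

end Cfsg.Agent.UGT.I34.HeP
end

-- part: UGT/I34/HeP/Se
section
/-!
# I34 [C], supply of `FrameE`: the field `se`

`conn_big`: a set containing `u`, closed under commuting conjugates of `u` in the big component `M` and under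
conjugation by `O(M)`, contains all conjugates of `u` under `M` ((HE2)).
-/

set_option autoImplicit false
set_option linter.unusedSectionVars false
set_option linter.unusedVariables false

open Cfsg Subgroup
open Cfsg.Agent.SignalizersComponents Cfsg.Agent.Lib
open Cfsg.Agent.SignalizersComponents.IntrinsicBasic
open Cfsg.Agent.SignalizersComponents.PLayerAut
open Cfsg.Agent.SignalizersComponents.RelSylow
open Cfsg.Agent.Intrinsic
open Cfsg.Agent.Intrinsic.Basic hiding IsPair PQS Target IsPair.sq IsPair.ne_one IsPair.cj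
open Cfsg.Agent.Intrinsic.Cen hiding pair_comm pair_mem_cen exists_pump pump_unique
open Cfsg.Agent.Intrinsic.Quot hiding Big isPair_quot small_or_big
open Cfsg.Agent.Intrinsic.WOneA (Ce OC)
open Cfsg.Agent.UGT.I34.Pair Cfsg.Agent.UGT.I34.WOne
open Cfsg.Agent.UGT.I34.Four (Sett Can HeT Klein)
open Cfsg.Agent.McLLyComp.Act hiding mk_eq_one_iff

namespace Cfsg.Agent.UGT.I34.HeP

universe v

variable {G : Type v} [Group G] [Finite G] {κ : Kind.{v}}

/-- (HE2) for a big component, with core -/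
theorem conn_big (hX : HeX κ) {u : G} {J M : Subgroup G} (hu2 : u * u = 1) {hu : u ∈ M}
    (hT : κ.T (↥M ⧸ oddCore ↥M) (QuotientGroup.mk ⟨u, hu⟩) (qs M J))
    (hp : IsPair κ (QuotientGroup.mk ⟨u, hu⟩ : ↥M ⧸ oddCore ↥M) (qs M J)) (S : Set G) (huS : u ∈ S)
    (hS : ∀ t ∈ S, ∀ g ∈ M, Commute t (g * u * g⁻¹) → g * u * g⁻¹ ∈ S)
    (hSc : ∀ t ∈ S, ∀ o ∈ core M, o * t * o⁻¹ ∈ S) : ∀ g ∈ M, g * u * g⁻¹ ∈ S := by
  have hgM : ∀ g ∈ M, g * u * g⁻¹ ∈ M := fun g hg => mul_mem (mul_mem hg hu) (inv_mem hg)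
  have key := hX.conn hT hp {q | (∃ g, q = g * QuotientGroup.mk ⟨u, hu⟩ * g⁻¹) ∧
    ∀ g (hg : g ∈ M), (QuotientGroup.mk ⟨g * u * g⁻¹, hgM g hg⟩ : ↥M ⧸ oddCore ↥M) = q →
      g * u * g⁻¹ ∈ S} ?_ ?_
  · intro g hg
    exact (key (QuotientGroup.mk ⟨g, hg⟩)).2 g hg rfl
  · refine ⟨⟨1, by group⟩, fun g hg e => ?_⟩
    obtain ⟨o, ho, e1⟩ := exists_core_conj hu (hgM g hg) hu2 (sq_cj hu2) e.symm
    rw [← e1]
    exact hSc u huS o ho
  · rintro s ⟨⟨g1, rfl⟩, hs⟩ g hcom
    refine ⟨⟨g, rfl⟩, fun g' hg' e => ?_⟩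
    obtain ⟨⟨a1, ha1⟩, rfl⟩ := QuotientGroup.mk_surjective g1
    have h1 := hs a1 ha1 rfl
    rw [← e] at hcom
    obtain ⟨o, ho, h2⟩ := exists_core_comm' (n := 1) (c := g' * u * g'⁻¹) (y := a1 * u * a1⁻¹)
      (by rw [pow_one, pow_two]; exact sq_cj hu2) (hgM g' hg') (sq_cj hu2) (hgM a1 ha1) hcom
    exact hS _ (hSc _ h1 o ho) g' hg' h2

namespace SW

variable {D : Set G} {L : G → Subgroup G} {u v t x s a b : G}

/-- the field `se` -/
theorem se (h : SW κ D L) : ∀ u ∈ D, ∀ x ∈ cenMod (Ce u) (L u), orderOf x = 2 → ∀ S : Set G,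
    u ∈ S → (∀ t ∈ S, ∀ t' ∈ D, t' ∈ pump x (L u) → Commute t t' → t' ∈ S) →
    (∀ t ∈ S, ∀ o ∈ OC x, o * t * o⁻¹ ∈ S) → ∀ t ∈ D, t ∈ pump x (L u) → t ∈ S := by
  intro u hu x hx hx2 S huS hS hSc t ht htM
  obtain ⟨h1, h2⟩ := (h.mem_K hu).mp hx
  have hxx := sq_of hx2
  have huM := mem_pump (h.pair hu) hxx h1 h2
  have hM := pump_comp (h.pair hu) hxx h1 h2
  have hc : core (pump x (L u)) ≤ OC x := hM.core_le_core
  rcases h.small_or_big hu hxx (ne_of hx2) h1 h2 with hs | hb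
  · have hf := hs.fixes (h.pair hu) h1
    have h3 : (QuotientGroup.mk ⟨u, huM⟩ : ↥(pump x (L u)) ⧸ oddCore ↥(pump x (L u))) ∈ center _ :=
      (W1.mk_center_iff huM).mpr hf
    obtain ⟨o, ho, hcom⟩ := exists_core_comm' (n := 1) (by rw [pow_one, pow_two, h.sq ht]) htM
      (h.sq hu) huM (mem_center_iff.mp h3 _).symm
    exact hS _ (hSc u huS o (hc ho)) t ht htM hcom
  · obtain ⟨huM', hT, hp⟩ := h.big_pair hu hxx h1 h2 hb
    obtain ⟨g, hg, rfl⟩ := h.cls hu hxx (ne_of hx2) h1 h2 hb ht htM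
    refine conn_big h.hex (h.sq hu) hT hp S huS (fun t ht g hg hcom => ?_)
      (fun t ht o ho => hSc t ht o (hc ho)) g hg
    exact hS t ht _ (h.conj hu g) (mul_mem (mul_mem hg huM) (inv_mem hg)) hcom

end SW

end Cfsg.Agent.UGT.I34.HeP
end

-- part: UGT/I34/HeP/FixSwap
section
/-!
# I34 [C], supply of `FrameE`: the field `fix_or_swap`

* `Gam`: the component `Γ_z`; `stab`: its stabilizer.
* `SW.exists_can`: `u` has a type I partner.
* `SW.exists_top`: if `C(w) ≤ N` for all `w ∈ Γ_z` then the 2-component `M` of `N` above `L_u` (`u ∈ Γ_z`) is big.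
* `SW.fix_or_swap`.
-/

set_option autoImplicit false
set_option linter.unusedSectionVars false
set_option linter.unusedVariables false

open Cfsg Subgroup
open Cfsg.Agent.SignalizersComponents Cfsg.Agent.Lib
open Cfsg.Agent.SignalizersComponents.IntrinsicBasic
open Cfsg.Agent.SignalizersComponents.PLayerAut
open Cfsg.Agent.SignalizersComponents.RelSylow
open Cfsg.Agent.Intrinsic
open Cfsg.Agent.Intrinsic.Basic hiding IsPair PQS Target IsPair.sq IsPair.ne_one IsPair.cj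
open Cfsg.Agent.Intrinsic.Cen hiding pair_comm pair_mem_cen exists_pump pump_unique
open Cfsg.Agent.Intrinsic.Quot hiding Big isPair_quot small_or_big
open Cfsg.Agent.Intrinsic.WOneA (Ce OC)
open Cfsg.Agent.UGT.I34.Pair Cfsg.Agent.UGT.I34.WOne
open Cfsg.Agent.UGT.I34.Four (Sett Can HeT Klein)
open Cfsg.Agent.McLLyComp.Act hiding mk_eq_one_iff
open scoped commutatorElement

namespace Cfsg.Agent.UGT.I34.HeP

universe v

/-! ### the commuting graph -/

section graph

variable {G : Type v} [Group G] {D : Set G} {z w u t a b : G}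

theorem gam_self (D : Set G) (z : G) : z ∈ Gam D z := Relation.ReflTransGen.refl

theorem gam_mem (hz : z ∈ D) (hw : w ∈ Gam D z) : w ∈ D := by
  rcases Relation.ReflTransGen.cases_tail hw with e | ⟨c, -, h⟩
  · rw [e]; exact hz
  · exact h.2.1

theorem gam_step (hz : z ∈ D) (hw : w ∈ Gam D z) (ht : t ∈ D) (h : Commute w t) : t ∈ Gam D z :=
  Relation.ReflTransGen.tail hw ⟨gam_mem hz hw, ht, h⟩

theorem adj_symm (h : Adj D a b) : Adj D b a := ⟨h.2.1, h.1, h.2.2.symm⟩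

theorem con_symm (h : Relation.ReflTransGen (Adj D) a b) : Relation.ReflTransGen (Adj D) b a := by
  induction h with
  | refl => exact Relation.ReflTransGen.refl
  | tail _ hbc ih => exact Relation.ReflTransGen.head (adj_symm hbc) ih

theorem con_conj (hD : ∀ u ∈ D, ∀ g : G, g * u * g⁻¹ ∈ D) (g : G)
    (h : Relation.ReflTransGen (Adj D) a b) :
    Relation.ReflTransGen (Adj D) (g * a * g⁻¹) (g * b * g⁻¹) := by
  induction h with
  | refl => exact Relation.ReflTransGen.refl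
  | tail _ hbc ih =>
    refine ih.tail ⟨hD _ hbc.1 g, hD _ hbc.2.1 g, ?_⟩
    exact (Commute.map hbc.2.2 (MulAut.conj g).toMonoidHom : _)

/-- the stabilizer of `Γ_z` -/
def stab (hD : ∀ u ∈ D, ∀ g : G, g * u * g⁻¹ ∈ D) (z : G) : Subgroup G where
  carrier := {g | Relation.ReflTransGen (Adj D) z (g * z * g⁻¹)}
  one_mem' := by
    change Relation.ReflTransGen (Adj D) z (1 * z * 1⁻¹)
    rw [one_mul, inv_one, mul_one]
  mul_mem' := by
    intro g k hg hk
    change Relation.ReflTransGen (Adj D) z (g * k * z * (g * k)⁻¹)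
    have h1 := con_conj hD g hk
    have e : g * (k * z * k⁻¹) * g⁻¹ = g * k * z * (g * k)⁻¹ := by group
    rw [e] at h1
    exact Relation.ReflTransGen.trans hg h1
  inv_mem' := by
    intro g hg
    change Relation.ReflTransGen (Adj D) z (g⁻¹ * z * g⁻¹⁻¹)
    have h1 := con_conj hD g⁻¹ hg
    have e : g⁻¹ * (g * z * g⁻¹) * g⁻¹⁻¹ = z := by group
    rw [e] at h1
    exact con_symm h1

theorem stab_apply (hD : ∀ u ∈ D, ∀ g : G, g * u * g⁻¹ ∈ D) {g : G} (hg : g ∈ stab hD z)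
    (hw : w ∈ Gam D z) : g * w * g⁻¹ ∈ Gam D z :=
  Relation.ReflTransGen.trans (show Relation.ReflTransGen (Adj D) z (g * z * g⁻¹) from hg) (con_conj hD g hw)

theorem mem_stab_of_comm (hD : ∀ u ∈ D, ∀ g : G, g * u * g⁻¹ ∈ D) {g : G} (hw : w ∈ Gam D z)
    (h : g * w = w * g) : g ∈ stab hD z := by
  have h1 := con_conj hD g (con_symm hw)
  rw [h, mul_inv_cancel_right] at h1
  exact Relation.ReflTransGen.trans hw h1

/-- an odd subgroup normalized by a four-group of elements of `Γ_z` stabilizes `Γ_z` -/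
theorem odd_le_stab [Finite G] (hD : ∀ u ∈ D, ∀ g : G, g * u * g⁻¹ ∈ D) {P : Subgroup G}
    (hP : Odd (Nat.card P)) (hu : u ∈ Gam D z) (ht : t ∈ Gam D z) (hut : u * t ∈ Gam D z)
    (huu : u * u = 1) (htt : t * t = 1) (hu1 : u ≠ 1) (ht1 : t ≠ 1) (hne : u ≠ t)
    (hcom : u * t = t * u) (hun : u ∈ normalizer (P : Set G)) (htn : t ∈ normalizer (P : Set G)) :
    P ≤ stab hD z := by
  refine Cfsg.Agent.CoverCore.Abs.le_of_four huu htt hcom hu1 ht1 hne hP
    (fun x hx => (mem_normalizer_iff.mp hun x).mp hx) (fun x hx => (mem_normalizer_iff.mp htn x).mp hx)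
    ?_ ?_ ?_
  · exact fun x _ h => mem_stab_of_comm hD hu h
  · exact fun x _ h => mem_stab_of_comm hD ht h
  · exact fun x _ h => mem_stab_of_comm hD hut h

end graph

/-! ### involutions swapped modulo an odd subgroup -/

theorem exists_sq_odd {n : ℕ} (hn : Odd n) : ∃ i : ℕ, 8 * i + 1 = n * n := by
  obtain ⟨k, rfl⟩ := hn
  obtain ⟨l, hl⟩ := (Nat.even_mul_succ_self k)
  refine ⟨l, ?_⟩
  have : (2 * k + 1) * (2 * k + 1) = 4 * (k * (k + 1)) + 1 := by ring
  rw [this, hl]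
  ring

/-- If `z` and `z^b` commute modulo the odd subgroup `P` then some conjugate `t` of `z` under `P` commutes with
`t^b`. -/
theorem exists_comm_swap {G : Type*} [Group G] [Finite G] {P : Subgroup G} (hP : Odd (Nat.card P))
    {z b : G} (hz : z * z = 1) (hb : b * b = 1)
    (hm : z * (b * z * b⁻¹) * (z * (b * z * b⁻¹)) ∈ P) :
    ∃ p ∈ P, Commute (p * z * p⁻¹) (b * (p * z * p⁻¹) * b⁻¹) := by
  have hbi : b⁻¹ = b := inv_eq_of_mul_eq_one_left hb
  have hzi : z⁻¹ = z := inv_eq_of_mul_eq_one_left hz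
  obtain ⟨w, hw⟩ : ∃ w, w = b * z * b⁻¹ := ⟨_, rfl⟩
  have hww : w * w = 1 := by rw [hw]; exact sq_cj' hz
  have hwi : w⁻¹ = w := inv_eq_of_mul_eq_one_left hww
  obtain ⟨m, hmdef⟩ : ∃ m, m = z * w := ⟨_, rfl⟩
  rw [← hw, ← hmdef] at hm
  -- `z` and `b` invert `m`
  have hzm : z * m * z⁻¹ = m⁻¹ := by
    rw [hmdef, mul_inv_rev, hwi, hzi]
    calc z * (z * w) * z = (z * z) * w * z := by group
      _ = w * z := by rw [hz, one_mul]
  have hbw : b * w * b⁻¹ = z := by
    rw [hw, hbi]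
    calc b * (b * z * b) * b = (b * b) * z * (b * b) := by group
      _ = z := by rw [hb, one_mul, mul_one]
  have hbm : b * m * b⁻¹ = m⁻¹ := by
    have e : b * m * b⁻¹ = (b * z * b⁻¹) * (b * w * b⁻¹) := by rw [hmdef]; group
    rw [e, hbw, ← hw, hmdef, mul_inv_rev, hwi, hzi]
  obtain ⟨i, hi⟩ := exists_sq_odd (n := orderOf (m * m)) (by
    refine Odd.of_dvd_nat hP ?_
    exact Subgroup.orderOf_dvd_natCard P hm)
  obtain ⟨p, hp⟩ : ∃ p, p = m ^ (2 * i) := ⟨_, rfl⟩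
  have hpP : p ∈ P := by
    rw [hp, pow_mul, pow_two]
    exact P.pow_mem hm i
  have hzp : z * p * z⁻¹ = p⁻¹ := by
    rw [hp, ← conj_pow, hzm, inv_pow]
  have hbp : b * p * b⁻¹ = p⁻¹ := by
    rw [hp, ← conj_pow, hbm, inv_pow]
  -- `t = p z p⁻¹ = p p z`
  have ht : p * z * p⁻¹ = p * p * z := by
    have e : z * p⁻¹ * z⁻¹ = p := by
      have := congrArg (·⁻¹) hzp
      simp only [mul_inv_rev, inv_inv] at this
      rw [mul_assoc]; exact this
    calc p * z * p⁻¹ = p * (z * p⁻¹ * z⁻¹) * z := by group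
      _ = p * p * z := by rw [e]
  have ht' : b * (p * z * p⁻¹) * b⁻¹ = p⁻¹ * w * p := by
    calc b * (p * z * p⁻¹) * b⁻¹ = (b * p * b⁻¹) * (b * z * b⁻¹) * (b * p * b⁻¹)⁻¹ := by group
      _ = p⁻¹ * w * p := by rw [hbp, ← hw, inv_inv]
  have hwp : p⁻¹ * w * p = w * p * p := by
    have hpm : p * m = m * p := by rw [hp, ← pow_succ, ← pow_succ']
    have e : w * p * w⁻¹ = p⁻¹ := by
      have e1 : w = z⁻¹ * m := by rw [hmdef]; group
      calc w * p * w⁻¹ = z⁻¹ * (m * p) * m⁻¹ * z := by rw [e1]; group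
        _ = z⁻¹ * (p * m) * m⁻¹ * z := by rw [hpm]
        _ = z⁻¹ * p * z := by group
        _ = z * p * z⁻¹ := by rw [hzi]
        _ = p⁻¹ := hzp
    calc p⁻¹ * w * p = (w * p * w⁻¹) * w * p := by rw [e]
      _ = w * p * p := by group
  refine ⟨p, hpP, ?_⟩
  have htt : p * z * p⁻¹ * (p * z * p⁻¹) = 1 := sq_cj' hz
  have ht2 : b * (p * z * p⁻¹) * b⁻¹ * (b * (p * z * p⁻¹) * b⁻¹) = 1 := sq_cj' htt
  -- the product is `m ^ (8 i + 1)`
  have hpm : p * m = m * p := by rw [hp, ← pow_succ, ← pow_succ']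
  have hprod : p * z * p⁻¹ * (b * (p * z * p⁻¹) * b⁻¹) = m ^ (8 * i + 1) := by
    rw [ht', hwp, ht]
    calc p * p * z * (w * p * p) = p * p * (z * w) * p * p := by group
      _ = p * p * m * p * p := by rw [← hmdef]
      _ = p * p * (m * p) * p := by group
      _ = p * p * (p * m) * p := by rw [hpm]
      _ = p * p * p * (m * p) := by group
      _ = p * p * p * (p * m) := by rw [hpm]
      _ = m ^ (8 * i + 1) := by
        rw [hp, pow_succ, show 8 * i = 2 * i + 2 * i + 2 * i + 2 * i by ring, pow_add, pow_add, pow_add]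
        group
  have hpsq : (p * z * p⁻¹ * (b * (p * z * p⁻¹) * b⁻¹)) * (p * z * p⁻¹ * (b * (p * z * p⁻¹) * b⁻¹)) = 1 := by
    rw [hprod, ← mul_pow_of_self, hi, pow_mul, pow_orderOf_eq_one, one_pow]
  have e1 : (p * z * p⁻¹)⁻¹ = p * z * p⁻¹ := inv_eq_of_mul_eq_one_left htt
  have e2 : (b * (p * z * p⁻¹) * b⁻¹)⁻¹ = b * (p * z * p⁻¹) * b⁻¹ := inv_eq_of_mul_eq_one_left ht2
  have e3 := inv_eq_of_mul_eq_one_left hpsq
  rw [mul_inv_rev, e1, e2] at e3
  exact e3.symm
where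
  sq_cj' {g y : G} (hy : y * y = 1) : g * y * g⁻¹ * (g * y * g⁻¹) = 1 := by
    rw [show g * y * g⁻¹ * (g * y * g⁻¹) = g * (y * y) * g⁻¹ by group, hy]; group
  mul_pow_of_self {m : G} {k : ℕ} : (m * m) ^ k = m ^ k * m ^ k :=
    (Commute.refl m).mul_pow k

/-! ### the 2-components of `N` -/

section top

variable {G : Type v} [Group G] [Finite G] {κ : Kind.{v}} {D : Set G} {L : G → Subgroup G}
  {u t x s a b z : G} {N M : Subgroup G}

namespace SW

/-- `u` has a type I partner `t`. -/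
theorem exists_can (h : SW κ D L) (hu : u ∈ D) :
    ∃ t ∈ L u, t ∈ D ∧ u ∈ L t ∧ ¬ Fixes t (L u) := by
  obtain ⟨t', ht'⟩ := h.sett.kl.exCan (h.pair hu).kind
  obtain ⟨⟨t₀, ht₀⟩, rfl⟩ := QuotientGroup.mk_surjective t'
  have h3 : t₀ ^ 2 ^ 1 ∈ core (L u) := by
    have e : (QuotientGroup.mk ⟨t₀ * t₀, (L u).mul_mem ht₀ ht₀⟩ : ↥(L u) ⧸ oddCore ↥(L u)) = 1 :=
      ht'.1.1
    rw [mk_eq_one_iff] at e
    rwa [pow_one, pow_two]
  obtain ⟨k, h6, h7⟩ := Lifting.exists_two_part (odd_card_core (L u)) h3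
  have hk := (L u).pow_mem ht₀ k
  have e : (QuotientGroup.mk ⟨t₀ ^ k, hk⟩ : ↥(L u) ⧸ oddCore ↥(L u)) = QuotientGroup.mk ⟨t₀, ht₀⟩ :=
    ((mk_eq_mk_iff' ht₀ hk).mpr h7).symm
  have hsq : t₀ ^ k * t₀ ^ k = 1 := by rwa [pow_one, pow_two] at h6
  obtain ⟨h8, h9⟩ := h.can hu hk hsq (by rw [e]; exact ht')
  refine ⟨t₀ ^ k, hk, h8, h9, fun hf => ?_⟩
  have h10 := (W1.mk_center_iff hk).mpr hf
  rw [e] at h10
  exact ht'.1.2 h10

/-- `L u` is a 2-component of `N ∩ C(u)` if `C(u) ≤ N`. -/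
theorem comp_inf (h : SW κ D L) (hu : u ∈ D) (hN : Ce u ≤ N) :
    IsComp (N ⊓ centralizer ({u} : Set G)) (L u) := by
  rw [inf_eq_right.mpr hN]
  exact h.comp hu

/-- **the 2-component of `N` above `L u` is big** -/
theorem exists_top (h : SW κ D L) (hz : z ∈ D) (hNt : N ≠ ⊤) (hN : ∀ u ∈ Gam D z, Ce u ≤ N)
    (hu : u ∈ Gam D z) : ∃ M, IsComp N M ∧ L u ≤ M ∧ ∃ huM : u ∈ M,
      κ.T (↥M ⧸ oddCore ↥M) (QuotientGroup.mk ⟨u, huM⟩) (qs M (L u)) ∧
      IsPair κ (QuotientGroup.mk ⟨u, huM⟩ : ↥M ⧸ oddCore ↥M) (qs M (L u)) := by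
  have huD := gam_mem hz hu
  obtain ⟨t, htL, htD, hut, hnf⟩ := h.exists_can huD
  have htu := h.comm huD htL
  have htG : t ∈ Gam D z := gam_step hz hu htD htu.symm
  have hJu := h.comp_inf huD (hN u hu)
  have hJt := h.comp_inf htD (hN t htG)
  obtain ⟨M, hM, hle⟩ := exists_pumpup (h.sq huD) (h.mem huD) hJu
  obtain ⟨M', hM', hle'⟩ := exists_pumpup (h.sq htD) (h.mem htD) hJt
  have htn : t ∈ normalizer (L u : Set G) := le_normalizer htL
  have hMM : M = M' := by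
    by_contra hne
    exact hnf (WOne.fixes_of_le hle htn (hM.fixes_of_mem hM' hne (hle' (h.mem htD))))
  subst hMM
  have huM := hle (h.mem huD)
  have hcard : Nat.card M < Nat.card G := by
    have h1 : M ≠ ⊤ := fun e => hNt (top_le_iff.mp (e ▸ hM.le))
    rcases (Subgroup.card_le_card_group M).lt_or_eq with h2 | h2
    · exact h2
    · exact absurd (Subgroup.eq_top_of_card_eq M h2) h1
  refine ⟨M, hM, hle, huM, ?_⟩
  have hp := isPair_quot (h.sq huD) (h.ne_one huD) (h.mem huD) huM (isComp_inf hJu hM hle)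
    (h.pair huD).kind
  refine ⟨?_, hp⟩
  rcases Pair.small_or_big h.sett.ih (h.pair huD).inv (h.mem huD) hJu (h.pair huD).kind hM hle hcard
    with hs | ⟨_, hb⟩
  · exfalso
    have hf : Fixes u M := Small.fixes hs (h.mem huD) (h.comp huD).le
    have h1 := WOne.fixes_of_le hle' (le_normalizer hut) hf
    exact hnf (h.symm htD huD htu h1)
  · exact hb

/-- odd subgroups normalized by the vessel of `u ∈ Γ_z` stabilize `Γ_z` -/
theorem odd_le_stab (h : SW κ D L) (hz : z ∈ D) (hu : u ∈ Gam D z) {P : Subgroup G}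
    (hP : Odd (Nat.card P)) (hn : L u ≤ normalizer (P : Set G)) :
    P ≤ stab (fun _ hu g => h.conj hu g) z := by
  have huD := gam_mem hz hu
  obtain ⟨t, ht, htD, htu, hutD, -⟩ := h.exists_inv u huD ⊥ IsPGroup.of_bot bot_le
  have hc := h.comm huD ht
  have htt := h.sq htD
  refine HeP.odd_le_stab _ hP hu (gam_step hz hu htD hc.symm) (gam_step hz hu hutD ?_) (h.sq huD)
    htt (h.ne_one huD) (h.ne_one htD) (Ne.symm htu) hc.symm (hn (h.mem huD)) (hn ht)
  exact (Commute.refl u).mul_right hc.symm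

/-- the field `fix_or_swap` -/
theorem fix_or_swap (h : SW κ D L) : ∀ z ∈ D, ∀ N : Subgroup G, N ≠ ⊤ →
    (∀ u ∈ Gam D z, Ce u ≤ N) → ∀ b ∈ N, orderOf b = 2 →
    (∃ d ∈ Gam D z, Commute d b) ∨ ∃ t ∈ Gam D z, ZP D L t (b * t * b⁻¹) := by
  intro z hz N hNt hN b hb hbo
  have hzG := gam_self D z
  obtain ⟨M, hM, hle, hzM, hT, hp⟩ := h.exists_top hz hNt hN hzG
  have hbb := sq_of hbo
  have hzz := h.sq hz
  by_cases hmove : cj b M = M
  · -- `b` normalizes `M`
    left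
    have hbM : b ∈ normalizer (M : Set G) := mem_normalizer_iff_cj.mpr hmove
    obtain ⟨g, hg⟩ := h.hex.fix hT hp (act M ⟨b, hbM⟩) (by
      rw [← map_mul]
      have : (⟨b, hbM⟩ : ↥(normalizer (M : Set G))) * ⟨b, hbM⟩ = 1 := Subtype.ext hbb
      rw [this, map_one])
    obtain ⟨⟨g, hgM⟩, rfl⟩ := QuotientGroup.mk_surjective g
    have hyM : g * z * g⁻¹ ∈ M := M.mul_mem (M.mul_mem hgM hzM) (M.inv_mem hgM)
    have h3 : (QuotientGroup.mk ⟨b * (g * z * g⁻¹) * b⁻¹, conj_mem hbM hyM⟩ : ↥M ⧸ oddCore ↥M) =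
        QuotientGroup.mk ⟨g * z * g⁻¹, hyM⟩ := hg
    have h4 := (mk_eq_mk_iff' hyM (conj_mem hbM hyM)).mp h3.symm
    obtain ⟨o, ho, hcom⟩ := exists_core_comm (n := 1) (by rw [pow_one, pow_two, hbb]) hbM
      (sq_cj hzz) (le_normalizer hyM) h4
    have hoM := Basic.core_le M ho
    have hcS : core M ≤ stab (fun _ hu g => h.conj hu g) z :=
      h.odd_le_stab hz hzG (odd_card_core M) (hle.trans (le_normalizer_core M))
    have hall := conn_big h.hex hzz hT hp (Gam D z) hzG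
      (fun t ht g hg hc => gam_step hz ht (h.conj hz g) hc)
      (fun t ht o ho => stab_apply _ (hcS ho) ht)
    refine ⟨_, stab_apply _ (hcS ho) (hall g hgM), hcom⟩
  · -- `b` moves `M`
    right
    have hMb : IsComp N (cj b M) := by
      have h1 := hM.cj b
      rwa [cj_eq_self_of_mem hb] at h1
    have hwM : b * z * b⁻¹ ∈ cj b M := conj_mem_cj hzM
    have hm : z * (b * z * b⁻¹) * (z * (b * z * b⁻¹)) ∈ core N := by
      have h1 := hMb.fixes_of_mem hM hmove hzM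
      have h2 := hMb.core_le_core (h1.2 _ hwM)
      have hw2 : (b * z * b⁻¹)⁻¹ = b * z * b⁻¹ := inv_eq_of_mul_eq_one_left (sq_cj hzz)
      have hz2 : z⁻¹ = z := inv_eq_of_mul_eq_one_left hzz
      have e : ⁅z, b * z * b⁻¹⁆ = z * (b * z * b⁻¹) * (z * (b * z * b⁻¹)) := by
        rw [commutatorElement_def, hw2, hz2]; group
      rwa [e] at h2
    obtain ⟨p, hpN, hcom⟩ := exists_comm_swap (odd_card_core N) hzz hbb hm
    have hcN : core N ≤ stab (fun _ hu g => h.conj hu g) z := by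
      refine h.odd_le_stab hz hzG (odd_card_core N) ?_
      exact (hle.trans hM.le).trans (le_normalizer_core N)
    obtain ⟨t, ht⟩ : ∃ t, t = p * z * p⁻¹ := ⟨_, rfl⟩
    have htG : t ∈ Gam D z := by rw [ht]; exact stab_apply _ (hcN hpN) hzG
    have htD := gam_mem hz htG
    rw [← ht] at hcom
    have hpM : cj p M = M := mem_normalizer_iff_cj.mp (hM.core_le_normalizer hpN)
    have hLt : L t ≤ M := by
      rw [ht, h.L_conj hz, ← hpM]
      exact cj_mono hle
    have htM : t ∈ M := hLt (h.mem htD)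
    have ht'D := h.conj htD b
    have ht'M : b * t * b⁻¹ ∈ cj b M := conj_mem_cj htM
    have hf : Fixes (b * t * b⁻¹) M := hM.fixes_of_mem hMb (Ne.symm hmove) ht'M
    refine ⟨t, htG, htD, ht'D, ?_, ?_⟩
    · rw [h.mem_K htD]
      refine ⟨hcom.symm.eq, WOne.fixes_of_le hLt (h.norm htD hcom.symm.eq) hf⟩
    · intro hmem
      have h1 := hLt hmem
      have h2 := (W1.mk_center_iff h1).mpr hf
      rw [h.sett.he.center hT hp, mem_bot] at h2
      exact W1.mk_ne_one h1 (h.sq ht'D) (h.ne_one ht'D) h2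

end SW

end top

end Cfsg.Agent.UGT.I34.HeP
end

-- part: UGT/I34/HeP/OfSW
section
/-!
# I34 [C]: the record `FrameE` from `SW` and the fields which use (5.2)-(5.5)
-/

set_option autoImplicit false
set_option linter.unusedSectionVars false
set_option linter.unusedVariables false

open Cfsg Subgroup
open Cfsg.Agent.SignalizersComponents Cfsg.Agent.Lib
open Cfsg.Agent.SignalizersComponents.IntrinsicBasic
open Cfsg.Agent.SignalizersComponents.PLayerAut
open Cfsg.Agent.SignalizersComponents.RelSylow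
open Cfsg.Agent.Intrinsic
open Cfsg.Agent.Intrinsic.Basic hiding IsPair PQS Target IsPair.sq IsPair.ne_one IsPair.cj
open Cfsg.Agent.Intrinsic.WOneA (Ce OC)
open Cfsg.Agent.UGT.I34.Pair Cfsg.Agent.UGT.I34.WOne

namespace Cfsg.Agent.UGT.I34.HeP

universe v

variable {G : Type v} [Group G] [Finite G] {κ : Kind.{v}}

/-- The fields of `FrameE` which use (5.2)-(5.5), for `cmp x u = pump x (L u)`. -/
structure Rest (κ : Kind.{v}) {G : Type v} [Group G] [Finite G] (D : Set G) (L : G → Subgroup G) : Prop where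
  mem_symm : ∀ u ∈ D, ∀ t ∈ D, t ∈ L u → u ∈ L t
  exZ : ∀ u ∈ D, ∃ s, ZP D L u s
  /-- (5.5) -/
  isBig : ∀ u s : G, ZP D L u s → IsBig κ u (L u) s
  common : ∀ u ∈ D, ∀ v ∈ D, u ≠ v → Commute u v → ZP D L u v ∨ ∃ s, ZP D L u s ∧ ZP D L v s
  memC : ∀ u s : G, ZP D L u s → ∀ v ∈ D, Commute v u → Commute v s → v ∉ L u →
    v ∉ cenMod (Ce u) (L u) → ZP D L v s ∧ v ∈ pump s (L u)
  cen5 : ∀ u s : G, ZP D L u s → ∀ j : G, ZP D L u j → Commute s j →
    j ∈ cenMod (Ce s) (pump s (L u))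
  bal : ∀ u s : G, ZP D L u s → ∀ x ∈ OC u, Commute x s → x ∈ OC s

/-- the record `FrameE` -/
noncomputable def SW.frameE {D : Set G} {L : G → Subgroup G} (h : SW κ D L) (r : Rest κ D L) :
    FrameE G where
  D := D
  L := L
  cmp := fun x u => pump x (L u)
  ord := h.ord
  conj := fun _ hu g => h.conj hu g
  L_conj := fun _ hu g => h.L_conj hu g
  L_comp := h.L_comp
  self_mem := fun _ hu => h.mem hu
  mem_symm := r.mem_symm
  symm := h.symm'
  exZ := r.exZ
  prod := fun _ _ hZ => h.prod hZ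
  exists_inv := h.exists_inv
  cmp_comp := h.cmp_comp
  cmp_self := h.cmp_self
  cmp_conj := h.cmp_conj
  mem_cmp := h.mem_cmp
  of_cmp := h.of_cmp
  big := by
    intro u s hZ t ht htM
    obtain ⟨h1, h2⟩ := (h.mem_K hZ.left).mp hZ.mem
    exact h.cls hZ.left (h.sq hZ.right) (h.ne_one hZ.right) h1 h2 (r.isBig u s hZ) ht htM
  common := r.common
  memC := r.memC
  cen5 := r.cen5
  bal := r.bal
  se := h.se
  cmp_fix := h.cmp_fix
  diag := h.diag
  fix_or_swap := h.fix_or_swap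

end Cfsg.Agent.UGT.I34.HeP
end

-- part: UGT/I34/WOneC/Five
section
/-!
# I34 [A], world W1: (5.5) from (5.2)

`FxOr D L` is (5.2). For a pair of type (0), `s ∈ D` fixing `L u`, `s ≠ u`: `s` is big for `u`, `u` is big for `s`,
`s u ∉ D`. `mem_pump_zero` = inheritance.
-/

set_option autoImplicit false

open Cfsg Subgroup
open Cfsg.Agent.SignalizersComponents Cfsg.Agent.Lib
open Cfsg.Agent.SignalizersComponents.IntrinsicBasic
open Cfsg.Agent.SignalizersComponents.PLayerAut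
open Cfsg.Agent.Intrinsic
open Cfsg.Agent.Intrinsic.Basic hiding IsPair PQS Target IsPair.sq IsPair.ne_one IsPair.cj
open Cfsg.Agent.Intrinsic.Cen hiding pair_comm pair_mem_cen exists_pump pump_unique
open Cfsg.Agent.Intrinsic.Quot hiding Big isPair_quot small_or_big
open Cfsg.Agent.UGT.I34.Pair Cfsg.Agent.UGT.I34.KF Cfsg.Agent.UGT.I34.WOne
open Cfsg.Agent.McLLyComp.Act (fixes_mul)

namespace Cfsg.Agent.UGT.I34.WOneC.Five

universe v

variable {G : Type v} [Group G] [Finite G] {κ : Kind.{v}} {τ : Bool} {D : Set G} {L : G → Subgroup G}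
  {u v t x s : G}

/-- (5.2) -/
def FxOr (D : Set G) (L : G → Subgroup G) : Prop :=
  ∀ u ∈ D, ∀ x : G, x * x = 1 → x ≠ 1 → x ≠ u → x * u = u * x → Fixes x (L u) →
    ∀ t ∈ L u, t * t = 1 → t ≠ 1 → t ≠ u → x * t = t * x → Fixes x (L t) ∨ Fixes (x * u) (L t)

section

variable (h : W1 κ τ D L) (h52 : FxOr D L) (hu : u ∈ D) (hxx : x * x = 1) (hx1 : x ≠ 1)
  (hxu : x ≠ u) (hx : x * u = u * x) (hf : Fixes x (L u))

include h hu hxx hx1 hxu hx hf

/-- not both `x` and `x u` are big -/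
theorem not_both (hb : IsBig κ u (L u) x) (hb' : IsBig κ u (L u) (x * u)) : False := by
  obtain ⟨t, ht, htt, ht1, htu, hxt⟩ := h.exists_inv_comm_one hu (m := 1)
    (by rw [pow_one, pow_two, hxx]) hf
  have h1 := h.fixes_of_isBig hu hxx hx1 hx hf ht htt ht1 hxt hb
  have hut := (h.comm hu ht).symm
  have h2 := h.fixes_of_isBig hu (mul_sq hxx (h.sq hu) hx) (mul_ne_one (h.sq hu) hxu)
    (comm_mul hx rfl) (fixes_mul hf (h.fixes_self hu)) ht htt ht1
    (by rw [mul_assoc, hut, ← mul_assoc, hxt, mul_assoc]) hb'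
  have h3 := fixes_mul h1 h2
  rw [← mul_assoc, hxx, one_mul] at h3
  exact h.not_fixes (h.inv_mem hu ht htt ht1) (h.mem_of_mem hu ht htt ht1) (h.sq hu)
    (h.ne_one hu) (Ne.symm htu) h3

include h52 in
/-- `x` or `x u` is big -/
theorem big_or : IsBig κ u (L u) x ∨ IsBig κ u (L u) (x * u) := by
  obtain ⟨t, ht, htt, ht1, htu, hxt⟩ := h.exists_inv_comm_one hu (m := 1)
    (by rw [pow_one, pow_two, hxx]) hf
  have hut := (h.comm hu ht).symm
  rcases h52 u hu x hxx hx1 hxu hx hf t ht htt ht1 htu hxt with h1 | h1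
  · exact Or.inl ((h.isBig_iff hu hxx hx1 hx hf ht htt ht1 htu hxt).mpr h1)
  · right
    exact (h.isBig_iff hu (mul_sq hxx (h.sq hu) hx) (mul_ne_one (h.sq hu) hxu)
      (comm_mul hx rfl)
      (fixes_mul hf (h.fixes_self hu)) ht htt ht1 htu
      (by rw [mul_assoc, hut, ← mul_assoc, hxt, mul_assoc])).mpr h1

end

/-- `u s` is not big for `s` in a pair of type (0) -/
theorem not_big_mul (h : W1 κ τ D L) (hu : u ∈ D) (hs : s ∈ D) (hsu : s ≠ u)
    (hus : s * u = u * s) (hf : Fixes s (L u)) : ¬ IsBig κ s (L s) (u * s) := by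
  intro hb
  have hfu : Fixes u (L s) := h.symm hu hs hus.symm hf
  obtain ⟨t, ht, htt, ht1, hts, hut⟩ := h.exists_inv_comm_one hs (m := 1)
    (by rw [pow_one, pow_two, h.sq hu]) hfu
  have htD := h.inv_mem hs ht htt ht1
  have hst := (h.comm hs ht).symm
  have h1 := h.fixes_of_isBig hs (mul_sq (h.sq hu) (h.sq hs) hus.symm)
    (mul_ne_one (h.sq hs) (Ne.symm hsu)) (comm_mul hus.symm rfl)
    (fixes_mul hfu (h.fixes_self hs)) ht htt ht1
    (by rw [mul_assoc, hst, ← mul_assoc, hut, mul_assoc]) hb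
  -- `t` lies in the pump-up of `L s` in `C(u)`, which is not `L u`
  have hp := pump_comp (h.pair hs) (h.sq hu) hus.symm hfu
  have htp := mem_pump_of_mem (h.pair hs) (h.sq hu) hus.symm hfu ht hut.symm (k := 1)
    (by rw [pow_one, pow_two, htt])
  have hsp := mem_pump (h.pair hs) (h.sq hu) hus.symm hfu
  have hne : L u ≠ pump u (L s) := by
    intro he
    rw [← he] at hsp
    exact hsu (h.eq_of_fixes hu hsp (h.sq hs) (h.ne_one hs) hf)
  have h2 := (h.comp hu).fixes_of_mem hp hne htp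
  have h3 := h.symm hu htD hut h2
  have h4 := fixes_mul h3 h1
  rw [← mul_assoc, h.sq hu, one_mul] at h4
  exact h.not_fixes htD (h.mem_of_mem hs ht htt ht1) (h.sq hs) (h.ne_one hs) (Ne.symm hts) h4

/-- **(5.5)** -/
theorem isBig_of_zero (h : W1 κ τ D L) (h52 : FxOr D L) (hu : u ∈ D) (hs : s ∈ D) (hsu : s ≠ u)
    (hus : s * u = u * s) (hf : Fixes s (L u)) : IsBig κ u (L u) s := by
  have hfu : Fixes u (L s) := h.symm hu hs hus.symm hf
  exact (big_or h h52 hu (h.sq hs) (h.ne_one hs) hsu hus hf).resolve_right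
    (not_big_mul h hs hu (Ne.symm hsu) hus.symm hfu)

/-- **(5.5)** -/
theorem mul_notMem (h : W1 κ τ D L) (h52 : FxOr D L) (hu : u ∈ D) (hs : s ∈ D) (hsu : s ≠ u)
    (hus : s * u = u * s) (hf : Fixes s (L u)) : s * u ∉ D := by
  intro hsuD
  have h1 := isBig_of_zero h h52 hu hs hsu hus hf
  have h2 := isBig_of_zero h h52 hu hsuD (fun he => h.ne_one hs (mul_eq_right.mp he))
    (comm_mul hus rfl) (fixes_mul hf (h.fixes_self hu))
  exact not_both h hu (h.sq hs) (h.ne_one hs) hsu hus hf h1 h2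

/-- inheritance: `s` of type (0) with `u`, `t ∈ L u` an involution commuting with `s` -/
theorem inherit (h : W1 κ τ D L) (h52 : FxOr D L) (hu : u ∈ D) (hs : s ∈ D) (hsu : s ≠ u)
    (hus : s * u = u * s) (hf : Fixes s (L u)) (ht : t ∈ pump s (L u)) (htt : t * t = 1) (ht1 : t ≠ 1) :
    t ∈ D ∧ s * t = t * s ∧ Fixes s (L t) ∧ pump s (L t) = pump s (L u) := by
  obtain ⟨h1, h2, h3, h4, -⟩ := h.of_mem_pump hu (h.sq hs) (h.ne_one hs) hus hf
    (isBig_of_zero h h52 hu hs hsu hus hf) ht htt ht1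
  exact ⟨h1, h2, h3, h4⟩

/-- the contradiction in (5.6) -/
theorem split_aux (h : W1 κ τ D L) (h52 : FxOr D L) (hu : u ∈ D) {l k : G} (hl : l ∈ L u)
    (hll : l * l = 1) (hl1 : l ≠ 1) (hlu : l ≠ u) (hkk : k * k = 1) (hk1 : k ≠ 1) (hk : k * u = u * k) (hkl : k * l = l * k) (hf : Fixes k (L u)) (hb : IsBig κ u (L u) k)
    (hD : k * l ∈ D) : False := by
  have hlD := h.inv_mem hu hl hll hl1
  have h1 := h.fixes_of_isBig hu hkk hk1 hk hf hl hll hl1 hkl hb
  have h2 := (h.isBig_of_fixes hu hkk hk hf hl hll hl1 hlu hkl hk1 h1).2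
  have hkne : k ≠ l := by
    rintro rfl
    exact h.not_fixes hu hl hll hl1 hlu hf
  have h3 := isBig_of_zero h h52 hlD hD (fun he => hk1 (mul_eq_right.mp he))
    (comm_mul hkl rfl) (fixes_mul h1 (h.fixes_self hlD))
  exact not_both h hlD hkk hk1 hkne hkl h1 h2 h3

/-- **(5.6)**: if `s ∈ D ∩ C(u)` acts on `L u` as the involution `l ∈ L u` does then `s ∈ L u`. -/
theorem mem_of_inner (h : W1 κ τ D L) (h52 : FxOr D L) (hu : u ∈ D) (hs : s ∈ D)
    (hus : s * u = u * s) {l : G} (hl : l ∈ L u) (hll : l * l = 1) (hl1 : l ≠ 1) (hlu : l ≠ u)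
    (hsl : s * l = l * s) (hf : Fixes (l * s) (L u)) : s ∈ L u := by
  by_contra hsL
  have hlu' := h.comm hu hl
  obtain ⟨k, hk⟩ : ∃ k, k = l * s := ⟨_, rfl⟩
  have hkk : k * k = 1 := by rw [hk]; exact mul_sq hll (h.sq hs) hsl.symm
  have hsk : s = k * l := by rw [hk, mul_assoc, hsl, ← mul_assoc, hll, one_mul]
  have hku : k * u = u * k := by rw [hk]; exact comm_mul hlu' hus
  have hkl : k * l = l * k := by rw [← hsk, hk, ← mul_assoc, hll, one_mul]
  rw [← hk] at hf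
  have hk1 : k ≠ 1 := by
    rintro rfl
    rw [one_mul] at hsk
    exact hsL (hsk ▸ hl)
  have hkne : k ≠ u := by
    rintro rfl
    exact hsL (hsk ▸ (L k).mul_mem (h.mem hu) hl)
  rcases big_or h h52 hu hkk hk1 hkne hku hf with hbig | hbig
  · exact split_aux h h52 hu hl hll hl1 hlu hkk hk1 hku hkl hf hbig (hsk ▸ hs)
  · refine split_aux h h52 hu (l := l * u) (k := k * u) ((L u).mul_mem hl (h.mem hu))
      (mul_sq hll (h.sq hu) hlu') (mul_ne_one (h.sq hu) hlu) (fun he => hl1 (mul_eq_right.mp he))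
      (mul_sq hkk (h.sq hu) hku) (mul_ne_one (h.sq hu) hkne)
      (comm_mul hku rfl) ?_ (fixes_mul hf (h.fixes_self hu)) hbig ?_
    · rw [show k * u * (l * u) = k * (u * l) * u by group, ← hlu',
        show l * u * (k * u) = l * (u * k) * u by group, ← hku,
        show k * (l * u) * u = (k * l) * (u * u) by group,
        show l * (k * u) * u = (l * k) * (u * u) by group, hkl]
    · rw [show k * u * (l * u) = k * (u * l) * u by group, ← hlu',
        show k * (l * u) * u = (k * l) * (u * u) by group, h.sq hu, mul_one, ← hsk]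
      exact hs

end Cfsg.Agent.UGT.I34.WOneC.Five
end

-- part: UGT/I34/WOneC/Cc
section
/-!
# I34 [A], world W1: pairs of type c — (C1), (C2), (C5)

`ExY`, `CcMul`: the K-facts lifted (helper15), `OfCmp`: `u` is the only involution of a pump-up of `L u` fixing
`L u`. (C2) and (C5) by helper15's argument: if `(u, v)` is of type c then some involution of `L u ∩ L v` commutes
with a given involution `d` of `C(u, v)` fixing `L u`.
-/

set_option autoImplicit false

open Cfsg Subgroup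
open Cfsg.Agent.SignalizersComponents Cfsg.Agent.Lib
open Cfsg.Agent.SignalizersComponents.IntrinsicBasic
open Cfsg.Agent.SignalizersComponents.PLayerAut
open Cfsg.Agent.Intrinsic
open Cfsg.Agent.Intrinsic.Basic hiding IsPair PQS Target IsPair.sq IsPair.ne_one IsPair.cj
open Cfsg.Agent.Intrinsic.Cen hiding pair_comm pair_mem_cen exists_pump pump_unique
open Cfsg.Agent.Intrinsic.Quot hiding Big isPair_quot small_or_big
open Cfsg.Agent.UGT.I34.Pair Cfsg.Agent.UGT.I34.KF Cfsg.Agent.UGT.I34.WOne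
open Cfsg.Agent.McLLyComp.Act (fixes_mul)

namespace Cfsg.Agent.UGT.I34.WOneC.Cc

open Cfsg.Agent.UGT.I34.WOneC.Five

universe v

variable {G : Type v} [Group G] [Finite G] {κ : Kind.{v}} {τ : Bool} {D : Set G} {L : G → Subgroup G}
  {u v t x s j y : G}

/-- type c -/
structure C (D : Set G) (L : G → Subgroup G) (u v : G) : Prop where
  left : u ∈ D
  right : v ∈ D
  comm : v * u = u * v
  notMem : v ∉ L u
  notFix : ¬ Fixes v (L u)

/-- `C_{L u}(v, d)` contains an involution different from `u` if `(u, v)` is of type c, `d` fixes `L u`. -/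
def ExY (D : Set G) (L : G → Subgroup G) : Prop :=
  ∀ u v : G, C D L u v → ∀ d : G, d * d = 1 → d * u = u * d → d * v = v * d → Fixes d (L u) →
    ∃ y ∈ L u, y * y = 1 ∧ y ≠ 1 ∧ y ≠ u ∧ y * v = v * y ∧ y * d = d * y

/-- the product of two commuting elements of type c on `L u` is not of type c on `L u` -/
def CcMul (D : Set G) (L : G → Subgroup G) : Prop :=
  ∀ u v w : G, C D L u v → C D L u w → v * w = w * v → v * w ∈ D → ¬ C D L u (v * w)

/-- the only involution of a pump-up of `L u` fixing `L u` is `u` -/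
def OfCmp (D : Set G) (L : G → Subgroup G) : Prop :=
  ∀ u ∈ D, ∀ x : G, x * x = 1 → x ≠ 1 → x ≠ u → x * u = u * x → Fixes x (L u) →
    ∀ a ∈ pump x (L u), a * a = 1 → a ≠ 1 → a * u = u * a → Fixes a (L u) → a = u

theorem C.symm (h : W1 κ τ D L) (hc : C D L u v) : C D L v u := by
  refine ⟨hc.right, hc.left, hc.comm.symm, fun h1 => ?_, fun h1 => ?_⟩
  · exact hc.notMem (h.mem_of_mem hc.right h1 (h.sq hc.left) (h.ne_one hc.left))
  · exact hc.notFix (h.symm hc.right hc.left hc.comm h1)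

theorem C.ne (h : W1 κ τ D L) (hc : C D L u v) : v ≠ u := by
  rintro rfl
  exact hc.notMem (h.mem hc.left)

/-- (C1) -/
theorem C.mul_mem (h : W1 κ τ D L) (hc : C D L u v) : u * v ∈ D := by
  obtain ⟨g, -, hg⟩ := h.swap hc.left hc.right hc.comm.symm hc.notFix
  have h1 := h.conj hc.right g⁻¹
  rw [inv_inv, hg, hc.comm] at h1
  exact h1

/-- (5.6) for `L v`: an involution `y ≠ u` of `L u` commuting with `v` does not fix `L v` -/
theorem C.not_fixes (h : W1 κ τ D L) (hc : C D L u v) (hy : y ∈ L u) (hyy : y * y = 1) (hy1 : y ≠ 1)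
    (hyv : y * v = v * y) : ¬ Fixes y (L v) := by
  intro hf
  have hv := hc.right
  have hyD := h.inv_mem hc.left hy hyy hy1
  have huy := h.mem_of_mem hc.left hy hyy hy1
  have hfv : Fixes v (L y) := h.symm hv hyD hyv.symm hf
  have hM := pump_comp (h.pair hyD) (h.sq hv) hyv.symm hfv
  have huM : u ∈ pump v (L y) := mem_pump_of_mem (h.pair hyD) (h.sq hv) hyv.symm hfv huy
    hc.comm.symm (k := 1) (by rw [pow_one, pow_two, h.sq hc.left])
  by_cases e : L v = pump v (L y)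
  · rw [← e] at huM
    exact (hc.symm h).notMem huM
  · exact (hc.symm h).notFix ((h.comp hv).fixes_of_mem hM e huM)

/-- helper15's argument -/
theorem C.pick (h : W1 κ τ D L) (hY : ExY D L) (hcc : CcMul D L) (hc : C D L u v) {d : G}
    (hdd : d * d = 1) (hdu : d * u = u * d) (hdv : d * v = v * d) (hfd : Fixes d (L u)) :
    ∃ y ∈ L u, y ∈ L v ∧ y * y = 1 ∧ y ≠ 1 ∧ y ≠ u ∧ y * v = v * y ∧ y * d = d * y := by
  obtain ⟨y, hy, hyy, hy1, hyu, hyv, hyd⟩ := hY u v hc d hdd hdu hdv hfd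
  have hu := hc.left
  have hyu' := h.comm hu hy
  have hyD := h.inv_mem hu hy hyy hy1
  -- `u y`
  have hm : u * y ∈ L u := (L u).mul_mem (h.mem hu) hy
  have hmm : u * y * (u * y) = 1 := mul_sq (h.sq hu) hyy hyu'.symm
  have hm1 : u * y ≠ 1 := mul_ne_one hyy (Ne.symm hyu)
  have hmu : u * y ≠ u := fun e => hy1 (mul_eq_left.mp e)
  have hmv : u * y * v = v * (u * y) := comm_mul hc.comm.symm hyv
  have hmd : u * y * d = d * (u * y) := comm_mul hdu.symm hyd
  have hmD := h.inv_mem hu hm hmm hm1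
  by_cases h1 : y ∈ L v
  · exact ⟨y, hy, h1, hyy, hy1, hyu, hyv, hyd⟩
  · have h2 := hc.not_fixes h hy hyy hy1 hyv
    have h3 := hc.not_fixes h hm hmm hm1 hmv
    refine ⟨u * y, hm, ?_, hmm, hm1, hmu, hmv, hmd⟩
    by_contra h4
    exact hcc v u y (hc.symm h) ⟨hc.right, hyD, hyv, h1, h2⟩ hyu'.symm hmD
      ⟨hc.right, hmD, hmv, h4, h3⟩

/-- (C2) -/
theorem mem_pump_of_C (h : W1 κ τ D L) (h52 : FxOr D L) (hY : ExY D L) (hcc : CcMul D L) (hs : s ∈ D)
    (hsu : s ≠ u) (hus : s * u = u * s) (hf : Fixes s (L u)) (hc : C D L u v)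
    (hvs : v * s = s * v) : v ∈ pump s (L u) := by
  have hu := hc.left
  have hv := hc.right
  obtain ⟨y, hy, hyv, hyy, hy1, hyu, hyv', hys⟩ := hc.pick h hY hcc (h.sq hs) hus hvs.symm hf
  have hyp := mem_pump_of_mem (h.pair hu) (h.sq hs) hus hf hy hys (k := 1)
    (by rw [pow_one, pow_two, hyy])
  obtain ⟨hyD, hsy, hfy, he⟩ := inherit h h52 hu hs hsu hus hf hyp hyy hy1
  have hvy := h.mem_of_mem hv hyv hyy hy1
  rw [← he]
  exact mem_pump_of_mem (h.pair hyD) (h.sq hs) hsy hfy hvy hvs (k := 1)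
    (by rw [pow_one, pow_two, h.sq hv])

/-- `u ∈ J` does not fix the pump-up `M` when `s` is of type (0) with `u` -/
theorem not_fixes_zero (h : W1 κ τ D L) (h52 : FxOr D L) (hu : u ∈ D) (hs : s ∈ D) (hsu : s ≠ u)
    (hus : s * u = u * s) (hf : Fixes s (L u)) : ¬ Fixes u (pump s (L u)) :=
  (isBig_of_zero h h52 hu hs hsu hus hf).not_fixes h.tgt (h.pair hu) (h.sq hs) hus hf

/-- the pump-ups of `L u` in `C(s)` and in `C(y)` (`y ∈ L s`, both of type (0) with `u`) have the same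
centralizers of `y`, `s`. -/
theorem cen_pump_eq (h : W1 κ τ D L) (h52 : FxOr D L) (hu : u ∈ D) (hs : s ∈ D) (hsu : s ≠ u)
    (hus : s * u = u * s) (hf : Fixes s (L u)) (hy : y ∈ L s) (hyy : y * y = 1) (hy1 : y ≠ 1)
    (hyu : y * u = u * y) :
    cen (pump s (L u)) y = cen (pump y (L u)) s ∧ Fixes y (pump s (L u)) ∧ y ∈ D ∧ y ≠ u ∧
      Fixes y (L u) := by
  have hfu : Fixes u (L s) := h.symm hu hs hus.symm hf
  have hyD := h.inv_mem hs hy hyy hy1
  have hsy := h.mem_of_mem hs hy hyy hy1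
  have hys := h.comm hs hy
  have hyu0 : y ≠ u := by
    rintro rfl
    exact hsu (h.eq_of_fixes hs hy hyy hy1 hfu).symm
  -- `u` is of type (0) with `y`
  have hyp := mem_pump_of_mem (h.pair hs) (h.sq hu) hus.symm hfu hy hyu (k := 1)
    (by rw [pow_one, pow_two, hyy])
  obtain ⟨-, huy, hfuy, -⟩ := inherit h h52 hs hu (Ne.symm hsu) hus.symm hfu hyp hyy hy1
  have hfy : Fixes y (L u) := h.symm hyD hu hyu hfuy
  have hM1 := pump_comp (h.pair hu) (h.sq hs) hus hf
  have hM2 := pump_comp (h.pair hu) hyy hyu hfy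
  have hu1 := mem_pump (h.pair hu) (h.sq hs) hus hf
  have hu2 := mem_pump (h.pair hu) hyy hyu hfy
  -- `y` fixes `M₁`, `s` fixes `M₂`
  have hf1 : Fixes y (pump s (L u)) := by
    refine hM1.fixes_of_mem (h.comp hs) ?_ hy
    intro e
    rw [e] at hu1
    exact hsu (h.eq_of_fixes hs hu1 (h.sq hu) (h.ne_one hu) hfu).symm
  have hf2 : Fixes s (pump y (L u)) := by
    refine hM2.fixes_of_mem (h.comp hyD) ?_ hsy
    intro e
    rw [e] at hu2
    exact hyu0 (h.eq_of_fixes hyD hu2 (h.sq hu) (h.ne_one hu) hfuy).symm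
  have hyC : y ∈ centralizer ({s} : Set G) := mem_centralizer_singleton_iff.mpr hys
  have hsC : s ∈ centralizer ({y} : Set G) := mem_centralizer_singleton_iff.mpr hys.symm
  have hJ1 := isComp_cen hM1 hyC hyy hf1
  have hJ2 := isComp_cen hM2 hsC (h.sq hs) hf2
  rw [inf_comm] at hJ2
  refine ⟨?_, hf1, hyD, hyu0, hfy⟩
  by_contra hne
  have huJ1 : u ∈ cen (pump s (L u)) y := mem_cen_of_sq hu1 hyu.symm (h.sq hu)
  have h3 := hJ2.1.fixes_of_mem hJ1.1 (Ne.symm hne) huJ1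
  refine not_fixes_zero h h52 hu hyD hyu0 hyu hfy ?_
  refine (fixes_iff_of_sup hJ2.2 ?_ ?_).mp h3
  · exact mem_normalizer_cen (le_normalizer hu2) hus.symm
  · exact le_normalizer hu2

/-- (C5) -/
theorem fixes_pump (h : W1 κ τ D L) (h52 : FxOr D L) (hY : ExY D L) (hcc : CcMul D L)
    (hof : OfCmp D L) (hu : u ∈ D) (hs : s ∈ D) (hsu : s ≠ u) (hus : s * u = u * s)
    (hf : Fixes s (L u)) (hj : j ∈ D) (hju : j ≠ u) (huj : j * u = u * j) (hfj : Fixes j (L u))
    (hsj : s * j = j * s) : Fixes j (pump s (L u)) := by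
  have hfu : Fixes u (L s) := h.symm hu hs hus.symm hf
  have hM1 := pump_comp (h.pair hu) (h.sq hs) hus hf
  have hu1 := mem_pump (h.pair hu) (h.sq hs) hus hf
  have hne1 : pump s (L u) ≠ L s := by
    intro e
    rw [e] at hu1
    exact hsu (h.eq_of_fixes hs hu1 (h.sq hu) (h.ne_one hu) hfu).symm
  by_cases h1 : j ∈ L s
  · exact hM1.fixes_of_mem (h.comp hs) hne1 h1
  by_cases h2 : Fixes j (L s)
  · -- type (0)
    have hjs : j ≠ s := by
      rintro rfl
      exact h1 (h.mem hj)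
    have hfs : Fixes s (L j) := h.symm hs hj hsj h2
    have hM3 := pump_comp (h.pair hj) (h.sq hs) hsj hfs
    have hj3 := mem_pump (h.pair hj) (h.sq hs) hsj hfs
    refine hM1.fixes_of_mem hM3 ?_ hj3
    intro e
    rw [← e] at hj3
    exact hju (hof u hu s (h.sq hs) (h.ne_one hs) hsu hus hf j hj3 (h.sq hj) (h.ne_one hj) huj hfj)
  · -- type c
    have hc : C D L s j := ⟨hs, hj, hsj.symm, h1, h2⟩
    obtain ⟨y, hy, hyj, hyy, hy1, -, hyj', hyu⟩ := hc.pick h hY hcc (h.sq hu) hus.symm huj.symm hfu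
    obtain ⟨he, hf1, hyD, hyu0, hfy⟩ := cen_pump_eq h h52 hu hs hsu hus hf hy hyy hy1 hyu
    have hjy := h.mem_of_mem hj hyj hyy hy1
    have hM2 := pump_comp (h.pair hu) hyy hyu hfy
    have hu2 := mem_pump (h.pair hu) hyy hyu hfy
    have hfuy : Fixes u (L y) := h.symm hu hyD hyu.symm hfy
    have hf2 : Fixes j (pump y (L u)) := by
      refine hM2.fixes_of_mem (h.comp hyD) ?_ hjy
      intro e
      rw [e] at hu2
      exact hyu0 (h.eq_of_fixes hyD hu2 (h.sq hu) (h.ne_one hu) hfuy).symm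
    have hjM1 : j ∈ normalizer (pump s (L u) : Set G) :=
      mem_normalizer_pump (h.pair hu) (h.sq hs) hus hf (h.norm hu huj) hsj.symm
    have hys := h.comm hs hy
    have hyC : y ∈ centralizer ({s} : Set G) := mem_centralizer_singleton_iff.mpr hys
    have hJ1 := isComp_cen hM1 hyC hyy hf1
    have hjJ1 : j ∈ normalizer (cen (pump s (L u)) y : Set G) := mem_normalizer_cen hjM1 hyj'.symm
    refine (fixes_iff_of_sup hJ1.2 hjJ1 hjM1).mp ?_
    rw [he] at hjJ1 ⊢
    exact fixes_of_le (cen_le _ _) hjJ1 hf2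

end Cfsg.Agent.UGT.I34.WOneC.Cc
end

-- part: UGT/I34/WOneC/ExY
section
/-!
# I34 [A], world W1: the fields `ExY` and `CcMul`

* `HEps D L` : type `eps` does not occur (section 3): `v ∈ D` commuting with `u` acts on `L u / O(L u)` as an inner
  automorphism or does not centralise the centre;
* `LiftInv κ` : the involutions of `K / Z(K)` lift to involutions of `K`;
* `exY`, `ccMul`.
-/

set_option autoImplicit false

open Cfsg Subgroup
open Cfsg.Agent.SignalizersComponents Cfsg.Agent.Lib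
open Cfsg.Agent.SignalizersComponents.IntrinsicBasic
open Cfsg.Agent.SignalizersComponents.PLayerAut
open Cfsg.Agent.Intrinsic
open Cfsg.Agent.Intrinsic.Basic hiding IsPair PQS Target IsPair.sq IsPair.ne_one IsPair.cj
open Cfsg.Agent.Intrinsic.Cen hiding pair_comm pair_mem_cen exists_pump pump_unique
open Cfsg.Agent.McLLyComp.Act
open Cfsg.Agent.UGT.I34.Pair Cfsg.Agent.UGT.I34.KF Cfsg.Agent.UGT.I34.WOne
open Cfsg.Agent.UGT.I34.KAut Cfsg.Agent.UGT.I34.FixLift Cfsg.Agent.UGT.I34.Elem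
open scoped commutatorElement

namespace Cfsg.Agent.UGT.I34.WOneC.ExY

open Cfsg.Agent.UGT.I34.WOneC.Five Cfsg.Agent.UGT.I34.WOneC.Cc

universe v

variable {G : Type v} [Group G] [Finite G] {κ : Kind.{v}} {τ : Bool} {D : Set G} {L : G → Subgroup G}
  {u v t x s j y : G}

/-- type `eps` does not occur -/
def HEps (D : Set G) (L : G → Subgroup G) : Prop :=
  ∀ u ∈ D, ∀ v ∈ D, v * u = u * v → ∀ hn : v ∈ normalizer (L u : Set G),
    act (L u) ⟨v, hn⟩ ∈ Inn (↥(L u) ⧸ oddCore ↥(L u)) ∨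
      ¬ ∀ i ∈ center (↥(L u) ⧸ oddCore ↥(L u)), act (L u) ⟨v, hn⟩ i = i

/-- the involutions of `K / Z(K)` lift to involutions of `K` -/
def LiftInv (κ : Kind.{v}) : Prop :=
  ∀ (K : Type v) [Group K] [Finite K], κ.P K → ∀ k : K, k * k ∈ center K → k ∉ center K →
    ∃ c ∈ center K, k * c * (k * c) = 1

omit [Finite G] in
theorem ne_of_notMem (hu : IsPair κ u (L u)) (hy : y ∈ L u)
    (hc : (QuotientGroup.mk ⟨y, hy⟩ : ↥(L u) ⧸ oddCore ↥(L u)) ∉ center (↥(L u) ⧸ oddCore ↥(L u))) :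
    y ≠ 1 ∧ y ≠ u := by
  constructor
  · rintro rfl
    exact hc (one_mem _)
  · rintro rfl
    exact hc (TypeEps.mk_mem_center hu)

/-- a lifted involution commuting with `v` and `d` -/
theorem exists_lift_comm {X : Subgroup G} {w v d : G} (hw : w ∈ X) (hww : w * w = 1) (hwv : w * v = v * w)
    (hvv : v * v = 1) (hv : v ∈ normalizer (X : Set G)) (hdd : d * d = 1) (hdv : d * v = v * d) (hf : Fixes d X) :
    ∃ y, ∃ hy : y ∈ X, y * y = 1 ∧ y * v = v * y ∧ y * d = d * y ∧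
      (QuotientGroup.mk ⟨y, hy⟩ : ↥X ⧸ oddCore ↥X) = QuotientGroup.mk ⟨w, hw⟩ := by
  have hwi : w⁻¹ = w := inv_eq_of_mul_eq_one_left hww
  have hnorm : ∀ t ∈ closure ({v, d} : Set G), t ∈ normalizer (X : Set G) ∧ ⁅w, t⁆ ∈ core X := by
    intro t ht
    induction ht using closure_induction with
    | mem t ht =>
      rcases ht with rfl | ht
      · refine ⟨hv, ?_⟩
        rw [commutatorElement_eq_one_iff_mul_comm.mpr hwv]
        exact one_mem _
      · rw [Set.mem_singleton_iff] at ht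
        subst ht
        refine ⟨hf.1, ?_⟩
        have h1 := inv_mem (hf.2 w hw)
        rwa [commutatorElement_inv] at h1
    | one => exact ⟨one_mem _, by rw [commutatorElement_def, mul_one, inv_one, mul_one, mul_inv_cancel]; exact one_mem _⟩
    | mul x y _ _ h1 h2 =>
      refine ⟨mul_mem h1.1 h2.1, ?_⟩
      have h3 : ⁅w, x * y⁆ = ⁅w, x⁆ * (x * ⁅w, y⁆ * x⁻¹) := by
        rw [commutatorElement_def, commutatorElement_def, commutatorElement_def]; group
      rw [h3]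
      exact mul_mem h1.2 (conj_mem_core h1.1 h2.2)
    | inv x _ h1 =>
      refine ⟨inv_mem h1.1, ?_⟩
      have h3 : ⁅w, x⁻¹⁆ = x⁻¹ * ⁅w, x⁆⁻¹ * x⁻¹⁻¹ := by
        rw [commutatorElement_def, commutatorElement_def]; group
      rw [h3]
      exact conj_mem_core (inv_mem h1.1) (inv_mem h1.2)
  obtain ⟨y, h1, h2, h3⟩ := SL.exists_fixed_involution (W := core X) (T := closure ({v, d} : Set G))
    (odd_card_core X) (TT.isPGroup_closure (by
      rintro x (rfl | rfl)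
      · exact hvv
      · exact hdd) (by
      rintro x (rfl | rfl) y (rfl | rfl)
      · rfl
      · exact hdv.symm
      · exact hdv
      · rfl)) hww (fun c hc => conj_mem_core (le_normalizer hw) hc)
    (fun t ht c hc => conj_mem_core (hnorm t ht).1 hc) (fun t ht => by
      have h4 := (hnorm t ht).2
      have h5 : ⁅w, t⁆ = w * (t * w * t⁻¹) := by
        rw [commutatorElement_def, hwi]; group
      rwa [h5] at h4)
  have hyX : y ∈ X := by
    have h4 : y = w⁻¹ * (w * y) := by group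
    rw [h4]
    exact mul_mem (inv_mem hw) (core_le X h1)
  refine ⟨y, hyX, h2, (h3 v (subset_closure (by simp))).symm, (h3 d (subset_closure (by simp))).symm, ?_⟩
  rw [mk_eq_iff]
  have h4 : y⁻¹ * w = (w * y)⁻¹ := by rw [mul_inv_rev, hwi]
  rw [h4]
  exact inv_mem h1

omit [Finite G] in
theorem act_ne_one (hc : C D L u v) (hn : v ∈ normalizer (L u : Set G)) : act (L u) ⟨v, hn⟩ ≠ 1 :=
  fun h => hc.notFix ((act_eq_one_iff hn).mp h)

/-- **`ExY`** -/
theorem exY (h : W1 κ τ D L) (E : KG κ) (he : HEps D L) : Cc.ExY D L := by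
  intro u v hc d hdd hdu hdv hfd
  have hu := hc.left
  have hv := hc.right
  have hp := h.pair hu
  have hn : v ∈ normalizer (L u : Set G) := h.norm hu hc.comm
  obtain ⟨w, hwc, hww, hwf, -⟩ := E.elt hp.kind _ (act_sq (h.sq hv) hn) (act_ne_one hc hn)
    (he u hu v hv hc.comm hn) _ (TypeEps.mk_mem_center hp) (TypeEps.mk_sq hp) (TypeEps.mk_ne_one hp)
  obtain ⟨w, hwX, hwv, hw2, rfl⟩ := exists_lift_two hn (n := 1) (by rw [pow_one, pow_two, h.sq hv]) hwf
    (m := 1) (by rw [pow_one, pow_two, hww])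
  rw [pow_one, pow_two] at hw2
  obtain ⟨y, hy, hyy, hyv, hyd, hyw⟩ := exists_lift_comm hwX hw2 hwv (h.sq hv) hn hdd hdv hfd
  obtain ⟨h1, h2⟩ := ne_of_notMem hp hy (by rw [hyw]; exact hwc)
  exact ⟨y, hy, hyy, h1, h2, hyv, hyd⟩

/-- an element of `D` of type c does not act as an inner automorphism -/
theorem not_inner (h : W1 κ τ D L) (h52 : FxOr D L) (hL : LiftInv κ) (hc : C D L u v)
    (hn : v ∈ normalizer (L u : Set G)) : act (L u) ⟨v, hn⟩ ∉ Inn (↥(L u) ⧸ oddCore ↥(L u)) := by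
  rintro ⟨k, hk⟩
  have hu := hc.left
  have hv := hc.right
  have hp := h.pair hu
  have hconj : ∀ {a : ↥(L u) ⧸ oddCore ↥(L u)}, MulAut.conj a = 1 → a ∈ center (↥(L u) ⧸ oddCore ↥(L u)) := by
    intro a ha
    rw [mem_center_iff]
    intro b
    have h1 : a * b * a⁻¹ = b := by rw [← MulAut.conj_apply, ha]; rfl
    calc b * a = a * b * a⁻¹ * a := by rw [h1]
      _ = a * b := by group
  have hkk : k * k ∈ center (↥(L u) ⧸ oddCore ↥(L u)) := by
    apply hconj
    rw [map_mul, hk]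
    exact act_sq (h.sq hv) hn
  have hkc : k ∉ center (↥(L u) ⧸ oddCore ↥(L u)) := by
    intro h1
    apply act_ne_one hc hn
    rw [← hk]
    ext b
    rw [MulAut.conj_apply, ← mem_center_iff.mp h1 b, mul_inv_cancel_right]
    rfl
  obtain ⟨c, hcc, hc1⟩ := hL _ hp.kind k hkk hkc
  -- `l = k c`
  have hl : act (L u) ⟨v, hn⟩ = MulAut.conj (k * c) := by
    rw [← hk, map_mul]
    have h1 : (MulAut.conj c : MulAut (↥(L u) ⧸ oddCore ↥(L u))) = 1 := by
      ext b
      rw [MulAut.conj_apply, ← mem_center_iff.mp hcc b, mul_inv_cancel_right]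
      rfl
    rw [h1, mul_one]
  have hlf : k * c ∈ fixed (act (L u) ⟨v, hn⟩) := by
    rw [mem_fixed, hl, MulAut.conj_apply, mul_inv_cancel_right]
  have hlc : k * c ∉ center (↥(L u) ⧸ oddCore ↥(L u)) := by
    intro h1
    apply hkc
    have := mul_mem h1 (inv_mem hcc)
    rwa [mul_inv_cancel_right] at this
  obtain ⟨l, hlX, hlv, hl2, hlk⟩ := exists_lift_two hn (n := 1) (by rw [pow_one, pow_two, h.sq hv]) hlf
    (m := 1) (by rw [pow_one, pow_two, hc1])
  rw [pow_one, pow_two] at hl2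
  rw [← hlk] at hlc
  obtain ⟨h1, h2⟩ := ne_of_notMem hp hlX hlc
  refine hc.notMem (mem_of_inner h h52 hu hv hc.comm hlX hl2 h1 h2 hlv.symm ?_)
  rw [← act_eq_one_iff (mul_mem (le_normalizer hlX) hn), act_mul (le_normalizer hlX) hn, act_of_mem hlX, hl, ← map_mul,
    hlk, hc1, map_one]

/-- an automorphism maps a generator of the cyclic centre to itself or its inverse -/
theorem center_or (hF : Facts (↥(L u) ⧸ oddCore ↥(L u)) τ) (φ : MulAut (↥(L u) ⧸ oddCore ↥(L u))) :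
    (∀ i ∈ center (↥(L u) ⧸ oddCore ↥(L u)), φ i = i) ∨ ∀ i ∈ center (↥(L u) ⧸ oddCore ↥(L u)), φ i = i⁻¹ := by
  obtain ⟨i, hi, hz⟩ := hF.exists_i
  have hφ : φ i ∈ center (↥(L u) ⧸ oddCore ↥(L u)) := by
    have h1 : i ∈ center (↥(L u) ⧸ oddCore ↥(L u)) := by rw [hz]; exact mem_zpowers i
    rw [mem_center_iff] at h1 ⊢
    intro g
    have h2 := congrArg φ (h1 (φ.symm g))
    rw [map_mul, map_mul, MulEquiv.apply_symm_apply] at h2
    exact h2
  have hord : orderOf (φ i) = 4 := by rw [← hi]; exact orderOf_injective φ.toMonoidHom φ.injective i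
  rw [hz] at hφ ⊢
  have hpow : ∀ {a b : ↥(L u) ⧸ oddCore ↥(L u)}, a = b → ∀ n : ℤ, a ^ n = b ^ n := fun h n => by rw [h]
  classical
  rw [mem_zpowers_iff_mem_range_orderOf, hi] at hφ
  simp only [Finset.mem_image, Finset.mem_range] at hφ
  obtain ⟨n, hn, hin⟩ := hφ
  have hi4 : i ^ 4 = 1 := by rw [← hi, pow_orderOf_eq_one]
  interval_cases n
  · exfalso
    rw [pow_zero] at hin
    rw [← hin, orderOf_one] at hord
    omega
  · left
    rintro _ ⟨m, rfl⟩
    change φ (i ^ m) = i ^ m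
    rw [map_zpow, ← hin, pow_one]
  · exfalso
    have h1 : φ i ^ 2 = 1 := by rw [← hin, ← pow_mul, hi4]
    have h2 := orderOf_dvd_of_pow_eq_one h1
    rw [hord] at h2
    omega
  · right
    have h1 : φ i = i⁻¹ := by
      rw [← hin, eq_inv_iff_mul_eq_one, ← pow_succ, hi4]
    rintro _ ⟨m, rfl⟩
    change φ (i ^ m) = (i ^ m)⁻¹
    rw [map_zpow, h1, inv_zpow]

/-- **`CcMul`** -/
theorem ccMul (h : W1 κ τ D L) (h52 : FxOr D L) (hL : LiftInv κ) (he : HEps D L) : CcMul D L := by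
  intro u v w hv hw hvw hD hcon
  have hu := hv.left
  have hnv : v ∈ normalizer (L u : Set G) := h.norm hu hv.comm
  have hnw : w ∈ normalizer (L u : Set G) := h.norm hu hw.comm
  have hF := h.facts hu
  have inv : ∀ {v : G} (hc : C D L u v) (hn : v ∈ normalizer (L u : Set G)),
      ∀ i ∈ center (↥(L u) ⧸ oddCore ↥(L u)), act (L u) ⟨v, hn⟩ i = i⁻¹ := by
    intro v hc hn
    rcases center_or hF (act (L u) ⟨v, hn⟩) with h1 | h1
    · exfalso
      rcases he u hu v hc.right hc.comm hn with h2 | h2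
      · exact not_inner h h52 hL hc hn h2
      · exact h2 h1
    · exact h1
  have h1 := inv hv hnv
  have h2 := inv hw hnw
  have h3 : ∀ i ∈ center (↥(L u) ⧸ oddCore ↥(L u)), act (L u) ⟨v * w, mul_mem hnv hnw⟩ i = i := by
    intro i hi
    rw [act_mul hnv hnw, MulAut.mul_apply, h2 i hi, map_inv, h1 i hi, inv_inv]
  rcases he u hu _ hD hcon.comm (mul_mem hnv hnw) with h4 | h4
  · exact not_inner h h52 hL hcon _ h4
  · exact h4 h3

end Cfsg.Agent.UGT.I34.WOneC.ExY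
end

-- part: UGT/I34/WOneC/Frame
section
/-!
Theorem I34, part [A], world W1a (pairs of type (0)) of `4_1.L₃(4)`: the abstract record `FrameC`.

It is `WOneA.Frame` (S1738, section 5b) for a world with a third kind of commuting pairs of elements of `D`
(type c: `v ∉ L u`, `v ∉ K u`): no trichotomy, `prodC` = (C1), `memC` = (C2), `of_cmp` weakened, `cen5` = (C5).
-/

set_option autoImplicit false

namespace Cfsg.Agent.UGT.I34.WOneC

open Subgroup Cfsg
open Cfsg.Agent.SignalizersComponents.PLayerAut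
open Cfsg.Agent.SignalizersComponents.IntrinsicBasic
open Cfsg.Agent.SignalizersComponents.RelSylow
open Cfsg.Agent.Intrinsic.WOneA (Ce OC)

/-- The output of section 5 in the world with pairs of type (0) and type c. -/
structure FrameC (G : Type*) [Group G] where
  /-- the class `D` -/
  D : Set G
  /-- `L u = L_u` -/
  L : G → Subgroup G
  /-- `cmp x u = M_x(L_u)` -/
  cmp : G → G → Subgroup G
  ord : ∀ u ∈ D, orderOf u = 2
  conj : ∀ u ∈ D, ∀ g : G, g * u * g⁻¹ ∈ D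
  one_class : ∀ u ∈ D, ∀ v ∈ D, ∃ g : G, g * u * g⁻¹ = v
  L_conj : ∀ u ∈ D, ∀ g : G, L (g * u * g⁻¹) = cj g (L u)
  L_comp : ∀ u ∈ D, TC (Ce u) (L u)
  self_mem : ∀ u ∈ D, u ∈ L u
  /-- (5.1) and all involutions of `L u` are in `D` -/
  invol : ∀ u ∈ D, ∀ t ∈ L u, orderOf t = 2 → t ∈ D ∧ u ∈ L t
  /-- `Z(L u / O(L u))` has `u` as its only involution -/
  inf_eq : ∀ u ∈ D, ∀ t ∈ L u, orderOf t = 2 → t ∈ cenMod (Ce u) (L u) → t = u
  /-- type (0) is symmetric -/
  symm : ∀ u ∈ D, ∀ v ∈ D, v ∈ cenMod (Ce u) (L u) → u ∈ cenMod (Ce v) (L v)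
  /-- (5.5): the product of a pair of type (0) is not in `D` -/
  prod : ∀ u ∈ D, ∀ v ∈ D, u ≠ v → v ∈ cenMod (Ce u) (L u) → u * v ∉ D
  /-- (C1): the product of a pair of type c is in `D` -/
  prodC : ∀ u ∈ D, ∀ v ∈ D, Commute u v → v ∉ L u → v ∉ cenMod (Ce u) (L u) → u * v ∈ D
  /-- a 2-group `V` centralizing `L u` modulo core centralizes some involution `≠ u` of `L u` -/
  exists_inv : ∀ u ∈ D, ∀ V : Subgroup G, IsPGroup 2 V → V ≤ cenMod (Ce u) (L u) →
    ∃ t ∈ L u, orderOf t = 2 ∧ t ≠ u ∧ ∀ v ∈ V, Commute t v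
  /-- elements `t` of `D` commuting with `u` and not centralizing `L u` modulo core do not centralize a Sylow
  2-subgroup of `L u` -/
  sylow : ∀ u ∈ D, ∀ t ∈ D, Commute t u → t ∉ cenMod (Ce u) (L u) → ∀ P : Subgroup G,
    IsMaxP 2 (L u) P → ∃ p ∈ P, ¬ Commute p t
  cmp_comp : ∀ u ∈ D, ∀ x ∈ cenMod (Ce u) (L u), orderOf x = 2 → TC (Ce x) (cmp x u)
  cmp_self : ∀ u ∈ D, cmp u u = L u
  cmp_conj : ∀ u ∈ D, ∀ x ∈ cenMod (Ce u) (L u), orderOf x = 2 → ∀ g : G,
    cmp (g * x * g⁻¹) (g * u * g⁻¹) = cj g (cmp x u)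
  /-- 2-elements of `L u` commuting with `x` are in `M_x(L_u)` -/
  mem_cmp : ∀ u ∈ D, ∀ x ∈ cenMod (Ce u) (L u), orderOf x = 2 → ∀ a ∈ L u, ∀ n : ℕ,
    a ^ 2 ^ n = 1 → Commute a x → a ∈ cmp x u
  /-- (C2): `s ≠ u` of type (0), `v` not of type (0), `u, v, s` commuting: `v ∈ M_s(L_u)` -/
  memC : ∀ u ∈ D, ∀ s ∈ D, u ≠ s → s ∈ cenMod (Ce u) (L u) → ∀ v ∈ D, Commute v u → Commute v s →
    v ∉ cenMod (Ce u) (L u) → v ∈ cmp s u
  /-- (C2'): `u` is the only involution of `M_x(L_u)` centralizing `L u` modulo core -/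
  of_cmp : ∀ u ∈ D, ∀ x ∈ cenMod (Ce u) (L u), orderOf x = 2 → ∀ a ∈ cmp x u, orderOf a = 2 →
    a ∈ cenMod (Ce u) (L u) → a = u
  /-- all involutions of `M_x(L_u)` are in `D` -/
  cmp_inv : ∀ u ∈ D, ∀ x ∈ cenMod (Ce u) (L u), orderOf x = 2 → ∀ t ∈ cmp x u, orderOf t = 2 →
    t ∈ D
  /-- an involution centralizing `M_x(L_u)` modulo core (and `u`) centralizes `L u` modulo core -/
  cmp_cen : ∀ u ∈ D, ∀ x ∈ cenMod (Ce u) (L u), orderOf x = 2 → ∀ c : G, orderOf c = 2 →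
    Commute c u → c ∈ cenMod (Ce x) (cmp x u) → c ∈ cenMod (Ce u) (L u)
  /-- (5.5): for a pair of type (0) `M_s(L_u)` is big: all its involutions are conjugate in it -/
  big : ∀ u ∈ D, ∀ s ∈ D, u ≠ s → s ∈ cenMod (Ce u) (L u) → ∀ t ∈ cmp s u, orderOf t = 2 →
    ∃ g ∈ cmp s u, g * u * g⁻¹ = t
  /-- (C5): commuting `s, j` of type (0) with `u`: `j` centralizes `M_s(L_u)` modulo core -/
  cen5 : ∀ u ∈ D, ∀ s ∈ D, u ≠ s → s ∈ cenMod (Ce u) (L u) → ∀ j ∈ D, u ≠ j →
    j ∈ cenMod (Ce u) (L u) → Commute s j → j ∈ cenMod (Ce s) (cmp s u)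
  /-- (5.3): `M_x(L_u)` is small (`u` central modulo core) if `x ∉ K_t` for one `t` -/
  small : ∀ u ∈ D, ∀ x ∈ cenMod (Ce u) (L u), orderOf x = 2 → ∀ t ∈ L u, orderOf t = 2 → t ≠ u →
    Commute t x → x ∉ cenMod (Ce t) (L t) → u ∈ cenMod (Ce x) (cmp x u)
  /-- the diagonal: if `b` swaps `v` and `v'` (a pair of type (0)) then `v v'` is in a 2-component of `C(b)` -/
  diag : ∀ b : G, orderOf b = 2 → ∀ v ∈ D, b * v * b⁻¹ ≠ v →
    b * v * b⁻¹ ∈ cenMod (Ce v) (L v) → ∃ N, TC (Ce b) N ∧ v * (b * v * b⁻¹) ∈ N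
  /-- balance for pairs of type (0) -/
  bal : ∀ u ∈ D, ∀ s ∈ D, u ≠ s → s ∈ cenMod (Ce u) (L u) → ∀ x ∈ OC u, Commute x s → x ∈ OC s
  /-- (SE0): if `O(C(s)) = 1`, the commuting graph on the involutions of the big component `M_s(L_u)` is
  connected -/
  se : ∀ u ∈ D, ∀ s ∈ D, u ≠ s → s ∈ cenMod (Ce u) (L u) → OC s = ⊥ → ∀ S : Set G, u ∈ S →
    (∀ t ∈ S, ∀ t' ∈ cmp s u, orderOf t' = 2 → Commute t t' → t' ∈ S) →
    ∀ t ∈ cmp s u, orderOf t = 2 → t ∈ S

namespace FrameC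

variable {G : Type*} [Group G] (F : FrameC G)

/-- `K_u` -/
def K (u : G) : Subgroup G := cenMod (Ce u) (F.L u)

/-- pairs of type (0) -/
structure Z (u s : G) : Prop where
  left : u ∈ F.D
  right : s ∈ F.D
  ne : u ≠ s
  mem : s ∈ F.K u

/-- commuting elements of `D` which are not of type (0) (or equal) -/
structure A (u v : G) : Prop where
  left : u ∈ F.D
  right : v ∈ F.D
  comm : Commute u v
  nz : ¬ F.Z u v

end FrameC

end Cfsg.Agent.UGT.I34.WOneC
end

-- part: UGT/I34/OnSupE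
section
/-!
# THEOREM I34, part [A], (5.5), second half: the elements of `D ∩ T` outside `L z`

* `xc`: some `x ∈ D ∩ T` is pure of type `(true, true)` up to `E p`
* `nog`: `D ∩ C_T(F) ⊆ F`
-/

set_option autoImplicit false
set_option linter.unusedSectionVars false

open Cfsg Subgroup
open Cfsg.Agent.SignalizersComponents Cfsg.Agent.Lib
open Cfsg.Agent.SignalizersComponents.IntrinsicBasic
open Cfsg.Agent.SignalizersComponents.PLayerAut
open Cfsg.Agent.Intrinsic
open Cfsg.Agent.Intrinsic.Basic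
open Cfsg.Agent.McLLyComp.Act
open Cfsg.Agent.Lib.GoldschmidtFusion (exists_sylow_in exists_conj_le_in card_map_conj)
open Cfsg.Agent.UGT.I34.KF (NInv Y mem_Y)
open Cfsg.Agent.UGT.Cov.FourK (S YS F)
open Cfsg.Agent.SporadicA.FieldFour
open Cfsg.Agent.StdL34 (Code cmul ctau Ty cone cinv)
open Cfsg.Agent.ONType.Span (Indep)
open scoped commutatorElement

namespace Cfsg.Agent.UGT.I34.OnSupE

open OnSupA OnSupB OnSupC OnSupD

variable {G : Type*} [Group G] [Finite G]

variable {D : Set G} {L : G → Subgroup G} {R T T' : Subgroup G} {u z e w a b : G}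
  {B : StdL34.Cov (↥(L z) ⧸ oddCore ↥(L z))} {E : Code → G}

/-! ### type `c` -/

theorem tau_e0 : ∀ τ : Ty, ctau true τ ⟨0, 0, 1, 0⟩ = ⟨0, 0, 1, 0⟩ := by decide +kernel

private noncomputable def _root_.Cfsg.Agent.KOd540191.k0 : type_of% @Decidable.decide := @(fun x0 x1 => @Decidable.rec.{1} _ @(fun x2 => @Bool) @(fun x2 => @Bool.false) @(fun x2 => @Bool.true) @x1)
private theorem _root_.Cfsg.Agent.KOd540191.e0 : @Decidable.decide = @_root_.Cfsg.Agent.KOd540191.k0 := by delta _root_.Cfsg.Agent.KOd540191.k0; rfl'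
private noncomputable def _root_.Cfsg.Agent.KOd540191.k14 : type_of% @instDecidableOr := @(fun x0 x1 x2 x3 => @Decidable.rec.{1} _ @(fun x4 => @Decidable (@Or @x0 @x1)) @(fun x4 => @Decidable.rec.{1} _ @(fun x5 => @Decidable (@Or @x0 @x1)) @(fun x5 => @Decidable.isFalse _ (@instDecidableOr._proof_1 _ _ @x4 @x5)) @(fun x5 => @Decidable.isTrue _ (@Or.inr _ _ @x5)) @x3) @(fun x4 => @Decidable.isTrue _ (@Or.inl _ _ @x4)) @x2)
private theorem _root_.Cfsg.Agent.KOd540191.e14 : @instDecidableOr = @_root_.Cfsg.Agent.KOd540191.k14 := by delta _root_.Cfsg.Agent.KOd540191.k14; rfl'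
private noncomputable def _root_.Cfsg.Agent.KOd540191.k18 : (by first | exact type_of% @Cfsg.Agent.SporadicA.FieldFour.F4.add | exact Unit : Sort _) := by first | (refine @Subtype.val _ (fun g => @Cfsg.Agent.SporadicA.FieldFour.F4.add = @g) (@Subtype.mk _ _ (@(fun x0 x1 => @Cfsg.Agent.SporadicA.FieldFour.F4.rec.{1} @(fun x2 => @Cfsg.Agent.SporadicA.FieldFour.F4) @x1 (@Cfsg.Agent.SporadicA.FieldFour.F4.rec.{1} @(fun x2 => @Cfsg.Agent.SporadicA.FieldFour.F4) @Cfsg.Agent.SporadicA.FieldFour.F4.o @Cfsg.Agent.SporadicA.FieldFour.F4.z @Cfsg.Agent.SporadicA.FieldFour.F4.v @Cfsg.Agent.SporadicA.FieldFour.F4.w @x1) (@Cfsg.Agent.SporadicA.FieldFour.F4.rec.{1} @(fun x2 => @Cfsg.Agent.SporadicA.FieldFour.F4) @Cfsg.Agent.SporadicA.FieldFour.F4.w @Cfsg.Agent.SporadicA.FieldFour.F4.v @Cfsg.Agent.SporadicA.FieldFour.F4.z @Cfsg.Agent.SporadicA.FieldFour.F4.o @x1) (@Cfsg.Agent.SporadicA.FieldFour.F4.rec.{1} @(fun x2 => @Cfsg.Agent.SporadicA.FieldFour.F4)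 @Cfsg.Agent.SporadicA.FieldFour.F4.v @Cfsg.Agent.SporadicA.FieldFour.F4.w @Cfsg.Agent.SporadicA.FieldFour.F4.o @Cfsg.Agent.SporadicA.FieldFour.F4.z @x1) @x0)) ?_); rfl') | exact @Cfsg.Agent.SporadicA.FieldFour.F4.add | exact ()
private theorem _root_.Cfsg.Agent.KOd540191.e18 : (by first | exact @Cfsg.Agent.SporadicA.FieldFour.F4.add = @_root_.Cfsg.Agent.KOd540191.k18 | exact True : Prop) := by first | (delta _root_.Cfsg.Agent.KOd540191.k18; exact @Subtype.property _ (fun g => @Cfsg.Agent.SporadicA.FieldFour.F4.add = @g) _) | rfl | trivial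
private noncomputable def _root_.Cfsg.Agent.KOd540191.k19 : (by first | exact type_of% @Cfsg.Agent.SporadicA.FieldFour.F4.mul | exact Unit : Sort _) := by first | (refine @Subtype.val _ (fun g => @Cfsg.Agent.SporadicA.FieldFour.F4.mul = @g) (@Subtype.mk _ _ (@(fun x0 x1 => @Cfsg.Agent.SporadicA.FieldFour.F4.rec.{1} @(fun x2 => @Cfsg.Agent.SporadicA.FieldFour.F4) @Cfsg.Agent.SporadicA.FieldFour.F4.z @x1 (@Cfsg.Agent.SporadicA.FieldFour.F4.rec.{1} @(fun x2 => @Cfsg.Agent.SporadicA.FieldFour.F4) @Cfsg.Agent.SporadicA.FieldFour.F4.z @Cfsg.Agent.SporadicA.FieldFour.F4.w @Cfsg.Agent.SporadicA.FieldFour.F4.v @Cfsg.Agent.SporadicA.FieldFour.F4.o @x1) (@Cfsg.Agent.SporadicA.FieldFour.F4.rec.{1} @(fun x2 => @Cfsg.Agent.SporadicA.FieldFour.F4) @Cfsg.Agent.SporadicA.FieldFour.F4.z @Cfsg.Agent.SporadicA.FieldFour.F4.v @Cfsg.Agent.SporadicA.FieldFour.F4.o @Cfsg.Agent.SporadicA.FieldFour.F4.w @x1) @x0)) ?_); rfl') | exact @Cfsg.Agent.SporadicA.FieldFour.F4.mul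 | exact ()
private theorem _root_.Cfsg.Agent.KOd540191.e19 : (by first | exact @Cfsg.Agent.SporadicA.FieldFour.F4.mul = @_root_.Cfsg.Agent.KOd540191.k19 | exact True : Prop) := by first | (delta _root_.Cfsg.Agent.KOd540191.k19; exact @Subtype.property _ (fun g => @Cfsg.Agent.SporadicA.FieldFour.F4.mul = @g) _) | rfl | trivial
private noncomputable def _root_.Cfsg.Agent.KOd540191.k20 : type_of% @Fin.add := @(fun x0 x1 x2 => @Fin.rec.{1} @x0 @(fun x3 => @Fin @x0) @(fun x3 x4 => @Fin.rec.{1} @x0 @(fun x5 => @Fin @x0) @(fun x5 x6 => @Fin.mk _ (@Nat.mod (@Nat.add @x3 @x5) @x0) (@Fin.add._proof_3 _ @x3 @x4 @x5)) @x2) @x1)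
private theorem _root_.Cfsg.Agent.KOd540191.e20 : @Fin.add = @_root_.Cfsg.Agent.KOd540191.k20 := by delta _root_.Cfsg.Agent.KOd540191.k20; rfl'
private noncomputable def _root_.Cfsg.Agent.KOd540191.k21 : type_of% @Fin.sub := @(fun x0 x1 x2 => @Fin.rec.{1} @x0 @(fun x3 => @Fin @x0) @(fun x3 x4 => @Fin.rec.{1} @x0 @(fun x5 => @Fin @x0) @(fun x5 x6 => @Fin.mk _ (@Nat.mod (@Nat.add (@Nat.sub @x0 @x5) @x3) @x0) (@Fin.sub._proof_1 _ @x3 @x4 @x5)) @x2) @x1)
private theorem _root_.Cfsg.Agent.KOd540191.e21 : @Fin.sub = @_root_.Cfsg.Agent.KOd540191.k21 := by delta _root_.Cfsg.Agent.KOd540191.k21; rfl'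
private noncomputable def _root_.Cfsg.Agent.KOd540191.k24 : (by first | exact type_of% @Cfsg.Agent.StdL34.cmul | exact Unit : Sort _) := by first | (refine @Subtype.val _ (fun g => @Cfsg.Agent.StdL34.cmul = @g) (@Subtype.mk _ _ (@(fun x0 x1 x2 => @Cfsg.Agent.StdL34.Code.mk (@Cfsg.Agent.KOd540191.k18 (@Cfsg.Agent.StdL34.Code.a @x1) (@Cfsg.Agent.StdL34.Code.a @x2)) (@Cfsg.Agent.KOd540191.k18 (@Cfsg.Agent.StdL34.Code.b @x1) (@Cfsg.Agent.StdL34.Code.b @x2)) (@Cfsg.Agent.KOd540191.k18 (@Cfsg.Agent.KOd540191.k18 (@Cfsg.Agent.KOd540191.k19 (@Cfsg.Agent.StdL34.Code.a @x2) (@Cfsg.Agent.StdL34.Code.b @x1)) (@Cfsg.Agent.StdL34.Code.c @x1)) (@Cfsg.Agent.StdL34.Code.c @x2)) (@Cfsg.Agent.KOd540191.k20 _ (@Cfsg.Agent.KOd540191.k20 _ (@Cfsg.Agent.KOd540191.k21 _ (@Cfsg.Agent.KOd540191.k20 _ (@Cfsg.Agent.StdL34.Code.k @x1) (@Cfsg.Agent.StdL34.Code.k @x2)) (@Cfsg.Agent.StdL34.gx @x0 (@Cfsg.Agent.KOd540191.k19 (@Cfsg.Agent.StdL34.Code.a @x2)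 (@Cfsg.Agent.KOd540191.k19 (@Cfsg.Agent.StdL34.Code.b @x1) (@Cfsg.Agent.StdL34.Code.b @x1))))) (@Cfsg.Agent.StdL34.t2 (@Cfsg.Agent.KOd540191.k19 (@Cfsg.Agent.StdL34.Code.c @x1) (@Cfsg.Agent.StdL34.Code.a @x2)))) (@Cfsg.Agent.StdL34.t2 (@Cfsg.Agent.KOd540191.k19 (@Cfsg.Agent.KOd540191.k18 (@Cfsg.Agent.KOd540191.k19 (@Cfsg.Agent.StdL34.Code.a @x2) (@Cfsg.Agent.StdL34.Code.b @x1)) (@Cfsg.Agent.StdL34.Code.c @x1)) (@Cfsg.Agent.StdL34.Code.b @x2)))))) ?_); rewrite [← Cfsg.Agent.KOd540191.e21, ← Cfsg.Agent.KOd540191.e20, ← Cfsg.Agent.KOd540191.e19, ← Cfsg.Agent.KOd540191.e18]; rfl') | exact @Cfsg.Agent.StdL34.cmul | exact ()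
private theorem _root_.Cfsg.Agent.KOd540191.e24 : (by first | exact @Cfsg.Agent.StdL34.cmul = @_root_.Cfsg.Agent.KOd540191.k24 | exact True : Prop) := by first | (delta _root_.Cfsg.Agent.KOd540191.k24; exact @Subtype.property _ (fun g => @Cfsg.Agent.StdL34.cmul = @g) _) | rfl | trivial
private noncomputable def _root_.Cfsg.Agent.KOd540191.k25 : (by first | exact type_of% @Cfsg.Agent.StdL34.cinv | exact Unit : Sort _) := by first | (refine @Subtype.val _ (fun g => @Cfsg.Agent.StdL34.cinv = @g) (@Subtype.mk _ _ (@(fun x0 x1 => @Cfsg.Agent.StdL34.Code.mk (@Cfsg.Agent.StdL34.Code.a @x1) (@Cfsg.Agent.StdL34.Code.b @x1) (@Cfsg.Agent.SporadicA.FieldFour.F4.add (@Cfsg.Agent.StdL34.Code.c @x1) (@Cfsg.Agent.SporadicA.FieldFour.F4.mul (@Cfsg.Agent.StdL34.Code.a @x1) (@Cfsg.Agent.StdL34.Code.b @x1))) (@Fin.mk _ (@Nat.mod (@Nat.sub (nat_lit 4) (@Fin.val _ (@Fin.add _ (@Fin.add _ (@Fin.sub _ (@Cfsg.Agent.StdL34.Code.k @x1) (@Cfsg.Agent.StdL34.gx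 @x0 (@Cfsg.Agent.SporadicA.FieldFour.F4.mul (@Cfsg.Agent.StdL34.Code.a @x1) (@Cfsg.Agent.SporadicA.FieldFour.F4.mul (@Cfsg.Agent.StdL34.Code.b @x1) (@Cfsg.Agent.StdL34.Code.b @x1))))) (@Cfsg.Agent.StdL34.t2 (@Cfsg.Agent.SporadicA.FieldFour.F4.mul (@Cfsg.Agent.StdL34.Code.c @x1) (@Cfsg.Agent.StdL34.Code.a @x1)))) (@Cfsg.Agent.StdL34.t2 (@Cfsg.Agent.SporadicA.FieldFour.F4.mul (@Cfsg.Agent.SporadicA.FieldFour.F4.add (@Cfsg.Agent.SporadicA.FieldFour.F4.mul (@Cfsg.Agent.StdL34.Code.a @x1) (@Cfsg.Agent.StdL34.Code.b @x1)) (@Cfsg.Agent.StdL34.Code.c @x1)) (@Cfsg.Agent.StdL34.Code.b @x1)))))) (nat_lit 4)) (@Fin.neg._proof_1 ((4 : ℕ)) (@HAdd.hAdd.{0, 0, 0} _ _ _ _ (@HAdd.hAdd.{0, 0, 0} _ _ _ _ (@HSub.hSub.{0, 0, 0} _ _ _ _ (@Cfsg.Agent.StdL34.Code.k @x1) (@Cfsg.Agent.StdL34.gx @x0 (@HMul.hMul.{0, 0, 0} _ _ _ _ (@Cfsg.Agent.StdL34.Code.a @x1) (@HMul.hMul.{0, 0, 0} _ _ _ _ (@Cfsg.Agent.StdL34.Code.b @x1) (@Cfsg.Agent.StdL34.Code.b @x1)))))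 (@Cfsg.Agent.StdL34.t2 (@HMul.hMul.{0, 0, 0} _ _ _ _ (@Cfsg.Agent.StdL34.Code.c @x1) (@Cfsg.Agent.StdL34.Code.a @x1)))) (@Cfsg.Agent.StdL34.t2 (@HMul.hMul.{0, 0, 0} _ _ _ _ (@HAdd.hAdd.{0, 0, 0} _ _ _ _ (@HMul.hMul.{0, 0, 0} _ _ _ _ (@Cfsg.Agent.StdL34.Code.a @x1) (@Cfsg.Agent.StdL34.Code.b @x1)) (@Cfsg.Agent.StdL34.Code.c @x1)) (@Cfsg.Agent.StdL34.Code.b @x1)))))))) ?_); (try delta Cfsg.Agent.StdL34.cinv); (try generalize @Cfsg.Agent.SporadicA.FieldFour.F4.add = g0); (try generalize @Cfsg.Agent.SporadicA.FieldFour.F4.mul = g1); (try generalize @Cfsg.Agent.StdL34.gx = g2); (try generalize @Cfsg.Agent.StdL34.t2 = g3); rfl') | exact @Cfsg.Agent.StdL34.cinv | exact ()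
private theorem _root_.Cfsg.Agent.KOd540191.e25 : (by first | exact @Cfsg.Agent.StdL34.cinv = @_root_.Cfsg.Agent.KOd540191.k25 | exact True : Prop) := by first | (delta _root_.Cfsg.Agent.KOd540191.k25; exact @Subtype.property _ (fun g => @Cfsg.Agent.StdL34.cinv = @g) _) | rfl | trivial

theorem conj_e0 : ∀ p : Code, cmul true (cmul true (cinv true p) ⟨0, 0, 1, 0⟩) p = ⟨0, 0, 1, 0⟩ ∨
    cmul true (cmul true (cinv true p) ⟨0, 0, 1, 0⟩) p = ⟨0, 0, 1, 2⟩ := by (first | (refine of_decide_eq_true ?_; rewrite [Cfsg.Agent.KOd540191.e0, Cfsg.Agent.KOd540191.e14, Cfsg.Agent.KOd540191.e24, Cfsg.Agent.KOd540191.e25]; decide +kernel) | decide +kernel)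

theorem tau_F : ∀ (f : Bool) (c : F4) (k : Fin 4), (k = 0 ∨ k = 2) →
    (ctau true (false, f) ⟨0, 0, c, k⟩ = ⟨0, 0, c, k⟩) := by decide +kernel

private noncomputable def _root_.Cfsg.Agent.KOd540191.k1.{ku0, ku1} : type_of% @Quot.rec.{ku0, ku1} := @(fun x0 x1 x2 x3 x4 x5 => @Eq.rec.{ku1, ku0} (@Quot.{ku0} _ @x1) (@PSigma.fst.{ku0, ku1} _ _ (@Quot.lift.{ku0, (max (max 1 ku1) ku0)} _ _ _ (@Quot.indep.{ku0, ku1} _ _ _ @x3) (@Quot.indepCoherent.{ku0, ku1} _ _ _ @x3 @x4) @x5)) @(fun x6 x7 => @x2 @x6) (@PSigma.snd.{ku0, ku1} _ _ (@Quot.lift.{ku0, (max (max 1 ku1) ku0)} _ _ _ (@Quot.indep.{ku0, ku1} _ _ _ @x3) (@Quot.indepCoherent.{ku0, ku1} _ _ _ @x3 @x4) @x5)) @x5 (@Quot.liftIndepPr1.{ku0, ku1} _ _ _ @x3 @x4 @x5))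
private theorem _root_.Cfsg.Agent.KOd540191.e1.{ku0, ku1} : @Quot.rec.{ku0, ku1} = @_root_.Cfsg.Agent.KOd540191.k1.{ku0, ku1} := by delta _root_.Cfsg.Agent.KOd540191.k1; rfl'
private noncomputable def _root_.Cfsg.Agent.KOd540191.k2.{ku0, ku1} : type_of% @Quot.recOnSubsingleton.{ku0, ku1} := @(fun x0 x1 x2 x3 x4 x5 => @Cfsg.Agent.KOd540191.k1.{ku0, ku1} _ _ @(fun x6 => @x2 @x6) @(fun x6 => @x5 @x6) (@Quot.recOnSubsingleton._proof_1.{ku1, ku0} _ _ _ _ @x5) @x4)
private theorem _root_.Cfsg.Agent.KOd540191.e2.{ku0, ku1} : @Quot.recOnSubsingleton.{ku0, ku1} = @_root_.Cfsg.Agent.KOd540191.k2.{ku0, ku1} := by delta _root_.Cfsg.Agent.KOd540191.k2; rewrite [← Cfsg.Agent.KOd540191.e1.{ku0, ku1}]; rfl'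
private theorem _root_.Cfsg.Agent.KOd540191.e3.{ku, kv} {α : Type kv} {M : List α → Sort ku} (φ : ∀ l, M l) {z : M List.nil} {s : ∀ a l, M l → M (List.cons a l)} (h0 : φ List.nil = z) (hs : ∀ a l, φ (List.cons a l) = s a l (φ l)) (l : List α) : φ l = @List.rec α M z s l := List.rec h0 (fun a l ih => (hs a l).trans (congrArg (s a l) ih)) l
private noncomputable def _root_.Cfsg.Agent.KOd540191.k4.{ku0} : type_of% @List.decidableBAll.{ku0} := @(fun x0 x1 x2 x3 => @List.rec.{1, ku0} @x0 @(fun x4 => @Decidable ((x5 : @x0) → (@Membership.mem.{ku0, ku0} _ _ _ @x4 @x5) → @x1 @x5)) (@Decidable.isTrue _ (@List.decidableBAll._proof_1.{ku0} _ @x1)) @(fun x4 x5 x6 => @Decidable.rec.{1} _ @(fun x7 => @Decidable ((x8 : @x0) → (@Membership.mem.{ku0, ku0} _ _ _ (@x4 :: @x5) @x8) → @x1 @x8)) @(fun x7 => @Decidable.isFalse _ (@List.decidableBAll._proof_4.{ku0} _ @x1 @x4 @x5 @x7)) @(fun x7 => @Decidable.rec.{1} _ @(fun x8 => @Decidable ((x9 :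 @x0) → (@Membership.mem.{ku0, ku0} _ _ _ (@x4 :: @x5) @x9) → @x1 @x9)) @(fun x8 => @Decidable.isFalse _ (@List.decidableBAll._proof_3.{ku0} _ @x1 @x4 @x5 @x8)) @(fun x8 => @Decidable.isTrue _ (@List.decidableBAll._proof_2.{ku0} _ @x1 @x4 @x5 @x7 @x8)) @x6) (@x2 @x4)) @x3)
private theorem _root_.Cfsg.Agent.KOd540191.e4.{ku0} : @List.decidableBAll.{ku0} = @_root_.Cfsg.Agent.KOd540191.k4.{ku0} := by delta _root_.Cfsg.Agent.KOd540191.k4; funext a0 a1 a2 a3; refine (_root_.Cfsg.Agent.KOd540191.e3 (fun a3 => @List.decidableBAll.{ku0} a0 a1 a2 a3) ?_ (fun c0 c1 => ?_) a3 :) <;> (rfl')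
private noncomputable def _root_.Cfsg.Agent.KOd540191.k5.{ku0} : type_of% @Multiset.decidableForallMultiset.{ku0} := @(fun (x0 : Sort (ku0+1)) (x1 : @Multiset.{ku0} @x0) (x2 : (x0 → Prop)) (x3 : ((x3 : x0) → @Decidable (@x2 @x3))) => @Cfsg.Agent.KOd540191.k2.{(ku0+1), 1} (@List.{ku0} @x0) (@Setoid.r.{(ku0+1)} (@List.{ku0} @x0) (@List.isSetoid.{ku0} @x0)) @(fun (x4 : @Quotient.{(ku0+1)} (@List.{ku0} @x0) (@List.isSetoid.{ku0} @x0)) => @Decidable ((x5 : x0) → ((@Membership.mem.{ku0, ku0} @x0 (@Multiset.{ku0} @x0) (@Multiset.instMembership.{ku0} @x0) @x4 @x5) → @x2 @x5))) (@Multiset.decidableForallMultiset._proof_2.{ku0} @x0 @x2) @x1 @(fun (x4 : @List.{ku0} @x0) => @Decidable.rec.{1} ((x5 : x0) → ((@Membership.mem.{ku0, ku0} @x0 (@List.{ku0} @x0) (@List.instMembership.{ku0} @x0) @x4 @x5) → @x2 @x5)) @(fun (x5 : @Decidable ((x5 : x0) → ((@Membership.mem.{ku0, ku0} @x0 (@List.{ku0} @x0) (@List.instMembership.{ku0} @x0) @x4 @x5)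 → @x2 @x5))) => @Decidable ((x6 : x0) → ((@Membership.mem.{ku0, ku0} @x0 (@Multiset.{ku0} @x0) (@Multiset.instMembership.{ku0} @x0) (@Quotient.mk.{(ku0+1)} (@List.{ku0} @x0) (@List.isSetoid.{ku0} @x0) @x4) @x6) → @x2 @x6))) @(fun (x5 : @Not ((x5 : x0) → ((@Membership.mem.{ku0, ku0} @x0 (@List.{ku0} @x0) (@List.instMembership.{ku0} @x0) @x4 @x5) → @x2 @x5))) => @Decidable.isFalse ((x6 : x0) → ((@Membership.mem.{ku0, ku0} @x0 (@Multiset.{ku0} @x0) (@Multiset.instMembership.{ku0} @x0) (@Quotient.mk.{(ku0+1)} (@List.{ku0} @x0) (@List.isSetoid.{ku0} @x0) @x4) @x6) → @x2 @x6)) (@decidable_of_decidable_of_iff._proof_1 ((x6 : x0) → ((@Membership.mem.{ku0, ku0} @x0 (@List.{ku0} @x0) (@List.instMembership.{ku0} @x0) @x4 @x6) → @x2 @x6)) ((x6 : x0) → ((@Membership.mem.{ku0, ku0} @x0 (@Multiset.{ku0} @x0) (@Multiset.instMembership.{ku0} @x0) (@Quotient.mk.{(ku0+1)} (@List.{ku0} @x0) (@List.isSetoid.{ku0} @x0) @x4) @x6) → @x2 @x6)) (@Multiset.decidableForallMultiset._proof_1.{ku0}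 @x0 @x2 @x4) @x5)) @(fun (x5 : ((x5 : x0) → ((@Membership.mem.{ku0, ku0} @x0 (@List.{ku0} @x0) (@List.instMembership.{ku0} @x0) @x4 @x5) → @x2 @x5))) => @Decidable.isTrue ((x6 : x0) → ((@Membership.mem.{ku0, ku0} @x0 (@Multiset.{ku0} @x0) (@Multiset.instMembership.{ku0} @x0) (@Quotient.mk.{(ku0+1)} (@List.{ku0} @x0) (@List.isSetoid.{ku0} @x0) @x4) @x6) → @x2 @x6)) (@Iff.mp ((x6 : x0) → ((@Membership.mem.{ku0, ku0} @x0 (@List.{ku0} @x0) (@List.instMembership.{ku0} @x0) @x4 @x6) → @x2 @x6)) ((x6 : x0) → ((@Membership.mem.{ku0, ku0} @x0 (@Multiset.{ku0} @x0) (@Multiset.instMembership.{ku0} @x0) (@Quotient.mk.{(ku0+1)} (@List.{ku0} @x0) (@List.isSetoid.{ku0} @x0) @x4) @x6) → @x2 @x6)) (@Multiset.decidableForallMultiset._proof_1.{ku0} @x0 @x2 @x4) @x5)) (@Cfsg.Agent.KOd540191.k4.{ku0} @x0 @x2 @x3 @x4)))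
private theorem _root_.Cfsg.Agent.KOd540191.e5.{ku0} : @Multiset.decidableForallMultiset.{ku0} = @_root_.Cfsg.Agent.KOd540191.k5.{ku0} := by delta _root_.Cfsg.Agent.KOd540191.k5; rewrite [← Cfsg.Agent.KOd540191.e4.{ku0}, ← Cfsg.Agent.KOd540191.e2.{(ku0+1), 1}]; rfl'
private noncomputable def _root_.Cfsg.Agent.KOd540191.k9.{ku0} : type_of% @Multiset.decidableDforallMultiset.{ku0} := @(fun x0 x1 x2 x3 => @Decidable.rec.{1} _ @(fun x4 => @Decidable ((x5 : @x0) → (x6 : @Membership.mem.{ku0, ku0} _ _ _ @x1 @x5) → @x2 @x5 @x6)) @(fun x4 => @Decidable.isFalse _ (@decidable_of_decidable_of_iff._proof_1 _ _ (@Multiset.decidableDforallMultiset._proof_2.{ku0} _ _ _) @x4)) @(fun x4 => @Decidable.isTrue _ (@Iff.mp _ _ (@Multiset.decidableDforallMultiset._proof_2.{ku0} _ _ _) @x4)) (@Cfsg.Agent.KOd540191.k5.{ku0} _ _ @(fun x4 => @x2 (@Subtype.val.{(ku0+1)} _ @(fun x5 => @Membership.mem.{ku0, ku0} _ _ _ @x1 @x5) @x4) (@Multiset.decidableDforallMultiset._proof_1.{ku0}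 _ _ @x4)) @(fun x4 => @x3 (@Subtype.val.{(ku0+1)} _ @(fun x5 => @Membership.mem.{ku0, ku0} _ _ _ @x1 @x5) @x4) (@Multiset.decidableDforallMultiset._proof_1.{ku0} _ _ @x4))))
private theorem _root_.Cfsg.Agent.KOd540191.e9.{ku0} : @Multiset.decidableDforallMultiset.{ku0} = @_root_.Cfsg.Agent.KOd540191.k9.{ku0} := by delta _root_.Cfsg.Agent.KOd540191.k9; rewrite [← Cfsg.Agent.KOd540191.e5.{ku0}]; rfl'
private noncomputable def _root_.Cfsg.Agent.KOd540191.k10.{ku0} : type_of% @Finset.decidableDforallFinset.{ku0} := @(fun x0 x1 x2 x3 => @Cfsg.Agent.KOd540191.k9.{ku0} _ _ _ @x3)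
private theorem _root_.Cfsg.Agent.KOd540191.e10.{ku0} : @Finset.decidableDforallFinset.{ku0} = @_root_.Cfsg.Agent.KOd540191.k10.{ku0} := by delta _root_.Cfsg.Agent.KOd540191.k10; rewrite [← Cfsg.Agent.KOd540191.e9.{ku0}]; rfl'
private noncomputable def _root_.Cfsg.Agent.KOd540191.k11.{ku0} : type_of% @Fintype.decidableForallFintype.{ku0} := @(fun x0 x1 x2 x3 => @Decidable.rec.{1} _ @(fun x4 => @Decidable ((x5 : @x0) → @x1 @x5)) @(fun x4 => @Decidable.isFalse _ (@decidable_of_decidable_of_iff._proof_1 _ _ (@Fintype.decidableForallFintype._proof_1.{ku0} _ _ _) @x4)) @(fun x4 => @Decidable.isTrue _ (@Iff.mp _ _ (@Fintype.decidableForallFintype._proof_1.{ku0} _ _ _) @x4)) (@Cfsg.Agent.KOd540191.k10.{ku0} _ _ @(fun x4 x5 => @x1 @x4) @(fun x4 x5 => @x2 @x4)))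
private theorem _root_.Cfsg.Agent.KOd540191.e11.{ku0} : @Fintype.decidableForallFintype.{ku0} = @_root_.Cfsg.Agent.KOd540191.k11.{ku0} := by delta _root_.Cfsg.Agent.KOd540191.k11; rewrite [← Cfsg.Agent.KOd540191.e10.{ku0}]; rfl'
private noncomputable def _root_.Cfsg.Agent.KOd540191.k12l (n : Nat) (P : ∀ k, k < n → Prop) (H : ∀ k h, Decidable (P k h)) (m : Nat) : m ≤ n → Bool := @Nat.rec (fun m => m ≤ n → Bool) (fun _ => true) (fun k ih h => @Decidable.rec (P k h) (fun _ => Bool) (fun _ => false) (fun _ => ih (Nat.le_of_succ_le h)) (H k h)) m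
private theorem _root_.Cfsg.Agent.KOd540191.k12ls (n : Nat) (P : ∀ k, k < n → Prop) (H : ∀ k h, Decidable (P k h)) (m : Nat) : ∀ h : m ≤ n, _root_.Cfsg.Agent.KOd540191.k12l n P H m h = true ↔ ∀ k (g : k < m), P k (Nat.lt_of_lt_of_le g h) := by induction m with | zero => exact fun _ => ⟨fun _ _ g => absurd g (Nat.not_lt_zero _), fun _ => rfl⟩ | succ m ih => intro h; show @Decidable.rec (P m h) (fun _ => Bool) (fun _ => false) (fun _ => _root_.Cfsg.Agent.KOd540191.k12l n P H m (Nat.le_of_succ_le h)) (H m h) = true ↔ _; cases H m h with | isFalse q => exact ⟨fun g => absurd g Bool.false_ne_true, fun g => absurd (g m (Nat.lt_succ_self m)) q⟩ | isTrue q => exact ⟨fun g k hk => (Nat.lt_succ_iff_lt_or_eq.1 hk).elim ((ih _).1 g k) fun e => by subst e; exact q, fun g => (ih _).2 fun k hk => g k (Nat.lt_succ_of_lt hk)⟩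
private noncomputable def _root_.Cfsg.Agent.KOd540191.k12 (n : Nat) (P : ∀ k, k < n → Prop) (H : ∀ k h, Decidable (P k h)) : Decidable (∀ k h, P k h) := @Bool.rec (fun b => _root_.Cfsg.Agent.KOd540191.k12l n P H n (Nat.le_refl n) = b → Decidable (∀ k h, P k h)) (fun g => isFalse fun q => Bool.false_ne_true (g.symm.trans ((_root_.Cfsg.Agent.KOd540191.k12ls n P H n _).2 fun k h => q k h))) (fun g => isTrue fun k h => (_root_.Cfsg.Agent.KOd540191.k12ls n P H n _).1 g k h) (_root_.Cfsg.Agent.KOd540191.k12l n P H n (Nat.le_refl n)) rfl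
private theorem _root_.Cfsg.Agent.KOd540191.e12 : @Nat.decidableBallLT = @_root_.Cfsg.Agent.KOd540191.k12 := funext fun _ => funext fun _ => funext fun _ => Subsingleton.elim _ _
private noncomputable def _root_.Cfsg.Agent.KOd540191.k13 : type_of% @Nat.decidableForallFin := @(fun x0 x1 x2 => @Decidable.rec.{1} _ @(fun x3 => @Decidable ((x4 : @Fin @x0) → @x1 @x4)) @(fun x3 => @Decidable.isFalse _ (@decidable_of_decidable_of_iff._proof_1 _ _ (@Nat.decidableForallFin._proof_1 _ @x1) @x3)) @(fun x3 => @Decidable.isTrue _ (@Iff.mp _ _ (@Nat.decidableForallFin._proof_1 _ @x1) @x3)) (@Cfsg.Agent.KOd540191.k12 @x0 @(fun x3 x4 => @x1 (@Fin.mk _ @x3 @x4)) @(fun x3 x4 => @x2 (@Fin.mk _ @x3 @x4))))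
private theorem _root_.Cfsg.Agent.KOd540191.e13 : @Nat.decidableForallFin = @_root_.Cfsg.Agent.KOd540191.k13 := by delta _root_.Cfsg.Agent.KOd540191.k13; rewrite [← Cfsg.Agent.KOd540191.e12]; rfl'
private noncomputable def _root_.Cfsg.Agent.KOd540191.k15 : type_of% @Nat.decEq := @(fun x0 x1 => @Bool.rec.{1} @(fun x2 => (@Eq.{1} _ (@Nat.beq @x0 @x1) @x2) → @Decidable (@Eq.{1} _ @x0 @x1)) @(fun x2 => @Decidable.isFalse _ (@Nat.ne_of_beq_eq_false _ _ @x2)) @(fun x2 => @Decidable.isTrue _ (@Nat.eq_of_beq_eq_true _ _ @x2)) (@Nat.beq @x0 @x1) (@Eq.refl.{1} _ (@Nat.beq @x0 @x1)))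
private theorem _root_.Cfsg.Agent.KOd540191.e15 : @Nat.decEq = @_root_.Cfsg.Agent.KOd540191.k15 := by delta _root_.Cfsg.Agent.KOd540191.k15; rfl'
private noncomputable def _root_.Cfsg.Agent.KOd540191.k16 : type_of% @instDecidableEqFin := @(fun x0 x1 x2 => @Decidable.rec.{1} _ @(fun x3 => @Decidable (@Eq.{1} _ @x1 @x2)) @(fun x3 => @Decidable.isFalse _ (@instDecidableEqFin._proof_1 @x0 @x1 @x2 @x3)) @(fun x3 => @Decidable.isTrue _ (@Fin.eq_of_val_eq _ _ _ @x3)) (@Cfsg.Agent.KOd540191.k15 (@Fin.val _ @x1) (@Fin.val _ @x2)))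
private theorem _root_.Cfsg.Agent.KOd540191.e16 : @instDecidableEqFin = @_root_.Cfsg.Agent.KOd540191.k16 := by delta _root_.Cfsg.Agent.KOd540191.k16; rewrite [← Cfsg.Agent.KOd540191.e15]; rfl'
private noncomputable def _root_.Cfsg.Agent.KOd540191.k26 : type_of% @forall_prop_decidable := @(fun x0 x1 x2 x3 => @Decidable.rec.{1} _ @(fun x4 => @Decidable ((x5 : @x0) → @x1 @x5)) @(fun x4 => @Decidable.isTrue _ (@forall_prop_decidable._proof_2 _ @x1 @x4)) @(fun x4 => @Decidable.rec.{1} _ @(fun x5 => @Decidable ((x6 : @x0) → @x1 @x6)) @(fun x5 => @Decidable.isFalse _ (@decidable_of_decidable_of_iff._proof_1 _ _ (@forall_prop_decidable._proof_1 _ @x1 @x4) @x5)) @(fun x5 => @Decidable.isTrue _ (@Iff.mp _ _ (@forall_prop_decidable._proof_1 _ @x1 @x4) @x5)) (@x3 @x4)) @x2)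
private theorem _root_.Cfsg.Agent.KOd540191.e26 : @forall_prop_decidable = @_root_.Cfsg.Agent.KOd540191.k26 := by delta _root_.Cfsg.Agent.KOd540191.k26; rfl'

theorem conj_F : ∀ (p : Code) (c : F4) (k : Fin 4), (k = 0 ∨ k = 2) →
    cmul true (cmul true (cinv true p) ⟨0, 0, c, k⟩) p = ⟨0, 0, c, k⟩ ∨
    cmul true (cmul true (cinv true p) ⟨0, 0, c, k⟩) p = cmul true ⟨0, 0, c, k⟩ ⟨0, 0, 0, 2⟩ := by
  have key : ∀ (a b c' c : F4) (k : Fin 4), (k = 0 ∨ k = 2) →
      cmul true (cmul true (cinv true ⟨a, b, c', 0⟩) ⟨0, 0, c, k⟩) ⟨a, b, c', 0⟩ = ⟨0, 0, c, k⟩ ∨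
      cmul true (cmul true (cinv true ⟨a, b, c', 0⟩) ⟨0, 0, c, k⟩) ⟨a, b, c', 0⟩ =
        cmul true ⟨0, 0, c, k⟩ ⟨0, 0, 0, 2⟩ := by
    decide +kernel
  rintro ⟨a, b, c', k'⟩ c k hk
  have e : cmul true (cmul true (cinv true ⟨a, b, c', k'⟩) ⟨0, 0, c, k⟩) ⟨a, b, c', k'⟩ =
      cmul true (cmul true (cinv true ⟨a, b, c', 0⟩) ⟨0, 0, c, k⟩) ⟨a, b, c', 0⟩ := by
    simp only [cmul, cinv, Code.mk.injEq, true_and]
    abel
  rw [e]
  exact key a b c' c k hk

theorem tau_sp : ∀ (f : Bool) (k : Fin 4), ctau true (f, false) ⟨0, 0, 0, k⟩ = ⟨0, 0, 0, k⟩ := by decide +kernel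

private noncomputable def _root_.Cfsg.Agent.KOd540191.k27 : type_of% @instDecidableAnd := @(fun x0 x1 x2 x3 => @Decidable.rec.{1} _ @(fun x4 => @Decidable (@And @x0 @x1)) @(fun x4 => @Decidable.isFalse _ (@instDecidableAnd._proof_2 _ _ @x4)) @(fun x4 => @Decidable.rec.{1} _ @(fun x5 => @Decidable (@And @x0 @x1)) @(fun x5 => @Decidable.isFalse _ (@instDecidableAnd._proof_1 _ _ @x5)) @(fun x5 => @Decidable.isTrue _ (@And.intro _ _ @x4 @x5)) @x3) @x2)
private theorem _root_.Cfsg.Agent.KOd540191.e27 : @instDecidableAnd = @_root_.Cfsg.Agent.KOd540191.k27 := by delta _root_.Cfsg.Agent.KOd540191.k27; rfl'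

theorem ak_of : ∀ p : Code, (∀ c : F4, cmul true p ⟨0, 0, c, 0⟩ = cmul true ⟨0, 0, c, 0⟩ p) → cmul true p p = cone →
    p.a = 0 ∧ p.b = 0 ∧ (p.k = 0 ∨ p.k = 2) := by (first | (refine of_decide_eq_true ?_; rewrite [Cfsg.Agent.KOd540191.e0, Cfsg.Agent.KOd540191.e26, Cfsg.Agent.KOd540191.e11.{0}, Cfsg.Agent.KOd540191.e24, Cfsg.Agent.KOd540191.e27, Cfsg.Agent.KOd540191.e14, Cfsg.Agent.KOd540191.e16]; decide +kernel) | decide +kernel)

section

variable (h : Wd D L) (hz : z ∈ D) (hT : SylT T z) (hA : Al L T z B E)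

include h hz hT hA

theorem E_inv (p : Code) : (E p)⁻¹ = E (cinv true p) := by
  apply inv_eq_of_mul_eq_one_right
  rw [hA.mul hT, StdL34.cmul_cinv, hA.one hT]

/-- conjugation by an element of `T` on `E y` -/
theorem conj_E {g : G} (hg : g ∈ T) {p : Code} {τ : Ty} (hc : B.Cd (act (L z) ⟨g, SylT.norm h hz hT hg⟩) p τ) (y : Code) :
    g * E y * g⁻¹ = E (cmul true (cmul true (cinv true p) (ctau true τ y)) p) := by
  have h1 := hA.act_E h hz hT hg hc y
  rw [← hA.mul hT, ← hA.mul hT, ← E_inv h hz hT hA, ← h1]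
  group

theorem e0_mem : E ⟨0, 0, 1, 0⟩ ∈ Fi L T z := (hA.mem_Fi_iff h hz hT).2 ⟨1, 0, Or.inl rfl, rfl⟩

theorem conj_e0' {g : G} (hg : g ∈ T) : g * E ⟨0, 0, 1, 0⟩ * g⁻¹ = E ⟨0, 0, 1, 0⟩ ∨
    g * E ⟨0, 0, 1, 0⟩ * g⁻¹ = E ⟨0, 0, 1, 0⟩ * z := by
  obtain ⟨p, τ, hp⟩ := hA.exists_ty h hz hT hg
  rw [conj_E h hz hT hA hg hp, tau_e0]
  rcases conj_e0 p with h1 | h1
  · left; rw [h1]
  · right
    rw [h1]
    have h2 : cmul true ⟨0, 0, 1, 0⟩ ⟨0, 0, 0, 2⟩ = ⟨0, 0, 1, 2⟩ := by decide +kernel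
    rw [← h2, ← hA.mul hT, hA.z_eq h hz hT]

/-- an element of `T` normalizing... : `F` is normal in `T` -/
theorem conj_Fi {g x : G} (hg : g ∈ T) (hx : x ∈ Fi L T z) : g * x * g⁻¹ ∈ Fi L T z := by
  have h3 := Fi_conj (g := g) h hz hx
  have h4 := mem_centralizer_singleton_iff.mp (hT.1 hg)
  rwa [cj_eq_self_of_mem hg, h4, mul_inv_cancel_right] at h3

/-- `C_T(e₀)` is a Sylow 2-subgroup of `C(z, e₀)` -/
theorem sylC_e0 : SylC (T ⊓ centralizer ({E ⟨0, 0, 1, 0⟩} : Set G)) z (E ⟨0, 0, 1, 0⟩) := by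
  have : Fact (Nat.Prime 2) := ⟨Nat.prime_two⟩
  obtain ⟨e0, he0⟩ : ∃ e0, e0 = E ⟨0, 0, 1, 0⟩ := ⟨_, rfl⟩
  have hF := e0_mem h hz hT hA
  have hconj := fun {g} => conj_e0' h hz hT hA (g := g)
  rw [← he0] at hF hconj ⊢
  obtain ⟨N, hN⟩ : ∃ N, N = centralizer ({z} : Set G) ⊓ centralizer ({e0} : Set G) := ⟨_, rfl⟩
  have hle : T ⊓ centralizer ({e0} : Set G) ≤ N := hN ▸ inf_le_inf_right _ hT.1
  obtain ⟨R, h1, h2, h3, h4⟩ := exists_sylow_in (p := 2) hle (hT.2.1.to_le inf_le_left)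
  obtain ⟨T₁, h5, h6, h7, h8⟩ := exists_sylow_in (p := 2) (N := centralizer ({z} : Set G)) (D := R)
    (h2.trans (hN ▸ inf_le_left)) h3
  have hT₁ : SylT T₁ z := ⟨h6, h7, h8⟩
  -- `|T₁| = |T|`
  obtain ⟨g, hg, hgT⟩ := exists_conj_T hT hT₁ ⟨1, by group⟩
  have hcard : Nat.card T₁ = Nat.card T := by rw [← hgT, cj_def, card_map_conj]
  -- `|T : C_T(e0)| ≤ 2`
  have hidx : Nat.card T ≤ 2 * Nat.card (T ⊓ centralizer ({e0} : Set G) : Subgroup G) := by
    obtain ⟨C, hC⟩ : ∃ C, C = T ⊓ centralizer ({e0} : Set G) := ⟨_, rfl⟩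
    rw [← hC]
    by_cases hall : ∀ g ∈ T, g ∈ C
    · have : Nat.card T ≤ Nat.card C := Nat.le_of_dvd Nat.card_pos (card_dvd_of_le hall)
      omega
    · push Not at hall
      obtain ⟨k, hk, hkC⟩ := hall
      have hk1 : k * e0 * k⁻¹ = e0 * z := by
        refine (hconj hk).resolve_left fun h9 => hkC ?_
        rw [hC]
        exact ⟨hk, mem_centralizer_singleton_iff.mpr (mul_inv_eq_iff_eq_mul.mp h9)⟩
      have h9 : (C.subgroupOf T).index ≤ 2 := by
        rcases Nat.lt_or_ge 2 (C.subgroupOf T).index with h10 | h10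
        swap
        · exact h10
        exfalso
        have h11 : (C.subgroupOf T).index = 2 := by
          rw [index_eq_two_iff_exists_notMem_and]
          refine ⟨⟨k, hk⟩, hkC, ?_⟩
          rintro ⟨x, hx⟩
          by_cases hxC : x ∈ C
          · right; exact hxC
          · left
            have hx1 : x * e0 * x⁻¹ = e0 * z := by
              refine (hconj hx).resolve_left fun h9 => hxC ?_
              rw [hC]
              exact ⟨hx, mem_centralizer_singleton_iff.mpr (mul_inv_eq_iff_eq_mul.mp h9)⟩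
            change x * k ∈ C
            rw [hC]
            refine ⟨T.mul_mem hx hk, mem_centralizer_singleton_iff.mpr (mul_inv_eq_iff_eq_mul.mp ?_)⟩
            have hxz := mem_centralizer_singleton_iff.mp (hT.1 hx)
            calc x * k * e0 * (x * k)⁻¹ = x * (k * e0 * k⁻¹) * x⁻¹ := by group
              _ = x * (e0 * z) * x⁻¹ := by rw [hk1]
              _ = (x * e0 * x⁻¹) * (x * z) * x⁻¹ := by group
              _ = (e0 * z) * (z * x) * x⁻¹ := by rw [hx1, hxz]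
              _ = e0 * (z * z) := by group
              _ = e0 := by rw [h.sq hz, mul_one]
        omega
      have h10 := (C.subgroupOf T).card_mul_index
      have h11 : Nat.card (C.subgroupOf T) = Nat.card C :=
        Nat.card_congr (subgroupOfEquivOfLe (hC ▸ inf_le_left)).toEquiv
      rw [h11] at h10
      rw [← h10, mul_comm]
      exact Nat.mul_le_mul_right _ h9
  -- `R < T₁`
  have hRT : R ≠ T₁ := by
    intro h9
    obtain ⟨B₁, E₁, hA₁⟩ := exists_al h hz hT₁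
    have h10 : ∀ y, e0 * E₁ y = E₁ y * e0 := fun y => by
      have h11 : E₁ y ∈ R := h9 ▸ hA₁.memT y
      have hNe : N ≤ centralizer ({e0} : Set G) := hN ▸ inf_le_right
      exact (mem_centralizer_singleton_iff.mp (hNe (h2 h11))).symm
    have h12 : e0 ∈ T₁ := h5 (h1 ⟨hF.1, mem_centralizer_singleton_iff.mpr rfl⟩)
    obtain ⟨k, hk⟩ := hA₁.ker h hz hT₁ h12 h10
    have h13 : e0 ∈ L z := hF.2.1
    have h14 : bar (L z) e0 = B₁.sp k := by rw [hk, hA₁.bar, B₁.el_sp]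
    have h15 : e0 ≠ 1 := by
      rw [he0, ← hA.one hT]
      intro h16
      exact absurd (hA.inj h16) (by decide)
    have h16 : e0 ≠ z := by
      rw [he0, ← hA.z_eq h hz hT]
      intro h16
      exact absurd (hA.inj h16) (by decide)
    exact (h.not_cen hz h13 hF.2.2.1 h15 h16).2 (h14 ▸ Cfsg.Agent.UGT.Cov.KFPure.sp_mem B₁ k)
  have h9 : 2 * Nat.card R ≤ Nat.card T₁ := by
    have h10 : Nat.card R ∣ Nat.card T₁ := card_dvd_of_le h5
    obtain ⟨m, hm⟩ := h10
    have h11 : m ≠ 1 := by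
      rintro rfl
      rw [mul_one] at hm
      exact hRT (Subgroup.eq_of_le_of_card_ge h5 hm.le)
    have h12 : 0 < Nat.card T₁ := Nat.card_pos
    have h13 : m ≠ 0 := by
      rintro rfl
      rw [mul_zero] at hm
      omega
    have h14 : 2 ≤ m := by omega
    rw [hm, mul_comm]
    exact Nat.mul_le_mul_left _ h14
  have h10 : T ⊓ centralizer ({e0} : Set G) = R :=
    Subgroup.eq_of_le_of_card_ge h1 (by omega)
  rw [h10]
  exact ⟨hN ▸ h2, h3, hN ▸ h4⟩

theorem e0_ne_one : E ⟨0, 0, 1, 0⟩ ≠ 1 := by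
  rw [← hA.one hT]
  intro h1
  exact absurd (hA.inj h1) (by decide)

theorem e0_ne_z : E ⟨0, 0, 1, 0⟩ ≠ z := by
  rw [← hA.z_eq h hz hT]
  intro h1
  exact absurd (hA.inj h1) (by decide)

/-- **type `c`** -/
theorem xc : ∃ x ∈ T, x ∈ D ∧ ∃ p, ∀ y, (E p * x) * E y * (E p * x)⁻¹ = E (ctau true (true, true) y) := by
  have hR := sylC_e0 h hz hT hA
  have hF := e0_mem h hz hT hA
  have he1 := e0_ne_one h hz hT hA
  have hez := e0_ne_z h hz hT hA
  obtain ⟨e0, he0⟩ : ∃ e0, e0 = E ⟨0, 0, 1, 0⟩ := ⟨_, rfl⟩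
  rw [← he0] at hF he1 hez hR
  obtain ⟨hF1, hF2, hF3, -⟩ := id hF
  obtain ⟨heD, hzL, hze⟩ := ne_of h hz hF2 hez hF3 he1
  have hzz := h.sq hz
  have hz1 := h.ne_one hz
  have hcomm := h.comm hz hF2
  obtain ⟨A, -⟩ := h.cov heD
  obtain ⟨B', -, -, hB'⟩ := Cfsg.Agent.UGT.Cov.KFPure.exists_cov_t A (h.not_cen heD hzL hzz hz1 hze)
  obtain ⟨s', w', h1, h2, h3, h4⟩ := OnSupK.moved' B'
  rw [hB'] at h1
  obtain ⟨s, hs, hsL, rfl⟩ := h.surjC heD hzL hzz hz1 hze hR.symm.1 hR.symm.2.1 hR.symm.2.2 h1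
  have h5 := (OnSupK.F_iff_Y B').1 h3
  rw [hB'] at h5
  obtain ⟨w, hw, hwL, rfl⟩ := h.surjC heD hzL hzz hz1 hze hR.symm.1 hR.symm.2.1 hR.symm.2.2 h5.2.1
  have hR2 := hR.2.1
  have hR1 := (T ⊓ centralizer ({e0} : Set G)).one_mem
  have hss : s * s = 1 := bar_inj hR2 (mul_mem hs hs) hR1 (mul_mem hsL hsL) (L e0).one_mem (by
    rw [bar_mul hsL hsL, h2, bar_one])
  have hww : w * w = 1 := bar_inj hR2 (mul_mem hw hw) hR1 (mul_mem hwL hwL) (L e0).one_mem (by
    rw [bar_mul hwL hwL, h5.1, bar_one])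
  have hsw : s * w ≠ w * s := fun h6 => h4 ((bar_comm_iff hR2 hs hw hsL hwL).2 h6)
  have hs1 : s ≠ 1 := by rintro rfl; exact hsw (by rw [one_mul, mul_one])
  have hwF : w ∈ Fi L T z := by
    rw [Fi_eq (R := T ⊓ centralizer ({e0} : Set G)) h hz hT hF hez he1 hR2 fun p hp _ hpe =>
      ⟨hp, mem_centralizer_singleton_iff.mpr hpe⟩]
    exact FR_le h heD hzL hze hzz hz1 hR.symm ⟨hw, hwL, hww, h5.2⟩
  have hwz : w * z = z * w := mem_centralizer_singleton_iff.mp (hR.1 hw).1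
  -- `s w s⁻¹ = e₀ w`
  have h6 : ⁅w, s⁆ = e0 := by
    have h7 := OnSupK.F_comm B' h3 (p := bar (L e0) s)
      (Cfsg.Agent.UGT.Cov.FourK.S_le_T B' ((Cfsg.Agent.UGT.Cov.FourK.mem_S B').2 (by rw [hB']; exact h1)))
    rw [← bar_commutator hwL hsL, ← h.bar_self heD B'] at h7
    have h8 : ⁅w, s⁆ ∈ T ⊓ centralizer ({e0} : Set G) := by
      rw [commutatorElement_def]
      exact mul_mem (mul_mem (mul_mem hw hs) (inv_mem hw)) (inv_mem hs)
    have h9 : ⁅w, s⁆ ∈ L e0 := by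
      rw [commutatorElement_def]
      exact mul_mem (mul_mem (mul_mem hwL hsL) (inv_mem hwL)) (inv_mem hsL)
    rcases h7 with h7 | h7
    · exfalso
      rw [← bar_one] at h7
      have h10 := bar_inj hR2 h8 hR1 h9 (L e0).one_mem h7
      rw [commutatorElement_eq_one_iff_mul_comm] at h10
      exact hsw h10.symm
    · exact bar_inj hR2 h8 ⟨hF1, mem_centralizer_singleton_iff.mpr rfl⟩ h9 (h.mem heD) h7
  have h7 : s * w * s⁻¹ = e0 * w := by
    have hwi : w⁻¹ = w := inv_eq_of_mul_eq_one_left hww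
    calc s * w * s⁻¹ = (w * s * w⁻¹ * s⁻¹)⁻¹ * w := by rw [← hwi]; group
      _ = e0⁻¹ * w := by rw [← commutatorElement_def, h6]
      _ = e0 * w := by rw [inv_eq_of_mul_eq_one_left hF3]
  have hsT : s ∈ T := hs.1
  have hsD : s ∈ D := h.inv_mem heD hsL hss hs1
  obtain ⟨p, τ, hp⟩ := hA.exists_ty h hz hT hsT
  obtain ⟨c, k, hk, hwE⟩ := (hA.mem_Fi_iff h hz hT).1 hwF
  have hτ : τ = (true, true) := by
    obtain ⟨f, g⟩ := τ
    cases f
    · exfalso
      have h8 := conj_E h hz hT hA hsT hp ⟨0, 0, c, k⟩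
      rw [tau_F g c k hk] at h8
      rw [← hwE, h7] at h8
      rcases conj_F p c k hk with h9 | h9
      · rw [h9, ← hwE] at h8
        exact he1 (mul_eq_right.mp h8)
      · rw [h9, ← hA.mul hT, ← hwE, hA.z_eq h hz hT, hwz] at h8
        exact hez (mul_right_cancel h8)
    · cases g
      · exfalso
        have hsN := SylT.norm h hz hT hsT
        obtain ⟨k', hk'⟩ := h.eps hz hsD (mem_centralizer_singleton_iff.mp (hT.1 hsT)) hsN (by
          intro c hc
          obtain ⟨l, rfl⟩ := Cfsg.Agent.UGT.Cov.KFPure.cen_sp B (OnSupK.center_eq B) hc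
          have h8 := hp.el ⟨0, 0, 0, l⟩
          rw [hA.ty, tau_sp, B.el_sp, MulAut.mul_apply, MulAut.conj_apply] at h8
          have h9 : ∀ x y : ↥(L z) ⧸ oddCore ↥(L z), y * x * y⁻¹ = B.sp l → x = B.sp l := by
            intro x y hxy
            have h10 : x = y⁻¹ * (y * x * y⁻¹) * y := by group
            rw [h10, hxy, mul_assoc, B.sp_cen, inv_mul_cancel_left]
          exact h9 _ _ h8)
        have h8 := hp.hasTy
        have h9 : B.HasTy (act (L z) ⟨s, hsN⟩) (false, false) := by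
          rw [hk']; exact StdL34.Cov.hasTy_conj _
        exact absurd (h8.unique h9) (by decide)
      · rfl
  subst hτ
  exact ⟨s, hsT, hsD, p, fun y => hA.act_E h hz hT hsT hp y⟩

/-- `F` as a subgroup -/
theorem exists_FG : ∃ FG : Subgroup G, (FG : Set G) = Fi L T z := by
  refine ⟨{ carrier := Fi L T z, mul_mem' := ?_, one_mem' := ?_, inv_mem' := ?_ }, rfl⟩
  swap
  · rw [hA.mem_Fi_iff h hz hT]
    exact ⟨0, 0, Or.inl rfl, (hA.one hT).symm⟩
  · rintro x y hx hy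
    rw [hA.mem_Fi_iff h hz hT] at hx hy ⊢
    obtain ⟨c, k, hk, rfl⟩ := hx
    obtain ⟨c', k', hk', rfl⟩ := hy
    rw [hA.mul hT]
    have h1 : ∀ (c c' : F4) (k k' : Fin 4), (k = 0 ∨ k = 2) → (k' = 0 ∨ k' = 2) →
        ∃ (c'' : F4) (k'' : Fin 4), (k'' = 0 ∨ k'' = 2) ∧ cmul true ⟨0, 0, c, k⟩ ⟨0, 0, c', k'⟩ = ⟨0, 0, c'', k''⟩ := by
      intro c c' k k' h1 h2
      have h3 := Cfsg.Agent.UGT.Cov.FourK.fk_mul true c k c' k' ⟨rfl, rfl, h1⟩ ⟨rfl, rfl, h2⟩
      generalize cmul true ⟨0, 0, c, k⟩ ⟨0, 0, c', k'⟩ = q at h3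
      obtain ⟨a, b, c'', k''⟩ := q
      obtain ⟨h4, h5, h6⟩ := h3
      simp only at h4 h5 h6
      subst h4 h5
      exact ⟨c'', k'', h6, rfl⟩
    obtain ⟨c'', k'', h2, h3⟩ := h1 c c' k k' hk hk'
    exact ⟨c'', k'', h2, by rw [h3]⟩
  · intro x hx
    have : x⁻¹ = x := inv_eq_of_mul_eq_one_left hx.2.2.1
    change x⁻¹ ∈ Fi L T z
    rwa [this]

/-- involutions of `T ∩ L z` commuting with `F` are in `F` -/
theorem mem_Fi_of {x : G} (hx : x ∈ T) (hxL : x ∈ L z) (hxx : x * x = 1) (hc : ∀ f ∈ Fi L T z, x * f = f * x) :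
    x ∈ Fi L T z := by
  obtain ⟨p, rfl⟩ := hA.exists_E hT hx hxL
  obtain ⟨h1, h2, h3⟩ := ak_of p (fun c => by
    have h4 := hc (E ⟨0, 0, c, 0⟩) ((hA.mem_Fi_iff h hz hT).2 ⟨c, 0, Or.inl rfl, rfl⟩)
    rw [hA.mul hT, hA.mul hT] at h4
    exact hA.inj h4) (by
    rw [hA.mul hT, ← hA.one hT] at hxx
    exact hA.inj hxx)
  rw [hA.mem_Fi_iff h hz hT]
  obtain ⟨a, b, c, k⟩ := p
  simp only at h1 h2 h3
  subst h1 h2
  exact ⟨c, k, h3, rfl⟩

/-- **no element of `D` centralises `F` except those of `F`** -/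
theorem nog {y : G} (hy : y ∈ T) (hyD : y ∈ D) (hc : ∀ f ∈ Fi L T z, y * f = f * y) (hyL : y ∉ L z) : False := by
  have : Fact (Nat.Prime 2) := ⟨Nat.prime_two⟩
  obtain ⟨FG, hFG⟩ := exists_FG h hz hT hA
  have hmF : ∀ {x}, x ∈ FG ↔ x ∈ Fi L T z := fun {x} => by rw [← hFG]; rfl
  have hyy := h.sq hyD
  -- conjugate `y` to `z`
  obtain ⟨k, hk, hkT⟩ : ∃ k, k * y * k⁻¹ = z ∧ ∀ f ∈ Fi L T z, k * f * k⁻¹ ∈ T := by
    obtain ⟨g, hg⟩ := h.one_class hyD hz
    have h1 : (T ⊓ centralizer ({y} : Set G)).map (MulAut.conj g).toMonoidHom ≤ centralizer ({z} : Set G) := by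
      rintro _ ⟨x, hx, rfl⟩
      rw [mem_centralizer_singleton_iff, ← hg]
      have h2 := mem_centralizer_singleton_iff.mp hx.2
      change g * x * g⁻¹ * (g * y * g⁻¹) = g * y * g⁻¹ * (g * x * g⁻¹)
      calc g * x * g⁻¹ * (g * y * g⁻¹) = g * (x * y) * g⁻¹ := by group
        _ = g * (y * x) * g⁻¹ := by rw [h2]
        _ = _ := by group
    obtain ⟨n, hn, h2⟩ := exists_conj_le_in hT.2.1 hT.2.2 h1 ((hT.2.1.to_le inf_le_left).map _)
    refine ⟨n * g, ?_, fun f hf => ?_⟩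
    · have h3 := mem_centralizer_singleton_iff.mp hn
      calc n * g * y * (n * g)⁻¹ = n * (g * y * g⁻¹) * n⁻¹ := by group
        _ = z := by rw [hg, h3, mul_inv_cancel_right]
    · have h3 := h2 ⟨g * f * g⁻¹, ⟨f, ⟨hf.1, mem_centralizer_singleton_iff.mpr (hc f hf).symm⟩, rfl⟩, rfl⟩
      change n * (g * f * g⁻¹) * n⁻¹ ∈ T at h3
      convert h3 using 1
      group
  -- an element of `F` in `L y`
  obtain ⟨f, hf, hf1, hfL⟩ : ∃ f ∈ Fi L T z, f ≠ 1 ∧ f ∈ L y := by
    let kk : Bool → Fin 4 := fun b => if b then 2 else 0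
    have hkk : ∀ b, kk b = 0 ∨ kk b = 2 := by
      intro b; cases b
      · left; rfl
      · right; rfl
    have hmem : ∀ x : F4 × Bool, E ⟨0, 0, x.1, kk x.2⟩ ∈ Fi L T z := fun x =>
      (hA.mem_Fi_iff h hz hT).2 ⟨_, _, hkk _, rfl⟩
    have hty : ∀ x : F4 × Bool, ∃ τ : Ty, ∃ p, B.Cd (act (L z) ⟨k * E ⟨0, 0, x.1, kk x.2⟩ * k⁻¹,
        SylT.norm h hz hT (hkT _ (hmem x))⟩) p τ := fun x => by
      obtain ⟨p, τ, hp⟩ := hA.exists_ty h hz hT (hkT _ (hmem x))
      exact ⟨τ, p, hp⟩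
    choose τ hτ using hty
    obtain ⟨x, y', hne, hxy⟩ := Fintype.exists_ne_map_eq_of_card_lt τ (by decide)
    obtain ⟨p, hp⟩ := hτ x
    obtain ⟨q, hq⟩ := hτ y'
    have hx := hmem x
    have hy' := hmem y'
    refine ⟨E ⟨0, 0, x.1, kk x.2⟩ * E ⟨0, 0, y'.1, kk y'.2⟩, hmF.1 (FG.mul_mem (hmF.2 hx) (hmF.2 hy')), ?_, ?_⟩
    · intro h1
      have h2 : E ⟨0, 0, x.1, kk x.2⟩ = E ⟨0, 0, y'.1, kk y'.2⟩ := by
        rw [eq_inv_of_mul_eq_one_left h1, inv_eq_of_mul_eq_one_left hy'.2.2.1]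
      have h3 := hA.inj h2
      apply hne
      have h4 : x.1 = y'.1 := congrArg Code.c h3
      have h5 : kk x.2 = kk y'.2 := congrArg Code.k h3
      have h6 : ∀ a b : Bool, kk a = kk b → a = b := by decide
      exact Prod.ext h4 (h6 _ _ h5)
    · -- type `(false, false)`
      have h1 := hp.mul hq
      rw [hxy, StdL34.Cov.Ty.mul_self, ← act_mul] at h1
      have h2 := T.mul_mem (hkT _ hx) (hkT _ hy')
      have h3 := hA.mem_L_of_ty h hz hT h2 h1
      have h4 : y = k⁻¹ * z * k⁻¹⁻¹ := by rw [← hk]; group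
      rw [h4, h.L_conj hz, mem_cj, inv_inv]
      convert h3 using 1
      group
  have hyLf : y ∈ L f := h.symm hyD hfL hf.2.2.1 hf1
  -- Frattini
  obtain ⟨g, hg, hgF⟩ := exists_h h hz hT hf hf1
  obtain ⟨S, hS⟩ := sylow h hz hT hA
  have hTN : T ≤ normalizer (FG : Set G) := by
    intro t ht
    rw [mem_normalizer_iff]
    intro x
    rw [hmF, hmF]
    exact iff_of_le (fun w hw => conj_Fi h hz hT hA ht hw) x
  have hTi : ¬ 2 ∣ T.relIndex (normalizer (FG : Set G)) := fun hd =>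
    S.not_dvd_index (by rw [hS]; exact hd.trans (relIndex_dvd_index_of_le hTN))
  obtain ⟨K, hK⟩ : ∃ K, K = centralizer (FG : Set G) := ⟨_, rfl⟩
  have hKN : K ≤ normalizer (FG : Set G) := hK ▸ centralizer_le_normalizer _
  have hKn : ∀ n ∈ normalizer (FG : Set G), ∀ c ∈ K, n * c * n⁻¹ ∈ K := by
    intro n hn c hc'
    rw [hK, mem_centralizer_iff] at hc' ⊢
    intro x hx
    have hx' : n⁻¹ * x * n ∈ (FG : Set G) := by
      have := (mem_normalizer_iff.mp (inv_mem hn) x).mp hx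
      rwa [inv_inv] at this
    have h1 := hc' _ hx'
    calc x * (n * c * n⁻¹) = n * ((n⁻¹ * x * n) * c) * n⁻¹ := by group
      _ = n * (c * (n⁻¹ * x * n)) * n⁻¹ := by rw [h1]
      _ = n * c * n⁻¹ * x := by group
  have h1 := LFourB.RelExt.sylow_inf (p := 2) (R := T) hT.2.1 hTN hTi hKN hKn
  have hgN : g ∈ normalizer (FG : Set G) := by
    rw [mem_normalizer_iff]
    intro x
    rw [hmF, hmF]
    exact iff_of_le hgF x
  have hmap : K.map (MulAut.conj g).toMonoidHom = K := by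
    refine Subgroup.eq_of_le_of_card_ge ?_ (by rw [card_map_conj])
    rintro _ ⟨c, hc', rfl⟩
    exact hKn g hgN c hc'
  obtain ⟨c, hcK, hcT⟩ := LFourB.RelExt.frattini (p := 2) (hT.2.1.to_le inf_le_left : IsPGroup 2 (T ⊓ K : Subgroup G))
    inf_le_right h1 hmap
  have hcf : c * f * c⁻¹ = f := by
    rw [hK, mem_centralizer_iff] at hcK
    rw [← hcK f (hmF.2 hf), mul_inv_cancel_right]
  have hn : c * g * z * (c * g)⁻¹ = f := by
    calc c * g * z * (c * g)⁻¹ = c * (g * z * g⁻¹) * c⁻¹ := by group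
      _ = f := by rw [hg, hcf]
  -- `y' = (c g)⁻¹ y (c g)`
  have hyK : y ∈ T ⊓ K := by
    refine ⟨hy, ?_⟩
    change y ∈ K
    rw [hK, mem_centralizer_iff]
    exact fun x hx => (hc x (hmF.1 hx)).symm
  rw [← hcT] at hyK
  obtain ⟨y', hy', h2⟩ := hyK
  change c * g * y' * (c * g)⁻¹ = y at h2
  have h3 : y' ∈ L z := by
    rw [← hn, h.L_conj hz, mem_cj, ← h2] at hyLf
    have e : (c * g)⁻¹ * (c * g * y' * (c * g)⁻¹) * (c * g) = y' := by group
    rwa [e] at hyLf
  have h4 : y' * y' = 1 := by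
    have h5 : c * g * (y' * y') * (c * g)⁻¹ = 1 := by
      rw [← hyy, ← h2]; group
    have : y' * y' = (c * g)⁻¹ * (c * g * (y' * y') * (c * g)⁻¹) * (c * g) := by group
    rw [this, h5]; group
  have h5 : y' ∈ Fi L T z := by
    refine mem_Fi_of h hz hT hA hy'.1 h3 h4 fun x hx => ?_
    have h6 := hy'.2
    rw [hK] at h6
    exact (mem_centralizer_iff.mp h6 x (hmF.2 hx)).symm
  have h6 : c * g ∈ normalizer (FG : Set G) := mul_mem (hKN hcK) hgN
  have h7 : y ∈ Fi L T z := by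
    rw [← hmF, ← h2]
    exact (mem_normalizer_iff.mp h6 y').mp (hmF.2 h5)
  exact hyL h7.2.1

end

end Cfsg.Agent.UGT.I34.OnSupE
end

-- part: UGT/I34/OnSupW
section
/-!
# THEOREM I34, part [A], (5.5), second half: the record `Wd` from the world W1 without big elements
-/

set_option autoImplicit false

open Cfsg Subgroup
open Cfsg.Agent.SignalizersComponents Cfsg.Agent.Lib
open Cfsg.Agent.SignalizersComponents.IntrinsicBasic
open Cfsg.Agent.SignalizersComponents.PLayerAut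
open Cfsg.Agent.Intrinsic.Basic (Fixes)
open Cfsg.Agent.McLLyComp.Act
open Cfsg.Agent.UGT.I34.Pair
open Cfsg.Agent.UGT.I34.WOne (W1)
open Cfsg.Agent.UGT.I34.Four (NoBig mem_of_noBig)
open Cfsg.Agent.UGT.I34.WSupply (NoEps)

namespace Cfsg.Agent.UGT.I34.OnSupW

universe v

variable {G : Type v} [Group G] [Finite G] {κ : Kind.{v}} {D : Set G} {L : G → Subgroup G}

theorem wd_of (h : W1 κ true D L) (hb : NoBig κ D L) (he : NoEps D L)
    (hcov : ∀ u ∈ D, ∃ A : StdL34.Cov (↥(L u) ⧸ oddCore ↥(L u)), A.ty = true) : OnSupA.Wd D L where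
  sq := h.sq
  ne_one := h.ne_one
  conj := h.conj
  L_conj := h.L_conj
  one_class := h.one_class
  comm := h.comm
  mem := h.mem
  inv_mem := h.inv_mem
  symm := h.mem_of_mem
  cov := fun hu => hcov _ hu
  nb := fun hu hx _ hn hf => mem_of_noBig h hb hu hn hx hf
  eps := by
    intro u v hu hv huv hn hc
    rcases he u hu v hv huv hn with h1 | h1
    · obtain ⟨k, hk⟩ := h1
      exact ⟨k, hk.symm⟩
    · exact absurd hc h1

end Cfsg.Agent.UGT.I34.OnSupW
end

-- part: UGT/I34/OnT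
section
/-!
# THEOREM I34, part [A], (5.5), second half: the Sylow 2-subgroup

`TS T E`: the 2-group `T` contains the Sylow 2-subgroup `P = {E p}` of `4₁.L₃(4)` (in the codes of `StdL34`), every
element of `T` acts on `P` as an element of `P` times a pure outer type, and an element of `T` centralising `P` is in
`Z(P)`. This file: types of elements, involutions of type `c`, elementary abelian subgroups.
-/

set_option autoImplicit false
set_option linter.constructorNameAsVariable false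

open Subgroup Cfsg.Agent.StdL34 Cfsg.Agent.SporadicA.FieldFour

namespace Cfsg.Agent.UGT.I34.OnT

universe u

variable {G : Type u} [Group G]

/-- `T` contains `P = {E p}` and acts on it by `P` and outer types. -/
structure TS (T : Subgroup G) (E : Code → G) : Prop where
  mem : ∀ p, E p ∈ T
  mul : ∀ p q, E p * E q = E (cmul true p q)
  inj : ∀ p q, E p = E q → p = q
  act : ∀ g ∈ T, ∃ p τ, ∀ y, (E p * g) * E y * (E p * g)⁻¹ = E (ctau true τ y)
  ker : ∀ g ∈ T, (∀ y, g * E y = E y * g) → ∃ k, g = E ⟨0, 0, 0, k⟩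

/-- `g` acts on `P` as the outer type `τ` -/
def Pure (E : Code → G) (g : G) (τ : Ty) : Prop := ∀ y, g * E y * g⁻¹ = E (ctau true τ y)

/-- `g` has type `τ` -/
def HasTy (E : Code → G) (g : G) (τ : Ty) : Prop := ∃ p, Pure E (E p * g) τ

variable {T : Subgroup G} {E : Code → G}

theorem TS.one (h : TS T E) : E cone = 1 := by
  have := h.mul cone cone
  rw [cmul_one] at this
  exact mul_eq_left.1 this

theorem TS.inv (h : TS T E) (p : Code) : (E p)⁻¹ = E (cinv true p) := by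
  rw [inv_eq_iff_mul_eq_one, h.mul, cmul_cinv, h.one]

theorem TS.ne (h : TS T E) {p q : Code} (e : p ≠ q) : E p ≠ E q := fun e' => e (h.inj _ _ e')

theorem TS.eq_one (h : TS T E) {p : Code} (e : E p = 1) : p = cone := h.inj _ _ (e.trans h.one.symm)

theorem TS.comm (h : TS T E) {p q : Code} (e : E p * E q = E q * E p) : cmul true p q = cmul true q p := by
  rw [h.mul, h.mul] at e
  exact h.inj _ _ e

theorem Pure.mul {g k : G} {τ ρ : Ty} (hg : Pure E g τ) (hk : Pure E k ρ) : Pure E (g * k) (τ.mul ρ) := by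
  intro y
  have e : g * k * E y * (g * k)⁻¹ = g * (k * E y * k⁻¹) * g⁻¹ := by group
  rw [e, hk, hg, ctau_ctau]

theorem Pure.comm {g : G} {τ : Ty} (hg : Pure E g τ) (y : Code) : g * E y = E (ctau true τ y) * g := by
  rw [← hg y]; group

theorem mul_self : ∀ τ : Ty, τ.mul τ = (false, false) := by decide

theorem mul_ff : ∀ τ : Ty, τ.mul (false, false) = τ := by decide

theorem ff_mul : ∀ τ : Ty, Ty.mul (false, false) τ = τ := by decide

theorem eq_of_mul : ∀ τ ρ : Ty, τ.mul ρ = (false, false) → τ = ρ := by decide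

theorem cinv_Z : ∀ k, cinv true ⟨0, 0, 0, k⟩ = ⟨0, 0, 0, -k⟩ := by decide +kernel

theorem Pure.inv {g : G} {τ : Ty} (hg : Pure E g τ) : Pure E g⁻¹ τ := by
  intro y
  have h1 := hg (ctau true τ y)
  rw [ctau_ctau, mul_self, ctau_id] at h1
  rw [← h1]; group

theorem Pure.one : Pure E 1 (false, false) := by
  intro y
  rw [ctau_id]; group

/-- conjugation by an element of type `τ` -/
theorem HasTy.conj (h : TS T E) {g : G} {p : Code} {τ : Ty} (hg : Pure E (E p * g) τ) (y : Code) :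
    g * E y * g⁻¹ = E (cact true p τ y) := by
  have h1 := hg y
  have e : g * E y * g⁻¹ = (E p)⁻¹ * (E p * g * E y * (E p * g)⁻¹) * E p := by group
  rw [e, h1, h.inv, h.mul, h.mul]
  rfl

theorem HasTy.mul (h : TS T E) {g k : G} {τ ρ : Ty} (hg : HasTy E g τ) (hk : HasTy E k ρ) :
    HasTy E (g * k) (τ.mul ρ) := by
  obtain ⟨p, hp⟩ := hg
  obtain ⟨q, hq⟩ := hk
  refine ⟨cmul true p (cact true p τ q), ?_⟩
  have e : E (cmul true p (cact true p τ q)) * (g * k) = (E p * g) * (E q * k) := by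
    rw [← h.mul, ← HasTy.conj h hp]; group
  rw [e]
  exact hp.mul hq

theorem HasTy.of (h : TS T E) (p : Code) : HasTy E (E p) (false, false) := by
  refine ⟨cinv true p, ?_⟩
  rw [← h.inv, inv_mul_cancel]
  exact Pure.one

theorem HasTy.pure (h : TS T E) {g : G} {τ : Ty} (hg : Pure E g τ) : HasTy E g τ := by
  refine ⟨cone, ?_⟩
  rw [h.one, one_mul]
  exact hg

theorem HasTy.inv (h : TS T E) {g : G} {τ : Ty} (hg : HasTy E g τ) : HasTy E g⁻¹ τ := by
  obtain ⟨p, hp⟩ := hg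
  have h1 : g⁻¹ = (E p * g)⁻¹ * E p := by group
  rw [h1]
  have h2 := (HasTy.pure h hp.inv).mul h (HasTy.of h p)
  rwa [mul_ff] at h2

theorem HasTy.one_eq (h : TS T E) {τ : Ty} (hg : HasTy E (1 : G) τ) : τ = (false, false) := by
  obtain ⟨p, hp⟩ := hg
  rw [mul_one] at hp
  refine ty_uniq τ p ?_ ?_
  · have := hp ⟨0, 0, F4.w, 0⟩
    rw [h.inv, h.mul, h.mul] at this
    exact h.inj _ _ this
  · have := hp ⟨1, 0, 0, 0⟩
    rw [h.inv, h.mul, h.mul] at this
    exact h.inj _ _ this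

/-- the type is unique -/
theorem HasTy.uniq (h : TS T E) {g : G} {τ ρ : Ty} (hg : HasTy E g τ) (hg' : HasTy E g ρ) : τ = ρ := by
  have h1 := hg.mul h (hg'.inv h)
  rw [mul_inv_cancel] at h1
  exact eq_of_mul _ _ (h1.one_eq h)

/-- an element of inner type is in `P` -/
theorem HasTy.inner (h : TS T E) {g : G} (hg : g ∈ T) (ht : HasTy E g (false, false)) : ∃ p, g = E p := by
  obtain ⟨p, hp⟩ := ht
  obtain ⟨k, hk⟩ := h.ker (E p * g) (T.mul_mem (h.mem p) hg) (fun y => by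
    have := hp.comm y
    rwa [ctau_id] at this)
  refine ⟨cmul true (cinv true p) ⟨0, 0, 0, k⟩, ?_⟩
  rw [← h.mul, ← h.inv, ← hk]; group

theorem TS.ty (h : TS T E) {g : G} (hg : g ∈ T) : ∃ τ, HasTy E g τ := by
  obtain ⟨p, τ, hp⟩ := h.act g hg
  exact ⟨τ, p, hp⟩

/-- the subgroup `P` -/
def P (h : TS T E) : Subgroup G where
  carrier := {g | ∃ p, g = E p}
  one_mem' := ⟨cone, h.one.symm⟩
  mul_mem' := by
    rintro _ _ ⟨p, rfl⟩ ⟨q, rfl⟩
    exact ⟨_, h.mul p q⟩
  inv_mem' := by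
    rintro _ ⟨p, rfl⟩
    exact ⟨_, h.inv p⟩

theorem P_le (h : TS T E) : P h ≤ T := by
  rintro _ ⟨p, rfl⟩
  exact h.mem p

theorem card_P (h : TS T E) : Nat.card (P h) = 256 := by
  rw [← card_code]
  refine (Nat.card_congr (Equiv.ofBijective (fun p : Code => (⟨E p, p, rfl⟩ : P h)) ⟨?_, ?_⟩)).symm
  · intro p q e
    exact h.inj _ _ (Subtype.ext_iff.1 e)
  · rintro ⟨_, p, rfl⟩
    exact ⟨p, rfl⟩

theorem mem_P_iff (h : TS T E) {g : G} (hg : g ∈ T) : g ∈ P h ↔ HasTy E g (false, false) :=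
  ⟨fun ⟨p, hp⟩ => hp ▸ HasTy.of h p, fun ht => ht.inner h hg⟩

/-! ### involutions of type `c` -/

/-- an involution of outer type is conjugate under `P` to a pure one -/
theorem exists_pure (h : TS T E) {g : G} (hg : g ∈ T) (hgg : g * g = 1) {τ : Ty} (hτ : τ ≠ (false, false))
    (ht : HasTy E g τ) : ∃ r, Pure E (E r * g * (E r)⁻¹) τ := by
  obtain ⟨p, hp⟩ := ht
  -- `x₀ = E p * g`
  have e0 : g = E (cinv true p) * (E p * g) := by rw [← h.inv]; group
  have h2 : HasTy E ((E p * g) * (E p * g)) (false, false) := by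
    have := (HasTy.pure h hp).mul h (HasTy.pure h hp)
    rwa [mul_self] at this
  have hx0 : E p * g ∈ T := T.mul_mem (h.mem p) hg
  obtain ⟨k, hk⟩ := h.ker _ (T.mul_mem hx0 hx0) (fun y => by
    have := (hp.mul hp).comm y
    rwa [mul_self, ctau_id] at this)
  have h3 : E (cmul true (cinv true p) (ctau true τ (cinv true p))) * E ⟨0, 0, 0, k⟩ = 1 := by
    rw [← hk, ← h.mul, ← hp (cinv true p)]
    have e1 : E (cinv true p) * (E p * g * E (cinv true p) * (E p * g)⁻¹) * (E p * g * (E p * g)) =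
        (E (cinv true p) * (E p * g)) * (E (cinv true p) * (E p * g)) := by group
    rw [e1, ← e0, hgg]
  have h4 : cz (cmul true (cinv true p) (ctau true τ (cinv true p))) := by
    have h5 : E (cmul true (cinv true p) (ctau true τ (cinv true p))) = E (cinv true ⟨0, 0, 0, k⟩) := by
      rw [← h.inv]; exact eq_inv_of_mul_eq_one_left h3
    rw [h.inj _ _ h5, cinv_Z]
    exact ⟨rfl, rfl, rfl⟩
  obtain ⟨a, b, c, h5⟩ := inv_outer true τ p.a p.b p.c hτ (cz_flip τ p h4)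
  refine ⟨⟨a, b, c, 0⟩, ?_⟩
  -- the element `E r * g * (E r)⁻¹ = Y * (E p * g)`
  have e2 : E ⟨a, b, c, 0⟩ * g * (E ⟨a, b, c, 0⟩)⁻¹ =
      ((E p * g) * E ⟨a, b, c, 0⟩ * (E p * g)⁻¹ * E p * (E ⟨a, b, c, 0⟩)⁻¹)⁻¹ * (E p * g) := by
    group
  obtain ⟨l, hl⟩ : ∃ l, (E p * g) * E ⟨a, b, c, 0⟩ * (E p * g)⁻¹ * E p * (E ⟨a, b, c, 0⟩)⁻¹ = E ⟨0, 0, 0, l⟩ := by
    have e3 : E p = E ⟨p.a, p.b, p.c, 0⟩ * E ⟨0, 0, 0, p.k⟩ := by
      rw [h.mul]
      exact congrArg E (nk_mul p)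
    have e4 : E ⟨0, 0, 0, p.k⟩ * (E ⟨a, b, c, 0⟩)⁻¹ = (E ⟨a, b, c, 0⟩)⁻¹ * E ⟨0, 0, 0, p.k⟩ := by
      rw [h.inv, h.mul, h.mul, Z_comm]
    have e5 : (E p * g) * E ⟨a, b, c, 0⟩ * (E p * g)⁻¹ * E p * (E ⟨a, b, c, 0⟩)⁻¹ =
        E (cmul true (ctau true τ ⟨a, b, c, 0⟩) (cmul true ⟨p.a, p.b, p.c, 0⟩ (cinv true ⟨a, b, c, 0⟩))) *
          E ⟨0, 0, 0, p.k⟩ := by
      rw [hp, ← h.mul (ctau true τ ⟨a, b, c, 0⟩), ← h.mul ⟨p.a, p.b, p.c, 0⟩, ← h.inv]
      conv_lhs => rw [e3]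
      calc E (ctau true τ ⟨a, b, c, 0⟩) * (E ⟨p.a, p.b, p.c, 0⟩ * E ⟨0, 0, 0, p.k⟩) * (E ⟨a, b, c, 0⟩)⁻¹
          = E (ctau true τ ⟨a, b, c, 0⟩) * (E ⟨p.a, p.b, p.c, 0⟩ * (E ⟨0, 0, 0, p.k⟩ * (E ⟨a, b, c, 0⟩)⁻¹)) := by group
        _ = E (ctau true τ ⟨a, b, c, 0⟩) * (E ⟨p.a, p.b, p.c, 0⟩ * ((E ⟨a, b, c, 0⟩)⁻¹ * E ⟨0, 0, 0, p.k⟩)) := by rw [e4]
        _ = _ := by group
    obtain ⟨c1, c2, c3⟩ := h5
    rw [e5]
    generalize cmul true (ctau true τ ⟨a, b, c, 0⟩) (cmul true ⟨p.a, p.b, p.c, 0⟩ (cinv true ⟨a, b, c, 0⟩)) = q at *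
    obtain ⟨qa, qb, qc, qk⟩ := q
    simp only at c1 c2 c3
    subst c1 c2 c3
    exact ⟨_, by rw [h.mul, Z_mul]⟩
  rw [e2, hl, h.inv, cinv_Z]
  have h6 : Pure E (E ⟨0, 0, 0, -l⟩) (false, false) := by
    intro y
    rw [h.mul, Z_comm, ← h.mul, ctau_id]; group
  have h7 := h6.mul hp
  rwa [ff_mul] at h7

end Cfsg.Agent.UGT.I34.OnT
end

-- part: UGT/I34/OnT2
section
/-!
# THEOREM I34, part [A], (5.5), second half: `C_T(F)` and involutions of type `c`
-/

set_option autoImplicit false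
set_option linter.constructorNameAsVariable false

open Subgroup Cfsg.Agent.StdL34 Cfsg.Agent.SporadicA.FieldFour

namespace Cfsg.Agent.UGT.I34.OnT

universe u

variable {G : Type u} [Group G] {T : Subgroup G} {E : Code → G} {F A : Subgroup G}

/-- `F = {E ⟨0, 0, c, k⟩ : k = 0, 2}` -/
def IsF (E : Code → G) (F : Subgroup G) : Prop := ∀ x, x ∈ F ↔ ∃ c k, (k = 0 ∨ k = 2) ∧ x = E ⟨0, 0, c, k⟩

/-- `A = {E ⟨a, a, c, k⟩}` -/
def IsA (E : Code → G) (A : Subgroup G) : Prop := ∀ x, x ∈ A ↔ ∃ a c k, x = E ⟨a, a, c, k⟩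

theorem IsF.mem (hF : IsF E F) {x : G} : x ∈ F ↔ ∃ c b, x = E ⟨0, 0, c, tw b⟩ := by
  rw [hF x]
  constructor
  · rintro ⟨c, k, hk, rfl⟩
    obtain ⟨b, rfl⟩ := k_cases k hk
    exact ⟨c, b, rfl⟩
  · rintro ⟨c, b, rfl⟩
    refine ⟨c, tw b, ?_, rfl⟩
    cases b
    · left; rfl
    · right; rfl

/-- the subgroup `F` -/
def subF (h : TS T E) : Subgroup G where
  carrier := {x | ∃ c b, x = E ⟨0, 0, c, tw b⟩}
  one_mem' := ⟨0, false, h.one.symm⟩
  mul_mem' := by
    rintro _ _ ⟨c, b, rfl⟩ ⟨c', b', rfl⟩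
    exact ⟨_, _, by rw [h.mul, F_mul]⟩
  inv_mem' := by
    rintro _ ⟨c, b, rfl⟩
    refine ⟨c, b, ?_⟩
    rw [inv_eq_iff_mul_eq_one, h.mul, F_sq, h.one]

theorem isF_subF (h : TS T E) : IsF E (subF h) := by
  intro x
  constructor
  · rintro ⟨c, b, rfl⟩
    refine ⟨c, tw b, ?_, rfl⟩
    cases b
    · left; rfl
    · right; rfl
  · rintro ⟨c, k, hk, rfl⟩
    obtain ⟨b, rfl⟩ := k_cases k hk
    exact ⟨c, b, rfl⟩

theorem A_mul : ∀ a c k a' c' k', ∃ a'' c'' k'', cmul true ⟨a, a, c, k⟩ ⟨a', a', c', k'⟩ = ⟨a'', a'', c'', k''⟩ := by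
  intro a c k a' c' k'
  have key : ∀ a c k a' c' k', (cmul true ⟨a, a, c, k⟩ ⟨a', a', c', k'⟩).a = (cmul true ⟨a, a, c, k⟩ ⟨a', a', c', k'⟩).b :=
    by (first | (refine of_decide_eq_true ?_; rewrite [Cfsg.Agent.KOd540191.e0, Cfsg.Agent.KOd540191.e11.{0}, Cfsg.Agent.KOd540191.e13, Cfsg.Agent.KOd540191.e24]; decide +kernel) | decide +kernel)
  have := key a c k a' c' k'
  refine ⟨(cmul true ⟨a, a, c, k⟩ ⟨a', a', c', k'⟩).a, (cmul true ⟨a, a, c, k⟩ ⟨a', a', c', k'⟩).c,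
    (cmul true ⟨a, a, c, k⟩ ⟨a', a', c', k'⟩).k, ?_⟩
  conv_rhs => enter [2]; rw [this]

theorem A_cinv : ∀ a c k, ∃ a'' c'' k'', cinv true ⟨a, a, c, k⟩ = ⟨a'', a'', c'', k''⟩ := by
  intro a c k
  have key : ∀ a c k, (cinv true ⟨a, a, c, k⟩).a = (cinv true ⟨a, a, c, k⟩).b := by decide +kernel
  have := key a c k
  refine ⟨(cinv true ⟨a, a, c, k⟩).a, (cinv true ⟨a, a, c, k⟩).c, (cinv true ⟨a, a, c, k⟩).k, ?_⟩
  conv_rhs => enter [2]; rw [this]

/-- the subgroup `A` -/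
def subA (h : TS T E) : Subgroup G where
  carrier := {x | ∃ a c k, x = E ⟨a, a, c, k⟩}
  one_mem' := ⟨0, 0, 0, h.one.symm⟩
  mul_mem' := by
    rintro _ _ ⟨a, c, k, rfl⟩ ⟨a', c', k', rfl⟩
    obtain ⟨a'', c'', k'', e⟩ := A_mul a c k a' c' k'
    exact ⟨a'', c'', k'', by rw [h.mul, e]⟩
  inv_mem' := by
    rintro _ ⟨a, c, k, rfl⟩
    obtain ⟨a'', c'', k'', e⟩ := A_cinv a c k
    exact ⟨a'', c'', k'', by rw [h.inv, e]⟩

theorem isA_subA (h : TS T E) : IsA E (subA h) := fun _ => Iff.rfl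

theorem F_le_A (hF : IsF E F) (hA : IsA E A) : F ≤ A := by
  intro x hx
  obtain ⟨c, b, rfl⟩ := hF.mem.1 hx
  exact (hA _).2 ⟨0, c, _, rfl⟩

theorem A_le (h : TS T E) (hA : IsA E A) : A ≤ T := by
  intro x hx
  obtain ⟨a, c, b, rfl⟩ := (hA x).1 hx
  exact h.mem _

theorem comm_A (h : TS T E) (hA : IsA E A) : ∀ x ∈ A, ∀ y ∈ A, x * y = y * x := by
  intro x hx y hy
  obtain ⟨a, c, k, rfl⟩ := (hA x).1 hx
  obtain ⟨a', c', k', rfl⟩ := (hA y).1 hy
  rw [h.mul, h.mul, A_comm]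

theorem exp_A (h : TS T E) (hA : IsA E A) : ∀ x ∈ A, x ^ 4 = 1 := by
  intro x hx
  obtain ⟨a, c, k, rfl⟩ := (hA x).1 hx
  have e : E ⟨a, a, c, k⟩ ^ 4 = (E ⟨a, a, c, k⟩ * E ⟨a, a, c, k⟩) * (E ⟨a, a, c, k⟩ * E ⟨a, a, c, k⟩) := by
    rw [← sq, ← sq, ← pow_mul]
  rw [e, h.mul, h.mul, A_exp, h.one]

theorem inv_A (h : TS T E) (hF : IsF E F) (hA : IsA E A) : ∀ x ∈ A, x * x = 1 → x ∈ F := by
  intro x hx hxx
  obtain ⟨a, c, k, rfl⟩ := (hA x).1 hx
  rw [h.mul] at hxx
  obtain ⟨rfl, hk⟩ := A_inv a c k (h.eq_one hxx)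
  exact (hF _).2 ⟨c, k, hk, rfl⟩

theorem inv_F (h : TS T E) (hF : IsF E F) : ∀ x ∈ F, x * x = 1 := by
  intro x hx
  obtain ⟨c, b, rfl⟩ := hF.mem.1 hx
  rw [h.mul, F_sq, h.one]

theorem card_F (h : TS T E) (hF : IsF E F) : Nat.card F = 8 := by
  have e : Nat.card (F4 × Bool) = Nat.card F := by
    refine Nat.card_congr (Equiv.ofBijective
      (fun p : F4 × Bool => (⟨E ⟨0, 0, p.1, tw p.2⟩, hF.mem.2 ⟨_, _, rfl⟩⟩ : F)) ⟨?_, ?_⟩)
    · rintro ⟨c, b⟩ ⟨c', b'⟩ e
      have e1 := h.inj _ _ (Subtype.ext_iff.1 e)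
      simp only [Code.mk.injEq, true_and] at e1
      exact Prod.ext e1.1 (tw_inj _ _ e1.2)
    · rintro ⟨x, hx⟩
      obtain ⟨c, b, rfl⟩ := hF.mem.1 hx
      exact ⟨(c, b), rfl⟩
  rw [← e, Nat.card_eq_fintype_card]
  decide

theorem card_A (h : TS T E) (hA : IsA E A) : Nat.card A = 64 := by
  have e : Nat.card (F4 × F4 × Fin 4) = Nat.card A := by
    refine Nat.card_congr (Equiv.ofBijective
      (fun p : F4 × F4 × Fin 4 => (⟨E ⟨p.1, p.1, p.2.1, p.2.2⟩, (hA _).2 ⟨_, _, _, rfl⟩⟩ : A)) ⟨?_, ?_⟩)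
    · rintro ⟨a, c, b⟩ ⟨a', c', b'⟩ e
      have e1 := h.inj _ _ (Subtype.ext_iff.1 e)
      simp only [Code.mk.injEq] at e1
      exact Prod.ext e1.1 (Prod.ext e1.2.2.1 e1.2.2.2)
    · rintro ⟨x, hx⟩
      obtain ⟨a, c, b, rfl⟩ := (hA x).1 hx
      exact ⟨(a, c, b), rfl⟩
  rw [← e, Nat.card_eq_fintype_card]
  decide

theorem conj_F (h : TS T E) (hF : IsF E F) {g x : G} (hg : g ∈ T) (hx : x ∈ F) : g * x * g⁻¹ ∈ F := by
  obtain ⟨p, τ, hp⟩ := h.act g hg
  obtain ⟨c, b, rfl⟩ := hF.mem.1 hx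
  rw [HasTy.conj h hp]
  obtain ⟨h1, h2, h3⟩ := norm_F τ p c b
  refine (hF _).2 ⟨(cact true p τ ⟨0, 0, c, tw b⟩).c, (cact true p τ ⟨0, 0, c, tw b⟩).k, h3, ?_⟩
  congr 1
  generalize cact true p τ ⟨0, 0, c, tw b⟩ = q at *
  obtain ⟨qa, qb, qc, qk⟩ := q
  simp only at h1 h2
  rw [h1, h2]

theorem T_norm (h : TS T E) (hF : IsF E F) : T ≤ normalizer (F : Set G) := by
  intro g hg
  rw [mem_normalizer_iff]
  intro x
  refine ⟨fun hx => conj_F h hF hg hx, fun hx => ?_⟩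
  have := conj_F h hF (T.inv_mem hg) hx
  have e : g⁻¹ * (g * x * g⁻¹) * g⁻¹⁻¹ = x := by group
  rwa [e] at this

theorem mem_one_F (hF : IsF E F) : E ⟨0, 0, 1, 0⟩ ∈ F := (hF _).2 ⟨1, 0, Or.inl rfl, rfl⟩
theorem mem_w_F (hF : IsF E F) : E ⟨0, 0, F4.w, 0⟩ ∈ F := (hF _).2 ⟨F4.w, 0, Or.inl rfl, rfl⟩
theorem mem_z_F (hF : IsF E F) : E ⟨0, 0, 0, 2⟩ ∈ F := (hF _).2 ⟨0, 2, Or.inr rfl, rfl⟩

/-- the centraliser of `F` in `T`: type `(false, *)` -/
theorem cent_F (h : TS T E) (hF : IsF E F) {g : G} (hg : g ∈ T) (hc : ∀ f ∈ F, g * f = f * g) :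
    HasTy E g (false, false) ∨ HasTy E g (false, true) := by
  obtain ⟨p, τ, hp⟩ := h.act g hg
  have h1 : ∀ y, E y ∈ F → cact true p τ y = y := by
    intro y hy
    apply h.inj
    rw [← HasTy.conj h hp, hc _ hy]; group
  have h2 := act_F τ p (h1 _ (mem_one_F hF)) (h1 _ (mem_w_F hF))
  obtain ⟨τ1, τ2⟩ := τ
  simp only at h2
  subst h2
  cases τ2
  · exact Or.inl ⟨p, hp⟩
  · exact Or.inr ⟨p, hp⟩

/-- the centraliser of `F` in `P` -/
theorem cent_F_P (h : TS T E) (hF : IsF E F) (hA : IsA E A) {g : G} (hg : g ∈ T) (hc : ∀ f ∈ F, g * f = f * g)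
    (ht : HasTy E g (false, false)) : g ∈ A := by
  obtain ⟨p, rfl⟩ := ht.inner h hg
  have h1 := C_F p (h.comm (hc _ (mem_one_F hF))) (h.comm (hc _ (mem_w_F hF)))
  obtain ⟨a, b, c, k⟩ := p
  simp only at h1
  subst h1
  exact (hA _).2 ⟨_, _, _, rfl⟩

/-! ### involutions of type `c` -/

theorem conj_D {D : Set G} (hD : ∀ g : G, ∀ x ∈ D, g * x * g⁻¹ ∈ D) {g x : G} (h : g * x * g⁻¹ ∈ D) : x ∈ D := by
  have := hD g⁻¹ _ h
  have e : g⁻¹ * (g * x * g⁻¹) * g⁻¹⁻¹ = x := by group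
  rwa [e] at this

/-- all involutions of type `c` are in `D` if one is -/
theorem c_D (h : TS T E) {D : Set G} (hD : ∀ g : G, ∀ x ∈ D, g * x * g⁻¹ ∈ D) {x : G} (hx : x ∈ T) (hxD : x ∈ D)
    (hxx : x * x = 1) (ht : HasTy E x (true, true)) {y : G} (hy : y ∈ T) (hyy : y * y = 1)
    (hty : HasTy E y (true, true)) : y ∈ D := by
  obtain ⟨r, hr⟩ := exists_pure h hx hxx (by decide) ht
  obtain ⟨s, hs⟩ := exists_pure h hy hyy (by decide) hty
  apply conj_D hD (g := E s)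
  have h1 := hD (E r) _ hxD
  have h2 : E s * y * (E s)⁻¹ ∈ T := T.mul_mem (T.mul_mem (h.mem s) hy) (T.inv_mem (h.mem s))
  have h3 : E r * x * (E r)⁻¹ ∈ T := T.mul_mem (T.mul_mem (h.mem r) hx) (T.inv_mem (h.mem r))
  generalize E s * y * (E s)⁻¹ = y' at *
  generalize E r * x * (E r)⁻¹ = x' at *
  obtain ⟨k, hk⟩ := h.ker (y' * x'⁻¹) (T.mul_mem h2 (T.inv_mem h3)) (fun z => by
    have := (hs.mul hr.inv).comm z
    rwa [mul_self, ctau_id] at this)
  have hk' : y' = E ⟨0, 0, 0, k⟩ * x' := by rw [← hk]; group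
  rw [hk']
  have step : ∀ k, E ⟨0, 0, 0, k⟩ * x' ∈ D → E ⟨0, 0, 0, k + 1⟩ * x' ∈ D := by
    intro k hk
    have e1 := hD (E ⟨F4.w, F4.v, F4.w, 1⟩)⁻¹ _ hk
    have e2 : x' * E ⟨F4.w, F4.v, F4.w, 1⟩ = E ⟨F4.w, F4.v, F4.w, 1⟩ * E ⟨0, 0, 0, 1⟩ * x' := by
      rw [hr.comm, c_pow, ← h.mul]
    have e3 : E ⟨0, 0, 0, k⟩ * E ⟨F4.w, F4.v, F4.w, 1⟩ = E ⟨F4.w, F4.v, F4.w, 1⟩ * E ⟨0, 0, 0, k⟩ := by
      rw [h.mul, h.mul, Z_comm]
    have e4 : (E ⟨F4.w, F4.v, F4.w, 1⟩)⁻¹ * (E ⟨0, 0, 0, k⟩ * x') * (E ⟨F4.w, F4.v, F4.w, 1⟩)⁻¹⁻¹ =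
        E ⟨0, 0, 0, k + 1⟩ * x' := by
      rw [inv_inv]
      calc (E ⟨F4.w, F4.v, F4.w, 1⟩)⁻¹ * (E ⟨0, 0, 0, k⟩ * x') * E ⟨F4.w, F4.v, F4.w, 1⟩
          = (E ⟨F4.w, F4.v, F4.w, 1⟩)⁻¹ * (E ⟨0, 0, 0, k⟩ * (x' * E ⟨F4.w, F4.v, F4.w, 1⟩)) := by group
        _ = (E ⟨F4.w, F4.v, F4.w, 1⟩)⁻¹ * ((E ⟨0, 0, 0, k⟩ * E ⟨F4.w, F4.v, F4.w, 1⟩) * E ⟨0, 0, 0, 1⟩ * x') := by
          rw [e2]; group
        _ = E ⟨0, 0, 0, k⟩ * E ⟨0, 0, 0, 1⟩ * x' := by rw [e3]; group
        _ = _ := by rw [h.mul, Z_mul]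
    rwa [e4] at e1
  have h0 : E ⟨0, 0, 0, 0⟩ * x' ∈ D := by
    have : E ⟨0, 0, 0, 0⟩ = 1 := h.one
    rwa [this, one_mul]
  have h1' := step _ h0
  have h2' := step _ h1'
  have h3' := step _ h2'
  clear hk hk'
  fin_cases k
  · exact h0
  · exact h1'
  · exact h2'
  · exact h3'

end Cfsg.Agent.UGT.I34.OnT
end

-- part: UGT/I34/OnT3
section
/-!
# THEOREM I34, part [A], (5.5), second half: no element of type `g`, elementary abelian subgroups
-/

set_option autoImplicit false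
set_option linter.constructorNameAsVariable false

open Subgroup Cfsg.Agent.StdL34 Cfsg.Agent.SporadicA.FieldFour

namespace Cfsg.Agent.UGT.I34.OnT

universe u

section

variable {G : Type u} [Group G] [Finite G]

/-- Frattini: an element normalising `F` acts on `F` like an element preserving `C_S(F)` -/
theorem frattini {S : Sylow 2 G} {F : Subgroup G} (hn : (S : Subgroup G) ≤ normalizer (F : Set G)) {g : G}
    (hg : g ∈ normalizer (F : Set G)) : ∃ k : G, (∀ f ∈ F, k * f = f * k) ∧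
      ∀ x, x ∈ (S : Subgroup G) → (∀ f ∈ F, x * f = f * x) →
        (k * g) * x * (k * g)⁻¹ ∈ (S : Subgroup G) ∧ ∀ f ∈ F, (k * g) * x * (k * g)⁻¹ * f = f * ((k * g) * x * (k * g)⁻¹) := by
  have : Fact (Nat.Prime 2) := ⟨Nat.prime_two⟩
  have hmc : ∀ {g x : G}, g ∈ normalizer (F : Set G) → x ∈ F → g * x * g⁻¹ ∈ F := fun {g x} hg hx =>
    (mem_normalizer_iff.1 hg x).1 hx
  let K : Subgroup G := centralizer (F : Set G)
  have hKN : K ≤ normalizer (F : Set G) := by
    intro x hx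
    rw [mem_normalizer_iff]
    have hx' := (mem_centralizer_iff.1 hx)
    intro f
    constructor
    · intro hf
      have e : x * f * x⁻¹ = f := by rw [← hx' f hf]; group
      rwa [e]
    · intro hf
      have e : x⁻¹ * (x * f * x⁻¹) * x = x * f * x⁻¹ := by
        rw [mul_assoc, hx' _ hf]; group
      have e2 : x⁻¹ * (x * f * x⁻¹) * x = f := by group
      rwa [← e2, e]
  have hK : ∀ n ∈ normalizer (F : Set G), ∀ k ∈ K, n * k * n⁻¹ ∈ K := by
    intro n hn k hk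
    rw [mem_centralizer_iff] at hk ⊢
    intro f hf
    have hf' : n⁻¹ * f * n ∈ (F : Set G) := by
      have := hmc (inv_mem hn) hf
      rwa [inv_inv] at this
    have := hk _ hf'
    calc f * (n * k * n⁻¹) = n * ((n⁻¹ * f * n) * k) * n⁻¹ := by group
      _ = n * (k * (n⁻¹ * f * n)) * n⁻¹ := by rw [this]
      _ = n * k * n⁻¹ * f := by group
  have hTi : ¬ 2 ∣ (S : Subgroup G).relIndex (normalizer (F : Set G)) := fun hd =>
    S.not_dvd_index (hd.trans (relIndex_dvd_index_of_le hn))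
  have hAi := Cfsg.Agent.LFourB.RelExt.sylow_inf (p := 2) (R := (S : Subgroup G)) S.2 hn hTi hKN hK
  have hmap : K.map (MulAut.conj g).toMonoidHom = K := by
    refine Subgroup.eq_of_le_of_card_ge ?_ (by rw [Cfsg.Agent.Lib.GoldschmidtFusion.card_map_conj])
    rintro _ ⟨k, hk, rfl⟩
    exact hK g hg k hk
  obtain ⟨k, hk, hkA⟩ := Cfsg.Agent.LFourB.RelExt.frattini (p := 2) (S.2.to_le inf_le_left) inf_le_right hAi hmap
  refine ⟨k, fun f hf => (mem_centralizer_iff.1 hk f hf).symm, fun x hx hxF => ?_⟩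
  have h1 : k * g * x * (k * g)⁻¹ ∈ (S : Subgroup G) ⊓ K := by
    rw [← hkA]
    exact ⟨x, ⟨hx, mem_centralizer_iff.2 fun f hf => (hxF f hf).symm⟩, rfl⟩
  exact ⟨h1.1, fun f hf => ((mem_centralizer_iff.1 h1.2) f hf).symm⟩

end

section

variable {G : Type u} [Group G] {T : Subgroup G} {E : Code → G} {F A : Subgroup G}

/-- a pure element of type `g`: centralises `F`, inverts `A`, its square is `1` or `z` -/
theorem g_facts (h : TS T E) (hF : IsF E F) (hA : IsA E A) {y : G} (hy : y ∈ T) (hg : Pure E y (false, true)) :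
    (∀ f ∈ F, y * f = f * y) ∧ (∀ a ∈ A, y * a * y⁻¹ = a⁻¹) ∧ (y * y = 1 ∨ y * y = E ⟨0, 0, 0, 2⟩) := by
  refine ⟨fun f hf => ?_, fun a ha => ?_, ?_⟩
  · obtain ⟨c, b, rfl⟩ := hF.mem.1 hf
    rw [hg.comm, g_F]
  · obtain ⟨a, c, k, rfl⟩ := (hA a).1 ha
    rw [hg, g_A, h.inv]
  · obtain ⟨k, hk⟩ := h.ker _ (T.mul_mem hy hy) (fun z => by
      have := (hg.mul hg).comm z
      rwa [mul_self, ctau_id] at this)
    have h1 : y * E ⟨0, 0, 0, k⟩ * y⁻¹ = E ⟨0, 0, 0, k⟩ := by rw [← hk]; group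
    rw [hg] at h1
    rcases g_Z k (h.inj _ _ h1) with rfl | rfl
    · left; rw [hk]; exact h.one
    · right; exact hk

end

section

variable {G : Type u} [Group G] [Finite G] {S : Sylow 2 G} {E : Code → G} {F A : Subgroup G}

/-- a pure element of type `g` is an involution -/
theorem g_invol (h : TS (S : Subgroup G) E) (hF : IsF E F) (hA : IsA E A)
    (tv : ∃ n ∈ normalizer (F : Set G), n * E ⟨0, 0, 0, 2⟩ * n⁻¹ ≠ E ⟨0, 0, 0, 2⟩)
    {y : G} (hy : y ∈ (S : Subgroup G)) (hg : Pure E y (false, true)) : y * y = 1 := by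
  obtain ⟨hyF, hyA, h1 | h1⟩ := g_facts h hF hA hy hg
  · exact h1
  exfalso
  obtain ⟨n, hn, hnz⟩ := tv
  obtain ⟨k, hk, hkn⟩ := frattini (T_norm h hF) hn
  have hzA : E ⟨0, 0, 0, 2⟩ ∈ A := F_le_A hF hA (mem_z_F hF)
  have hyA' : y ∉ A := fun hy' => by
    obtain ⟨a, c, l, e⟩ := (hA y).1 hy'
    have h2 := HasTy.of h ⟨a, a, c, l⟩
    rw [← e] at h2
    have := h2.uniq h (HasTy.pure h hg)
    exact absurd this (by decide)
  -- elements of `C_S(F)` outside `A` have square `z`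
  have sq : ∀ x ∈ (S : Subgroup G), (∀ f ∈ F, x * f = f * x) → x ∉ A → x * x = E ⟨0, 0, 0, 2⟩ := by
    intro x hx hxF hxA
    rcases cent_F h hF hx hxF with ht | ht
    · exact absurd (cent_F_P h hF hA hx hxF ht) hxA
    have h2 : x * y⁻¹ ∈ A := by
      refine cent_F_P h hF hA ((S : Subgroup G).mul_mem hx ((S : Subgroup G).inv_mem hy)) (fun f hf => ?_) ?_
      · have e : y⁻¹ * f = f * y⁻¹ := by
          have := hyF f hf
          rw [inv_mul_eq_iff_eq_mul, ← mul_assoc, this, mul_assoc, mul_inv_cancel, mul_one]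
        rw [mul_assoc, e, ← mul_assoc, hxF f hf, mul_assoc]
      · have := ht.mul h ((HasTy.pure h hg).inv h)
        rwa [mul_self] at this
    have e1 : x = x * y⁻¹ * y := by group
    have e2 := hyA _ h2
    generalize x * y⁻¹ = a at *
    rw [e1]
    calc a * y * (a * y) = a * (y * a * y⁻¹) * (y * y) := by group
      _ = y * y := by rw [e2]; group
      _ = _ := h1
  have hCA : ∀ a ∈ A, ∀ f ∈ F, a * f = f * a := fun a ha f hf => comm_A h hA a ha f (F_le_A hF hA hf)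
  set m := k * n with hm
  have hmz : m * E ⟨0, 0, 0, 2⟩ * m⁻¹ ≠ E ⟨0, 0, 0, 2⟩ := by
    have e : m * E ⟨0, 0, 0, 2⟩ * m⁻¹ = k * (n * E ⟨0, 0, 0, 2⟩ * n⁻¹) * k⁻¹ := by rw [hm]; group
    have e2 : n * E ⟨0, 0, 0, 2⟩ * n⁻¹ ∈ F := (mem_normalizer_iff.1 hn _).1 (mem_z_F hF)
    rw [e, hk _ e2, mul_inv_cancel_right]
    exact hnz
  -- conjugates of elements of `C_S(F) ∖ A` are in `A`
  have hcA : ∀ x ∈ (S : Subgroup G), (∀ f ∈ F, x * f = f * x) → x ∉ A → m * x * m⁻¹ ∈ A := by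
    intro x hx hxF hxA
    by_contra hc
    obtain ⟨h3, h4⟩ := hkn x hx hxF
    have h5 := sq _ h3 h4 hc
    apply hmz
    have h6 : m * (x * x) * m⁻¹ = E ⟨0, 0, 0, 2⟩ := by rw [← h5]; group
    rwa [sq x hx hxF hxA] at h6
  have hya : ∀ a ∈ A, m * a * m⁻¹ ∈ A := by
    intro a ha
    have h3 : a * y ∉ A := fun h4 => hyA' ((A.mul_mem_cancel_left ha).1 h4)
    have h4 := hcA _ ((S : Subgroup G).mul_mem (A_le h hA ha) hy) (fun f hf => by
      rw [mul_assoc, hyF f hf, ← mul_assoc, hCA a ha f hf, mul_assoc]) h3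
    have h5 := hcA _ hy hyF hyA'
    have e : m * a * m⁻¹ = (m * (a * y) * m⁻¹) * (m * y * m⁻¹)⁻¹ := by group
    rw [e]
    exact A.mul_mem h4 (A.inv_mem h5)
  have hmap : A.map (MulAut.conj m).toMonoidHom = A := by
    refine Subgroup.eq_of_le_of_card_ge ?_ (by rw [Cfsg.Agent.Lib.GoldschmidtFusion.card_map_conj])
    rintro _ ⟨a, ha, rfl⟩
    exact hya a ha
  have h5 := hcA _ hy hyF hyA'
  rw [← hmap] at h5
  obtain ⟨a, ha, e⟩ := h5
  have e' : m * a * m⁻¹ = m * y * m⁻¹ := e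
  have := mul_left_cancel (mul_right_cancel e')
  exact hyA' (this ▸ ha)

/-- **no element of type `g`** -/
theorem no_g [IsSimpleGroup G] (h : TS (S : Subgroup G) E) (hF : IsF E F) (hA : IsA E A)
    (tv : ∃ n ∈ normalizer (F : Set G), n * E ⟨0, 0, 0, 2⟩ * n⁻¹ ≠ E ⟨0, 0, 0, 2⟩)
    {D : Set G} (hD : ∀ g : G, ∀ x ∈ D, g * x * g⁻¹ ∈ D) (inv : ∀ p, E p * E p = 1 → E p ≠ 1 → E p ∈ D)
    (nog : ∀ y ∈ (S : Subgroup G), y ∈ D → (∀ f ∈ F, y * f = f * y) → y ∉ A → False)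
    (xc : ∃ x ∈ (S : Subgroup G), x ∈ D ∧ x * x = 1 ∧ HasTy E x (true, true))
    {y : G} (hy : y ∈ (S : Subgroup G)) (hg : HasTy E y (false, true)) : False := by
  obtain ⟨p, hp⟩ := hg
  have hy' : E p * y ∈ (S : Subgroup G) := (S : Subgroup G).mul_mem (h.mem p) hy
  clear hy
  generalize E p * y = y' at *
  have hyy := g_invol h hF hA tv hy' hp
  obtain ⟨hyF, hyA, -⟩ := g_facts h hF hA hy' hp
  have hyA' : y' ∉ A := fun hy' => by
    obtain ⟨a, c, l, e⟩ := (hA y').1 hy'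
    have h2 := HasTy.of h ⟨a, a, c, l⟩
    rw [← e] at h2
    have := h2.uniq h (HasTy.pure h hp)
    exact absurd this (by decide)
  -- the subgroup of types `1`, `c`
  let Q : Subgroup G :=
    { carrier := {g | g ∈ (S : Subgroup G) ∧ (HasTy E g (false, false) ∨ HasTy E g (true, true))}
      one_mem' := ⟨one_mem _, Or.inl (HasTy.pure h Pure.one)⟩
      mul_mem' := by
        rintro a b ⟨ha, h1⟩ ⟨hb, h2⟩
        refine ⟨(S : Subgroup G).mul_mem ha hb, ?_⟩
        rcases h1 with h1 | h1 <;> rcases h2 with h2 | h2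
        · left; exact h1.mul h h2
        · right; exact h1.mul h h2
        · right; exact h1.mul h h2
        · left; exact h1.mul h h2
      inv_mem' := by
        rintro a ⟨ha, h1⟩
        refine ⟨(S : Subgroup G).inv_mem ha, ?_⟩
        rcases h1 with h1 | h1
        · left; exact h1.inv h
        · right; exact h1.inv h }
  have hQm : ∀ g, g ∈ Q ↔ g ∈ (S : Subgroup G) ∧ (HasTy E g (false, false) ∨ HasTy E g (true, true)) :=
    fun _ => Iff.rfl
  have hQS : Q ≤ (S : Subgroup G) := fun g hg => hg.1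
  have hQi : Q.relIndex (S : Subgroup G) = 2 := by
    rw [relIndex_eq_two_iff]
    refine ⟨y', hy', fun b hb => ?_⟩
    obtain ⟨τ, hτ⟩ := h.ty hb
    have h1 : HasTy E (b * y') (τ.mul (false, true)) := hτ.mul h (HasTy.pure h hp)
    have h2 : ∀ {g : G} {τ : Ty}, g ∈ (S : Subgroup G) → HasTy E g τ → (g ∈ Q ↔ τ = (false, false) ∨ τ = (true, true)) := by
      intro g τ hgS hgτ
      rw [hQm]
      constructor
      · rintro ⟨-, h3 | h3⟩
        · left; exact hgτ.uniq h h3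
        · right; exact hgτ.uniq h h3
      · rintro (rfl | rfl)
        · exact ⟨hgS, Or.inl hgτ⟩
        · exact ⟨hgS, Or.inr hgτ⟩
    rw [h2 ((S : Subgroup G).mul_mem hb hy') h1, h2 hb hτ]
    clear h1 h2 hτ
    revert τ; decide
  rcases Cfsg.Agent.Transfer.ThompsonTransfer.thompson_transfer S Q hQS hQi y' (by rw [sq, hyy]) with
    ⟨M, hM, hM2, hyM⟩ | ⟨g, hg⟩
  · rcases IsSimpleGroup.eq_bot_or_eq_top_of_normal M hM with rfl | rfl
    · rw [index_bot] at hM2
      have h3 := Nat.card_le_card_of_injective E (fun p q e => h.inj p q e)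
      rw [card_code, hM2] at h3
      omega
    · exact hyM (mem_top _)
  · have h3 : g * y' * g⁻¹ * (g * y' * g⁻¹) = 1 := by
      have e : g * y' * g⁻¹ * (g * y' * g⁻¹) = g * (y' * y') * g⁻¹ := by group
      rw [e, hyy]; group
    have h4 : g * y' * g⁻¹ ≠ 1 := fun e => by
      apply hyA'
      have : y' = 1 := by
        have e2 : y' = g⁻¹ * (g * y' * g⁻¹) * g := by group
        rw [e2, e]; group
      rw [this]; exact one_mem _
    have h5 : g * y' * g⁻¹ ∈ D := by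
      rcases hg.2 with h6 | h6
      · obtain ⟨q, hq⟩ := h6.inner h hg.1
        rw [hq] at h3 h4 ⊢
        exact inv _ h3 h4
      · obtain ⟨x, hx, hxD, hxx, hxt⟩ := xc
        exact c_D h hD hx hxD hxx hxt hg.1 h3 h6
    exact nog y' hy' (conj_D hD h5) hyF hyA'

end

end Cfsg.Agent.UGT.I34.OnT
end

-- part: UGT/I34/OnT4
section
/-!
# THEOREM I34, part [A], (5.5), second half: order of `T`, elementary abelian subgroups of `T`
-/

set_option autoImplicit false
set_option linter.constructorNameAsVariable false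

open Subgroup Cfsg.Agent.StdL34 Cfsg.Agent.SporadicA.FieldFour

namespace Cfsg.Agent.UGT.I34.OnT

universe u

variable {G : Type u} [Group G] {T : Subgroup G} {E : Code → G}

/-- without elements of type `g`: types `1` and `c` only -/
theorem ty_cases (h : TS T E) (ng : ∀ y ∈ T, ¬ HasTy E y (false, true)) {x : G} (hx : x ∈ T)
    (hxt : HasTy E x (true, true)) {g : G} (hg : g ∈ T) : HasTy E g (false, false) ∨ HasTy E g (true, true) := by
  obtain ⟨⟨τ1, τ2⟩, hτ⟩ := h.ty hg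
  cases τ1 <;> cases τ2
  · exact Or.inl hτ
  · exact absurd hτ (ng g hg)
  · exact absurd (hτ.mul h hxt) (ng _ (T.mul_mem hg hx))
  · exact Or.inr hτ

theorem relIndex_P (h : TS T E) (ng : ∀ y ∈ T, ¬ HasTy E y (false, true)) {x : G} (hx : x ∈ T)
    (hxt : HasTy E x (true, true)) : (P h).relIndex T = 2 := by
  rw [relIndex_eq_two_iff]
  refine ⟨x, hx, fun b hb => ?_⟩
  rw [mem_P_iff h (T.mul_mem hb hx), mem_P_iff h hb]
  rcases ty_cases h ng hx hxt hb with hτ | hτ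
  · refine Or.inr ⟨hτ, fun h2 => ?_⟩
    have := (hτ.mul h hxt).uniq h h2
    exact absurd this (by decide)
  · refine Or.inl ⟨?_, fun h2 => ?_⟩
    · exact hτ.mul h hxt
    · have := hτ.uniq h h2
      exact absurd this (by decide)

theorem card_T (h : TS T E) (ng : ∀ y ∈ T, ¬ HasTy E y (false, true)) {x : G} (hx : x ∈ T)
    (hxt : HasTy E x (true, true)) : Nat.card T = 512 := by
  have h1 := relIndex_mul_relIndex ⊥ (P h) T bot_le (P_le h)
  rw [relIndex_bot_left, relIndex_bot_left, card_P, relIndex_P h ng hx hxt] at h1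
  exact h1.symm

/-- an elementary abelian subgroup of `P` has order at most 8 -/
theorem no16_P (h : TS T E) (B : Subgroup G) (hB : B ≤ P h) (hBe : ∀ x ∈ B, x * x = 1) : Nat.card B ≤ 8 := by
  have hBc : ∀ x ∈ B, ∀ y ∈ B, x * y = y * x := by
    intro x hx y hy
    have e1 := hBe _ (B.mul_mem hx hy)
    have e2 := hBe _ hx
    have e3 := hBe _ hy
    have i1 : x⁻¹ = x := inv_eq_of_mul_eq_one_left e2
    have i2 : y⁻¹ = y := inv_eq_of_mul_eq_one_left e3
    have i3 : (x * y)⁻¹ = x * y := inv_eq_of_mul_eq_one_left e1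
    rw [← i3, mul_inv_rev, i1, i2]
  have sq : ∀ p, E p ∈ B → cmul true p p = cone := by
    intro p hp
    have := hBe _ hp
    rw [h.mul] at this
    exact h.eq_one this
  -- the count
  have key : ∀ s : Finset Code, (∀ p, E p ∈ B → p ∈ s) → s.card ≤ 8 → Nat.card B ≤ 8 := by
    intro s hs hs8
    have h1 : (B : Set G) ⊆ E '' (s : Set Code) := by
      intro x hx
      obtain ⟨p, rfl⟩ := hB hx
      exact ⟨p, Finset.mem_coe.2 (hs p hx), rfl⟩
    have h2 : (E '' (s : Set Code)).Finite := (s.finite_toSet).image E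
    calc Nat.card B = (B : Set G).ncard := rfl
      _ ≤ (E '' (s : Set Code)).ncard := Set.ncard_le_ncard h1 h2
      _ ≤ (s : Set Code).ncard := Set.ncard_image_le s.finite_toSet
      _ = s.card := Set.ncard_coe_finset s
      _ ≤ 8 := hs8
  by_cases h0 : ∃ p, E p ∈ B ∧ ¬ (p.a = 0 ∧ p.b = 0)
  swap
  · push Not at h0
    refine key _ (fun p hp => ?_) card_zero
    rw [Finset.mem_filter]
    exact ⟨Finset.mem_univ _, sq p hp, h0 p hp⟩
  obtain ⟨p, hp, hp0⟩ := h0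
  by_cases h1 : ∃ q, E q ∈ B ∧ ¬ (q.a = 0 ∧ q.b = 0) ∧ ¬ (q.a = p.a ∧ q.b = p.b)
  · obtain ⟨q, hq, hq0, hqp⟩ := h1
    refine key _ (fun r hr => ?_) (card_two p (sq p hp) hp0 q (sq q hq) (h.comm (hBc _ hq _ hp)) hq0 hqp)
    rw [Finset.mem_filter]
    exact ⟨Finset.mem_univ _, sq r hr, h.comm (hBc _ hr _ hp), h.comm (hBc _ hr _ hq)⟩
  · refine key _ (fun r hr => ?_) (card_one p (sq p hp) hp0)
    rw [Finset.mem_filter]
    refine ⟨Finset.mem_univ _, sq r hr, h.comm (hBc _ hr _ hp), ?_⟩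
    by_cases h2 : r.a = 0 ∧ r.b = 0
    · exact Or.inl h2
    · exact Or.inr (by_contra fun h3 => h1 ⟨r, hr, h2, h3⟩)

/-- an elementary abelian subgroup with a pure element of type `c` has order at most 8 -/
theorem no16_c (h : TS T E) (ng : ∀ y ∈ T, ¬ HasTy E y (false, true)) {x : G} (hx : x ∈ T)
    (hxt : Pure E x (true, true)) (B : Subgroup G) (hB : B ≤ T) (hBe : ∀ x ∈ B, x * x = 1) (hxB : x ∈ B) :
    Nat.card B ≤ 8 := by
  have hBc : ∀ x ∈ B, ∀ y ∈ B, x * y = y * x := by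
    intro x hx y hy
    have e1 := hBe _ (B.mul_mem hx hy)
    have e2 := hBe _ hx
    have e3 := hBe _ hy
    have i1 : x⁻¹ = x := inv_eq_of_mul_eq_one_left e2
    have i2 : y⁻¹ = y := inv_eq_of_mul_eq_one_left e3
    have i3 : (x * y)⁻¹ = x * y := inv_eq_of_mul_eq_one_left e1
    rw [← i3, mul_inv_rev, i1, i2]
  have hP : ∀ p, E p ∈ B → p ∈ cfix := by
    intro p hp
    refine mem_cfix p ?_ ?_
    · apply h.inj
      rw [← hxt p, hBc _ hxB _ hp]; group
    · have := hBe _ hp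
      rw [h.mul] at this
      exact h.eq_one this
  have h1 : (B : Set G) ⊆ (E '' (cfix : Set Code)) ∪ ((fun p => E p * x) '' (cfix : Set Code)) := by
    intro b hb
    rcases ty_cases h ng hx (HasTy.pure h hxt) (hB hb) with ht | ht
    · obtain ⟨p, rfl⟩ := ht.inner h (hB hb)
      exact Or.inl ⟨p, Finset.mem_coe.2 (hP p hb), rfl⟩
    · have h2 : HasTy E (b * x⁻¹) (false, false) := ht.mul h ((HasTy.pure h hxt).inv h)
      obtain ⟨p, hp⟩ := h2.inner h (T.mul_mem (hB hb) (T.inv_mem hx))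
      have h3 : E p ∈ B := hp ▸ B.mul_mem hb (B.inv_mem hxB)
      refine Or.inr ⟨p, Finset.mem_coe.2 (hP p h3), ?_⟩
      show E p * x = b
      rw [← hp]; group
  calc Nat.card B = (B : Set G).ncard := rfl
    _ ≤ _ := Set.ncard_le_ncard h1 (((cfix.finite_toSet).image _).union ((cfix.finite_toSet).image _))
    _ ≤ _ := Set.ncard_union_le _ _
    _ ≤ (cfix : Set Code).ncard + (cfix : Set Code).ncard :=
      Nat.add_le_add (Set.ncard_image_le cfix.finite_toSet) (Set.ncard_image_le cfix.finite_toSet)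
    _ = 8 := by rw [Set.ncard_coe_finset, card_cfix]

/-- **no elementary abelian subgroup of order 16** -/
theorem no16 (h : TS T E) (ng : ∀ y ∈ T, ¬ HasTy E y (false, true)) {x : G} (hx : x ∈ T)
    (hxt : HasTy E x (true, true)) (B : Subgroup G) (hB : B ≤ T) (hBe : ∀ x ∈ B, x * x = 1) : Nat.card B ≤ 8 := by
  by_cases hBP : B ≤ P h
  · exact no16_P h B hBP hBe
  obtain ⟨b, hb, hbP⟩ := SetLike.not_le_iff_exists.1 hBP
  rcases ty_cases h ng hx hxt (hB hb) with ht | ht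
  · exact absurd (ht.inner h (hB hb)) hbP
  obtain ⟨r, hr⟩ := exists_pure h (hB hb) (hBe b hb) (by decide) ht
  have hB2 : Nat.card (B.map (MulAut.conj (E r)).toMonoidHom : Subgroup G) = Nat.card B :=
    Nat.card_congr (B.equivMapOfInjective _ (MulAut.conj (E r)).injective).toEquiv.symm
  rw [← hB2]
  refine no16_c h ng (x := E r * b * (E r)⁻¹) ?_ hr _ ?_ ?_ ⟨b, hb, rfl⟩
  · exact T.mul_mem (T.mul_mem (h.mem r) (hB hb)) (T.inv_mem (h.mem r))
  · rintro _ ⟨c, hc, rfl⟩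
    exact T.mul_mem (T.mul_mem (h.mem r) (hB hc)) (T.inv_mem (h.mem r))
  · rintro _ ⟨c, hc, rfl⟩
    show E r * c * (E r)⁻¹ * (E r * c * (E r)⁻¹) = 1
    have e : E r * c * (E r)⁻¹ * (E r * c * (E r)⁻¹) = E r * (c * c) * (E r)⁻¹ := by group
    rw [e, hBe c hc]; group

end Cfsg.Agent.UGT.I34.OnT
end

-- part: UGT/I34/OnTMain
section
/-!
# THEOREM I34, part [A], (5.5), second half: the local data of the O'Nan branch

`onLoc`: a Sylow 2-subgroup `S` of `G` with `TS S E`, the transvections of `F = {E ⟨0, 0, c, k⟩ : k = 0, 2}` in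
`N_G(F)`, a class `D` of involutions containing those of `P` and one of type `c` of `S`, no element of `C_S(F) ∖ A` in
`D`: `OnLoc S F A`.
-/

set_option autoImplicit false
set_option linter.constructorNameAsVariable false

open Subgroup Cfsg.Agent.StdL34 Cfsg.Agent.SporadicA.FieldFour
open Cfsg.Agent.ONType.Span Cfsg.Agent.ONType.Loc

namespace Cfsg.Agent.UGT.I34.OnT

universe u

/-- (5.5), second half, T-side. -/
theorem onLoc {G : Type u} [Group G] [Finite G] [IsSimpleGroup G] {S : Sylow 2 G} {E : Code → G}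
    (h : TS (S : Subgroup G) E) {F A : Subgroup G} (hF : IsF E F) (hA : IsA E A)
    (tv : ∀ e a b : G, e ∈ F → a ∈ F → b ∈ F → Indep e a b →
      ∃ g ∈ normalizer (F : Set G), g * e = e * g ∧ g * a = a * g ∧ g * b * g⁻¹ = b * e)
    {D : Set G} (hD : ∀ g : G, ∀ x ∈ D, g * x * g⁻¹ ∈ D)
    (inv : ∀ p, E p * E p = 1 → E p ≠ 1 → E p ∈ D)
    (nog : ∀ y ∈ (S : Subgroup G), y ∈ D → (∀ f ∈ F, y * f = f * y) → y ∉ A → False)
    (xc : ∃ x ∈ (S : Subgroup G), x ∈ D ∧ x * x = 1 ∧ HasTy E x (true, true)) :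
    OnLoc S F A := by
  have tv' : ∃ n ∈ normalizer (F : Set G), n * E ⟨0, 0, 0, 2⟩ * n⁻¹ ≠ E ⟨0, 0, 0, 2⟩ := by
    have hind : Indep (E ⟨0, 0, 1, 0⟩) (E ⟨0, 0, F4.w, 0⟩) (E ⟨0, 0, 0, 2⟩) := by
      refine ⟨?_, ?_, h.ne (by decide), ?_, h.ne (by decide), h.ne (by decide), ?_⟩
      · rw [← h.one]; exact h.ne (by decide)
      · rw [← h.one]; exact h.ne (by decide)
      · rw [← h.one]; exact h.ne (by decide)
      · rw [h.mul]; exact h.ne (by decide)
    obtain ⟨g, hg, -, -, h3⟩ := tv _ _ _ (mem_one_F hF) (mem_w_F hF) (mem_z_F hF) hind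
    refine ⟨g, hg, fun e => ?_⟩
    rw [h3] at e
    have h4 : E ⟨0, 0, 1, 0⟩ = 1 := mul_eq_left.1 e
    exact absurd (h.eq_one h4) (by decide)
  have ng : ∀ y ∈ (S : Subgroup G), ¬ HasTy E y (false, true) := fun y hy hyt =>
    no_g h hF hA tv' hD inv nog xc hy hyt
  obtain ⟨x, hx, hxD, hxx, hxt⟩ := xc
  refine
    { cardT := card_T h ng hx hxt
      norm := T_norm h hF
      Finv := inv_F h hF
      cardF := card_F h hF
      Adef := fun y => ⟨fun hy => ⟨A_le h hA hy, fun f hf => comm_A h hA y hy f (F_le_A hF hA hf)⟩, fun hy => ?_⟩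
      cardA := card_A h hA
      comm := comm_A h hA
      exp := exp_A h hA
      invF := inv_A h hF hA
      FA := F_le_A hF hA
      tv := tv
      inv := ⟨E ⟨1, 0, 0, 0⟩, h.mem _, fun hy => ?_, ?_⟩
      no16 := fun B hB hBe => no16 h ng hx hxt B hB hBe }
  · rcases cent_F h hF hy.1 hy.2 with ht | ht
    · exact cent_F_P h hF hA hy.1 hy.2 ht
    · exact absurd ht (ng y hy.1)
  · obtain ⟨a, c, k, e⟩ := (hA _).1 hy
    have e1 := h.inj _ _ e
    simp only [Code.mk.injEq] at e1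
    have : (1 : F4) = 0 := e1.1.trans e1.2.1.symm
    exact absurd this (by decide)
  · rw [h.mul, ← h.one]
    congr 1

end Cfsg.Agent.UGT.I34.OnT
end

-- part: UGT/I34/OnSupEnd
section
/-!
# THEOREM I34, part [A], (5.5), second half: the local data of the O'Nan branch from the world (W1) without big elements
-/

set_option autoImplicit false

open Cfsg Subgroup
open Cfsg.Agent.UGT.I34.OnSupA Cfsg.Agent.UGT.I34.OnSupC Cfsg.Agent.UGT.I34.OnSupD Cfsg.Agent.UGT.I34.OnSupE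
open Cfsg.Agent.Lib.GoldschmidtFusion (exists_sylow_in)

namespace Cfsg.Agent.UGT.I34.OnSupEnd

universe v

theorem exists_sylT {G : Type*} [Group G] [Finite G] (z : G) : ∃ T : Subgroup G, SylT T z := by
  have : Fact (Nat.Prime 2) := ⟨Nat.prime_two⟩
  obtain ⟨T, -, h1, h2, h3⟩ := exists_sylow_in (p := 2) (N := centralizer ({z} : Set G)) (D := ⊥) bot_le IsPGroup.of_bot
  exact ⟨T, h1, h2, h3⟩

/-- **(5.5), second half**, for the record `Wd`. -/
theorem exists_onLoc_of {G : Type v} [Group G] [Finite G] [IsSimpleGroup G] {D : Set G} {L : G → Subgroup G}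
    (h : Wd D L) {z : G} (hz : z ∈ D) {T : Subgroup G} (hT : SylT T z) :
    ∃ (S : Sylow 2 G) (F A : Subgroup G), (S : Subgroup G) = T ∧ ONType.Loc.OnLoc S F A := by
  obtain ⟨B, E, hA⟩ := exists_al h hz hT
  obtain ⟨S, hS⟩ := sylow h hz hT hA
  have hTS : OnT.TS (S : Subgroup G) E := by
    rw [hS]
    refine ⟨hA.memT, hA.mul hT, fun p q => hA.inj, fun g hg => ?_, fun g hg hc => hA.ker h hz hT hg hc⟩
    obtain ⟨p, τ, hp⟩ := hA.exists_ty h hz hT hg
    exact ⟨p, τ, fun y => hA.act_E h hz hT hg hp y⟩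
  have hF := OnT.isF_subF hTS
  have hA' := OnT.isA_subA hTS
  have hFi : ∀ {x}, x ∈ OnT.subF hTS ↔ x ∈ OnSupB.Fi L T z := fun {x} => by
    rw [hF x, hA.mem_Fi_iff h hz hT]
  refine ⟨S, OnT.subF hTS, OnT.subA hTS, hS, OnT.onLoc hTS hF hA' ?_ (D := D) (fun g x hx => h.conj hx g) ?_ ?_ ?_⟩
  · intro e a b he ha hb hI
    obtain ⟨g, hg, h1, h2, h3⟩ := tv h hz hT (hFi.1 he) (hFi.1 ha) (hFi.1 hb) hI
    refine ⟨g, ?_, h1, h2, h3⟩
    rw [mem_normalizer_iff]
    intro x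
    rw [hFi, hFi]
    exact hg x
  · intro p h1 h2
    exact h.inv_mem hz (hA.memL p) h1 h2
  · intro y hy hyD hc hyA
    have hyT : y ∈ T := hS ▸ hy
    refine nog h hz hT hA hyT hyD (fun f hf => hc f (hFi.2 hf)) fun hyL => hyA ?_
    obtain ⟨p, rfl⟩ := hA.exists_E hT hyT hyL
    exact OnT.cent_F_P hTS hF hA' hy hc (OnT.HasTy.of hTS p)
  · obtain ⟨x, hx, hxD, p, hp⟩ := xc h hz hT hA
    exact ⟨x, hS.symm ▸ hx, hxD, h.sq hxD, p, hp⟩

/-- **THEOREM I34, part [A], (5.5)**: the world (W1) of type `4₁` without big elements gives the local data of the O'Nan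
branch, for every Sylow 2-subgroup of `C(z)`. -/
theorem exists_onLoc {G : Type v} [Group G] [Finite G] [IsSimpleGroup G] {κ : Pair.Kind.{v}} {D : Set G}
    {L : G → Subgroup G} (h : WOne.W1 κ true D L) (hb : Four.NoBig κ D L) (he : WSupply.NoEps D L)
    (hcov : ∀ u ∈ D, ∃ A : StdL34.Cov (↥(L u) ⧸ oddCore ↥(L u)), A.ty = true) {z : G} (hz : z ∈ D)
    {T : Subgroup G} (hT : SylT T z) :
    ∃ (S : Sylow 2 G) (F A : Subgroup G), (S : Subgroup G) = T ∧ ONType.Loc.OnLoc S F A :=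
  exists_onLoc_of (OnSupW.wd_of h hb he hcov) hz hT

/-- The same, for some Sylow 2-subgroup. -/
theorem exists_onLoc' {G : Type v} [Group G] [Finite G] [IsSimpleGroup G] {κ : Pair.Kind.{v}} {D : Set G}
    {L : G → Subgroup G} (h : WOne.W1 κ true D L) (hb : Four.NoBig κ D L) (he : WSupply.NoEps D L)
    (hcov : ∀ u ∈ D, ∃ A : StdL34.Cov (↥(L u) ⧸ oddCore ↥(L u)), A.ty = true) {z : G} (hz : z ∈ D) :
    ∃ (S : Sylow 2 G) (F A : Subgroup G), (S : Subgroup G) ≤ centralizer ({z} : Set G) ∧ ONType.Loc.OnLoc S F A := by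
  obtain ⟨T, hT⟩ := exists_sylT z
  obtain ⟨S, F, A, rfl, h1⟩ := exists_onLoc h hb he hcov hz hT
  exact ⟨S, F, A, hT.1, h1⟩

end Cfsg.Agent.UGT.I34.OnSupEnd
end

-- part: UGT/I34/Two/Basic
section
/-!
# THEOREM I34 for `Z = 2`: the group level, basic facts

* `Env G` : the induction setting.
* `Env.pump`, `Env.back` : the small pump-up of a pair.
* `Env.not_both` : (**) no involution commuting with `u`, `v` fixes both `X` and `Y` if `v` does not fix `X`.
* `Env.key` : `s` fixes `Y ∈ Ω_v`, `q` commutes with `s`: the square of `v v^q` has odd order.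
* `Env.sharp` : (#).
-/

set_option autoImplicit false

open Cfsg Subgroup
open Cfsg.Agent.SignalizersComponents
open Cfsg.Agent.SignalizersComponents.IntrinsicBasic
open Cfsg.Agent.Intrinsic
open Cfsg.Agent.Intrinsic.Basic hiding IsPair PQS Target
open Cfsg.Agent.Intrinsic.Cen hiding pair_comm pair_mem_cen exists_pump pump_unique
open Cfsg.Agent.Intrinsic.Quot hiding Big isPair_quot small_or_big
open Cfsg.Agent.Intrinsic.Diag
open Cfsg.Agent.Intrinsic.WZero (fixes_of_comm fixSub mem_fixSub mem_cent inv_eq)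
open Cfsg.Agent.UGT.I34 Cfsg.Agent.UGT.I34.Pair
open Cfsg.Agent.McLLyComp.Act
open scoped commutatorElement

namespace Cfsg.Agent.UGT.I34.Two

universe u

/-- the induction setting -/
structure Env (G : Type u) [Group G] [Finite G] : Prop where
  ih : PQS two.{u} (Nat.card G)
  cent : ∀ x : G, x * x = 1 → x ≠ 1 → centralizer ({x} : Set G) ≠ ⊤
  kf : KFacts.{u}

/-! ### arithmetic -/

section arith

variable {G : Type*} [Group G]

/-- an element of odd order lies in a subgroup as soon as some `2 ^ k`-th power does -/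
theorem mem_of_pow {x : G} {N H : Subgroup G} (hN : Odd (Nat.card N)) (hx : x ∈ N) {k : ℕ}
    (h : x ^ 2 ^ k ∈ H) : x ∈ H := by
  have h1 : Odd (orderOf x) := Odd.of_dvd_nat hN (Subgroup.orderOf_dvd_natCard N hx)
  have h2 : (2 ^ k).Coprime (orderOf x) := Nat.Coprime.pow_left k h1.coprime_two_left
  obtain ⟨m, hm⟩ := exists_pow_eq_self_of_coprime h2
  rw [← hm]
  exact H.pow_mem h m

/-- commuting with the same involution -/
theorem sq_comm {a b : G} (ha : a * a = 1) (hb : b * b = 1) : (a * b) * (a * b) = ⁅a, b⁆ := by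
  rw [commutatorElement_def, inv_eq_of_mul_eq_one_left ha, inv_eq_of_mul_eq_one_left hb]
  group

end arith

section

variable {G : Type u} [Group G] {u v : G} {X Y : Subgroup G}

theorem fixes_self (h : IsPair two u X) : Fixes u X :=
  fixes_of_comm fun _ hy => (pair_comm h hy).symm

theorem mem_c {x y : G} (h : y * x = x * y) : y ∈ centralizer ({x} : Set G) :=
  mem_centralizer_singleton_iff.mpr h

theorem comm_c {x y : G} (h : y ∈ centralizer ({x} : Set G)) : y * x = x * y :=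
  mem_centralizer_singleton_iff.mp h

variable [Finite G]

theorem mk_ne_one {M : Subgroup G} {x : G} (hx : x ∈ M) (h2 : x * x = 1) (h1 : x ≠ 1) :
    (QuotientGroup.mk ⟨x, hx⟩ : Bar M) ≠ 1 := by
  rw [Ne, Quot.mk_eq_one_iff]
  exact fun h => h1 (eq_one_of_mem_core_sq h h2)

/-- the K-facts for `X / O(X)`, the central involution is the image of `u` -/
theorem Env.kf_pair (E : Env G) (h : IsPair two u X) :
    KF (Bar X) (QuotientGroup.mk ⟨u, h.mem⟩) := by
  obtain ⟨z, hz⟩ := E.kf (Bar X) h.kind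
  have h1 : (QuotientGroup.mk ⟨u, h.mem⟩ : Bar X) ∈ center (Bar X) :=
    (mk_mem_center_iff h.mem).mpr (fixes_self h)
  rcases (hz.mem_center _).mp h1 with h2 | h2
  · exact absurd h2 (mk_ne_one h.mem h.sq h.ne_one)
  · rw [h2]; exact hz

/-- involutions of `M` fixing `M` are congruent if `M / O(M)` is `2.L3(4)` -/
theorem Env.congr_of_fixes (E : Env G) {M : Subgroup G} (hM : IsTwo (Bar M)) {a b : G} (ha : a ∈ M)
    (hb : b ∈ M) (ha2 : a * a = 1) (hb2 : b * b = 1) (ha1 : a ≠ 1) (hb1 : b ≠ 1) (hfa : Fixes a M)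
    (hfb : Fixes b M) : a⁻¹ * b ∈ core M := by
  obtain ⟨z, hz⟩ := E.kf (Bar M) hM
  rw [← Quot.mk_eq_mk_iff' ha hb]
  have h1 := (hz.mem_center _).mp ((mk_mem_center_iff ha).mpr hfa)
  have h2 := (hz.mem_center _).mp ((mk_mem_center_iff hb).mpr hfb)
  rw [h1.resolve_left (mk_ne_one ha ha2 ha1), h2.resolve_left (mk_ne_one hb hb2 hb1)]

theorem Env.card_lt (E : Env G) {x : G} (hx : x * x = 1) (hx1 : x ≠ 1) {R : Subgroup G}
    (hR : R ≤ centralizer ({x} : Set G)) : Nat.card R < Nat.card G :=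
  TypeGOne.card_lt_of_comp (E.cent x hx hx1) hR

/-- The pump-up of a pair is small. -/
theorem Env.pump (E : Env G) (h : IsPair two u X) {s : G} (hs : s * s = 1) (hs1 : s ≠ 1)
    (hsu : s * u = u * s) (hf : Fixes s X) :
    ∃ M, IsComp (centralizer ({s} : Set G)) M ∧ cen X s ≤ M ∧ u ∈ M ∧ Small (cen X s) M ∧
      Fixes u M ∧ IsTwo (Bar M) := by
  obtain ⟨M, hM, hle, huM⟩ := Pair.exists_pump h hs hsu hf
  have hsC : s ∈ centralizer ({u} : Set G) := mem_c hsu
  have h1 := (isComp_cen h.comp hsC hs hf).1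
  rw [inf_comm] at h1
  have hk : two.P (Bar (cen X s)) := (kind_cen h.comp hsC hs hf).mpr h.kind
  rcases Pair.small_or_big E.ih h.inv (pair_mem_cen h hsu) h1 hk hM hle
    (E.card_lt hs hs1 hM.le) with h2 | ⟨_, h2⟩
  · exact ⟨M, hM, hle, huM, h2, h2.fixes (pair_mem_cen h hsu) fun x hx =>
      mem_c (pair_comm h (cen_le X s hx)), kind_of_small h2 hk⟩
  · exact h2.elim

/-- An element of `C(u) ∩ C(s)` fixing the pump-up in `C(s)` fixes `X`. -/
theorem Env.back (_ : Env G) (h : IsPair two u X) {s : G} (hs : s * s = 1)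
    (hsu : s * u = u * s) (hf : Fixes s X) {M : Subgroup G} (hle : cen X s ≤ M)
    (hsm : Small (cen X s) M) {a : G} (hau : a * u = u * a) (has : a * s = s * a)
    (haM : Fixes a M) : Fixes a X := by
  have hsC : s ∈ centralizer ({u} : Set G) := mem_c hsu
  obtain ⟨hJ, hJX⟩ := isComp_cen h.comp hsC hs hf
  obtain ⟨J, hJd⟩ : ∃ J, J = cen X s := ⟨_, rfl⟩
  rw [← hJd] at hJ hJX hle hsm
  have haC : a ∈ centralizer ({u} : Set G) ⊓ centralizer ({s} : Set G) := ⟨mem_c hau, mem_c has⟩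
  have hJ' := isComp_cj_of_mem hJ haC
  have hcore : core J ≤ core M := core_le_of_sup hsm
  -- `a` normalizes `J`
  have haJ : cj a J = J := by
    by_contra hne
    have h1 : ⁅J, J⁆ ≤ core M := by
      rw [commutator_le]
      intro x hx y hy
      have h2 : ⁅x, a * y * a⁻¹⁆ ∈ core M :=
        hcore (hJ.comm_le_core hJ' (Ne.symm hne)
          (commutator_mem_commutator hx (conj_mem_cj hy))).1
      have h3 : ⁅a, y⁆ ∈ core M := haM.2 y (hle hy)
      have hxM : x ∈ normalizer (core M : Set G) := le_normalizer_core M (hle hx)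
      have e1 : a * y * a⁻¹ = ⁅a, y⁆ * y := by rw [commutatorElement_def]; group
      have e2 : ⁅x, y⁆ = (x * ⁅a, y⁆⁻¹ * x⁻¹) * (⁅x, a * y * a⁻¹⁆ * ⁅a, y⁆) := by
        rw [e1, commutatorElement_def x, commutatorElement_def x]; group
      rw [e2]
      exact mul_mem ((mem_normalizer_iff.mp hxM _).mp (inv_mem h3)) (mul_mem h2 h3)
    rw [hJ.perfect] at h1
    exact hJ.not_odd (odd_card_core M) h1
  have hJX' : J ≤ X := hJd ▸ cen_le X s
  -- `a` normalizes `X`
  have haX : cj a X = X := by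
    have h1 : IsComp (centralizer ({u} : Set G)) (cj a X) := isComp_cj_of_mem h.comp haC.1
    refine hJ.unique h1 h.comp ?_ hJX'
    rw [← haJ]
    exact cj_mono hJX'
  have h1 : Fixes a J := (fixes_iff_of_sup hsm (mem_normalizer_iff_cj.mpr haJ) haM.1).mpr haM
  exact (fixes_iff_of_sup hJX (mem_normalizer_iff_cj.mpr haJ) (mem_normalizer_iff_cj.mpr haX)).mp h1

/-- **(\*\*)** -/
theorem Env.not_both (E : Env G) (hX : IsPair two u X) (hY : IsPair two v Y) (huv : u * v = v * u)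
    (hvX : ¬ Fixes v X) {s : G} (hs : s * s = 1) (hs1 : s ≠ 1) (hsu : s * u = u * s)
    (hsv : s * v = v * s) (hsX : Fixes s X) (hsY : Fixes s Y) : False := by
  obtain ⟨M, hM, hle, -, hsm, -, -⟩ := E.pump hX hs hs1 hsu hsX
  obtain ⟨N, hN, -, hvN, -, hfN, -⟩ := E.pump hY hs hs1 hsv hsY
  apply hvX
  apply E.back hX hs hsu hsX hle hsm huv.symm hsv.symm
  by_cases hMN : M = N
  · rw [hMN]; exact hfN
  · exact hM.fixes_of_mem hN hMN hvN

/-- `s` fixes `Y ∈ Ω_v`, `q` commutes with `s`: the square of `v v^q` has odd order. -/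
theorem Env.key (E : Env G) (hY : IsPair two v Y) {s : G} (hs : s * s = 1) (hs1 : s ≠ 1)
    (hsv : s * v = v * s) (hsY : Fixes s Y) {q : G} (hq : q * s = s * q) :
    ∃ M : Subgroup G, (v * (q * v * q⁻¹)) * (v * (q * v * q⁻¹)) ∈ core M := by
  obtain ⟨M, hM, -, hvM, -, hfM, hMt⟩ := E.pump hY hs hs1 hsv hsY
  have hqM : IsComp (centralizer ({s} : Set G)) (cj q M) := isComp_cj_of_mem hM (mem_c hq)
  have hv2 := hY.sq
  have hv2' : q * v * q⁻¹ * (q * v * q⁻¹) = 1 := by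
    calc q * v * q⁻¹ * (q * v * q⁻¹) = q * (v * v) * q⁻¹ := by group
      _ = 1 := by rw [hv2]; group
  have hv1' : q * v * q⁻¹ ≠ 1 := by
    intro h
    apply hY.ne_one
    calc v = q⁻¹ * (q * v * q⁻¹) * q := by group
      _ = 1 := by rw [h]; group
  have hvi : v⁻¹ = v := inv_eq_of_mul_eq_one_left hv2
  refine ⟨M, ?_⟩
  by_cases h : cj q M = M
  · have h1 : q * v * q⁻¹ ∈ M := by rw [← h]; exact conj_mem_cj hvM
    have h2 : Fixes (q * v * q⁻¹) M := by
      have := hfM.cj q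
      rwa [h] at this
    have h3 := E.congr_of_fixes hMt hvM h1 hv2 hv2' hY.ne_one hv1' hfM h2
    rw [hvi] at h3
    exact mul_mem h3 h3
  · have h1 : q * v * q⁻¹ ∈ cj q M := conj_mem_cj hvM
    rw [sq_comm hv2 hv2']
    exact (hM.comm_le_core hqM (Ne.symm h) (commutator_mem_commutator hvM h1)).1

/-- lifting an element commuting with `s` modulo `O(X)` -/
theorem lift_comm {s : G} (hs : s * s = 1) (hsX : s ∈ normalizer (X : Set G)) (p : Bar X)
    (hp : act X ⟨s, hsX⟩ p = p) :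
    ∃ q, ∃ hq : q ∈ X, q * s = s * q ∧ (QuotientGroup.mk ⟨q, hq⟩ : Bar X) = p := by
  obtain ⟨⟨p, hpX⟩, rfl⟩ := QuotientGroup.mk_surjective p
  rw [act_mk hsX hpX, Cfsg.Agent.McLLyComp.Act.mk_eq_iff] at hp
  have hp' : p⁻¹ * (s * p * s⁻¹) ∈ core X := by
    have := inv_mem hp
    convert this using 1
    group
  obtain ⟨o, ho, hc⟩ := Lifting.exists_commute (odd_card_core X) (n := 1)
    (by rw [pow_one, pow_two, hs]) (normalizer_le_normalizer_core X hsX) hp'
  refine ⟨p * o, mul_mem hpX (core_le X ho), hc.symm, ?_⟩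
  rw [Cfsg.Agent.McLLyComp.Act.mk_eq_iff]
  have : (p * o)⁻¹ * p = o⁻¹ := by group
  rw [this]
  exact inv_mem ho

/-- elements of `C_K(t)` have 2-power order -/
theorem pow_of_comm {K : Type*} [Group K] {z t : K} (hz : KF K z) (ht : t * t = 1)
    (htc : t ∉ center K) {p : K} (hp : p * t = t * p) : p ^ 2 ^ 7 = 1 := by
  obtain ⟨P, Z, hL⟩ := hz.loc t ht htc
  have h1 := pow_card_eq_one' (x := (⟨p, (hL.mem_P p).mpr hp⟩ : P))
  rw [hL.card_P] at h1
  exact congrArg Subtype.val h1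

/-- **(#)** -/
theorem Env.sharp (E : Env G) (hX : IsPair two u X) (hY : IsPair two v Y)
    (hvX : v ∈ normalizer (X : Set G)) (hout : act X ⟨v, hvX⟩ ∉ Inn (Bar X)) {s : G} (hsX : s ∈ X)
    (hs : s * s = 1) (hsv : s * v = v * s) (hfs : ¬ Fixes s X) : ¬ Fixes s Y := by
  intro hsY
  have hz := E.kf_pair hX
  have hs1 : s ≠ 1 := by
    rintro rfl
    exact hfs (fixes_one X)
  obtain ⟨t, ht⟩ : ∃ t, t = (QuotientGroup.mk ⟨s, hsX⟩ : Bar X) := ⟨_, rfl⟩
  obtain ⟨α, hα⟩ : ∃ α, α = act X ⟨v, hvX⟩ := ⟨_, rfl⟩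
  have hv2 := hY.sq
  have hvi : v⁻¹ = v := inv_eq_of_mul_eq_one_left hv2
  have htt : t * t = 1 := by
    rw [ht]
    change (QuotientGroup.mk (⟨s, hsX⟩ * ⟨s, hsX⟩) : Bar X) = 1
    rw [show (⟨s, hsX⟩ * ⟨s, hsX⟩ : ↥X) = 1 from Subtype.ext hs]
    rfl
  have htc : t ∉ center (Bar X) := by
    rw [ht, mk_mem_center_iff]
    exact hfs
  have hαα : α * α = 1 := by
    rw [hα, ← act_mul hvX hvX, act_eq_one_iff]
    rw [hv2]
    exact fixes_one X
  have hαt : α t = t := by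
    rw [hα, ht, act_mk hvX hsX, Cfsg.Agent.McLLyComp.Act.mk_eq_iff]
    rw [← hsv, mul_inv_cancel_right, inv_mul_cancel]
    exact one_mem _
  obtain ⟨p, hpt, hp⟩ := hz.sharp α hαα (hα ▸ hout) t htt htc hαt
  obtain ⟨q, hqX, hqs, hqp⟩ := lift_comm hs (le_normalizer hsX) p (by
    rw [act_of_mem hsX, ← ht, MulAut.conj_apply, ← hpt, mul_inv_cancel_right])
  obtain ⟨M, hM⟩ := E.key hY hs hs1 hsv hsY hqs
  obtain ⟨w, hw⟩ : ∃ w, w = v * (q * v * q⁻¹) := ⟨_, rfl⟩
  rw [← hw] at hM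
  have hvq : v * q * v⁻¹ ∈ X := (mem_normalizer_iff.mp hvX q).mp hqX
  have hw' : w = (v * q * v⁻¹) * q⁻¹ := by rw [hw, hvi]; group
  have hwX : w ∈ X := by
    rw [hw']
    exact mul_mem hvq (inv_mem hqX)
  have hmk : (QuotientGroup.mk ⟨w, hwX⟩ : Bar X) = α p * p⁻¹ := by
    have h1 : (⟨w, hwX⟩ : ↥X) = ⟨v * q * v⁻¹, hvq⟩ * ⟨q, hqX⟩⁻¹ := Subtype.ext hw'
    rw [h1, hα, ← hqp, act_mk hvX hqX]
    rfl
  have hc : (α p * p⁻¹) * t = t * (α p * p⁻¹) := by
    have e1 : α p * t = t * α p := by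
      calc α p * t = α (p * t) := by rw [map_mul, hαt]
        _ = t * α p := by rw [hpt, map_mul, hαt]
    have e2 : p⁻¹ * t = t * p⁻¹ := by
      calc p⁻¹ * t = p⁻¹ * (t * p) * p⁻¹ := by group
        _ = t * p⁻¹ := by rw [← hpt]; group
    rw [mul_assoc, e2, ← mul_assoc, e1, mul_assoc]
  have h1 := pow_of_comm hz htt htc hc
  have h2 : w ^ 2 ^ 7 ∈ core X := by
    have h3 : (QuotientGroup.mk ⟨w ^ 2 ^ 7, pow_mem hwX _⟩ : Bar X) = 1 := by
      rw [← h1, ← hmk]
      rfl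
    exact (Quot.mk_eq_one_iff _).mp h3
  have h3 : w * w ∈ core X := by
    apply mem_of_pow (odd_card_core M) hM (k := 6)
    rw [← pow_two, ← pow_mul, show 2 * 2 ^ 6 = 2 ^ 7 by norm_num]
    exact h2
  apply hp
  rw [← hmk]
  exact (Quot.mk_eq_one_iff (mul_mem hwX hwX)).mpr h3

end

end Cfsg.Agent.UGT.I34.Two
end
end

-- part: UGT/I34/HeP/Close
section
prune_inst 0x301041001422000000180000200020003000000200400000004000000040000120050801306002100130a870200a8020030000490038000020008a0040040000040222c29048100001000040c800000000000000000000000000000000000000000000000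
set_option linter.all false
open scoped Cfsg.Agent.FastGrp

/-!
# THEOREM I34, part [C]: closure of `{u ∈ D | u has a partner of type (0)}` under commuting elements of `D`

`Clo κ D L`: `SW κ D L` together with the outputs of (5.2)-(5.5) and of the analysis of type `f` used here.

* `Clo.no_swap`: `v ∈ D`, `s ⊥ s^v` is impossible;
* `Clo.close`: `u ⊥ s₀`, `v ∈ D` commutes with `u` and is not of type (0): some `s` is of type (0) with `u` and `v`.
-/

set_option autoImplicit false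
set_option linter.unusedSectionVars false

open Cfsg Subgroup
open Cfsg.Agent.SignalizersComponents Cfsg.Agent.Lib
open Cfsg.Agent.SignalizersComponents.IntrinsicBasic
open Cfsg.Agent.SignalizersComponents.PLayerAut
open Cfsg.Agent.SignalizersComponents.RelSylow
open Cfsg.Agent.Intrinsic
open Cfsg.Agent.Intrinsic.Basic hiding IsPair PQS Target IsPair.sq IsPair.ne_one IsPair.cj
open Cfsg.Agent.Intrinsic.Cen hiding pair_comm pair_mem_cen exists_pump pump_unique
open Cfsg.Agent.Intrinsic.Quot hiding Big isPair_quot small_or_big mk_eq_one_iff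
open Cfsg.Agent.Intrinsic.WOneA (Ce OC)
open Cfsg.Agent.McLLyComp.Act
open Cfsg.Agent.UGT.I34.Pair Cfsg.Agent.UGT.I34.KAut Cfsg.Agent.UGT.I34.WOne
open Cfsg.Agent.UGT.I34.Four (Sett Can HeT Klein TypeF FG Over)
open scoped commutatorElement

namespace Cfsg.Agent.UGT.I34.HeP

universe v

/-- What the closure uses. -/
structure Clo (κ : Kind.{v}) {G : Type v} [Group G] [Finite G] (D : Set G) (L : G → Subgroup G) : Prop where
  sw : SW κ D L
  mem_symm : ∀ u ∈ D, ∀ t ∈ D, t ∈ L u → u ∈ L t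
  /-- (5.5) -/
  isBig : ∀ u s : G, ZP D L u s → IsBig κ u (L u) s
  /-- (5.3) -/
  big_can : ∀ u ∈ D, ∀ t ∈ D, t ∈ L u → ¬ Fixes t (L u) → ∀ x : G, x * x = 1 → x ≠ 1 → x * u = u * x →
    x * t = t * x → Fixes x (L u) → IsBig κ u (L u) x → Fixes x (L t)
  /-- type `f` -/
  typeF : ∀ u ∈ D, ∀ v ∈ D, u * v = v * u → ¬ Fixes v (L u) → v ∉ L u →
    ∃ (hv : v ∈ normalizer (L u : Set G)) (hu : u ∈ normalizer (L v : Set G))
      (J : Subgroup (↥(L u) ⧸ oddCore ↥(L u))) (J' : Subgroup (↥(L v) ⧸ oddCore ↥(L v))) (C : Subgroup G),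
      TypeF (act (L u) ⟨v, hv⟩) J ∧ TypeF (act (L v) ⟨u, hu⟩) J' ∧ Over u v (L u) C J ∧ Over v u (L v) C J'

namespace Clo

variable {G : Type v} [Group G] [Finite G] {κ : Kind.{v}} {D : Set G} {L : G → Subgroup G}
  {u v t x s s₀ a b g w : G}

theorem symmZ (h : Clo κ D L) (hZ : ZP D L u s) : ZP D L s u :=
  ⟨hZ.right, hZ.left, h.sw.symm' u hZ.left s hZ.right hZ.mem,
    fun h1 => hZ.nmem (h.mem_symm s hZ.right u hZ.left h1)⟩

theorem comm (h : Clo κ D L) (hZ : ZP D L u s) : s * u = u * s := ((h.sw.mem_K hZ.left).mp hZ.mem).1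

theorem fixes (h : Clo κ D L) (hZ : ZP D L u s) : Fixes s (L u) := ((h.sw.mem_K hZ.left).mp hZ.mem).2

theorem mkZ (h : Clo κ D L) (hu : u ∈ D) (hs : s ∈ D) (hc : s * u = u * s) (hf : Fixes s (L u)) (hn : s ∉ L u) :
    ZP D L u s := ⟨hu, hs, (h.sw.mem_K hu).mpr ⟨hc, hf⟩, hn⟩

theorem conjZ (h : Clo κ D L) (hZ : ZP D L u s) (g : G) : ZP D L (g * u * g⁻¹) (g * s * g⁻¹) := by
  refine h.mkZ (h.sw.conj hZ.left g) (h.sw.conj hZ.right g) ?_ ?_ ?_
  · calc g * s * g⁻¹ * (g * u * g⁻¹) = g * (s * u) * g⁻¹ := by group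
      _ = g * (u * s) * g⁻¹ := by rw [h.comm hZ]
      _ = _ := by group
  · rw [h.sw.L_conj hZ.left]
    exact (h.fixes hZ).cj g
  · rw [h.sw.L_conj hZ.left]
    intro h1
    apply hZ.nmem
    rw [mem_cj] at h1
    have e : g⁻¹ * (g * s * g⁻¹) * g = s := by group
    rwa [e] at h1

theorem conjZ' (h : Clo κ D L) (hZ : ZP D L u s) {g : G} (hg : g * u = u * g) : ZP D L u (g * s * g⁻¹) := by
  have h1 := h.conjZ hZ g
  rwa [hg, mul_inv_cancel_right] at h1

/-! ### the big 2-component `B = M_u(L_s)` of `C(u)` -/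

section B

variable (h : Clo κ D L) (hZ : ZP D L u s)
include h hZ

theorem comp_B : IsComp (centralizer ({u} : Set G)) (pump u (L s)) :=
  pump_comp (h.sw.pair hZ.right) (h.sw.sq hZ.left) (h.comm hZ).symm (h.fixes (h.symmZ hZ))

theorem mem_B : s ∈ pump u (L s) :=
  mem_pump (h.sw.pair hZ.right) (h.sw.sq hZ.left) (h.comm hZ).symm (h.fixes (h.symmZ hZ))

theorem B_ne : pump u (L s) ≠ L u := fun e => hZ.nmem (by rw [← e]; exact h.mem_B hZ)

theorem B_conj (hg : g * u = u * g) : pump u (L (g * s * g⁻¹)) = cj g (pump u (L s)) := by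
  have h1 := cj_pump (h.sw.pair hZ.right) (h.sw.sq hZ.left) (h.comm hZ).symm (h.fixes (h.symmZ hZ)) g
  rwa [hg, mul_inv_cancel_right, ← h.sw.L_conj hZ.right] at h1

/-- central involutions of `B / O(B)` do not exist -/
theorem not_fixes_B (ha : a ∈ pump u (L s)) (haa : a * a = 1) (ha1 : a ≠ 1) : ¬ Fixes a (pump u (L s)) := by
  intro hf
  obtain ⟨huM, hT, hp⟩ := h.sw.big_pair hZ.right (h.sw.sq hZ.left) (h.comm hZ).symm (h.fixes (h.symmZ hZ))
    (h.isBig s u (h.symmZ hZ))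
  have h2 := (W1.mk_center_iff ha).mpr hf
  rw [h.sw.sett.he.center hT hp, mem_bot] at h2
  exact W1.mk_ne_one ha haa ha1 h2

end B

/-- **no swap** -/
theorem no_swap (h : Clo κ D L) (hv : v ∈ D) (hZ : ZP D L s (v * s * v⁻¹)) : False := by
  have hvv := h.sw.sq hv
  have hvi : v⁻¹ = v := inv_eq_of_mul_eq_one_left hvv
  obtain ⟨R, hR, hcR, hcL⟩ := h.sw.diag v (h.sw.pair hv).inv s hZ
  obtain ⟨s', hs'⟩ : ∃ s', s' = v * s * v⁻¹ := ⟨_, rfl⟩
  obtain ⟨c, hc⟩ : ∃ c, c = s * s' := ⟨_, rfl⟩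
  rw [← hs'] at hZ hcR hcL
  rw [← hc] at hcR hcL
  have hss := h.sw.sq hZ.left
  have hss' := h.sw.sq hZ.right
  have hcomm := h.comm hZ
  have hne : s ≠ s' := fun e => hZ.nmem (by rw [← e]; exact h.sw.mem hZ.left)
  have hcc : c * c = 1 := by
    rw [hc]
    calc s * s' * (s * s') = s * (s' * s) * s' := by group
      _ = (s * s) * (s' * s') := by rw [hcomm]; group
      _ = 1 := by rw [hss, hss', one_mul]
  have hc1 : c ≠ 1 := by
    intro e
    apply hne
    have h1 : s = s'⁻¹ := mul_eq_one_iff_eq_inv.mp (hc ▸ e)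
    rwa [inv_eq_of_mul_eq_one_left hss'] at h1
  have hvs' : v * s' * v⁻¹ = s := by
    rw [hs', hvi]
    calc v * (v * s * v) * v = (v * v) * s * (v * v) := by group
      _ = s := by rw [hvv, one_mul, mul_one]
  have hvc : v * c * v⁻¹ = c := by
    have e : v * c * v⁻¹ = (v * s * v⁻¹) * (v * s' * v⁻¹) := by rw [hc]; group
    rw [e, hvs', ← hs', hcomm, hc]
  have hvc' : v * c = c * v := mul_inv_eq_iff_eq_mul.mp hvc
  -- `c` fixes `L v`
  have hcv : Fixes c (L v) := by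
    have hne : L v ≠ R := fun e => hcL hv (by rw [e]; exact hcR)
    exact (h.sw.comp hv).fixes_of_mem (IsComp.of_tc hR) hne hcR
  -- `c` fixes `L s`
  have hcs : Fixes c (L s) := hc ▸ fixes_mul (h.sw.fixes_self hZ.left) (h.fixes hZ)
  have hcs' : c * s = s * c := by
    rw [hc, mul_assoc, hcomm]
  have hM := pump_comp (h.sw.pair hZ.left) hcc hcs' hcs
  have hX := pump_comp (h.sw.pair hv) hcc hvc'.symm hcv
  have hvX := mem_pump (h.sw.pair hv) hcc hvc'.symm hcv
  have hvN : v ∈ normalizer (pump c (L s) : Set G) := by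
    by_cases e : pump c (L s) = pump c (L v)
    · rw [e]; exact le_normalizer hvX
    · exact (hM.fixes_of_mem hX e hvX).1
  have h1 := cj_pump (h.sw.pair hZ.left) hcc hcs' hcs v
  rw [hvc, ← h.sw.L_conj hZ.left, ← hs', mem_normalizer_iff_cj.mp hvN] at h1
  have h2 : s' ∈ pump c (L s) := by
    rw [← h1]
    refine mem_pump (h.sw.pair hZ.right) hcc ?_ ?_
    · rw [hc, mul_assoc, hss', mul_one, ← mul_assoc, hcomm, mul_assoc, hss', mul_one]
    · rw [hc]
      exact fixes_mul (h.fixes (h.symmZ hZ)) (h.sw.fixes_self hZ.right)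
  exact hZ.nmem (h.sw.of_cmp s hZ.left c ((h.sw.mem_K hZ.left).mpr ⟨hcs', hcs⟩) (order_two hcc hc1) s' h2
    (h.sw.pair hZ.right).inv hZ.mem)

/-! ### vessels -/

/-- `w ∈ L v` a central involution: `a` fixes `L w` iff it fixes `L v` -/
theorem ves_iff (h : Clo κ D L) (hv : v ∈ D) (hw : w ∈ L v) (hww : w * w = 1) (hw1 : w ≠ 1)
    (hf : Fixes w (L v)) (haw : a * w = w * a) (ha : a ∈ normalizer (L v : Set G)) :
    Fixes a (L w) ↔ Fixes a (L v) := by
  obtain ⟨M, hM, -, -, -, -, hfix⟩ := h.sw.sett.vess (h.sw.pair hv) hw hww hw1 hf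
  rw [← h.sw.one (h.sw.vess hv hw hww hw1 hf) hM]
  exact hfix a haw ha

/-- `pump w (L v) = L w` for a central involution `w` of `L v` -/
theorem pump_ves (h : Clo κ D L) (hv : v ∈ D) (hw : w ∈ L v) (hww : w * w = 1) (hw1 : w ≠ 1)
    (hf : Fixes w (L v)) : pump w (L v) = L w := by
  obtain ⟨M, hM, -, hle, -, -, -⟩ := h.sw.sett.vess (h.sw.pair hv) hw hww hw1 hf
  rw [← h.sw.one (h.sw.vess hv hw hww hw1 hf) hM]
  exact pump_eq (h.sw.pair hv) hww (pair_comm (h.sw.pair hv) hw) hf hM.comp hle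

/-! ### type `f` twice -/

/-- a 2-component `C ≤ L u` of `C(u) ∩ C(v)` is normalized by the elements `s` commuting with `u`, `v` and fixing
`L u` -/
theorem normalizes_over (h : Clo κ D L) (hu : u ∈ D) {C : Subgroup G}
    (hC : IsComp (centralizer ({u} : Set G) ⊓ centralizer ({v} : Set G)) C) (hCL : C ≤ L u)
    (hcore : core C ≤ core (L u)) (hsu : s * u = u * s) (hsv : s * v = v * s) (hf : Fixes s (L u)) :
    s ∈ normalizer (C : Set G) := by
  rw [mem_normalizer_iff_cj]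
  by_contra hne
  have hsH : s ∈ centralizer ({u} : Set G) ⊓ centralizer ({v} : Set G) :=
    ⟨mem_centralizer_singleton_iff.mpr hsu, mem_centralizer_singleton_iff.mpr hsv⟩
  have hC' : IsComp (centralizer ({u} : Set G) ⊓ centralizer ({v} : Set G)) (cj s C) := by
    have h1 := hC.cj s
    rwa [cj_eq_self_of_mem hsH] at h1
  have key : ∀ c ∈ C, ∀ d ∈ C, ⁅c, d⁆ ∈ core C := by
    intro c hc d hd
    refine WOne.inf_core_le (hCL.trans le_normalizer) ⟨?_, ?_⟩
    · rw [commutatorElement_def]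
      exact C.mul_mem (C.mul_mem (C.mul_mem hc hd) (C.inv_mem hc)) (C.inv_mem hd)
    · -- `c = (s c s⁻¹) o`
      obtain ⟨a, ha⟩ : ∃ a, a = s * c * s⁻¹ := ⟨_, rfl⟩
      have h1 : Fixes a C := ha ▸ hC.fixes_of_mem hC' (Ne.symm hne) (conj_mem_cj hc)
      have h2 : ⁅a, d⁆ ∈ core (L u) := hcore (h1.2 d hd)
      have h3 : c⁻¹ * a ∈ core (L u) := ha ▸ (fixes_iff_conj.mp hf).2 c (hCL hc)
      have haL : a ∈ L u := ha ▸ conj_mem hf.1 (hCL hc)
      obtain ⟨o, ho⟩ : ∃ o, o = c⁻¹ * a := ⟨_, rfl⟩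
      rw [← ho] at h3
      have hco : c = a * o⁻¹ := by rw [ho]; group
      have e : ⁅c, d⁆ = a * (o⁻¹ * (d * o * d⁻¹)) * a⁻¹ * ⁅a, d⁆ := by
        rw [commutatorElement_def, commutatorElement_def, hco]; group
      rw [e]
      refine mul_mem (conj_mem_core (le_normalizer haL) (mul_mem (inv_mem h3) ?_)) h2
      exact conj_mem_core (le_normalizer (hCL hd)) h3
  refine hC.not_odd (odd_card_core C) ?_
  rw [← hC.perfect, commutator_le]
  intro c hc d hd
  rw [hC.perfect]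
  exact key c hc d hd

/-- the elements of `J` are images of elements of `cen C s` -/
theorem surj_cen {p q r : G} {X C : Subgroup G} {J : Subgroup (↥X ⧸ oddCore ↥X)} (hO : Over p q X C J)
    (hs : cen C r ⊔ core C = C) {x : ↥X ⧸ oddCore ↥X} (hx : x ∈ J) :
    ∃ e ∈ cen C r, ∃ he : e ∈ X, (QuotientGroup.mk ⟨e, he⟩ : ↥X ⧸ oddCore ↥X) = x := by
  obtain ⟨a, haC, haX, rfl⟩ := hO.surj x hx
  obtain ⟨e, he, hea⟩ := exists_mul_of_sup hs haC
  refine ⟨e, he, hO.le (cen_le _ _ he), ?_⟩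
  exact (mk_eq_iff _ haX).mpr (hO.core hea)

/-- `J` is perfect -/
theorem over_perfect {p q : G} {X C : Subgroup G} {J : Subgroup (↥X ⧸ oddCore ↥X)} (hO : Over p q X C J) :
    ⁅J, J⁆ = J := by
  have h1 : J = (C.subgroupOf X).map (QuotientGroup.mk' (oddCore ↥X)) := by
    ext x
    constructor
    · intro hx
      obtain ⟨a, haC, haX, rfl⟩ := hO.surj x hx
      exact ⟨⟨a, haX⟩, haC, rfl⟩
    · rintro ⟨⟨a, haX⟩, haC, rfl⟩
      obtain ⟨h1, h2⟩ := hO.map a haC
      exact h2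
  rw [h1, ← map_commutator]
  congr 1
  apply map_injective X.subtype_injective
  rw [map_commutator, subgroupOf_map_subtype, inf_of_le_left hO.le, hO.comp.perfect]

/-- `u ⊥ s` and `v` of type `f` for both of them is impossible -/
theorem not_ff (h : Clo κ D L) (hZ : ZP D L u s) (hv : v ∈ D) (huv : u * v = v * u) (hsv : s * v = v * s)
    (h1 : ¬ Fixes v (L u)) (h2 : v ∉ L u) (h3 : ¬ Fixes v (L s)) (h4 : v ∉ L s) : False := by
  obtain ⟨-, hnu, J1, J1', C1, -, T1', O1, O1'⟩ := h.typeF u hZ.left v hv huv h1 h2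
  obtain ⟨-, hns, J2, J2', C2, -, T2', O2, O2'⟩ := h.typeF s hZ.right v hv hsv h3 h4
  have hss := h.sw.sq hZ.right
  have huu := h.sw.sq hZ.left
  have hsu := h.comm hZ
  have hfs := h.fixes hZ
  have hfu := h.fixes (h.symmZ hZ)
  have hC1 := h.normalizes_over hZ.left O1.comp O1.le O1.core hsu hsv hfs
  have hC2 := h.normalizes_over hZ.right O2.comp O2.le O2.core hsu.symm huv hfu
  have hf1 : Fixes s C1 := WOne.fixes_of_le O1.le hC1 hfs
  have hf2 : Fixes u C2 := WOne.fixes_of_le O2.le hC2 hfu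
  obtain ⟨hE1, hs1⟩ := isComp_cen O1.comp (v := s)
    ⟨mem_centralizer_singleton_iff.mpr hsu, mem_centralizer_singleton_iff.mpr hsv⟩ hss hf1
  obtain ⟨hE2, hs2⟩ := isComp_cen O2.comp (v := u)
    ⟨mem_centralizer_singleton_iff.mpr hsu.symm, mem_centralizer_singleton_iff.mpr huv⟩ huu hf2
  have hcore2 : core (cen C2 u) = cen C2 u ⊓ core C2 := core_cen O2.comp
    ⟨mem_centralizer_singleton_iff.mpr hsu.symm, mem_centralizer_singleton_iff.mpr huv⟩ huu hf2
  have hH : centralizer ({s} : Set G) ⊓ centralizer ({v} : Set G) ⊓ centralizer ({u} : Set G) =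
      centralizer ({u} : Set G) ⊓ centralizer ({v} : Set G) ⊓ centralizer ({s} : Set G) := by
    ext y
    simp only [mem_inf]
    tauto
  rw [hH] at hE2
  have hne : cen C2 u ≠ cen C1 s := by
    intro e
    have h5 : cen C1 s ≤ pump s (L u) := hE1.le_of_two fun k hk n hn =>
      mem_pump_of_mem (h.sw.pair hZ.left) hss hsu hfs (O1.le (cen_le _ _ hk)) (comm_of_mem_cen hk) hn
    have h6 : cen C1 s ≤ L s := by rw [← e]; exact (cen_le _ _).trans O2.le
    have h7 := hE1.unique (h.comp_B (h.symmZ hZ)) (h.sw.comp hZ.right) h5 h6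
    exact h.B_ne (h.symmZ hZ) h7
  -- the perfect group of inner automorphisms
  obtain ⟨φ, hφ⟩ : ∃ φ, φ = act (L v) ⟨s, hns⟩ := ⟨_, rfl⟩
  have h5 : (J1'.map (MulAut.conj : _ →* MulAut (↥(L v) ⧸ oddCore ↥(L v)))) = ⊥ := by
    refine T2'.cent _ ?_ ?_ ?_ ?_
    · rintro _ ⟨x, -, rfl⟩
      exact ⟨x, rfl⟩
    · rw [← map_commutator, over_perfect O1']
    · rintro _ ⟨x, hx, rfl⟩
      obtain ⟨e, he, heL, rfl⟩ := surj_cen O1' hs1 hx
      apply MulEquiv.ext
      intro y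
      rw [MulAut.mul_apply, MulAut.mul_apply, MulAut.conj_apply, MulAut.conj_apply, map_mul, map_mul, map_inv]
      have e1 : act (L v) ⟨s, hns⟩ (QuotientGroup.mk ⟨e, heL⟩) = QuotientGroup.mk ⟨e, heL⟩ := by
        rw [act_mk hns heL]
        congr 1
        apply Subtype.ext
        change s * e * s⁻¹ = e
        rw [← comm_of_mem_cen he, mul_inv_cancel_right]
      rw [e1]
    · rintro _ ⟨x, hx, rfl⟩ j hj
      obtain ⟨e1, he1, heL1, rfl⟩ := surj_cen O1' hs1 hx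
      obtain ⟨e2, he2, heL2, rfl⟩ := surj_cen O2' hs2 hj
      have h6 := (fixes_iff_conj.mp (hE2.fixes_of_mem hE1 hne he1)).2 e2 he2
      rw [hcore2] at h6
      have h7 := O2'.core h6.2
      rw [MulAut.conj_apply]
      exact ((mk_eq_iff heL2 ((L v).mul_mem ((L v).mul_mem heL1 heL2) ((L v).inv_mem heL1))).mpr h7).symm
  obtain ⟨w, hw, hww, hw1, -⟩ := T1'.inv
  have h6 : MulAut.conj w ∈ J1'.map (MulAut.conj : _ →* MulAut (↥(L v) ⧸ oddCore ↥(L v))) := ⟨w, hw, rfl⟩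
  rw [h5, mem_bot] at h6
  refine (T1'.noncan w hw hww hw1).1.2 ?_
  rw [mem_center_iff]
  intro y
  have h7 := DFunLike.congr_fun h6 y
  rw [MulAut.conj_apply, MulAut.one_apply, mul_inv_eq_iff_eq_mul] at h7
  exact h7.symm

/-! ### closure -/

/-- **closure**: an element `v` of `D` commuting with `u`, where `u ⊥ s₀` -/
theorem close (h : Clo κ D L) (hZ : ZP D L u s₀) (hv : v ∈ D) (huv : u * v = v * u) (hnZ : ¬ ZP D L u v) :
    ∃ s, ZP D L u s ∧ ZP D L v s := by
  have hB := h.comp_B hZ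
  have hsB := h.mem_B hZ
  have hvv := h.sw.sq hv
  have hv1 := h.sw.ne_one hv
  have hvC : v ∈ centralizer ({u} : Set G) := mem_centralizer_singleton_iff.mpr huv.symm
  have hBu : ∀ o ∈ pump u (L s₀), o * u = u * o := fun o ho => mem_centralizer_singleton_iff.mp (hB.le ho)
  by_cases hvL : v ∈ L u
  · have hfB : Fixes v (pump u (L s₀)) := hB.fixes_of_mem (h.sw.comp hZ.left) (h.B_ne hZ) hvL
    obtain ⟨o, ho, hcom⟩ := exists_core_comm (n := 1) (by rw [pow_one, pow_two, hvv]) hfB.1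
      (h.sw.sq hZ.right) (le_normalizer hsB) ((fixes_iff_conj.mp hfB).2 s₀ hsB)
    have hZs := h.conjZ' hZ (hBu o (Basic.core_le _ ho))
    obtain ⟨s, hs⟩ : ∃ s, s = o * s₀ * o⁻¹ := ⟨_, rfl⟩
    rw [← hs] at hcom hZs
    refine ⟨s, hZs, ?_⟩
    have hss := h.sw.sq hZs.right
    have hs1 := h.sw.ne_one hZs.right
    have hsu := h.comm hZs
    have hfs := h.fixes hZs
    by_cases hf : Fixes v (L u)
    · refine h.mkZ hv hZs.right hcom.eq
        ((h.ves_iff hZs.left hvL hvv hv1 hf hcom.eq (h.sw.norm hZs.left hsu)).mpr hfs) fun hsv => ?_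
      rw [← h.pump_ves hZs.left hvL hvv hv1 hf] at hsv
      exact hZs.nmem (h.sw.of_cmp u hZs.left v ((h.sw.mem_K hZs.left).mpr ⟨huv.symm, hf⟩)
        (h.sw.pair hv).inv s hsv (h.sw.pair hZs.right).inv hZs.mem)
    · have hfv := h.big_can u hZs.left v hv hvL hf s hss hs1 hsu hcom.eq hfs (h.isBig u s hZs)
      refine h.mkZ hv hZs.right hcom.eq hfv fun hsv => hf ?_
      have h5 := (h.ves_iff hv hsv hss hs1 hfv hsu.symm (h.sw.norm hv huv)).mp (h.fixes (h.symmZ hZs))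
      exact h.sw.symm hv hZs.left huv.symm h5
  · have hf : ¬ Fixes v (L u) := fun h5 => hnZ (h.mkZ hZ.left hv huv.symm h5 hvL)
    by_cases hmove : cj v (pump u (L s₀)) = pump u (L s₀)
    · have hvN : v ∈ normalizer (pump u (L s₀) : Set G) := mem_normalizer_iff_cj.mpr hmove
      obtain ⟨huM, hT, hp⟩ := h.sw.big_pair hZ.right (h.sw.sq hZ.left) (h.comm hZ).symm
        (h.fixes (h.symmZ hZ)) (h.isBig s₀ u (h.symmZ hZ))
      obtain ⟨g, hg⟩ := h.sw.hex.fix hT hp (act (pump u (L s₀)) ⟨v, hvN⟩) (by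
        rw [← map_mul]
        have : (⟨v, hvN⟩ : ↥(normalizer (pump u (L s₀) : Set G))) * ⟨v, hvN⟩ = 1 := Subtype.ext hvv
        rw [this, map_one])
      obtain ⟨⟨g, hgM⟩, rfl⟩ := QuotientGroup.mk_surjective g
      have hyM : g * s₀ * g⁻¹ ∈ pump u (L s₀) := mul_mem (mul_mem hgM hsB) (inv_mem hgM)
      have h3 : (QuotientGroup.mk ⟨v * (g * s₀ * g⁻¹) * v⁻¹, conj_mem hvN hyM⟩ :
          ↥(pump u (L s₀)) ⧸ oddCore ↥(pump u (L s₀))) = QuotientGroup.mk ⟨g * s₀ * g⁻¹, hyM⟩ := hg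
      have h4 := (mk_eq_iff hyM (conj_mem hvN hyM)).mp h3.symm
      obtain ⟨o, ho, hcom⟩ := exists_core_comm (n := 1) (by rw [pow_one, pow_two, hvv]) hvN
        (sq_cj (h.sw.sq hZ.right)) (le_normalizer hyM) h4
      have hZs := h.conjZ' (h.conjZ' hZ (hBu g hgM)) (hBu o (Basic.core_le _ ho))
      obtain ⟨s, hs⟩ : ∃ s, s = o * (g * s₀ * g⁻¹) * o⁻¹ := ⟨_, rfl⟩
      rw [← hs] at hcom hZs
      refine ⟨s, hZs, ?_⟩
      have hss := h.sw.sq hZs.right
      have hs1 := h.sw.ne_one hZs.right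
      have hsu := h.comm hZs
      have hfus := h.fixes (h.symmZ hZs)
      have hnf : ¬ Fixes u (L v) := fun h5 => hf (h.sw.symm hv hZs.left huv.symm h5)
      have hsv : s ∉ L v := by
        intro hsv
        by_cases hfv : Fixes s (L v)
        · exact hnf ((h.ves_iff hv hsv hss hs1 hfv hsu.symm (h.sw.norm hv huv)).mp hfus)
        · have hvs := h.mem_symm v hv s hZs.right hsv
          have hfvs : ¬ Fixes v (L s) := fun h5 => hfv (h.sw.symm hZs.right hv hcom.eq h5)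
          exact hnf (h.big_can s hZs.right v hv hvs hfvs u (h.sw.sq hZs.left) (h.sw.ne_one hZs.left)
            hsu.symm huv hfus (h.isBig s u (h.symmZ hZs)))
      by_cases hfv : Fixes s (L v)
      · exact h.mkZ hv hZs.right hcom.eq hfv hsv
      · exfalso
        refine h.not_ff hZs hv huv hcom.eq hf hvL (fun h5 => hfv (h.sw.symm hZs.right hv hcom.eq h5)) ?_
        exact fun h5 => hsv (h.mem_symm s hZs.right v hv h5)
    · exfalso
      have hB' : IsComp (centralizer ({u} : Set G)) (cj v (pump u (L s₀))) := by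
        have h5 := hB.cj v
        rwa [cj_eq_self_of_mem hvC] at h5
      have hss₀ := h.sw.sq hZ.right
      have hm : s₀ * (v * s₀ * v⁻¹) * (s₀ * (v * s₀ * v⁻¹)) ∈ core (centralizer ({u} : Set G)) := by
        have h5 := hB'.fixes_of_mem hB hmove hsB
        have h6 := hB'.core_le_core (h5.2 _ (conj_mem_cj hsB))
        have hw2 : (v * s₀ * v⁻¹)⁻¹ = v * s₀ * v⁻¹ := inv_eq_of_mul_eq_one_left (sq_cj hss₀)
        have hz2 : s₀⁻¹ = s₀ := inv_eq_of_mul_eq_one_left hss₀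
        have e : ⁅s₀, v * s₀ * v⁻¹⁆ = s₀ * (v * s₀ * v⁻¹) * (s₀ * (v * s₀ * v⁻¹)) := by
          rw [commutatorElement_def, hw2, hz2]; group
        rwa [e] at h6
      obtain ⟨p, hp, hcom⟩ := exists_comm_swap (odd_card_core _) hss₀ hvv hm
      have hpu : p * u = u * p := mem_centralizer_singleton_iff.mp (Basic.core_le _ hp)
      have hZs := h.conjZ' hZ hpu
      have hBp := h.B_conj hZ hpu
      rw [mem_normalizer_iff_cj.mp (hB.core_le_normalizer hp)] at hBp
      obtain ⟨s, hs⟩ : ∃ s, s = p * s₀ * p⁻¹ := ⟨_, rfl⟩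
      rw [← hs] at hcom hZs hBp
      have hsB' := h.mem_B hZs
      have hs'D := h.sw.conj hZs.right v
      obtain ⟨s', hs'⟩ : ∃ s', s' = v * s * v⁻¹ := ⟨_, rfl⟩
      have hs'B : s' ∈ cj v (pump u (L s₀)) := by
        rw [hs', ← hBp]
        exact conj_mem_cj hsB'
      have hfB : Fixes s' (pump u (L s)) := by
        rw [hBp]
        exact hB.fixes_of_mem hB' (Ne.symm hmove) hs'B
      rw [← hs'] at hcom hs'D
      have hs'u : s' * u = u * s' := mem_centralizer_singleton_iff.mp (hB'.le hs'B)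
      have hfus := h.fixes (h.symmZ hZs)
      have huu := h.sw.sq hZ.left
      have hf' : Fixes s' (L s) := fixes_of_pump (h.sw.pair hZs.right) huu (h.comm hZs).symm hfus
        (h.sw.norm hZs.right hcom.symm.eq) hs'u hfB
      refine h.no_swap hv (s := s) ?_
      rw [← hs']
      refine h.mkZ hZs.right hs'D hcom.symm.eq hf' fun hmem => ?_
      have h7 := mem_pump_of_mem (h.sw.pair hZs.right) huu (h.comm hZs).symm hfus hmem hs'u (k := 1)
        (by rw [pow_one, pow_two, h.sw.sq hs'D])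
      exact h.not_fixes_B hZs h7 (h.sw.sq hs'D) (h.sw.ne_one hs'D) hfB

end Clo

end Cfsg.Agent.UGT.I34.HeP
end

-- part: UGT/I34/WOneC/Tg
section
prune_inst 0x1010010054220000001800002000202030000002004000002040000008090000a0040801002000100030a8d020000020030000400030000000000800000400000003020290580c00100000000000000000000000000000000000000000000000000000000
set_option linter.all false
open scoped Cfsg.Agent.FastGrp

/-!
# I34 [A], world W1: facts on the targets lifted to the big pump-ups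

`TgtA κ`: in a target `(X, z, L)`: `O(L) = 1`; an automorphism of odd order trivial on `L` is trivial; an
involution commuting with `z` and centralizing `L` is `z`; no strongly embedded subgroups.

* `ofCmp : TgtA κ → OfCmp D L`;
* `bal` : `O(C(u)) ∩ C(s) ≤ O(C(s))` for a big `s`.
-/

set_option autoImplicit false

open Cfsg Subgroup
open Cfsg.Agent.SignalizersComponents Cfsg.Agent.Lib
open Cfsg.Agent.SignalizersComponents.IntrinsicBasic
open Cfsg.Agent.SignalizersComponents.PLayerAut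
open Cfsg.Agent.Intrinsic
open Cfsg.Agent.Intrinsic.Basic hiding IsPair PQS Target IsPair.sq IsPair.ne_one IsPair.cj
open Cfsg.Agent.Intrinsic.Cen hiding pair_comm pair_mem_cen exists_pump pump_unique
open Cfsg.Agent.Intrinsic.Quot hiding Big isPair_quot small_or_big
open Cfsg.Agent.UGT.I34.Pair Cfsg.Agent.UGT.I34.KF Cfsg.Agent.UGT.I34.WOne
open Cfsg.Agent.McLLyComp.Act (fixes_mul)

namespace Cfsg.Agent.UGT.I34.WOneC.Tg

open Cfsg.Agent.UGT.I34.WOneC.Five Cfsg.Agent.UGT.I34.WOneC.Cc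

universe v

/-- Facts on the targets. -/
structure TgtA (κ : Kind.{v}) : Prop where
  tgt : Tgt κ
  core : ∀ (X : Type v) [Group X] [Finite X] (z : X) (L : Subgroup X), κ.T X z L → IsPair κ z L →
    Basic.core L = ⊥
  odd_aut : ∀ (X : Type v) [Group X] [Finite X] (z : X) (L : Subgroup X), κ.T X z L → IsPair κ z L →
    ∀ β : MulAut X, Odd (orderOf β) → (∀ l ∈ L, β l = l) → β = 1
  cent_L : ∀ (X : Type v) [Group X] [Finite X] (z : X) (L : Subgroup X), κ.T X z L → IsPair κ z L →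
    ∀ c : X, c * z = z * c → c * c = 1 → c ≠ 1 → (∀ l ∈ L, c * l = l * c) → c = z
  no_se : ∀ (X : Type v) [Group X] [Finite X] (z : X) (L : Subgroup X), κ.T X z L → IsPair κ z L →
    ∀ H : Subgroup X, ¬ IsStronglyEmbedded H

variable {G : Type v} [Group G] [Finite G] {κ : Kind.{v}}

/-- the core of `J` is in the core of the big `M` -/
theorem core_le_of (hA : TgtA κ) {u : G} {J M : Subgroup G} (hB : Big κ u J M) (hu : u * u = 1)
    (hu1 : u ≠ 1) (huJ : u ∈ J) (hJ : IsComp (M ⊓ centralizer ({u} : Set G)) J)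
    (hk : κ.P (↥J ⧸ oddCore ↥J)) : Basic.core J ≤ Basic.core M := by
  obtain ⟨huM, hT⟩ := hB
  have hJM : J ≤ M := hJ.le.trans inf_le_left
  have h1 := hA.core _ _ _ hT (isPair_quot hu hu1 huJ huM hJ hk)
  obtain ⟨C, hC⟩ : ∃ C : Subgroup (↥M ⧸ oddCore ↥M), C = qs M (Basic.core J) := ⟨_, rfl⟩
  have hmk : ∀ x (hx : x ∈ Basic.core J), (QuotientGroup.mk ⟨x, hJM (Basic.core_le J hx)⟩ : ↥M ⧸ oddCore ↥M) ∈ C := by
    intro x hx
    rw [hC]
    exact ⟨⟨x, hJM (Basic.core_le J hx)⟩, hx, rfl⟩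
  have hle : C ≤ Basic.core (qs M J) := by
    refine le_core ?_ ?_ ?_
    · rw [hC]
      exact Subgroup.map_mono (subgroupOf_mono M (Basic.core_le J))
    · rintro _ ⟨⟨j, hjM⟩, hj, rfl⟩
      rw [mem_normalizer_iff_cj, hC]
      have hj' : j ∈ J := hj
      have hsub : ∀ j (hjM : j ∈ M), j ∈ J →
          cj (QuotientGroup.mk' (oddCore ↥M) ⟨j, hjM⟩) (qs M (Basic.core J)) ≤ qs M (Basic.core J) := by
        rintro j hjM hj _ ⟨_, ⟨⟨x, hxM⟩, hx, rfl⟩, rfl⟩
        exact ⟨⟨j * x * j⁻¹, M.mul_mem (M.mul_mem hjM hxM) (M.inv_mem hjM)⟩,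
          conj_mem_core (le_normalizer hj) hx, rfl⟩
      refine le_antisymm (hsub j hjM hj') ?_
      have h3 := cj_mono (g := QuotientGroup.mk' (oddCore ↥M) ⟨j, hjM⟩)
        (hsub j⁻¹ (M.inv_mem hjM) (J.inv_mem hj'))
      have e : QuotientGroup.mk' (oddCore ↥M) ⟨j⁻¹, M.inv_mem hjM⟩ =
        (QuotientGroup.mk' (oddCore ↥M) ⟨j, hjM⟩)⁻¹ := rfl
      rwa [e, cj_cj_inv] at h3
    · have h2 : Nat.card C ∣ Nat.card ((Basic.core J).subgroupOf M) := by
        rw [hC]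
        exact Subgroup.card_map_dvd _ _
      rw [Nat.card_congr (subgroupOfEquivOfLe ((Basic.core_le J).trans hJM)).toEquiv] at h2
      exact Odd.of_dvd_nat (odd_card_core J) h2
  intro x hx
  have h2 := hle (hmk x hx)
  rw [h1, mem_bot, mk_eq_one_iff] at h2
  exact h2

omit [Finite G] in
/-- The automorphism of `M / O(M)` induced by `y ∈ N(M)`. -/
theorem exists_aut {M : Subgroup G} {y : G} (hy : y ∈ normalizer (M : Set G)) :
    ∃ β : MulAut (↥M ⧸ oddCore ↥M), ∀ (x : G) (hx : x ∈ M),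
      β (QuotientGroup.mk ⟨x, hx⟩) =
        QuotientGroup.mk ⟨y * x * y⁻¹, (Subgroup.mem_normalizer_iff.mp hy x).mp hx⟩ := by
  have hym : ∀ x ∈ M, y * x * y⁻¹ ∈ M := fun x hx => (Subgroup.mem_normalizer_iff.mp hy x).mp hx
  have hym' : ∀ x ∈ M, y⁻¹ * x * y ∈ M := fun x hx => by
    have := (Subgroup.mem_normalizer_iff.mp (Subgroup.inv_mem _ hy) x).mp hx
    rwa [inv_inv] at this
  let α : ↥M ≃* ↥M :=
    { toFun := fun x => ⟨y * x * y⁻¹, hym x x.2⟩
      invFun := fun x => ⟨y⁻¹ * x * y, hym' x x.2⟩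
      left_inv := fun x => Subtype.ext (by show y⁻¹ * (y * (x : G) * y⁻¹) * y = x; group)
      right_inv := fun x => Subtype.ext (by show y * (y⁻¹ * (x : G) * y) * y⁻¹ = x; group)
      map_mul' := fun a b => Subtype.ext (by
        show y * ((a : G) * b) * y⁻¹ = y * a * y⁻¹ * (y * b * y⁻¹); group) }
  have hα : (oddCore ↥M).map (α : ↥M ≃* ↥M).toMonoidHom = oddCore ↥M := Lib.Cores.map_equiv_pPrimeCore α 2
  exact ⟨QuotientGroup.congr (oddCore ↥M) (oddCore ↥M) α hα, fun x hx => rfl⟩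

/-- an element of odd order normalizing the big `M` and centralizing `J` modulo `O(M)` fixes `M` -/
theorem fixes_of_odd (hA : TgtA κ) {u : G} {J M : Subgroup G} (hB : Big κ u J M) (hu : u * u = 1)
    (hu1 : u ≠ 1) (huJ : u ∈ J) (hJ : IsComp (M ⊓ centralizer ({u} : Set G)) J)
    (hk : κ.P (↥J ⧸ oddCore ↥J)) {y : G} (hy : y ∈ normalizer (M : Set G)) (hodd : Odd (orderOf y))
    (hyJ : ∀ j ∈ J, j⁻¹ * (y * j * y⁻¹) ∈ Basic.core M) : Fixes y M := by
  obtain ⟨huM, hT⟩ := hB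
  have hp := isPair_quot hu hu1 huJ huM hJ hk
  obtain ⟨β, hβ⟩ := exists_aut hy
  have hpow : ∀ (k : ℕ) (x : G) (hx : x ∈ M), ∃ hx' : y ^ k * x * (y ^ k)⁻¹ ∈ M,
      (β ^ k) (QuotientGroup.mk ⟨x, hx⟩) = QuotientGroup.mk ⟨y ^ k * x * (y ^ k)⁻¹, hx'⟩ := by
    intro k
    induction k with
    | zero =>
      intro x hx
      have e : y ^ 0 * x * (y ^ 0)⁻¹ = x := by rw [pow_zero]; group
      refine ⟨by rw [e]; exact hx, ?_⟩
      rw [pow_zero]
      change (QuotientGroup.mk ⟨x, hx⟩ : ↥M ⧸ oddCore ↥M) = _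
      congr 1
      exact Subtype.ext e.symm
    | succ k ih =>
      intro x hx
      obtain ⟨h1, h2⟩ := ih _ ((mem_normalizer_iff.mp hy x).mp hx)
      have e : y ^ (k + 1) * x * (y ^ (k + 1))⁻¹ = y ^ k * (y * x * y⁻¹) * (y ^ k)⁻¹ := by
        rw [pow_succ]; group
      refine ⟨by rw [e]; exact h1, ?_⟩
      rw [pow_succ]
      change (β ^ k) (β (QuotientGroup.mk ⟨x, hx⟩)) = _
      rw [hβ x hx, h2]
      congr 1
      exact Subtype.ext e.symm
  have hβo : Odd (orderOf β) := by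
    have h1 : β ^ orderOf y = 1 := by
      ext x
      obtain ⟨⟨x, hx⟩, rfl⟩ := QuotientGroup.mk_surjective x
      obtain ⟨h1, h2⟩ := hpow (orderOf y) x hx
      rw [h2]
      change _ = (QuotientGroup.mk ⟨x, hx⟩ : ↥M ⧸ oddCore ↥M)
      congr 1
      apply Subtype.ext
      show y ^ orderOf y * x * (y ^ orderOf y)⁻¹ = x
      rw [pow_orderOf_eq_one, one_mul, inv_one, mul_one]
    exact Odd.of_dvd_nat hodd (orderOf_dvd_of_pow_eq_one h1)
  have h1 := hA.odd_aut _ _ _ hT hp β hβo (by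
    rintro _ ⟨⟨j, hjM⟩, hj, rfl⟩
    change β (QuotientGroup.mk ⟨j, hjM⟩) = QuotientGroup.mk ⟨j, hjM⟩
    rw [hβ j hjM]
    exact ((mk_eq_mk_iff' hjM _).2 (hyJ j hj)).symm)
  rw [fixes_iff_conj]
  refine ⟨hy, fun x hx => ?_⟩
  have h2 := hβ x hx
  rw [h1] at h2
  exact (mk_eq_mk_iff' hx ((mem_normalizer_iff.mp hy x).mp hx)).1 h2

/-- **Balance** for a pair `(u, X)` and a big `s`. -/
theorem bal (hA : TgtA κ) {u : G} {X : Subgroup G} (h : IsPair κ u X) {s : G} (hss : s * s = 1)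
    (hsu : s * u = u * s) (hf : Fixes s X) (hB : IsBig κ u X s) {x : G}
    (hx : x ∈ Basic.core (centralizer ({u} : Set G))) (hxs : x * s = s * x) :
    x ∈ Basic.core (centralizer ({s} : Set G)) := by
  have hsC : s ∈ centralizer ({u} : Set G) := mem_centralizer_singleton_iff.mpr hsu
  have hcen := isComp_cen h.comp hsC hss hf
  have hM := pump_comp h hss hsu hf
  have hle := cen_le_pump h hss hsu hf
  have huJ : u ∈ cen X s := pair_mem_cen h hsu
  have huM := mem_pump h hss hsu hf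
  have hcJ : Basic.core (cen X s) = cen X s ⊓ Basic.core X := core_cen h.comp hsC hss hf
  have hJM := isComp_cen_inf h hss hsu hf
  have hk := (kind_cen h.comp hsC hss hf).mpr h.kind
  have hcoreM := core_le_of hA hB h.sq h.ne_one huJ hJM hk
  -- the members of `Q = O(C(u)) ∩ C(s)` fix `M`
  have key : ∀ q ∈ Basic.core (centralizer ({u} : Set G)), q * s = s * q → Fixes q (pump s X) := by
    intro q hq hqs
    have hqX : Fixes q X := h.comp.fixes_of_core hq
    have hqJ : q ∈ normalizer (cen X s : Set G) := mem_normalizer_cen hqX.1 hqs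
    have hqM := mem_normalizer_pump h hss hsu hf hqX.1 hqs
    have hodd : Odd (orderOf q) := by
      have h3 : orderOf q ∣ Nat.card (Basic.core (centralizer ({u} : Set G))) :=
        Subgroup.orderOf_dvd_natCard _ hq
      exact Odd.of_dvd_nat (odd_card_core _) h3
    refine fixes_of_odd hA hB h.sq h.ne_one huJ hJM hk hqM hodd fun j hj => ?_
    apply hcoreM
    rw [hcJ]
    exact ⟨(cen X s).mul_mem ((cen X s).inv_mem hj) ((mem_normalizer_iff.mp hqJ j).mp hj),
      (fixes_iff_conj.mp hqX).2 j (cen_le X s hj)⟩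
  have hQ : Basic.core (centralizer ({u} : Set G)) ⊓ centralizer ({s} : Set G) ≤
      Basic.core (centralizer ({s} : Set G)) := by
    refine BigBal.le_core_of_cent hM huM h.sq ?_ ?_ (Odd.of_dvd_nat (odd_card_core _) (card_dvd_of_le inf_le_left))
    · rintro q ⟨hq, hqS⟩
      exact (hM.fixes_iff hqS).mp (key q hq (mem_centralizer_singleton_iff.mp hqS))
    · rintro c ⟨hcs, hcu⟩
      have e1 : c ∈ normalizer (Basic.core (centralizer ({u} : Set G)) : Set G) := le_normalizer_core _ hcu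
      have e2 : c ∈ normalizer (centralizer ({s} : Set G) : Set G) := le_normalizer hcs
      rw [mem_normalizer_iff_cj] at e1 e2 ⊢
      rw [cj_inf, e1, e2]
  exact hQ ⟨hx, mem_centralizer_singleton_iff.mpr hxs⟩

/-- the only involution of a pump-up of `L u` fixing `L u` is `u` -/
theorem ofCmp {τ : Bool} {D : Set G} {L : G → Subgroup G} (hA : TgtA κ) (h : W1 κ τ D L) :
    OfCmp D L := by
  intro u hu x hxx hx1 hxu hx hf a ha haa ha1 hau hfa
  have hp := h.pair hu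
  have hM := pump_comp hp hxx hx hf
  have hsC : x ∈ centralizer ({u} : Set G) := mem_centralizer_singleton_iff.mpr hx
  have hJM := isComp_cen_inf hp hxx hx hf
  have hax : a * x = x * a := mem_centralizer_singleton_iff.mp (hM.le ha)
  rcases h.small_or_big hu hxx hx1 hx hf with hs | hB
  · have h1 : a ∈ cen (L u) x := mem_of_comm_two (m := 8) (Or.inl hs) hJM ha hau (n := 1)
      (by rw [pow_one, pow_two, haa])
    exact h.eq_of_fixes hu (cen_le _ _ h1) haa ha1 hfa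
  · have huJ : u ∈ cen (L u) x := pair_mem_cen hp hx
    have hk := (kind_cen hp.comp hsC hxx hf).mpr hp.kind
    have hcoreM := core_le_of hA hB hp.sq hp.ne_one huJ hJM hk
    have hcJ : Basic.core (cen (L u) x) = cen (L u) x ⊓ Basic.core (L u) := core_cen hp.comp hsC hxx hf
    obtain ⟨huM, hT⟩ := id hB
    have hpq := isPair_quot hp.sq hp.ne_one huJ huM hJM hk
    have haJ : a ∈ normalizer (cen (L u) x : Set G) := mem_normalizer_cen hfa.1 hax
    have hmk1 : (QuotientGroup.mk ⟨a, ha⟩ : ↥(pump x (L u)) ⧸ oddCore ↥(pump x (L u))) ≠ 1 := by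
      rw [Ne, mk_eq_one_iff]
      exact fun h1 => ha1 (eq_one_of_mem_core_sq h1 haa)
    have hmk2 : (QuotientGroup.mk ⟨a, ha⟩ : ↥(pump x (L u)) ⧸ oddCore ↥(pump x (L u))) *
        QuotientGroup.mk ⟨a, ha⟩ = 1 := by
      change (QuotientGroup.mk ⟨a * a, (pump x (L u)).mul_mem ha ha⟩ :
        ↥(pump x (L u)) ⧸ oddCore ↥(pump x (L u))) = 1
      rw [mk_eq_one_iff, haa]
      exact one_mem _
    have h1 := hA.cent_L _ _ _ hT hpq (QuotientGroup.mk ⟨a, ha⟩) (by
      change (QuotientGroup.mk ⟨a * u, (pump x (L u)).mul_mem ha huM⟩ :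
        ↥(pump x (L u)) ⧸ oddCore ↥(pump x (L u))) = QuotientGroup.mk ⟨u * a, (pump x (L u)).mul_mem huM ha⟩
      congr 1
      exact Subtype.ext hau) hmk2 hmk1 (by
      rintro _ ⟨⟨j, hjM⟩, hj, rfl⟩
      symm
      refine (mk_comm_iff hjM ha).mpr ?_
      apply hcoreM
      rw [hcJ]
      exact ⟨(cen (L u) x).mul_mem ((cen (L u) x).inv_mem hj) ((mem_normalizer_iff.mp haJ j).mp hj),
        (fixes_iff_conj.mp hfa).2 j (cen_le (L u) x hj)⟩)
    rw [mk_eq_mk_iff'] at h1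
    exact Lifting.eq_of_commute (odd_card_core (pump x (L u))) (n := 1) (m := 1)
      (by rw [pow_one, pow_two, haa]) (by rw [pow_one, pow_two, hp.sq]) hau h1

end Cfsg.Agent.UGT.I34.WOneC.Tg
end

-- part: UGT/I34/WOneC/OfWOne
section
set_option linter.all false
open scoped Cfsg.Agent.FastGrp

/-!
# I34 [A]: the record `FrameC` from the world W1
-/

set_option autoImplicit false
set_option linter.unusedSectionVars false

open Cfsg Subgroup
open Cfsg.Agent.SignalizersComponents Cfsg.Agent.Lib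
open Cfsg.Agent.SignalizersComponents.IntrinsicBasic
open Cfsg.Agent.SignalizersComponents.PLayerAut
open Cfsg.Agent.SignalizersComponents.RelSylow
open Cfsg.Agent.Intrinsic
open Cfsg.Agent.Intrinsic.Basic hiding IsPair PQS Target IsPair.sq IsPair.ne_one IsPair.cj
open Cfsg.Agent.Intrinsic.Cen hiding pair_comm pair_mem_cen exists_pump pump_unique
open Cfsg.Agent.Intrinsic.Quot hiding Big isPair_quot small_or_big
open Cfsg.Agent.Intrinsic.Diag Cfsg.Agent.Intrinsic.TypeGOne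
open Cfsg.Agent.UGT.I34.Pair Cfsg.Agent.UGT.I34.KF Cfsg.Agent.UGT.I34.WOne
open Cfsg.Agent.McLLyComp.Act (fixes_mul)
open Cfsg.Agent.Intrinsic.WOneA (Ce OC)

namespace Cfsg.Agent.UGT.I34.WOneC.OfWOne

open Cfsg.Agent.UGT.I34.WOneC.Five Cfsg.Agent.UGT.I34.WOneC.Cc Cfsg.Agent.UGT.I34.WOneC.Tg

universe v

variable {G : Type v} [Group G] [Finite G] {κ : Kind.{v}} {τ : Bool} {D : Set G} {L : G → Subgroup G}

theorem sq_of {x : G} (h : orderOf x = 2) : x * x = 1 := by
  rw [← pow_two, ← h]; exact pow_orderOf_eq_one x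

theorem ne_of {x : G} (h : orderOf x = 2) : x ≠ 1 := by
  rintro rfl; rw [orderOf_one] at h; omega

theorem order_two {x : G} (h : x * x = 1) (h1 : x ≠ 1) : orderOf x = 2 :=
  orderOf_eq_prime (by rw [pow_two, h]) h1

theorem mem_K (h : W1 κ τ D L) {u : G} (hu : u ∈ D) {x : G} :
    x ∈ cenMod (Ce u) (L u) ↔ x * u = u * x ∧ Fixes x (L u) := by
  constructor
  · intro hx
    have h1 := cenMod_le _ _ hx
    exact ⟨mem_centralizer_singleton_iff.mp h1, ((h.comp hu).fixes_iff h1).mpr hx⟩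
  · rintro ⟨h1, h2⟩
    exact ((h.comp hu).fixes_iff (mem_centralizer_singleton_iff.mpr h1)).mp h2

open Classical in
/-- `M_x(L_u)` -/
noncomputable def cmpF (L : G → Subgroup G) (x u : G) : Subgroup G :=
  if x = u then L u else pump x (L u)

theorem cmpF_self (L : G → Subgroup G) (u : G) : cmpF L u u = L u := by
  unfold cmpF; rw [if_pos rfl]

theorem cmpF_of_ne (L : G → Subgroup G) {x u : G} (h : x ≠ u) : cmpF L x u = pump x (L u) := by
  unfold cmpF; rw [if_neg h]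

theorem ord (h : W1 κ τ D L) : ∀ u ∈ D, orderOf u = 2 := fun _ hu => (h.pair hu).inv

theorem invol (h : W1 κ τ D L) : ∀ u ∈ D, ∀ t ∈ L u, orderOf t = 2 → t ∈ D ∧ u ∈ L t :=
  fun _ hu _ ht ht2 => ⟨h.inv_mem hu ht (sq_of ht2) (ne_of ht2),
    h.mem_of_mem hu ht (sq_of ht2) (ne_of ht2)⟩

theorem inf_eq (h : W1 κ τ D L) : ∀ u ∈ D, ∀ t ∈ L u, orderOf t = 2 → t ∈ cenMod (Ce u) (L u) →
    t = u :=
  fun _ hu _ ht ht2 hK => h.eq_of_fixes hu ht (sq_of ht2) (ne_of ht2) ((mem_K h hu).mp hK).2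

theorem symm (h : W1 κ τ D L) : ∀ u ∈ D, ∀ v ∈ D, v ∈ cenMod (Ce u) (L u) →
    u ∈ cenMod (Ce v) (L v) := by
  intro u hu v hv hK
  obtain ⟨h1, h2⟩ := (mem_K h hu).mp hK
  exact (mem_K h hv).mpr ⟨h1.symm, h.symm hu hv h1.symm h2⟩

theorem cmp_comp (h : W1 κ τ D L) : ∀ u ∈ D, ∀ x ∈ cenMod (Ce u) (L u), orderOf x = 2 →
    TC (Ce x) (cmpF L x u) := by
  intro u hu x hx hx2
  by_cases e : x = u
  · rw [e, cmpF_self]; exact (h.comp hu).tc
  · rw [cmpF_of_ne L e]
    obtain ⟨h1, h2⟩ := (mem_K h hu).mp hx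
    exact (pump_comp (h.pair hu) (sq_of hx2) h1 h2).tc

theorem cmp_conj (h : W1 κ τ D L) : ∀ u ∈ D, ∀ x ∈ cenMod (Ce u) (L u), orderOf x = 2 →
    ∀ g : G, cmpF L (g * x * g⁻¹) (g * u * g⁻¹) = cj g (cmpF L x u) := by
  intro u hu x hx hx2 g
  by_cases e : x = u
  · rw [e, cmpF_self, cmpF_self, h.L_conj hu]
  · have e' : g * x * g⁻¹ ≠ g * u * g⁻¹ := fun e1 => e (mul_left_cancel (mul_right_cancel e1))
    rw [cmpF_of_ne L e, cmpF_of_ne L e']
    obtain ⟨h1, h2⟩ := (mem_K h hu).mp hx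
    rw [h.L_conj hu]
    exact cj_pump (h.pair hu) (sq_of hx2) h1 h2 g

theorem mem_cmp (h : W1 κ τ D L) : ∀ u ∈ D, ∀ x ∈ cenMod (Ce u) (L u), orderOf x = 2 →
    ∀ a ∈ L u, ∀ n : ℕ, a ^ 2 ^ n = 1 → Commute a x → a ∈ cmpF L x u := by
  intro u hu x hx hx2 a ha n hn hc
  by_cases e : x = u
  · rw [e, cmpF_self]; exact ha
  · rw [cmpF_of_ne L e]
    obtain ⟨h1, h2⟩ := (mem_K h hu).mp hx
    exact mem_pump_of_mem (h.pair hu) (sq_of hx2) h1 h2 ha hc hn

theorem of_cmp (h : W1 κ τ D L) (hof : OfCmp D L) : ∀ u ∈ D, ∀ x ∈ cenMod (Ce u) (L u),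
    orderOf x = 2 → ∀ a ∈ cmpF L x u, orderOf a = 2 → a ∈ cenMod (Ce u) (L u) → a = u := by
  intro u hu x hx hx2 a ha ha2 haK
  obtain ⟨h3, h4⟩ := (mem_K h hu).mp haK
  by_cases e : x = u
  · rw [e, cmpF_self] at ha
    exact h.eq_of_fixes hu ha (sq_of ha2) (ne_of ha2) h4
  · rw [cmpF_of_ne L e] at ha
    obtain ⟨h1, h2⟩ := (mem_K h hu).mp hx
    exact hof u hu x (sq_of hx2) (ne_of hx2) e h1 h2 a ha (sq_of ha2) (ne_of ha2) h3 h4

/-- every involution of `pump x (L u)` is conjugate to an involution of `L u` -/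
theorem exists_conj (h : W1 κ τ D L) {u : G} (hu : u ∈ D) {x : G} (hx2 : orderOf x = 2)
    (h1 : x * u = u * x) (h2 : Fixes x (L u)) {t : G} (ht : t ∈ pump x (L u))
    (ht2 : orderOf t = 2) : ∃ g ∈ pump x (L u), ∃ j ∈ L u, orderOf j = 2 ∧ g * j * g⁻¹ = t := by
  have htt := sq_of ht2
  rcases h.small_or_big hu (sq_of hx2) (ne_of hx2) h1 h2 with hs | hb
  · obtain ⟨j, hj, hc⟩ := exists_mul_of_sup hs ht
    have hcl := cen_le_pump (h.pair hu) (sq_of hx2) h1 h2
    have hjM : j ∈ pump x (L u) := hcl hj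
    -- the 2-part of `j`
    have hjj : j ^ 2 ^ 1 ∈ core (pump x (L u)) := by
      have e1 : j⁻¹ * t * (j⁻¹ * t) ∈ core (pump x (L u)) := mul_mem hc hc
      have e2 : t * (j⁻¹ * t) * t⁻¹ ∈ core (pump x (L u)) :=
        conj_mem_core (le_normalizer ht) hc
      have e3 : (j⁻¹ * t) * (t * (j⁻¹ * t) * t⁻¹) = j⁻¹ * (t * t) * j⁻¹ := by group
      have e4 := mul_mem hc e2
      rw [e3, htt, mul_one] at e4
      have e5 := inv_mem e4
      rw [pow_one, pow_two]
      simpa using e5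
    obtain ⟨k, hk, hkc⟩ := Lifting.exists_two_part (odd_card_core (pump x (L u))) hjj
    have hkc' : (j ^ k)⁻¹ * t ∈ core (pump x (L u)) := by
      have e1 : (j ^ k)⁻¹ * t = (j⁻¹ * j ^ k)⁻¹ * (j⁻¹ * t) := by group
      rw [e1]
      exact mul_mem (inv_mem hkc) hc
    obtain ⟨o, ho, hot⟩ := Lifting.exists_conj_eq (odd_card_core (pump x (L u))) (v := j ^ k)
      (v' := t) hk (m := 1) (by rw [pow_one, pow_two, htt])
      (le_normalizer_core _ ((pump x (L u)).pow_mem hjM k)) hkc'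
    refine ⟨o, core_le _ ho, j ^ k, (L u).pow_mem (cen_le _ _ hj) k, ?_, hot⟩
    have h3 : orderOf (o * j ^ k * o⁻¹) = orderOf (j ^ k) := by
      have := orderOf_injective (MulAut.conj o).toMonoidHom (MulAut.conj o).injective (j ^ k)
      simpa using this
    rw [← h3, hot, ht2]
  · obtain ⟨g, hg, hgt⟩ := hb.conj h.tgt (h.pair hu) (sq_of hx2) h1 h2 ht htt (ne_of ht2)
    exact ⟨g, hg, u, h.mem hu, (h.pair hu).inv, hgt⟩

theorem cmp_inv (h : W1 κ τ D L) : ∀ u ∈ D, ∀ x ∈ cenMod (Ce u) (L u), orderOf x = 2 →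
    ∀ t ∈ cmpF L x u, orderOf t = 2 → t ∈ D := by
  intro u hu x hx hx2 t ht ht2
  by_cases e : x = u
  · rw [e, cmpF_self] at ht
    exact h.inv_mem hu ht (sq_of ht2) (ne_of ht2)
  · rw [cmpF_of_ne L e] at ht
    obtain ⟨h1, h2⟩ := (mem_K h hu).mp hx
    obtain ⟨g, _, j, hj, hj2, rfl⟩ := exists_conj h hu hx2 h1 h2 ht ht2
    exact h.conj (h.inv_mem hu hj (sq_of hj2) (ne_of hj2)) g

theorem cmp_cen (h : W1 κ τ D L) : ∀ u ∈ D, ∀ x ∈ cenMod (Ce u) (L u), orderOf x = 2 →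
    ∀ c : G, orderOf c = 2 → Commute c u → c ∈ cenMod (Ce x) (cmpF L x u) →
    c ∈ cenMod (Ce u) (L u) := by
  intro u hu x hx hx2 c hc2 hcu hcK
  by_cases e : x = u
  · rw [e, cmpF_self] at hcK; exact hcK
  · rw [cmpF_of_ne L e] at hcK
    obtain ⟨h1, h2⟩ := (mem_K h hu).mp hx
    have hcx := cenMod_le _ _ hcK
    have hf := ((pump_comp (h.pair hu) (sq_of hx2) h1 h2).fixes_iff hcx).mpr hcK
    exact (mem_K h hu).mpr ⟨hcu, fixes_of_pump (h.pair hu) (sq_of hx2) h1 h2 (h.norm hu hcu)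
      (mem_centralizer_singleton_iff.mp hcx) hf⟩

theorem small (h : W1 κ τ D L) : ∀ u ∈ D, ∀ x ∈ cenMod (Ce u) (L u), orderOf x = 2 →
    ∀ t ∈ L u, orderOf t = 2 → t ≠ u → Commute t x → x ∉ cenMod (Ce t) (L t) →
    u ∈ cenMod (Ce x) (cmpF L x u) := by
  intro u hu x hx hx2 t ht ht2 htu htx hxt
  have htD := h.inv_mem hu ht (sq_of ht2) (ne_of ht2)
  obtain ⟨h1, h2⟩ := (mem_K h hu).mp hx
  by_cases e : x = u
  · rw [e, cmpF_self]
    exact (mem_K h hu).mpr ⟨rfl, h.fixes_self hu⟩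
  · rw [cmpF_of_ne L e]
    rcases h.small_or_big hu (sq_of hx2) (ne_of hx2) h1 h2 with hs | hb
    · exact ((pump_comp (h.pair hu) (sq_of hx2) h1 h2).fixes_iff
        (mem_centralizer_singleton_iff.mpr h1.symm)).mp (hs.fixes (h.pair hu) h1)
    · exfalso
      apply hxt
      have hxt' : x * t = t * x := htx.symm
      exact (mem_K h htD).mpr ⟨hxt', (h.isBig_iff hu (sq_of hx2) (ne_of hx2) h1 h2 ht (sq_of ht2)
        (ne_of ht2) htu hxt').mp hb⟩

/-- the field `big` from (5.5) -/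
theorem big (h : W1 κ τ D L) (h52 : FxOr D L) :
    ∀ u ∈ D, ∀ s ∈ D, u ≠ s → s ∈ cenMod (Ce u) (L u) → ∀ t ∈ cmpF L s u, orderOf t = 2 →
      ∃ g ∈ cmpF L s u, g * u * g⁻¹ = t := by
  intro u hu s hs hne hsK t ht ht2
  obtain ⟨h1, h2⟩ := (mem_K h hu).mp hsK
  rw [cmpF_of_ne L hne.symm] at ht ⊢
  exact (isBig_of_zero h h52 hu hs hne.symm h1 h2).conj h.tgt (h.pair hu) (h.sq hs) h1 h2 ht
    (sq_of ht2) (ne_of ht2)

theorem exists_inv (h : W1 κ τ D L) : ∀ u ∈ D, ∀ V : Subgroup G, IsPGroup 2 V →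
    V ≤ cenMod (Ce u) (L u) → ∃ t ∈ L u, orderOf t = 2 ∧ t ≠ u ∧ ∀ v ∈ V, Commute t v := by
  intro u hu V hV hle
  obtain ⟨t, ht, h1, h2, h3, h4⟩ := h.exists_inv_comm hu hV
    (fun a ha => ((mem_K h hu).mp (hle ha)).2)
  exact ⟨t, ht, order_two h1 h2, h3, fun v hv => (h4 v hv).symm⟩

theorem diag (h : W1 κ τ D L) : ∀ b : G, orderOf b = 2 → ∀ v ∈ D, b * v * b⁻¹ ≠ v →
    b * v * b⁻¹ ∈ cenMod (Ce v) (L v) → ∃ N, TC (Ce b) N ∧ v * (b * v * b⁻¹) ∈ N := by
  intro b hbo v hv hne hmem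
  have hbb : b * b = 1 := sq_of hbo
  have hbi : b⁻¹ = b := inv_eq_of_mul_eq_one_left hbb
  obtain ⟨w, hw⟩ : ∃ w, w = b * v * b⁻¹ := ⟨_, rfl⟩
  rw [← hw] at hne hmem ⊢
  have hwD : w ∈ D := hw ▸ h.conj hv b
  obtain ⟨hwv, hfw⟩ := (mem_K h hv).mp hmem
  have hv2 := h.sq hv
  have hw2 := h.sq hwD
  obtain ⟨c, hc⟩ : ∃ c, c = v * w := ⟨_, rfl⟩
  rw [← hc]
  have hcv : c * v = v * c := by rw [hc, mul_assoc, hwv]
  have hcc : c * c = 1 := by rw [hc]; exact mul_sq hv2 hw2 hwv.symm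
  have hc1 : c ≠ 1 := by rw [hc]; exact mul_ne_one hw2 (Ne.symm hne)
  have hbwb : b * w * b⁻¹ = v := by
    rw [hw, hbi]
    calc b * (b * v * b) * b = (b * b) * v * (b * b) := by group
      _ = v := by rw [hbb, one_mul, mul_one]
  have hbc : b * c * b⁻¹ = c := by
    have : b * c * b⁻¹ = (b * v * b⁻¹) * (b * w * b⁻¹) := by rw [hc]; group
    rw [this, hbwb, ← hw, hwv, hc]
  have hbc' : b * c = c * b := by
    calc b * c = b * c * b⁻¹ * b := by group
      _ = c * b := by rw [hbc]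
  have hfv : Fixes v (L v) := h.fixes_self hv
  have hfc : Fixes c (L v) := hc ▸ fixes_mul hfv hfw
  have hpv := h.pair hv
  have hM := pump_comp hpv hcc hcv hfc
  have hvM := mem_pump hpv hcc hcv hfc
  have hbC : b ∈ centralizer ({c} : Set G) := mem_centralizer_singleton_iff.mpr hbc'
  have hwM : w ∈ cj b (pump c (L v)) := by rw [hw]; exact conj_mem_cj hvM
  have hcv1 : c ≠ v := by
    intro h1
    rw [hc] at h1
    exact h.ne_one hwD (mul_eq_left.mp h1)
  have hmove : cj b (pump c (L v)) ≠ pump c (L v) := by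
    intro h1
    rw [h1] at hwM
    have hcM : c ∈ pump c (L v) := by
      have := mul_mem hvM hwM
      rwa [← hc] at this
    have hcent : ∀ y ∈ pump c (L v), y * c = c * y := fun y hy =>
      mem_centralizer_singleton_iff.mp (hM.le hy)
    rcases h.small_or_big hv hcc hc1 hcv hfc with hs | hb
    · have h2 : c ∈ cen (L v) c := mem_of_comm_two (m := 8) (Or.inl hs)
        (isComp_cen_inf hpv hcc hcv hfc) hcM hcv (n := 1) (by rw [pow_one, pow_two, hcc])
      exact hcv1 (h.eq_of_fixes hv (cen_le _ _ h2) hcc hc1 hfc)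
    · obtain ⟨g, hg, hgc⟩ := hb.conj h.tgt hpv hcc hcv hfc hcM hcc hc1
      apply hcv1
      have h3 := hcent g hg
      calc c = g⁻¹ * (g * c) := by group
        _ = g⁻¹ * (c * g) := by rw [h3]
        _ = v := by rw [← hgc]; group
  obtain ⟨hN, -, -, -, -⟩ := exists_diag hM hbC hbb hmove
  have hcN : c ∈ Diag.diag (centralizer ({c} : Set G)) (pump c (L v)) b :=
    mem_diag (mem_centralizer_singleton_iff.mpr rfl) hbc'.symm hvM
      (by rw [← hw, ← hc, inv_mul_cancel]; exact one_mem _) (n := 1)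
      (by rw [pow_one, pow_two]; exact hcc)
  rw [inf_comm] at hN
  obtain ⟨R, hR, hNR⟩ := exists_pumpup hcc hcN hN
  exact ⟨R, hR.tc, hNR hcN⟩

/-- the K-fact for `sylow`: an automorphism trivial on a Sylow 2-subgroup is trivial -/
def Syl (κ : Kind.{v}) : Prop :=
  ∀ (K : Type v) [Group K] [Finite K], κ.P K → ∀ (Q : Sylow 2 K) (β : MulAut K),
    (∀ q ∈ Q, β q = q) → β = 1

theorem sylow (hSyl : Syl κ) (h : W1 κ τ D L) : ∀ u ∈ D, ∀ t ∈ D, Commute t u →
    t ∉ cenMod (Ce u) (L u) → ∀ P : Subgroup G, IsMaxP 2 (L u) P → ∃ p ∈ P, ¬ Commute p t := by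
  intro u hu t ht htu htK P hP
  by_contra hcon
  push Not at hcon
  apply htK
  have hp2 : Fact (Nat.Prime 2) := ⟨Nat.prime_two⟩
  have htn : t ∈ normalizer (L u : Set G) := h.norm hu htu
  obtain ⟨β, hβ⟩ := exists_aut htn
  -- the image of `P` is a Sylow subgroup
  have hsurj : Function.Surjective (QuotientGroup.mk' (oddCore ↥(L u))) := QuotientGroup.mk'_surjective _
  have hβ1 : β = 1 := by
    refine hSyl _ (h.pair hu).kind ((hP.toSylow).mapSurjective hsurj) β ?_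
    rintro q hq
    obtain ⟨⟨p, hpL⟩, hpP, rfl⟩ := hq
    have hpP' : p ∈ P := hpP
    change β (QuotientGroup.mk ⟨p, hpL⟩) = QuotientGroup.mk ⟨p, hpL⟩
    rw [hβ p hpL]
    congr 1
    apply Subtype.ext
    show t * p * t⁻¹ = p
    rw [← (hcon p hpP').eq, mul_inv_cancel_right]
  refine (mem_K h hu).mpr ⟨htu.eq, ?_⟩
  rw [fixes_iff_conj]
  refine ⟨htn, fun x hx => ?_⟩
  have h2 := hβ x hx
  rw [hβ1] at h2
  exact (mk_eq_mk_iff' hx ((mem_normalizer_iff.mp htn x).mp hx)).1 h2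

end Cfsg.Agent.UGT.I34.WOneC.OfWOne
end

-- part: UGT/I34/WOneC/Pairs
section
prune_inst 0x1004005022000000180000200020001000000200400000004000000048000120410801302002100120a0602008002003100049421000002a000200400400000002228290480000000000008800000000000000000000000000000000000000000000000
set_option linter.all false
open scoped Cfsg.Agent.FastGrp

/-!
Elementary consequences of the record `FrameC` (pairs of type (0), two non-commuting elements of `D` in a
2-group, (cV), (C5)).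
-/

set_option autoImplicit false
set_option linter.unusedSectionVars false

namespace Cfsg.Agent.UGT.I34.WOneC

open Subgroup Cfsg
open Cfsg.Agent.SignalizersComponents
open Cfsg.Agent.SignalizersComponents.PLayerAut
open Cfsg.Agent.SignalizersComponents.IntrinsicBasic
open Cfsg.Agent.SignalizersComponents.RelSylow
open Cfsg.Agent.Intrinsic.WOneA (Ce OC mem_Ce mul_self_of_order ne_one_of_order order_two
  inv_eq_of_order pow_of_order orderOf_cj conj_eq_of_commute commute_of_conj_eq normalizes dihedral)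

namespace FrameC

variable {G : Type*} [Group G] (F : FrameC G)

theorem K_le (u : G) : F.K u ≤ Ce u := cenMod_le _ _

theorem L_le {u : G} (hu : u ∈ F.D) : F.L u ≤ Ce u := (F.L_comp u hu).le

theorem mem_K {u k : G} (hu : u ∈ F.D) :
    k ∈ F.K u ↔ k ∈ Ce u ∧ ∀ l ∈ F.L u, l⁻¹ * (k * l * k⁻¹) ∈ OC u :=
  mem_cenMod (F.L_le hu)

theorem self_mem_K {u : G} (hu : u ∈ F.D) : u ∈ F.K u := by
  rw [F.mem_K hu]
  refine ⟨mem_Ce.mpr (Commute.refl u), fun l hl => ?_⟩
  have h : Commute u l := (mem_Ce.mp (F.L_le hu hl)).symm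
  rw [conj_eq_of_commute h, inv_mul_cancel]
  exact one_mem _

theorem K_conj {u : G} (hu : u ∈ F.D) (g : G) : F.K (g * u * g⁻¹) = cj g (F.K u) := by
  unfold K Ce
  rw [cj_cenMod g (F.L_le hu), cj_centralizer, F.L_conj u hu]

theorem cenMod_cmp_mono {u x : G} (hu : u ∈ F.D) (hx : x ∈ F.K u) (hx2 : orderOf x = 2) :
    F.cmp x u ≤ Ce x := (F.cmp_comp u hu x hx hx2).le

variable {F}

theorem Z.K_left {u s : G} (h : F.Z u s) : s ∈ F.K u := h.mem

theorem Z.K_right {u s : G} (h : F.Z u s) : u ∈ F.K s := F.symm u h.left s h.right h.mem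

theorem Z.symm {u s : G} (h : F.Z u s) : F.Z s u := ⟨h.right, h.left, h.ne.symm, h.K_right⟩

theorem Z.comm {u s : G} (h : F.Z u s) : Commute u s := (mem_Ce.mp (F.K_le u h.mem)).symm

theorem Z.conj {u s : G} (h : F.Z u s) (g : G) : F.Z (g * u * g⁻¹) (g * s * g⁻¹) := by
  refine ⟨F.conj u h.left g, F.conj s h.right g, ?_, ?_⟩
  · intro e
    apply h.ne
    have := congrArg (fun y => g⁻¹ * y * g) e
    simpa [mul_assoc] using this
  · rw [F.K_conj h.left]
    exact conj_mem_cj h.mem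

theorem Z.orderOf_mul {u s : G} (h : F.Z u s) : orderOf (u * s) = 2 := by
  apply order_two
  · calc u * s * (u * s) = u * (s * u) * s := by group
      _ = u * (u * s) * s := by rw [h.comm.eq]
      _ = (u * u) * (s * s) := by group
      _ = 1 := by
        rw [mul_self_of_order (F.ord u h.left), mul_self_of_order (F.ord s h.right), one_mul]
  · intro e
    apply h.ne
    have h1 : u = s⁻¹ := eq_inv_of_mul_eq_one_left e
    rw [h1, inv_eq_of_order (F.ord s h.right)]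

/-- inheritance -/
theorem Z.of_mem_cmp {u s t : G} (h : F.Z u s) (ht : t ∈ F.cmp s u) (ht2 : orderOf t = 2) :
    F.Z t s ∧ F.cmp s t = F.cmp s u := by
  obtain ⟨g, hg, rfl⟩ := F.big u h.left s h.right h.ne h.mem t ht ht2
  have hs2 := F.ord s h.right
  have hgs : Commute g s := mem_Ce.mp (F.cenMod_cmp_mono h.left h.mem hs2 hg)
  have e : g * s * g⁻¹ = s := conj_eq_of_commute hgs
  have h1 := h.conj g
  rw [e] at h1
  refine ⟨h1, ?_⟩
  have h2 := F.cmp_conj u h.left s h.mem hs2 g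
  rw [e] at h2
  rw [h2]
  exact cj_eq_self_of_mem hg

theorem Z.mem_cmp {u s a : G} (h : F.Z u s) (ha : a ∈ F.L u) {n : ℕ} (hn : a ^ 2 ^ n = 1)
    (hc : Commute a s) : a ∈ F.cmp s u :=
  F.mem_cmp u h.left s h.mem (F.ord s h.right) a ha n hn hc

theorem Z.inherit {u s t : G} (h : F.Z u s) (ht : t ∈ F.L u) (ht2 : orderOf t = 2)
    (hc : Commute t s) : F.Z t s ∧ F.cmp s t = F.cmp s u :=
  h.of_mem_cmp (h.mem_cmp ht (pow_of_order ht2) hc) ht2

theorem Z.not_mem {u s : G} (h : F.Z u s) : s ∉ F.L u := fun h1 =>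
  h.ne (F.inf_eq u h.left s h1 (F.ord s h.right) h.mem).symm

theorem self_mem_cmp (F : FrameC G) {u x : G} (hu : u ∈ F.D) (hx : x ∈ F.K u)
    (hx2 : orderOf x = 2) : u ∈ F.cmp x u :=
  F.mem_cmp u hu x hx hx2 u (F.self_mem u hu) 1 (pow_of_order (F.ord u hu))
    (mem_Ce.mp (F.K_le u hx)).symm

theorem Z.cmp_ne {u s x : G} (h : F.Z u s) (hx2 : orderOf x = 2) (hxu : x ∈ F.K u)
    (hxs : x ∈ F.K s) : F.cmp x u ≠ F.cmp x s := by
  intro e
  have h1 : s ∈ F.cmp x s := F.self_mem_cmp h.right hxs hx2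
  rw [← e] at h1
  exact h.ne (F.of_cmp u h.left x hxu hx2 s h1 (F.ord s h.right) h.mem).symm

theorem A.refl {u : G} (hu : u ∈ F.D) : F.A u u := ⟨hu, hu, Commute.refl u, fun h => h.ne rfl⟩

theorem A.symm {u v : G} (h : F.A u v) : F.A v u :=
  ⟨h.right, h.left, h.comm.symm, fun h1 => h.nz h1.symm⟩

theorem A.conj {u v : G} (h : F.A u v) (g : G) : F.A (g * u * g⁻¹) (g * v * g⁻¹) := by
  refine ⟨F.conj u h.left g, F.conj v h.right g, ?_, fun h1 => h.nz ?_⟩
  · exact (Commute.map h.comm (MulAut.conj g).toMonoidHom : _)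
  · have h2 := h1.conj g⁻¹
    have e : ∀ x : G, g⁻¹ * (g * x * g⁻¹) * g⁻¹⁻¹ = x := fun x => by group
    rwa [e, e] at h2

/-- the dichotomy -/
theorem A_or_Z (F : FrameC G) {u v : G} (hu : u ∈ F.D) (hv : v ∈ F.D) (hc : Commute u v) :
    F.A u v ∨ F.Z u v := by
  by_cases h : F.Z u v
  · exact Or.inr h
  · exact Or.inl ⟨hu, hv, hc, h⟩

theorem A.notMem_K {u v : G} (h : F.A u v) (hne : u ≠ v) : v ∉ F.K u := fun h1 =>
  h.nz ⟨h.left, h.right, hne, h1⟩

theorem A.orderOf_mul {u v : G} (h : F.A u v) (hne : u ≠ v) : orderOf (u * v) = 2 := by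
  apply order_two
  · calc u * v * (u * v) = u * (v * u) * v := by group
      _ = u * (u * v) * v := by rw [h.comm.eq]
      _ = (u * u) * (v * v) := by group
      _ = 1 := by
        rw [mul_self_of_order (F.ord u h.left), mul_self_of_order (F.ord v h.right), one_mul]
  · intro e
    apply hne
    have h1 : u = v⁻¹ := eq_inv_of_mul_eq_one_left e
    rw [h1, inv_eq_of_order (F.ord v h.right)]

theorem A.mul_mem {u v : G} (h : F.A u v) (hne : u ≠ v) : u * v ∈ F.D := by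
  by_cases h1 : v ∈ F.L u
  · exact (F.invol u h.left (u * v) ((F.L u).mul_mem (F.self_mem u h.left) h1)
      (h.orderOf_mul hne)).1
  · exact F.prodC u h.left v h.right h.comm h1 (h.notMem_K hne)

/-- (C2) for all pairs which are not of type (0) -/
theorem Z.mem_cmp_of_A {u s v : G} (h : F.Z u s) (ha : F.A u v) (hc : Commute v s) :
    v ∈ F.cmp s u := by
  by_cases e : u = v
  · rw [← e]; exact F.self_mem_cmp h.left h.mem (F.ord s h.right)
  · exact F.memC u h.left s h.right h.ne h.mem v ha.right ha.comm.symm hc (ha.notMem_K e)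

theorem Z.inherit_of_A {u s v : G} (h : F.Z u s) (ha : F.A u v) (hc : Commute v s) :
    F.Z v s ∧ F.cmp s v = F.cmp s u :=
  h.of_mem_cmp (h.mem_cmp_of_A ha hc) (F.ord v ha.right)

/-- (C2') -/
theorem A.of_cmp {u x a : G} (hu : u ∈ F.D) (hx : x ∈ F.K u) (hx2 : orderOf x = 2)
    (ha : a ∈ F.cmp x u) (ha2 : orderOf a = 2) (hc : Commute a u) : F.A u a := by
  refine ⟨hu, F.cmp_inv u hu x hx hx2 a ha ha2, hc.symm, fun h => ?_⟩
  exact h.ne (F.of_cmp u hu x hx hx2 a ha ha2 h.mem).symm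

variable [Finite G]

/-- `[P ∩ L u, P ∩ K u] = 1` for a 2-group `P`. -/
theorem comm_LK (F : FrameC G) {P : Subgroup G} (hP : IsPGroup 2 P) {u a b : G} (hu : u ∈ F.D)
    (ha : a ∈ F.L u) (haP : a ∈ P) (hb : b ∈ F.K u) (hbP : b ∈ P) : Commute a b :=
  IntrinsicLemmaC.comm_of_cenMod (F.L_le hu) hP ha hb haP hbP

/-- Two elements of `D` in a 2-group which do not commute: the central involution `b` of the dihedral
group they generate is in `D`, and `(u, b)`, `(v, b)` are not of type (0). -/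
theorem dd (F : FrameC G) {P : Subgroup G} (hP : IsPGroup 2 P) {u v : G} (hu : u ∈ F.D)
    (hv : v ∈ F.D) (huP : u ∈ P) (hvP : v ∈ P) (hne : ¬ Commute u v) :
    ∃ b ∈ F.D, b ∈ P ∧ F.A u b ∧ F.A v b ∧ ∀ c : G, Commute c u → Commute c v → Commute c b := by
  have hu2 := F.ord u hu
  have hv2 := F.ord v hv
  obtain ⟨w, hw⟩ : ∃ w, w = u * v := ⟨_, rfl⟩
  have hwP : w ∈ P := hw ▸ P.mul_mem huP hvP
  obtain ⟨k, hk⟩ : ∃ k, w ^ 2 ^ k = 1 := by
    obtain ⟨k, hk⟩ := hP ⟨w, hwP⟩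
    exact ⟨k, by simpa using congrArg Subtype.val hk⟩
  -- minimal exponent
  have hex : ∃ k, w ^ 2 ^ k = 1 := ⟨k, hk⟩
  classical
  obtain ⟨m, hm, hmin⟩ : ∃ m, w ^ 2 ^ m = 1 ∧ ∀ i < m, w ^ 2 ^ i ≠ 1 :=
    ⟨Nat.find hex, Nat.find_spec hex, fun i hi => Nat.find_min hex hi⟩
  have hm2 : 2 ≤ m := by
    by_contra hlt
    apply hne
    have hw2 : w ^ 2 = 1 := by
      have h3 : m = 0 ∨ m = 1 := by omega
      rcases h3 with rfl | rfl
      · rw [pow_zero, pow_one] at hm; rw [hm, one_pow]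
      · rwa [pow_one] at hm
    have h3 : w⁻¹ = w := inv_eq_of_mul_eq_one_left (by rw [← pow_two]; exact hw2)
    have h4 : (u * v)⁻¹ = v * u := by rw [mul_inv_rev, inv_eq_of_order hu2, inv_eq_of_order hv2]
    rw [hw, h4] at h3
    exact h3.symm
  obtain ⟨i, rfl⟩ : ∃ i, m = i + 2 := ⟨m - 2, by omega⟩
  obtain ⟨g, hg⟩ : ∃ g, g = w ^ 2 ^ i := ⟨_, rfl⟩
  obtain ⟨b, hb⟩ : ∃ b, b = g * g := ⟨_, rfl⟩
  have hbw : b = w ^ 2 ^ (i + 1) := by
    rw [hb, hg, ← pow_add]; congr 1; rw [pow_succ]; ring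
  have hbb : b * b = 1 := by
    rw [hbw, ← pow_add, ← hm]; congr 1; rw [pow_succ _ (i + 1)]; ring
  have hb1 : b ≠ 1 := by rw [hbw]; exact hmin _ (by omega)
  have hb2 : orderOf b = 2 := order_two hbb hb1
  have hgP : g ∈ P := hg ▸ P.pow_mem hwP _
  have hbP : b ∈ P := hb ▸ P.mul_mem hgP hgP
  obtain ⟨hgu, hgv⟩ := dihedral hu2 hv2 (2 ^ i)
  rw [← hw, ← hg, ← hb] at hgu hgv
  have hcb : ∀ c : G, Commute c u → Commute c v → Commute c b := by
    intro c h1 h2
    rw [hbw]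
    exact Commute.pow_right (hw ▸ h1.mul_right h2) _
  -- `b` commutes with `u`, `v` and `g`
  have hbi : b⁻¹ = b := inv_eq_of_order hb2
  have hbu : Commute u b := by
    have h1 : u * g * u⁻¹ = g⁻¹ := by
      have : u * w * u⁻¹ = w⁻¹ := by
        rw [hw, mul_inv_rev, inv_eq_of_order hu2, inv_eq_of_order hv2]
        calc u * (u * v) * u = (u * u) * (v * u) := by group
          _ = v * u := by rw [mul_self_of_order hu2, one_mul]
      rw [hg, ← conj_pow, this, inv_pow]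
    have h2 : u * b * u⁻¹ = b := by
      calc u * b * u⁻¹ = (u * g * u⁻¹) * (u * g * u⁻¹) := by rw [hb]; group
        _ = (g * g)⁻¹ := by rw [h1]; group
        _ = b := by rw [← hb, hbi]
    exact commute_of_conj_eq h2
  have hbv : Commute v b := by
    have h1 : v * g * v⁻¹ = g⁻¹ := by
      have : v * w * v⁻¹ = w⁻¹ := by
        rw [hw, mul_inv_rev, inv_eq_of_order hu2, inv_eq_of_order hv2]
        calc v * (u * v) * v = (v * u) * (v * v) := by group
          _ = v * u := by rw [mul_self_of_order hv2, mul_one]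
      rw [hg, ← conj_pow, this, inv_pow]
    have h2 : v * b * v⁻¹ = b := by
      calc v * b * v⁻¹ = (v * g * v⁻¹) * (v * g * v⁻¹) := by rw [hb]; group
        _ = (g * g)⁻¹ := by rw [h1]; group
        _ = b := by rw [← hb, hbi]
    exact commute_of_conj_eq h2
  have hgb : Commute g b := by
    rw [hb]; exact (Commute.refl g).mul_right (Commute.refl g)
  have hubD : u * b ∈ F.D := by
    have := F.conj u hu g⁻¹
    rw [inv_inv, hgu] at this
    exact this
  have hvbD : v * b ∈ F.D := by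
    have := F.conj v hv g⁻¹
    rw [inv_inv, hgv] at this
    exact this
  have hub : u ≠ u * b := by
    intro h; exact hb1 (mul_left_cancel (h.symm.trans (mul_one u).symm))
  have hvb : v ≠ v * b := by
    intro h; exact hb1 (mul_left_cancel (h.symm.trans (mul_one v).symm))
  have hcu : Commute u (u * b) := (Commute.refl u).mul_right hbu
  have hcv : Commute v (v * b) := (Commute.refl v).mul_right hbv
  have eu : u * (u * b) = b := by rw [← mul_assoc, mul_self_of_order hu2, one_mul]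
  have ev : v * (v * b) = b := by rw [← mul_assoc, mul_self_of_order hv2, one_mul]
  have key : ∀ x : G, x ∈ F.D → x * b ∈ F.D → b ∈ F.D → Commute x b → F.A x b := by
    intro x hx hxb hb hc
    refine ⟨hx, hb, hc, fun hz => ?_⟩
    exact F.prod x hx b hb hz.ne hz.mem hxb
  rcases F.A_or_Z hu hubD hcu with h1 | h1
  · have hbD : b ∈ F.D := eu ▸ h1.mul_mem hub
    exact ⟨b, hbD, hbP, key u hu hubD hbD hbu, key v hv hvbD hbD hbv, hcb⟩
  · have hbD : b ∉ F.D := eu ▸ F.prod u hu _ hubD hub h1.mem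
    rcases F.A_or_Z hv hvbD hcv with h2 | h2
    · exact absurd (ev ▸ h2.mul_mem hvb) hbD
    · exfalso
      have hbKu : b ∈ F.K u := by
        have := (F.K u).mul_mem (F.self_mem_K hu) h1.mem
        rwa [eu] at this
      have hbKv : b ∈ F.K v := by
        have := (F.K v).mul_mem (F.self_mem_K hv) h2.mem
        rwa [ev] at this
      have hbKub : b ∈ F.K (u * b) := by
        have := (F.K (u * b)).mul_mem h1.K_right (F.self_mem_K hubD)
        rwa [eu] at this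
      have hMu := F.cmp_comp u hu b hbKu hb2
      have hMv := F.cmp_comp v hv b hbKv hb2
      have hun : u ∈ normalizer (F.cmp b u : Set G) :=
        le_normalizer (F.self_mem_cmp hu hbKu hb2)
      have hvn : v ∈ normalizer (F.cmp b u : Set G) :=
        normalizes hMu hMv (F.self_mem_cmp hv hbKv hb2)
      have hgn : g⁻¹ ∈ normalizer (F.cmp b u : Set G) := by
        rw [hg, hw]
        exact inv_mem (pow_mem (mul_mem hun hvn) _)
      have h3 := F.cmp_conj u hu b hbKu hb2 g⁻¹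
      rw [inv_inv, hgu, mem_normalizer_iff_cj.mp hgn] at h3
      have h4 : g⁻¹ * b * g = b := by
        rw [mul_assoc, ← hgb.eq, inv_mul_cancel_left]
      rw [h4] at h3
      exact h1.cmp_ne hb2 hbKu hbKub h3.symm

/-- (cV): if `(v, b)` is not of type (0), `(v, s)` is of type (0) and `b, s` are in a 2-group then `b, s`
commute. -/
theorem A.commute_of_Z {P : Subgroup G} (hP : IsPGroup 2 P) {v b s : G} (hb : b ∈ P) (hs : s ∈ P)
    (ha : F.A v b) (hz : F.Z v s) : Commute b s := by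
  by_contra hne
  obtain ⟨c, _, _, hbc, hsc, hall⟩ := F.dd hP ha.right hz.right hb hs hne
  have hvc : Commute v c := hall v ha.comm hz.comm
  have h1 := (hz.symm.inherit_of_A hsc hvc.symm).1
  have h2 := (h1.inherit_of_A hbc.symm ha.comm.symm).1
  exact ha.nz h2.symm

/-- `(b, s)` is of type (0) and `M_s(L_b) = M_s(L_v) ∋ b` -/
theorem A.zz {P : Subgroup G} (hP : IsPGroup 2 P) {v b s : G} (hb : b ∈ P) (hs : s ∈ P)
    (ha : F.A v b) (hz : F.Z v s) : F.Z b s ∧ F.cmp s b = F.cmp s v ∧ b ∈ F.cmp s v := by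
  have hc := ha.commute_of_Z hP hb hs hz
  obtain ⟨h1, h2⟩ := hz.inherit_of_A ha hc
  exact ⟨h1, h2, hz.mem_cmp_of_A ha hc⟩

/-- (C5): commuting `s, j` of type (0) with `u`: `j` centralizes `M_s(L_u)` modulo core. -/
theorem Z.cen {u s j : G} (h : F.Z u s) (h' : F.Z u j) (hc : Commute s j) :
    j ∈ cenMod (Ce s) (F.cmp s u) :=
  F.cen5 u h.left s h.right h.ne h.mem j h'.right h'.ne h'.mem hc

end FrameC

end Cfsg.Agent.UGT.I34.WOneC
end

-- part: UGT/I34/WOneC/Ind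
section
set_option linter.all false
open scoped Cfsg.Agent.FastGrp

/-!
Independent lists (pairwise of type (0)) in a `FrameC`.
-/

set_option autoImplicit false
set_option linter.unusedSectionVars false

namespace Cfsg.Agent.UGT.I34.WOneC

open Subgroup Cfsg
open Cfsg.Agent.SignalizersComponents
open Cfsg.Agent.SignalizersComponents.PLayerAut
open Cfsg.Agent.SignalizersComponents.IntrinsicBasic
open Cfsg.Agent.SignalizersComponents.RelSylow
open Cfsg.Agent.Intrinsic.WOneA (Ce OC mem_Ce mul_self_of_order ne_one_of_order order_two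
  inv_eq_of_order pow_of_order orderOf_cj conj_eq_of_commute commute_of_conj_eq normalizes dihedral
  lcj mem_lcj length_lcj prod_lcj commute_prod lset)

namespace FrameC

variable {G : Type*} [Group G] {F : FrameC G}

variable (F) in
/-- independent lists: pairwise of type (0) -/
structure Ind (J : List G) : Prop where
  mem : ∀ j ∈ J, j ∈ F.D
  pw : J.Pairwise F.Z

theorem Ind.z {J : List G} (h : F.Ind J) {i j : G} (hi : i ∈ J) (hj : j ∈ J) (hne : i ≠ j) :
    F.Z i j := by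
  have : Std.Symm F.Z := ⟨fun _ _ hz => hz.symm⟩
  exact h.pw.forall hi hj hne

theorem Ind.comm {J : List G} (h : F.Ind J) {i j : G} (hi : i ∈ J) (hj : j ∈ J) :
    Commute i j := by
  by_cases e : i = j
  · rw [e]
  · exact (h.z hi hj e).comm

theorem Ind.nodup {J : List G} (h : F.Ind J) : J.Nodup :=
  h.pw.imp fun hz => hz.ne

theorem Ind.cons {J : List G} {a : G} (h : F.Ind J) (ha : a ∈ F.D) (hz : ∀ j ∈ J, F.Z a j) :
    F.Ind (a :: J) :=
  ⟨by
    intro j hj
    rcases List.mem_cons.mp hj with rfl | hj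
    · exact ha
    · exact h.mem j hj, List.pairwise_cons.mpr ⟨hz, h.pw⟩⟩

theorem Ind.of_cons {J : List G} {a : G} (h : F.Ind (a :: J)) :
    a ∈ F.D ∧ (∀ j ∈ J, F.Z a j) ∧ F.Ind J :=
  ⟨h.mem a (by simp), (List.pairwise_cons.mp h.pw).1,
    ⟨fun j hj => h.mem j (by simp [hj]), (List.pairwise_cons.mp h.pw).2⟩⟩

theorem Ind.perm {J J' : List G} (h : F.Ind J) (hp : J.Perm J') : F.Ind J' :=
  ⟨fun j hj => h.mem j (hp.mem_iff.mpr hj), (hp.pairwise_iff fun {_ _} hz => hz.symm).mp h.pw⟩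

theorem Ind.cj {J : List G} (h : F.Ind J) (g : G) : F.Ind (lcj g J) := by
  refine ⟨?_, ?_⟩
  · intro x hx
    obtain ⟨j, hj, rfl⟩ := mem_lcj.mp hx
    exact F.conj j (h.mem j hj) g
  · unfold lcj
    rw [List.pairwise_map]
    exact h.pw.imp fun hz => hz.conj g

theorem Ind.sq {J : List G} (h : F.Ind J) : J.prod * J.prod = 1 := by
  induction J with
  | nil => simp
  | cons a J ih =>
    obtain ⟨ha, hz, hJ⟩ := h.of_cons
    have hc : Commute a J.prod := commute_prod fun j hj => (hz j hj).comm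
    rw [List.prod_cons]
    calc a * J.prod * (a * J.prod) = a * (J.prod * a) * J.prod := by group
      _ = a * (a * J.prod) * J.prod := by rw [hc.eq]
      _ = (a * a) * (J.prod * J.prod) := by group
      _ = 1 := by rw [mul_self_of_order (F.ord a ha), ih hJ, one_mul]

theorem Ind.commute_prod {J : List G} (h : F.Ind J) {j : G} (hj : j ∈ J) : Commute j J.prod :=
  Cfsg.Agent.Intrinsic.WOneA.commute_prod fun _ hi => h.comm hj hi

/-- `∏ J ∈ K_j` for `j ∈ J` -/
theorem Ind.prod_K {J : List G} (h : F.Ind J) {j : G} (hj : j ∈ J) : J.prod ∈ F.K j := by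
  apply list_prod_mem
  intro i hi
  by_cases e : i = j
  · rw [e]; exact F.self_mem_K (h.mem j hj)
  · exact (h.z hj hi (Ne.symm e)).mem

theorem Ind.closure_pgroup {J : List G} (h : F.Ind J) : IsPGroup 2 (closure (lset J)) :=
  Cfsg.Agent.Intrinsic.WOneA.closure_pgroup (fun j hj => mul_self_of_order (F.ord j (h.mem j hj)))
    fun _ hi _ hj => h.comm hi hj

/-- splitting off one member -/
theorem Ind.erase {J : List G} (h : F.Ind J) {j : G} (hj : j ∈ J) :
    ∃ J', F.Ind (j :: J') ∧ J.Perm (j :: J') ∧ J.prod = j * J'.prod := by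
  classical
  refine ⟨J.erase j, h.perm (List.perm_cons_erase hj), List.perm_cons_erase hj, ?_⟩
  rw [← List.prod_cons]
  apply (List.perm_cons_erase hj).prod_eq'
  exact h.pw.imp fun hz => hz.comm

variable [Finite G]

/-- a list `J ≠ []`, `J` independent: its product is an involution -/
theorem Ind.orderOf_prod {J : List G} (h : F.Ind J) (hne : J ≠ []) : orderOf J.prod = 2 := by
  apply order_two h.sq
  intro e
  obtain ⟨a, J', rfl⟩ := List.exists_cons_of_ne_nil hne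
  obtain ⟨ha, hz, hJ'⟩ := h.of_cons
  obtain ⟨t, htL, ht2, htne, htc⟩ := F.exists_inv a ha (closure (lset J')) hJ'.closure_pgroup (by
    rw [closure_le]; intro j hj; exact (hz j hj).mem)
  have hK : J'.prod ∈ F.K t := by
    apply list_prod_mem
    intro j hj
    exact ((hz j hj).inherit htL ht2 (htc j (subset_closure hj))).1.mem
  rw [List.prod_cons] at e
  have e1 : a = (J'.prod)⁻¹ := eq_inv_of_mul_eq_one_left e
  obtain ⟨htD, hat⟩ := F.invol a ha t htL ht2
  have haK : a ∈ F.K t := e1 ▸ inv_mem hK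
  exact htne (F.inf_eq t htD a hat (F.ord a ha) haK).symm

variable (F) in
theorem exists_max (J₀ : List G) (h₀ : F.Ind J₀) :
    ∃ V, F.Ind V ∧ J₀.length ≤ V.length ∧ ∀ J, F.Ind J → J.length ≤ V.length := by
  classical
  have hb : ∀ J, F.Ind J → J.length ≤ Nat.card G := by
    intro J hJ
    have : Fintype G := Fintype.ofFinite G
    rw [Nat.card_eq_fintype_card]
    exact hJ.nodup.length_le_card
  let P : ℕ → Prop := fun n => ∃ J, F.Ind J ∧ J.length = n
  have hP : P (Nat.findGreatest P (Nat.card G)) :=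
    Nat.findGreatest_spec (P := P) (hb J₀ h₀) ⟨J₀, h₀, rfl⟩
  obtain ⟨V, hV, hVl⟩ := hP
  refine ⟨V, hV, ?_, fun J hJ => ?_⟩
  · rw [hVl]; exact Nat.le_findGreatest (hb J₀ h₀) ⟨J₀, h₀, rfl⟩
  · rw [hVl]; exact Nat.le_findGreatest (hb J hJ) ⟨J, hJ, rfl⟩

end FrameC

end Cfsg.Agent.UGT.I34.WOneC
end

-- part: UGT/I34/WOneC/Block
section
set_option linter.all false
open scoped Cfsg.Agent.FastGrp

/-!
`D ∩ T` for a Sylow 2-subgroup `T` (5b.3 in a `FrameC`).
-/

set_option autoImplicit false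
set_option linter.unusedSectionVars false

namespace Cfsg.Agent.UGT.I34.WOneC

open Subgroup Cfsg
open Cfsg.Agent.SignalizersComponents
open Cfsg.Agent.SignalizersComponents.PLayerAut
open Cfsg.Agent.SignalizersComponents.IntrinsicBasic
open Cfsg.Agent.SignalizersComponents.RelSylow
open Cfsg.Agent.Intrinsic.WOneA (Ce OC mem_Ce mul_self_of_order ne_one_of_order order_two
  inv_eq_of_order pow_of_order orderOf_cj conj_eq_of_commute commute_of_conj_eq normalizes dihedral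
  lcj mem_lcj length_lcj prod_lcj commute_prod lset isMaxP_of_card IsMaxP.card_le card_cj
  IsMaxP.inf_of_normalizes mem_sup_of_normalizes exists_commuting_conj)

namespace FrameC

variable {G : Type*} [Group G] [Finite G] {F : FrameC G}

theorem two_pow_of_mem {P : Subgroup G} (hP : IsPGroup 2 P) {x : G} (hx : x ∈ P) :
    ∃ n : ℕ, x ^ 2 ^ n = 1 := by
  obtain ⟨k, hk⟩ := hP ⟨x, hx⟩
  exact ⟨k, by simpa using congrArg Subtype.val hk⟩

/-- a 2-subgroup `R` of the big component `M_s(L_u)` has a conjugate centralizing `u` -/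
theorem Z.exists_conj_le {u s : G} (h : F.Z u s) {R : Subgroup G} (hR : IsPGroup 2 R)
    (hRM : R ≤ F.cmp s u) : ∃ g ∈ F.cmp s u, cj g R ≤ Ce u := by
  by_cases hbot : Nat.card R = 1
  · refine ⟨1, one_mem _, ?_⟩
    have : R = ⊥ := Subgroup.card_eq_one.mp hbot
    rw [this, cj_def, Subgroup.map_bot]
    exact bot_le
  -- a central involution of `R`
  have h2 : Fact (Nat.Prime 2) := ⟨Nat.prime_two⟩
  have hnt : Nontrivial R := (Finite.one_lt_card_iff_nontrivial).mp (by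
    have := Nat.card_pos (α := R); omega)
  have hcn : Nontrivial (center R) := hR.center_nontrivial
  have hcp : IsPGroup 2 (center R) := hR.to_subgroup _
  obtain ⟨n, hn⟩ := (hcp.nontrivial_iff_card).mp hcn
  have hdvd : 2 ∣ Nat.card (center R) := by
    rw [hn.2]; exact dvd_pow_self 2 hn.1.ne'
  obtain ⟨y, hy⟩ := exists_prime_orderOf_dvd_card' 2 hdvd
  have hy2 : orderOf ((y : R) : G) = 2 := by
    rw [Subgroup.orderOf_coe, Subgroup.orderOf_coe]; exact hy
  have hyM : ((y : R) : G) ∈ F.cmp s u := hRM y.1.2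
  obtain ⟨g, hg, hgy⟩ := F.big u h.left s h.right h.ne h.mem _ hyM hy2
  have hcent : ∀ r ∈ R, Commute r ((y : R) : G) := by
    intro r hr
    have := mem_center_iff.mp y.2 ⟨r, hr⟩
    exact congrArg Subtype.val this
  refine ⟨g⁻¹, inv_mem hg, fun x hx => ?_⟩
  have hxR : g * x * g⁻¹ ∈ R := by
    rw [mem_cj, inv_inv] at hx; exact hx
  rw [mem_Ce]
  have h5 := hcent _ hxR
  rw [← hgy] at h5
  have h6 : g * (x * u) * g⁻¹ = g * (u * x) * g⁻¹ := by
    calc g * (x * u) * g⁻¹ = (g * x * g⁻¹) * (g * u * g⁻¹) := by group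
      _ = (g * u * g⁻¹) * (g * x * g⁻¹) := h5.eq
      _ = g * (u * x) * g⁻¹ := by group
  exact mul_left_cancel (mul_right_cancel h6)

/-- the block structure of `D ∩ T` -/
structure Block (F : FrameC G) (T : Subgroup G) (V : List G) : Prop where
  ind : F.Ind V
  two : 2 ≤ V.length
  max : ∀ J, F.Ind J → J.length ≤ V.length
  pg : IsPGroup 2 T
  mem : ∀ v ∈ V, v ∈ T
  syl : ∀ v ∈ V, IsMaxP 2 (F.L v) (T ⊓ F.L v)
  sylB : ∀ v ∈ V, ∀ s ∈ V, v ≠ s → IsMaxP 2 (F.cmp s v) (T ⊓ F.cmp s v)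
  cenB : ∀ v ∈ V, ∀ s ∈ V, v ≠ s → ∀ a ∈ T, a ∈ F.cmp s v → ∀ v' ∈ V, Commute a v'
  cov : ∀ w ∈ F.D, w ∈ T → ∃ v ∈ V, F.A v w

theorem exists_other_of_two {V : List G} (hnd : V.Nodup) (h2 : 2 ≤ V.length) (v : G) :
    ∃ s ∈ V, s ≠ v := by
  by_contra hcon
  push Not at hcon
  have h3 : ∀ x ∈ V, x = v := hcon
  have h4 : V.length ≤ 1 := by
    match V, hnd, h3 with
    | [], _, _ => simp
    | [a], _, _ => simp
    | a :: b :: V', hnd, h5 =>
      exfalso
      have e1 := h5 a (by simp)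
      have e2 := h5 b (by simp)
      rw [e1, e2] at hnd
      simp at hnd
  omega

theorem exists_block {u s : G} (h : F.Z u s) : ∃ (T : Sylow 2 G) (V : List G),
    Block F (T : Subgroup G) V := by
  have h2 : Fact (Nat.Prime 2) := ⟨Nat.prime_two⟩
  have h0 : F.Ind [u, s] :=
    (Ind.cons (J := [s]) (Ind.cons (J := []) ⟨by simp, List.Pairwise.nil⟩ h.right (by simp)) h.left
      (by simpa using h))
  obtain ⟨V, hV, hlen, hmax⟩ := F.exists_max [u, s] h0
  have hlen2 : 2 ≤ V.length := by simpa using hlen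
  have hWC : closure (lset V) ≤ centralizer (lset V) := by
    rw [closure_le]
    intro i hi
    rw [SetLike.mem_coe, mem_centralizer_iff]
    intro j hj
    exact (hV.comm hj hi).eq
  obtain ⟨S, hS, hWS⟩ := exists_isMaxP (p := 2) hV.closure_pgroup hWC
  obtain ⟨T, hST⟩ := hS.1.exists_le_sylow
  have hmem : ∀ v ∈ V, v ∈ (T : Subgroup G) := fun v hv => hST (hWS (subset_closure hv))
  have hTC : ∀ a ∈ (T : Subgroup G), (∀ v ∈ V, Commute a v) → a ∈ S := by
    intro a ha hc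
    have h3 := hS.2.2 ((T : Subgroup G) ⊓ centralizer (lset V)) (T.2.to_le inf_le_left)
      inf_le_right (le_inf hST hS.2.1)
    refine h3 (mem_inf.mpr ⟨ha, mem_centralizer_iff.mpr fun v hv => ?_⟩)
    exact (hc v hv).eq.symm
  have key1 : ∀ v ∈ V, ∀ a ∈ (T : Subgroup G), a ∈ F.L v → ∀ v' ∈ V, Commute a v' := by
    intro v hv a haT haL v' hv'
    by_cases e : v' = v
    · rw [e]; exact mem_Ce.mp (F.L_le (hV.mem v hv) haL)
    · exact F.comm_LK T.2 (hV.mem v hv) haL haT (hV.z hv hv' (Ne.symm e)).mem (hmem v' hv')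
  have hOn : ∀ x : G, Ce x ≤ normalizer (OC x : Set G) := fun x =>
    le_normalizer.trans (normalizer_le_normalizer_relCore 2 _)
  have hCn : ∀ v ∈ V, centralizer (lset V) ≤ normalizer (F.L v : Set G) := by
    intro v hv c hc
    rw [mem_normalizer_iff_cj, ← F.L_conj v (hV.mem v hv)]
    congr 1
    exact conj_eq_of_commute (mem_centralizer_iff.mp hc v hv).symm
  have hCB : ∀ v ∈ V, ∀ s ∈ V, v ≠ s → centralizer (lset V) ≤ normalizer (F.cmp s v : Set G) := by
    intro v hv s hs hvs c hc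
    have hz := hV.z hv hs hvs
    rw [mem_normalizer_iff_cj]
    have e1 : c * v * c⁻¹ = v := conj_eq_of_commute (mem_centralizer_iff.mp hc v hv).symm
    have e2 : c * s * c⁻¹ = s := conj_eq_of_commute (mem_centralizer_iff.mp hc s hs).symm
    have h3 := F.cmp_conj v hz.left s hz.mem (F.ord s hz.right) c
    rw [e1, e2] at h3
    exact h3.symm
  have hinf : ∀ X : Subgroup G, centralizer (lset V) ≤ normalizer (X : Set G) →
      centralizer (lset V) ≤ normalizer ((X ⊓ centralizer (lset V) : Subgroup G) : Set G) := by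
    intro X hX c hc
    rw [mem_normalizer_iff_cj]
    have hcv := hX hc
    have hcc : c ∈ normalizer ((centralizer (lset V) : Subgroup G) : Set G) := le_normalizer hc
    rw [mem_normalizer_iff_cj] at hcv hcc
    ext x
    rw [mem_cj, mem_inf, mem_inf]
    rw [← mem_cj, ← mem_cj, hcv, hcc]
  -- the Sylow subgroups of `L v`
  have key2 : ∀ v ∈ V, IsMaxP 2 (F.L v) ((T : Subgroup G) ⊓ F.L v) := by
    intro v hv
    have hvD := hV.mem v hv
    have hTS : (T : Subgroup G) ⊓ F.L v = S ⊓ (F.L v ⊓ centralizer (lset V)) := by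
      ext a
      constructor
      · rintro ⟨h3, h4⟩
        have h5 := hTC a h3 (key1 v hv a h3 h4)
        exact ⟨h5, h4, hS.2.1 h5⟩
      · rintro ⟨h3, h4, _⟩
        exact ⟨hST h3, h4⟩
    have hmx := IsMaxP.inf_of_normalizes hS inf_le_right (hinf _ (hCn v hv))
    rw [hTS]
    refine isMaxP_of_card hmx.1 (hmx.2.1.trans inf_le_left) fun R hR hRL => ?_
    have hLn : F.L v ≤ normalizer (OC v : Set G) := (F.L_le hvD).trans (hOn v)
    have hKW : closure (lset V) ≤ F.K v := by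
      rw [closure_le]
      intro v' hv'
      by_cases e : v' = v
      · rw [e]; exact F.self_mem_K hvD
      · exact (hV.z hv hv' (Ne.symm e)).mem
    obtain ⟨y, hy, hyc⟩ := exists_commuting_conj (odd_card_relCore (Ce v)) hR hV.closure_pgroup
      (hRL.trans hLn) ((hKW.trans (F.K_le v)).trans (hOn v))
      (fun r hr w hw => ((F.mem_K hvD).mp (hKW hw)).2 r (hRL hr))
    have hyn : y ∈ normalizer (F.L v : Set G) := by
      refine (sup_le ?_ ?_ : R ⊔ OC v ≤ normalizer (F.L v : Set G)) hy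
      · exact hRL.trans le_normalizer
      · exact (F.L_comp v hvD).relCore_le_normalizer
    rw [← card_cj y R]
    refine IsMaxP.card_le hmx (hR.map _) (le_inf ?_ ?_)
    · have h3 := cj_mono (g := y) hRL
      rwa [mem_normalizer_iff_cj.mp hyn] at h3
    · intro r hr
      rw [mem_centralizer_iff]
      intro v' hv'
      exact (hyc r hr v' (subset_closure hv')).eq.symm
  -- the Sylow subgroups of `M_s(L_v)`
  have key3 : ∀ v ∈ V, ∀ s ∈ V, v ≠ s →
      IsMaxP 2 (F.cmp s v) ((T : Subgroup G) ⊓ F.cmp s v) ∧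
      ∀ a ∈ (T : Subgroup G), a ∈ F.cmp s v → ∀ v' ∈ V, Commute a v' := by
    intro v hv s hs hvs
    have hz := hV.z hv hs hvs
    have hmx := IsMaxP.inf_of_normalizes hS inf_le_right (hinf _ (hCB v hv s hs hvs))
    have hcomp := F.cmp_comp v hz.left s hz.mem (F.ord s hz.right)
    have hmx2 : IsMaxP 2 (F.cmp s v) (S ⊓ (F.cmp s v ⊓ centralizer (lset V))) := by
      refine isMaxP_of_card hmx.1 (hmx.2.1.trans inf_le_left) fun R₀ hR₀ hR₀M => ?_
      obtain ⟨g, hg, hgR⟩ := hz.exists_conj_le hR₀ hR₀M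
      obtain ⟨R, hRe⟩ : ∃ R, R = cj g R₀ := ⟨_, rfl⟩
      rw [← hRe] at hgR
      have hR : IsPGroup 2 R := hRe ▸ hR₀.map _
      have hRM : R ≤ F.cmp s v := by
        rw [hRe]
        have h3 := cj_mono (g := g) hR₀M
        rwa [cj_eq_self_of_mem hg] at h3
      rw [← card_cj g R₀, ← hRe]
      have hRC : R ≤ Ce s := hRM.trans hcomp.le
      have hWR : closure (lset V) ≤ cenMod (Ce s) R := by
        rw [closure_le]
        intro v' hv'
        rw [SetLike.mem_coe, mem_cenMod hRC]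
        have hv's : v' ∈ Ce s := mem_Ce.mpr (hV.comm hv' hs)
        refine ⟨hv's, fun r hr => ?_⟩
        by_cases e1 : v' = s
        · subst e1
          rw [conj_eq_of_commute (mem_Ce.mp (hRC hr)).symm, inv_mul_cancel]
          exact one_mem _
        · by_cases e2 : v' = v
          · subst e2
            rw [conj_eq_of_commute (mem_Ce.mp (hgR hr)).symm, inv_mul_cancel]
            exact one_mem _
          · have h3 := hz.cen (hV.z hv hv' (Ne.symm e2)) (hV.comm hs hv')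
            exact ((mem_cenMod hcomp.le).mp h3).2 r (hRM hr)
      obtain ⟨y, hy, hyc⟩ := exists_commuting_conj (odd_card_relCore (Ce s)) hR hV.closure_pgroup
        (hRC.trans (hOn s)) ((hWR.trans (cenMod_le _ _)).trans (hOn s))
        (fun r hr w hw => ((mem_cenMod hRC).mp (hWR hw)).2 r hr)
      have hyn : y ∈ normalizer (F.cmp s v : Set G) := by
        refine (sup_le ?_ ?_ : R ⊔ OC s ≤ normalizer (F.cmp s v : Set G)) hy
        · exact hRM.trans le_normalizer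
        · exact hcomp.relCore_le_normalizer
      rw [← card_cj y R]
      refine IsMaxP.card_le hmx (hR.map _) (le_inf ?_ ?_)
      · have h3 := cj_mono (g := y) hRM
        rwa [mem_normalizer_iff_cj.mp hyn] at h3
      · intro r hr
        rw [mem_centralizer_iff]
        intro v' hv'
        exact (hyc r hr v' (subset_closure hv')).eq.symm
    have hle : (T : Subgroup G) ⊓ F.cmp s v ≤ S ⊓ (F.cmp s v ⊓ centralizer (lset V)) :=
      hmx2.2.2 _ (T.2.to_le inf_le_left) inf_le_right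
        (le_inf (inf_le_left.trans hST) (inf_le_right.trans inf_le_left))
    have heq : (T : Subgroup G) ⊓ F.cmp s v = S ⊓ (F.cmp s v ⊓ centralizer (lset V)) :=
      le_antisymm hle (le_inf (inf_le_left.trans hST) (inf_le_right.trans inf_le_left))
    refine ⟨heq ▸ hmx2, fun a haT haM v' hv' => ?_⟩
    have h3 := (hle ⟨haT, haM⟩).2.2
    exact (mem_centralizer_iff.mp h3 v' hv').symm
  refine ⟨T, V, hV, hlen2, hmax, T.2, hmem, key2, fun v hv s hs hvs => (key3 v hv s hs hvs).1,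
    fun v hv s hs hvs => (key3 v hv s hs hvs).2, fun w hwD hwT => ?_⟩
  -- `w` commutes with `V`
  have hcomm : ∀ v ∈ V, Commute w v := by
    intro v hv
    by_contra hne
    have hvD := hV.mem v hv
    obtain ⟨b, hbD, hbT, hbw, hbv, -⟩ := F.dd T.2 hwD hvD hwT (hmem v hv) hne
    obtain ⟨s, hsV, hsv⟩ := exists_other_of_two hV.nodup hlen2 v
    have hz := hV.z hv hsV (Ne.symm hsv)
    obtain ⟨hzb, hcmp, -⟩ := hbv.zz T.2 hbT (hmem s hsV) hz
    obtain ⟨-, -, hwM⟩ := hbw.symm.zz T.2 hwT (hmem s hsV) hzb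
    rw [hcmp] at hwM
    exact hne ((key3 v hv s hsV (Ne.symm hsv)).2 w hwT hwM v hv)
  by_contra hcon
  push Not at hcon
  have hz : ∀ v ∈ V, F.Z w v := by
    intro v hv
    rcases F.A_or_Z (hV.mem v hv) hwD (hcomm v hv).symm with h3 | h3
    · exact absurd h3 (hcon v hv)
    · exact h3.symm
  have h3 := hmax (w :: V) (hV.cons hwD hz)
  rw [List.length_cons] at h3
  omega

theorem Block.cj {T : Subgroup G} {V : List G} (h : Block F T V) (g : G) :
    Block F (cj g T) (lcj g V) := by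
  have hinf : ∀ X : Subgroup G, IntrinsicBasic.cj g T ⊓ IntrinsicBasic.cj g X =
      IntrinsicBasic.cj g (T ⊓ X) := by
    intro X; ext y; rw [mem_inf, mem_cj, mem_cj, mem_cj, mem_inf]
  have hcmp : ∀ v ∈ V, ∀ s ∈ V, v ≠ s →
      F.cmp (g * s * g⁻¹) (g * v * g⁻¹) = IntrinsicBasic.cj g (F.cmp s v) := by
    intro v hv s hs hvs
    have hz := h.ind.z hv hs hvs
    exact F.cmp_conj v hz.left s hz.mem (F.ord s hz.right) g
  refine ⟨h.ind.cj g, by rw [length_lcj]; exact h.two, fun J hJ => ?_, h.pg.map _, ?_, ?_, ?_, ?_, ?_⟩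
  · rw [length_lcj]; exact h.max J hJ
  · intro x hx
    obtain ⟨v, hv, rfl⟩ := mem_lcj.mp hx
    exact conj_mem_cj (h.mem v hv)
  · intro x hx
    obtain ⟨v, hv, rfl⟩ := mem_lcj.mp hx
    rw [F.L_conj v (h.ind.mem v hv), hinf]
    exact (h.syl v hv).map_conj g
  · intro x hx y hy hxy
    obtain ⟨v, hv, rfl⟩ := mem_lcj.mp hx
    obtain ⟨s, hs, rfl⟩ := mem_lcj.mp hy
    have hvs : v ≠ s := by rintro rfl; exact hxy rfl
    rw [hcmp v hv s hs hvs, hinf]
    exact (h.sylB v hv s hs hvs).map_conj g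
  · intro x hx y hy hxy a ha ha' v' hv'
    obtain ⟨v, hv, rfl⟩ := mem_lcj.mp hx
    obtain ⟨s, hs, rfl⟩ := mem_lcj.mp hy
    obtain ⟨w, hw, rfl⟩ := mem_lcj.mp hv'
    have hvs : v ≠ s := by rintro rfl; exact hxy rfl
    rw [hcmp v hv s hs hvs, mem_cj] at ha'
    rw [mem_cj] at ha
    have h3 := h.cenB v hv s hs hvs _ ha ha' w hw
    have h4 : Commute (g * (g⁻¹ * a * g) * g⁻¹) (g * w * g⁻¹) :=
      (Commute.map h3 (MulAut.conj g).toMonoidHom : _)
    have e : g * (g⁻¹ * a * g) * g⁻¹ = a := by group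
    rwa [e] at h4
  · intro w hw hwT
    rw [mem_cj] at hwT
    have h3 := F.conj w hw g⁻¹
    rw [inv_inv] at h3
    obtain ⟨v, hv, hwv⟩ := h.cov _ h3 hwT
    refine ⟨g * v * g⁻¹, mem_lcj.mpr ⟨v, hv, rfl⟩, ?_⟩
    have h4 := hwv.conj g
    have e : g * (g⁻¹ * w * g) * g⁻¹ = w := by group
    rwa [e] at h4

theorem exists_block_of_sylow {u s : G} (h : F.Z u s) (T : Sylow 2 G) :
    ∃ V : List G, Block F (T : Subgroup G) V := by
  have h2 : Fact (Nat.Prime 2) := ⟨Nat.prime_two⟩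
  obtain ⟨T₀, V, hV⟩ := exists_block h
  obtain ⟨g, hg⟩ := MulAction.exists_smul_eq G T₀ T
  refine ⟨lcj g V, ?_⟩
  have e : (T : Subgroup G) = IntrinsicBasic.cj g (T₀ : Subgroup G) := by
    rw [← hg]; rfl
  rw [e]
  exact hV.cj g

end FrameC

end Cfsg.Agent.UGT.I34.WOneC
end

-- part: UGT/I34/WOneC/Fusion
section
set_option linter.all false
open scoped Cfsg.Agent.FastGrp

/-!
Fusion of products of independent sets (5b.4 in a `FrameC`).
-/

set_option autoImplicit false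
set_option linter.unusedSectionVars false

namespace Cfsg.Agent.UGT.I34.WOneC

open Subgroup Cfsg
open Cfsg.Agent.SignalizersComponents
open Cfsg.Agent.SignalizersComponents.PLayerAut
open Cfsg.Agent.SignalizersComponents.IntrinsicBasic
open Cfsg.Agent.SignalizersComponents.RelSylow
open Cfsg.Agent.Intrinsic.WOneA (Ce OC mem_Ce mul_self_of_order ne_one_of_order order_two
  inv_eq_of_order pow_of_order orderOf_cj conj_eq_of_commute commute_of_conj_eq normalizes dihedral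
  lcj mem_lcj length_lcj prod_lcj commute_prod lset isMaxP_of_card IsMaxP.card_le card_cj
  IsMaxP.inf_of_normalizes mem_sup_of_normalizes exists_commuting_conj)

namespace FrameC

variable {G : Type*} [Group G] [Finite G] {F : FrameC G} {T : Subgroup G} {V : List G}

namespace Block

theorem exists_other (hB : Block F T V) (v : G) : ∃ s ∈ V, s ≠ v :=
  exists_other_of_two hB.ind.nodup hB.two v

theorem commA (hB : Block F T V) {v w v' : G} (hv : v ∈ V) (hwT : w ∈ T) (hw : F.A v w)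
    (hv' : v' ∈ V) : Commute w v' := by
  by_cases e : v' = v
  · rw [e]; exact hw.comm.symm
  · exact hw.commute_of_Z hB.pg hwT (hB.mem v' hv') (hB.ind.z hv hv' (Ne.symm e))

/-- elements of `D ∩ T` in different blocks form a pair of type (0) -/
theorem diff (hB : Block F T V) {v v' w w' : G} (hv : v ∈ V) (hv' : v' ∈ V) (hne : v ≠ v')
    (hwT : w ∈ T) (hwv : F.A v w) (hwT' : w' ∈ T) (hwv' : F.A v' w') : F.Z w w' := by
  have h1 := (hwv.zz hB.pg hwT (hB.mem v' hv') (hB.ind.z hv hv' hne)).1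
  exact (hwv'.zz hB.pg hwT' hwT h1.symm).1.symm

theorem same (hB : Block F T V) {v w w' : G} (hv : v ∈ V) (hwT : w ∈ T) (hwv : F.A v w)
    (hwT' : w' ∈ T) (hwv' : F.A v w') (hc : Commute w w') : F.A w w' := by
  obtain ⟨s, hs, hsv⟩ := hB.exists_other v
  have hz := hB.ind.z hv hs (Ne.symm hsv)
  obtain ⟨h1, h2, -⟩ := hwv.zz hB.pg hwT (hB.mem s hs) hz
  obtain ⟨-, -, h3⟩ := hwv'.zz hB.pg hwT' (hB.mem s hs) hz
  rw [← h2] at h3
  exact A.of_cmp hwv.right h1.mem (F.ord s h1.right) h3 (F.ord w' hwv'.right) hc.symm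

/-- an element `w` of the block of `v` which is centralized by a Sylow 2-subgroup of `L v` is `v` -/
theorem eq_of_A (hB : Block F T V) {v w : G} (hv : v ∈ V) (hw : F.A v w)
    (h : ∀ p ∈ T, p ∈ F.L v → Commute p w) : w = v := by
  by_contra hne
  obtain ⟨p, hp, hpc⟩ := F.sylow v hw.left w hw.right hw.comm.symm (hw.notMem_K (Ne.symm hne)) _
    (hB.syl v hv)
  exact hpc (h p hp.1 hp.2)

/-- `v ∈ V` is the only conjugate of `v` under `T` in its block -/
theorem eq_of_conj (hB : Block F T V) {v b : G} (hv : v ∈ V) (hb : b ∈ T)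
    (h : F.A v (b * v * b⁻¹)) : b * v * b⁻¹ = v := by
  have hvD := hB.ind.mem v hv
  obtain ⟨v₁, hv₁⟩ : ∃ v₁, v₁ = b * v * b⁻¹ := ⟨_, rfl⟩
  rw [← hv₁] at h ⊢
  have hv₁D : v₁ ∈ F.D := h.right
  have hv₁T : v₁ ∈ T := hv₁ ▸ T.mul_mem (T.mul_mem hb (hB.mem v hv)) (T.inv_mem hb)
  have hB' := hB.cj b
  have hbT : IntrinsicBasic.cj b T = T := cj_eq_self_of_mem hb
  rw [hbT] at hB'
  have hv₁V : v₁ ∈ lcj b V := mem_lcj.mpr ⟨v, hv, hv₁.symm⟩
  obtain ⟨s, hs, hsv⟩ := hB.exists_other v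
  obtain ⟨h1, h2, -⟩ := h.zz hB.pg hv₁T (hB.mem s hs) (hB.ind.z hv hs (Ne.symm hsv))
  refine (hB'.eq_of_A hv₁V h.symm fun p hpT hpL => ?_).symm
  -- `p ∈ T ∩ L v₁` is in `M_s(L_v)`, hence commutes with `v`
  obtain ⟨n, hn⟩ := two_pow_of_mem hB.pg hpT
  have h3 := h1.mem_cmp hpL hn (F.comm_LK hB.pg hv₁D hpL hpT h1.mem (hB.mem s hs))
  rw [h2] at h3
  exact hB.cenB v hv s hs (Ne.symm hsv) p hpT h3 v hv

end Block

/-- the setting of 5b.4 -/
structure Fus (F : FrameC G) (T T' : Subgroup G) (b : G) (J : List G) : Prop where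
  pg' : IsPGroup 2 T'
  hb : b ∈ T
  b2 : orderOf b = 2
  ind : F.Ind J
  prod : J.prod = b
  mem' : ∀ j ∈ J, j ∈ T'
  cen : ∀ x ∈ T, Commute x b → x ∈ T'

variable {T' : Subgroup G} {b : G} {J : List G}

/-- 5b.4, step 1 -/
theorem Fus.no_swap (h : Fus F T T' b J) {v : G} (hvT : v ∈ T)
    (hz : F.Z v (b * v * b⁻¹)) : False := by
  obtain ⟨v', hv'⟩ : ∃ v', v' = b * v * b⁻¹ := ⟨_, rfl⟩
  rw [← hv'] at hz
  have hvD := hz.left
  have hv'D := hz.right
  have hbb := mul_self_of_order h.b2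
  have hbi := inv_eq_of_order h.b2
  obtain ⟨N, hN, hcN⟩ := F.diag b h.b2 v hvD (by rw [← hv']; exact hz.ne.symm)
    (by rw [← hv']; exact hz.mem)
  rw [← hv'] at hcN
  obtain ⟨c, hc⟩ : ∃ c, c = v * v' := ⟨_, rfl⟩
  rw [← hc] at hcN
  have hc2 : orderOf c = 2 := hc ▸ hz.orderOf_mul
  have hcD : c ∉ F.D := hc ▸ F.prod v hvD v' hv'D hz.ne hz.mem
  have hbv' : b * v' * b⁻¹ = v := by
    rw [hv', hbi]
    calc b * (b * v * b) * b = (b * b) * v * (b * b) := by group
      _ = v := by rw [hbb, one_mul, mul_one]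
  have hbc : b * c * b⁻¹ = c := by
    rw [hc]
    calc b * (v * v') * b⁻¹ = (b * v * b⁻¹) * (b * v' * b⁻¹) := by group
      _ = v' * v := by rw [hbv', ← hv']
      _ = v * v' := hz.comm.eq.symm
  have hcb : Commute c b := (commute_of_conj_eq hbc).symm
  have hcT : c ∈ T := by
    rw [hc, hv']
    exact T.mul_mem hvT (T.mul_mem (T.mul_mem h.hb hvT) (T.inv_mem h.hb))
  have hcT' : c ∈ T' := h.cen c hcT hcb
  have hcK : ∀ j ∈ J, c ∈ F.K j := by
    intro j hj
    have hjD := h.ind.mem j hj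
    have hbK : b ∈ F.K j := h.prod ▸ h.ind.prod_K hj
    have hM := F.cmp_comp j hjD b hbK h.b2
    have hne : F.cmp b j ≠ N := by
      rintro e
      rw [← e] at hcN
      exact hcD (F.cmp_inv j hjD b hbK h.b2 c hcN hc2)
    have h1 : c ∈ cenMod (Ce b) (F.cmp b j) := hM.le_cenMod hN hne hcN
    have hjM : j ∈ F.cmp b j := F.self_mem_cmp hjD hbK h.b2
    have h2 : Commute j c :=
      IntrinsicLemmaC.comm_of_cenMod hM.le h.pg' hjM h1 (h.mem' j hj) hcT'
    exact F.cmp_cen j hjD b hbK h.b2 c hc2 h2.symm h1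
  have hcKv : c ∈ F.K v := hc ▸ (F.K v).mul_mem (F.self_mem_K hvD) hz.mem
  have hcKv' : c ∈ F.K v' := hc ▸ (F.K v').mul_mem hz.K_right (F.self_mem_K hv'D)
  have hMv := F.cmp_comp v hvD c hcKv hc2
  have hbn : b ∈ normalizer (F.cmp c v : Set G) := by
    rw [← h.prod]
    apply list_prod_mem
    intro j hj
    have hjD := h.ind.mem j hj
    exact normalizes hMv (F.cmp_comp j hjD c (hcK j hj) hc2) (F.self_mem_cmp hjD (hcK j hj) hc2)
  have h3 := F.cmp_conj v hvD c hcKv hc2 b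
  rw [hbc, ← hv', mem_normalizer_iff_cj.mp hbn] at h3
  exact hz.cmp_ne hc2 hcKv hcKv' h3.symm

theorem Fus.comm_V (h : Fus F T T' b J) (hB : Block F T V) {v : G} (hv : v ∈ V) :
    Commute b v := by
  have hvD := hB.ind.mem v hv
  have hvT := hB.mem v hv
  have h1D : b * v * b⁻¹ ∈ F.D := F.conj v hvD b
  have h1T : b * v * b⁻¹ ∈ T := T.mul_mem (T.mul_mem h.hb hvT) (T.inv_mem h.hb)
  obtain ⟨v', hv', hvv'⟩ := hB.cov _ h1D h1T
  have e : v' = v := by
    by_contra hne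
    exact h.no_swap hvT (hB.diff hv hv' (Ne.symm hne) hvT (A.refl hvD) h1T hvv')
  rw [e] at hvv'
  exact commute_of_conj_eq (hB.eq_of_conj hv h.hb hvv')

/-- `j ∈ B`, `j = b k`, `b` normalizes `R ∈ Syl₂(B)` and `k` centralizes `R` modulo `N`: `j ∈ R N` -/
theorem mem_of_sylow {B R N T T' : Subgroup G} {j b : G}
    (hR : IsMaxP 2 B R) (hNB : N ≤ B) (hodd : Odd (Nat.card N)) (hj : j ∈ B) (hjj : j * j = 1)
    (hBN : B ≤ normalizer (N : Set G)) (hbN : b ∈ normalizer (N : Set G))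
    (hbR : ∀ x ∈ R, b * x * b⁻¹ ∈ R) (hjR : ∀ x ∈ R, j * x * j⁻¹ ∈ R ⊔ N)
    (hbj : Commute b j) (hRT : R ≤ T) (hT' : IsPGroup 2 T')
    (hcen : ∀ x ∈ T, Commute x b → x ∈ T') (hjT' : j ∈ T') : j ∈ T := by
  have hRN : R ≤ normalizer (N : Set G) := hR.2.1.trans hBN
  have hjn : j ∈ normalizer ((R ⊔ N : Subgroup G) : Set G) := by
    have hle : IntrinsicBasic.cj j (R ⊔ N) ≤ R ⊔ N := by
      rw [cj_def, Subgroup.map_sup]
      refine sup_le ?_ ?_
      · rintro _ ⟨x, hx, rfl⟩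
        exact hjR x hx
      · have h1 := mem_normalizer_iff_cj.mp (hBN hj)
        rw [cj_def] at h1
        rw [h1]
        exact le_sup_right
    rw [mem_normalizer_iff_cj]
    exact Subgroup.eq_of_le_of_card_ge hle (card_cj j _).ge
  have hRNB : R ⊔ N ≤ B := sup_le hR.2.1 hNB
  have hjRN : j ∈ R ⊔ N := by
    obtain ⟨W, hW⟩ : ∃ W, W = (R ⊔ N) ⊔ zpowers j := ⟨_, rfl⟩
    have hWB : W ≤ B := hW ▸ sup_le hRNB ((zpowers_le).mpr hj)
    have hWn : W ≤ normalizer ((R ⊔ N : Subgroup G) : Set G) :=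
      hW ▸ sup_le le_normalizer ((zpowers_le).mpr hjn)
    have hRNW : R ⊔ N ≤ W := hW ▸ le_sup_left
    have hRW : IsMaxP 2 W R :=
      ⟨hR.1, le_sup_left.trans hRNW, fun Q h1 h2 h3 => hR.2.2 Q h1 (h2.trans hWB) h3⟩
    have hidx : ¬ 2 ∣ (R ⊔ N).relIndex W := by
      have : Fact (Nat.Prime 2) := ⟨Nat.prime_two⟩
      have h1 := hRW.not_dvd_index
      rw [← Subgroup.relIndex_mul_relIndex R (R ⊔ N) W le_sup_left hRNW] at h1
      exact fun h2 => h1 (dvd_mul_of_dvd_right h2 _)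
    have hjW : j ∈ W := hW ▸ mem_sup_right (mem_zpowers j)
    have hnorm : ((R ⊔ N).subgroupOf W).Normal := normal_subgroupOf_of_le_normalizer hWn
    have h1 : (QuotientGroup.mk' ((R ⊔ N).subgroupOf W) ⟨j, hjW⟩) = 1 := by
      have h2 : orderOf (QuotientGroup.mk' ((R ⊔ N).subgroupOf W) ⟨j, hjW⟩) ∣ 2 := by
        apply orderOf_dvd_of_pow_eq_one
        rw [← map_pow]
        have : (⟨j, hjW⟩ : W) ^ 2 = 1 := by
          apply Subtype.ext
          rw [pow_two]
          exact hjj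
        rw [this, map_one]
      have h3 : orderOf (QuotientGroup.mk' ((R ⊔ N).subgroupOf W) ⟨j, hjW⟩) ∣
          (R ⊔ N).relIndex W := orderOf_dvd_natCard _
      rcases (Nat.dvd_prime Nat.prime_two).mp h2 with h4 | h4
      · exact orderOf_eq_one_iff.mp h4
      · rw [h4] at h3; exact absurd h3 hidx
    have h2 := (QuotientGroup.eq_one_iff _).mp h1
    exact h2
  obtain ⟨τ, hτ, o, ho, hτo⟩ := mem_sup_of_normalizes hRN hjRN
  -- `τ` commutes with `b`
  have hτb : Commute τ b := by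
    have h1 : τ⁻¹ * (b * τ * b⁻¹) ∈ N := by
      have h2 : b * j * b⁻¹ = j := conj_eq_of_commute hbj
      rw [← hτo] at h2
      have h3 : b * o * b⁻¹ ∈ N := (mem_normalizer_iff.mp hbN o).mp ho
      have e : τ⁻¹ * (b * τ * b⁻¹) = o * (b * o * b⁻¹)⁻¹ := by
        have h4 : b * τ * b⁻¹ = τ * o * (b * o * b⁻¹)⁻¹ := by
          calc b * τ * b⁻¹ = (b * (τ * o) * b⁻¹) * (b * o * b⁻¹)⁻¹ := by group
            _ = τ * o * (b * o * b⁻¹)⁻¹ := by rw [h2]
        rw [h4]; group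
      rw [e]
      exact N.mul_mem ho (N.inv_mem h3)
    have h2 : τ⁻¹ * (b * τ * b⁻¹) ∈ R := R.mul_mem (R.inv_mem hτ) (hbR τ hτ)
    obtain ⟨k, hk⟩ := two_pow_of_mem hR.1 h2
    have h3 := eq_one_of_mem_odd hodd h1 hk
    exact (commute_of_conj_eq (inv_mul_eq_one.mp h3).symm).symm
  have hτT : τ ∈ T := hRT hτ
  have hτT' : τ ∈ T' := hcen τ hτT hτb
  have hoT' : o ∈ T' := by
    have e : o = τ⁻¹ * j := by rw [← hτo]; group
    rw [e]
    exact T'.mul_mem (T'.inv_mem hτT') hjT'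
  obtain ⟨k, hk⟩ := two_pow_of_mem hT' hoT'
  have ho1 := eq_one_of_mem_odd hodd ho hk
  rw [ho1, mul_one] at hτo
  rw [← hτo]
  exact hτT

/-- 5b.4, step 2 -/
theorem Fus.mem_of_block (h : Fus F T T' b J) (hB : Block F T V) {V' : List G}
    (hB' : Block F T' V') {v : G} (hv : v ∈ V) {j₀ : G} (hj₀ : j₀ ∈ J) {p : G} (hp : p ∈ V')
    (hvp : F.A p v) (hjp : F.A p j₀) : j₀ ∈ T := by
  have hvD := hB.ind.mem v hv
  have hvT := hB.mem v hv
  have hbv := h.comm_V hB hv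
  have hVT' : ∀ v ∈ V, v ∈ T' := fun v hv => h.cen v (hB.mem v hv) (h.comm_V hB hv).symm
  have hvT' : v ∈ T' := hVT' v hv
  have hj₀D := h.ind.mem j₀ hj₀
  have hj₀T' := h.mem' j₀ hj₀
  obtain ⟨J', hJ', hperm, hprod⟩ := h.ind.erase hj₀
  obtain ⟨_, hzJ', hJ'i⟩ := hJ'.of_cons
  have hJ'J : ∀ j ∈ J', j ∈ J := fun j hj => hperm.mem_iff.mpr (List.mem_cons_of_mem _ hj)
  -- the other members are of type (0) with `v`
  have hK : ∀ j ∈ J', j ∈ F.K v := by
    intro j hj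
    have hjD := h.ind.mem j (hJ'J j hj)
    have hjT' := h.mem' j (hJ'J j hj)
    obtain ⟨q, hq, hjq⟩ := hB'.cov j hjD hjT'
    have hqp : q ≠ p := by
      rintro rfl
      exact (hB'.same hq hj₀T' hjp hjT' hjq (hzJ' j hj).comm).nz (hzJ' j hj)
    exact (hB'.diff hp hq (Ne.symm hqp) hvT' hvp hjT' hjq).mem
  obtain ⟨k₀, hk₀⟩ : ∃ k₀, k₀ = J'.prod := ⟨_, rfl⟩
  have hk₀K : k₀ ∈ F.K v := hk₀ ▸ list_prod_mem hK
  have hbk : b = j₀ * k₀ := by rw [← h.prod, hprod, hk₀]
  by_cases hk1 : k₀ = 1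
  · have : j₀ = b := by rw [hbk, hk1, mul_one]
    rw [this]; exact h.hb
  have hk₀v : Commute k₀ v := mem_Ce.mp (F.K_le v hk₀K)
  have hj₀k₀ : Commute j₀ k₀ := hk₀ ▸ commute_prod fun j hj => (hzJ' j hj).comm
  have hk₀sq : k₀ * k₀ = 1 := hk₀ ▸ hJ'i.sq
  have hj₀eq : j₀ = b * k₀ := by rw [hbk, mul_assoc, hk₀sq, mul_one]
  have hj₀v : Commute j₀ v := by rw [hj₀eq]; exact hbv.mul_left hk₀v
  have hj₀L : F.A v j₀ := hB'.same hp hvT' hvp hj₀T' hjp hj₀v.symm
  have hbj₀ : Commute b j₀ := by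
    rw [hbk]; exact (Commute.refl j₀).mul_left hj₀k₀.symm
  obtain ⟨s, hs, hsv⟩ := hB.exists_other v
  have hz := hB.ind.z hv hs (Ne.symm hsv)
  have hbs := h.comm_V hB hs
  obtain ⟨-, -, hj₀M⟩ := hj₀L.zz h.pg' hj₀T' (hVT' s hs) hz
  have hM := F.cmp_comp v hvD s hz.mem (F.ord s hz.right)
  have hj₀s : Commute j₀ s := mem_Ce.mp (hM.le hj₀M)
  have hk₀s : Commute k₀ s := by
    have e : k₀ = j₀⁻¹ * b := by rw [hbk]; group
    rw [e]; exact hj₀s.inv_left.mul_left hbs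
  -- `s` commutes with the members of `J'`
  have hsJ : ∀ j ∈ J', Commute s j := by
    intro j hj
    have hsD := hB.ind.mem s hs
    have hsT' := hVT' s hs
    have hjD := h.ind.mem j (hJ'J j hj)
    have hjT' := h.mem' j (hJ'J j hj)
    obtain ⟨q, hq, hjq⟩ := hB'.cov j hjD hjT'
    obtain ⟨r, hr, hsr⟩ := hB'.cov s hsD hsT'
    by_cases e : r = q
    · subst e
      obtain ⟨J'', hJ'', hperm', hprod'⟩ := hJ'i.erase hj
      obtain ⟨_, hzJ'', _⟩ := hJ''.of_cons
      have hsJ'' : Commute s J''.prod := by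
        apply commute_prod
        intro i hi
        have hiJ' : i ∈ J' := hperm'.mem_iff.mpr (List.mem_cons_of_mem _ hi)
        have hiD := h.ind.mem i (hJ'J i hiJ')
        have hiT' := h.mem' i (hJ'J i hiJ')
        obtain ⟨t, ht, hit⟩ := hB'.cov i hiD hiT'
        have hrt : r ≠ t := by
          rintro rfl
          exact (hB'.same hq hjT' hjq hiT' hit (hzJ'' i hi).comm).nz (hzJ'' i hi)
        exact (hB'.diff hr ht hrt hsT' hsr hiT' hit).comm
      have h3 : Commute s (j * J''.prod) := by rw [← hprod', ← hk₀]; exact hk₀s.symm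
      have h4 := h3.mul_right hsJ''.inv_right
      rwa [mul_inv_cancel_right] at h4
    · exact (hB'.diff hr hq e hsT' hsr hjT' hjq).comm
  -- `R = T ∩ M_s(L_v)`
  obtain ⟨R, hR⟩ : ∃ R, R = T ⊓ F.cmp s v := ⟨_, rfl⟩
  obtain ⟨N, hN⟩ : ∃ N, N = OC s ⊓ F.cmp s v := ⟨_, rfl⟩
  have hRmax : IsMaxP 2 (F.cmp s v) R := hR ▸ hB.sylB v hv s hs (Ne.symm hsv)
  have hOn : Ce s ≤ normalizer (OC s : Set G) :=
    le_normalizer.trans (normalizer_le_normalizer_relCore 2 _)
  have hMn : ∀ c : G, Commute c v → Commute c s → c ∈ normalizer (F.cmp s v : Set G) := by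
    intro c h1 h2
    rw [mem_normalizer_iff_cj]
    have h3 := F.cmp_conj v hz.left s hz.mem (F.ord s hz.right) c
    rw [conj_eq_of_commute h1, conj_eq_of_commute h2] at h3
    exact h3.symm
  have hNn : ∀ c : G, c ∈ normalizer (F.cmp s v : Set G) → Commute c s →
      c ∈ normalizer (N : Set G) := by
    intro c h1 h2
    have h3 := mem_normalizer_iff_cj.mp h1
    have h4 := mem_normalizer_iff_cj.mp (hOn (mem_Ce.mpr h2))
    rw [mem_normalizer_iff_cj, hN]
    ext x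
    rw [mem_cj, mem_inf, mem_inf, ← mem_cj, ← mem_cj, h3, h4]
  have hNodd : Odd (Nat.card N) :=
    Odd.of_dvd_nat (odd_card_relCore (Ce s)) (card_dvd_of_le (hN ▸ inf_le_left))
  have hbM := hMn b hbv hbs
  have hkM := hMn k₀ hk₀v hk₀s
  have hRb : ∀ x ∈ R, b * x * b⁻¹ ∈ R := by
    intro x hx
    rw [hR] at hx ⊢
    exact ⟨T.mul_mem (T.mul_mem h.hb hx.1) (T.inv_mem h.hb), (mem_normalizer_iff.mp hbM x).mp hx.2⟩
  -- `k₀` centralizes `R` modulo `N`
  have hk₀N : ∀ x ∈ R, x⁻¹ * (k₀ * x * k₀⁻¹) ∈ N := by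
    intro x hx
    have hxM := hRmax.2.1 hx
    rw [hN]
    refine ⟨?_, (F.cmp s v).mul_mem ((F.cmp s v).inv_mem hxM)
      ((mem_normalizer_iff.mp hkM x).mp hxM)⟩
    have h1 : k₀ ∈ cenMod (Ce s) (F.cmp s v) := by
      rw [hk₀]
      apply list_prod_mem
      intro j hj
      have hzj : F.Z v j := by
        refine ⟨hvD, h.ind.mem j (hJ'J j hj), ?_, hK j hj⟩
        rintro rfl
        exact (hj₀L.symm).nz (hzJ' _ hj)
      exact hz.cen hzj (hsJ j hj)
    exact ((mem_cenMod hM.le).mp h1).2 x hxM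
  have hj₀R : ∀ x ∈ R, j₀ * x * j₀⁻¹ ∈ R ⊔ N := by
    intro x hx
    have e : j₀ * x * j₀⁻¹ = (b * x * b⁻¹) * (b * (x⁻¹ * (k₀ * x * k₀⁻¹)) * b⁻¹) := by
      rw [hj₀eq]; group
    rw [e]
    refine mul_mem (mem_sup_left (hRb x hx)) (mem_sup_right ?_)
    exact (mem_normalizer_iff.mp (hNn b hbM hbs) _).mp (hk₀N x hx)
  exact mem_of_sylow hRmax (hN ▸ inf_le_right) hNodd hj₀M (mul_self_of_order (F.ord j₀ hj₀D))
    (fun c hc => hNn c (le_normalizer hc) (mem_Ce.mp (hM.le hc))) (hNn b hbM hbs) hRb hj₀R hbj₀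
    (hR ▸ inf_le_left) h.pg' h.cen hj₀T'

/-- 5b.4 -/
theorem Fus.mem (h : Fus F T T' b J) (hB : Block F T V) {V' : List G}
    (hB' : Block F T' V') : ∀ j ∈ J, j ∈ T := by
  intro j hj
  have hjD := h.ind.mem j hj
  have hjT' := h.mem' j hj
  obtain ⟨q, hq, hjq⟩ := hB'.cov j hjD hjT'
  by_contra hcon
  have hz : ∀ v ∈ V, F.Z j v := by
    intro v hv
    have hvD := hB.ind.mem v hv
    have hvT' : v ∈ T' := h.cen v (hB.mem v hv) (h.comm_V hB hv).symm
    obtain ⟨p, hp, hvp⟩ := hB'.cov v hvD hvT'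
    have hpq : q ≠ p := by
      rintro rfl
      exact hcon (h.mem_of_block hB hB' hv hj hp hvp hjq)
    exact hB'.diff hq hp hpq hjT' hjq hvT' hvp
  have h3 := hB.max (j :: V) (hB.ind.cons hjD hz)
  rw [List.length_cons] at h3
  omega

end FrameC

end Cfsg.Agent.UGT.I34.WOneC
end

-- part: UGT/I34/WOneC/Conn
section
prune_inst 0x10440050220000000000002000202010000002004000000040000000090001000408013020021001202820200a0020021000494020000020000a0040000000000220c29008000001000000c800000000000000000000000000000000000000000000000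
set_option linter.all false
open scoped Cfsg.Agent.FastGrp

/-!
The commuting graph on `D`, the stabilizer `N` of a component, `C(x) ≤ N` for products `x` of independent sets
(first half of 5b.5 in a `FrameC`).
-/

set_option autoImplicit false
set_option linter.unusedSectionVars false

namespace Cfsg.Agent.UGT.I34.WOneC

open Subgroup Cfsg
open Cfsg.Agent.SignalizersComponents
open Cfsg.Agent.SignalizersComponents.PLayerAut
open Cfsg.Agent.SignalizersComponents.IntrinsicBasic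
open Cfsg.Agent.SignalizersComponents.RelSylow
open Cfsg.Agent.Intrinsic.WOneA (Ce OC mem_Ce mul_self_of_order ne_one_of_order order_two
  inv_eq_of_order pow_of_order orderOf_cj conj_eq_of_commute commute_of_conj_eq normalizes dihedral
  lcj mem_lcj length_lcj prod_lcj commute_prod lset isMaxP_of_card IsMaxP.card_le card_cj
  IsMaxP.inf_of_normalizes mem_sup_of_normalizes exists_commuting_conj)

namespace FrameC

variable {G : Type*} [Group G] (F : FrameC G)

/-- adjacency: commuting elements of `D` -/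
def Adj (a b : G) : Prop := a ∈ F.D ∧ b ∈ F.D ∧ Commute a b

/-- connected by a path of commuting elements of `D` -/
def Con (a b : G) : Prop := Relation.ReflTransGen F.Adj a b

variable {F}

theorem Con.refl (a : G) : F.Con a a := Relation.ReflTransGen.refl

theorem Con.trans {a b c : G} (h : F.Con a b) (h' : F.Con b c) : F.Con a c :=
  Relation.ReflTransGen.trans h h'

theorem Con.of_adj {a b : G} (ha : a ∈ F.D) (hb : b ∈ F.D) (h : Commute a b) : F.Con a b :=
  Relation.ReflTransGen.single ⟨ha, hb, h⟩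

theorem Con.symm {a b : G} (h : F.Con a b) : F.Con b a := by
  induction h with
  | refl => exact Con.refl _
  | tail _ hbc ih => exact (Con.of_adj hbc.2.1 hbc.1 hbc.2.2.symm).trans ih

theorem Con.conj {a b : G} (h : F.Con a b) (g : G) : F.Con (g * a * g⁻¹) (g * b * g⁻¹) := by
  induction h with
  | refl => exact Con.refl _
  | tail _ hbc ih =>
    refine ih.trans (Con.of_adj (F.conj _ hbc.1 g) (F.conj _ hbc.2.1 g) ?_)
    exact (Commute.map hbc.2.2 (MulAut.conj g).toMonoidHom : _)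

theorem Con.mem {a b : G} (h : F.Con a b) (ha : a ∈ F.D) : b ∈ F.D := by
  induction h with
  | refl => exact ha
  | tail _ hbc _ => exact hbc.2.1

variable (F) in
/-- the stabilizer of the connected component of `z` -/
def N (z : G) : Subgroup G where
  carrier := {g | F.Con z (g * z * g⁻¹)}
  mul_mem' := by
    intro g h hg hh
    have h1 := (show F.Con z (h * z * h⁻¹) from hh).conj g
    have h2 := (show F.Con z (g * z * g⁻¹) from hg).trans h1
    have e : g * (h * z * h⁻¹) * g⁻¹ = g * h * z * (g * h)⁻¹ := by group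
    rw [e] at h2
    exact h2
  one_mem' := by
    have e : (1 : G) * z * 1⁻¹ = z := by group
    show F.Con z (1 * z * 1⁻¹)
    rw [e]; exact Con.refl z
  inv_mem' := by
    intro g hg
    have h1 := (show F.Con z (g * z * g⁻¹) from hg).conj g⁻¹
    have e : g⁻¹ * (g * z * g⁻¹) * g⁻¹⁻¹ = z := by group
    rw [e] at h1
    exact h1.symm

theorem mem_N {z g : G} : g ∈ F.N z ↔ F.Con z (g * z * g⁻¹) := Iff.rfl

theorem mem_N_iff {z u g : G} (hu : F.Con z u) : g ∈ F.N z ↔ F.Con z (g * u * g⁻¹) := by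
  rw [mem_N]
  constructor
  · intro h; exact h.trans (hu.conj g)
  · intro h; exact h.trans (hu.conj g).symm

theorem Ce_le_N {z u : G} (hu : F.Con z u) : Ce u ≤ F.N z := by
  intro c hc
  rw [mem_N_iff hu, conj_eq_of_commute (mem_Ce.mp hc)]
  exact hu

theorem Con.adj {z u v : G} (hu : F.Con z u) (huD : u ∈ F.D) (hv : v ∈ F.D) (hc : Commute u v) :
    F.Con z v := hu.trans (Con.of_adj huD hv hc)

variable [Finite G]

/-- elements of `D` in a common 2-group are connected -/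
theorem Con.of_pgroup {P : Subgroup G} (hP : IsPGroup 2 P) {z u v : G} (h : F.Con z u)
    (hu : u ∈ F.D) (hv : v ∈ F.D) (huP : u ∈ P) (hvP : v ∈ P) : F.Con z v := by
  by_cases hc : Commute u v
  · exact h.adj hu hv hc
  · obtain ⟨b, hb, _, hbu, hbv, -⟩ := F.dd hP hu hv huP hvP hc
    exact (h.adj hu hb hbu.comm).adj hb hv hbv.comm.symm

theorem pgroup_le_N {P : Subgroup G} (hP : IsPGroup 2 P) {z u : G} (h : F.Con z u)
    (hu : u ∈ F.D) (huP : u ∈ P) : P ≤ F.N z := by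
  intro g hg
  rw [mem_N_iff h]
  exact h.of_pgroup hP hu (F.conj u hu g) huP (P.mul_mem (P.mul_mem hg huP) (P.inv_mem hg))

theorem isMaxP_of_sylow_le (T : Sylow 2 G) {H : Subgroup G} (h : (T : Subgroup G) ≤ H) :
    IsMaxP 2 H (T : Subgroup G) :=
  ⟨T.2, h, fun _ hR _ hTR => (T.3 hR hTR).le⟩

/-- `D ∩ N` is the component of `z` -/
theorem con_of_mem_N {z w : G} (hz : z ∈ F.D) (hw : w ∈ F.D) (hwN : w ∈ F.N z) : F.Con z w := by
  have h2 : Fact (Nat.Prime 2) := ⟨Nat.prime_two⟩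
  have hzp : ∀ x ∈ F.D, IsPGroup 2 (zpowers x) := by
    intro x hx
    apply IsPGroup.of_card (n := 1)
    rw [Nat.card_zpowers, F.ord x hx]; norm_num
  obtain ⟨T, hT⟩ := (hzp z hz).exists_le_sylow
  have hzT : z ∈ (T : Subgroup G) := hT (mem_zpowers z)
  have hTN := pgroup_le_N T.2 (Con.refl (F := F) z) hz hzT
  obtain ⟨c, hc, hcw⟩ := (isMaxP_of_sylow_le T hTN).exists_conj_le (hzp w hw)
    ((zpowers_le).mpr hwN)
  have h3 : c * w * c⁻¹ ∈ (T : Subgroup G) := hcw ⟨w, mem_zpowers w, rfl⟩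
  have h4 := (Con.refl (F := F) z).of_pgroup T.2 hz (F.conj w hw c) hzT h3
  have h5 : c⁻¹ ∈ F.N z := (F.N z).inv_mem hc
  have h6 := (mem_N_iff h4).mp h5
  have e : c⁻¹ * (c * w * c⁻¹) * c⁻¹⁻¹ = w := by group
  rwa [e] at h6

theorem mem_N_of_conj {z u g : G} (hz : z ∈ F.D) (hu : F.Con z u) (h : g * u * g⁻¹ ∈ F.N z) :
    g ∈ F.N z := by
  rw [mem_N_iff hu]
  exact con_of_mem_N hz (F.conj u (hu.mem hz) g) h

/-- `C(x) ≤ N` for a product `x` of an independent set in the component of `z` (5b.5, first half) -/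
theorem Ind.Ce_le {J : List G} (h : F.Ind J) (hne : J ≠ []) {z : G} (hz : z ∈ F.D)
    (hJ : ∀ j ∈ J, F.Con z j) : Ce J.prod ≤ F.N z := by
  have h2 : Fact (Nat.Prime 2) := ⟨Nat.prime_two⟩
  obtain ⟨u, J', rfl⟩ := List.exists_cons_of_ne_nil hne
  obtain ⟨hu, hzJ, hJ'⟩ := h.of_cons
  have hu2 := F.ord u hu
  have hconu : F.Con z u := hJ u (by simp)
  obtain ⟨x, hx⟩ : ∃ x, x = (u :: J').prod := ⟨_, rfl⟩
  have hx2 : orderOf x = 2 := hx ▸ h.orderOf_prod hne
  have hxu : x = u * J'.prod := by rw [hx, List.prod_cons]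
  rw [← hx]
  -- an involution `t`
  obtain ⟨t, htL, ht2, htne, htc⟩ := F.exists_inv u hu (closure (lset J')) hJ'.closure_pgroup (by
    rw [closure_le]; intro j hj; exact (hzJ j hj).mem)
  have htc' : ∀ j ∈ J', Commute t j := fun j hj => htc j (subset_closure hj)
  obtain ⟨htD, hut⟩ := F.invol u hu t htL ht2
  have htu : Commute t u := mem_Ce.mp (F.L_le hu htL)
  have htx : Commute t x := by
    rw [hxu]; exact htu.mul_right (Cfsg.Agent.Intrinsic.WOneA.commute_prod htc')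
  have hJK : ∀ j ∈ J', j ∈ F.K t := fun j hj => ((hzJ j hj).inherit htL ht2 (htc' j hj)).1.mem
  have hxKu : x ∈ F.K u := by
    rw [hxu]
    exact (F.K u).mul_mem (F.self_mem_K hu) (list_prod_mem fun j hj => (hzJ j hj).mem)
  have hxKt : x ∉ F.K t := by
    intro hK
    have h3 : u ∈ F.K t := by
      have h4 := (F.K t).mul_mem hK ((F.K t).inv_mem (list_prod_mem hJK))
      rwa [hxu, mul_inv_cancel_right] at h4
    exact htne (F.inf_eq t htD u hut hu2 h3).symm
  have hsmall : u ∈ cenMod (Ce x) (F.cmp x u) := F.small u hu x hxKu hx2 t htL ht2 htne htx hxKt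
  have hM := F.cmp_comp u hu x hxKu hx2
  have huM := F.self_mem_cmp hu hxKu hx2
  have hux : Commute u x := (mem_Ce.mp (F.K_le u hxKu)).symm
  -- `O(C(x)) ≤ N`
  have htne1 : t ≠ 1 := ne_one_of_order ht2
  have hune1 : u ≠ 1 := ne_one_of_order hu2
  have hut1 : u * t ≠ 1 := by
    intro e
    apply htne
    rw [← inv_eq_of_order hu2]
    exact eq_inv_of_mul_eq_one_right e
  have hut2 : orderOf (u * t) = 2 := by
    refine order_two ?_ hut1
    calc u * t * (u * t) = u * (t * u) * t := by group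
      _ = u * (u * t) * t := by rw [htu.eq]
      _ = (u * u) * (t * t) := by group
      _ = 1 := by rw [mul_self_of_order hu2, mul_self_of_order ht2, one_mul]
  have hutL : u * t ∈ F.L u := (F.L u).mul_mem (F.self_mem u hu) htL
  obtain ⟨hutD, -⟩ := F.invol u hu (u * t) hutL hut2
  have hcont : F.Con z t := hconu.adj hu htD htu.symm
  have hconut : F.Con z (u * t) := hconu.adj hu hutD ((Commute.refl u).mul_right htu.symm)
  obtain ⟨A, hA⟩ : ∃ A : Subgroup G, (A : Set G) = {1, u, t, u * t} := by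
    refine ⟨{ carrier := {1, u, t, u * t}, mul_mem' := ?_, one_mem' := by simp, inv_mem' := ?_ }, rfl⟩
    · have huu := mul_self_of_order hu2
      have htt := mul_self_of_order ht2
      have e1 : t * u = u * t := htu.eq
      have e2 : u * (u * t) = t := by rw [← mul_assoc, huu, one_mul]
      have e3 : t * (u * t) = u := by rw [← mul_assoc, e1, mul_assoc, htt, mul_one]
      have e4 : u * t * u = t := by rw [mul_assoc, e1, e2]
      have e5 : u * t * t = u := by rw [mul_assoc, htt, mul_one]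
      have e6 : u * t * (u * t) = 1 := mul_self_of_order hut2
      rintro a b (rfl | rfl | rfl | rfl) (rfl | rfl | rfl | rfl) <;>
        simp [huu, htt, e1, e2, e3, e4, e5, e6]
    · rintro a (rfl | rfl | rfl | rfl)
      · simp
      · rw [inv_eq_of_order hu2]; simp
      · rw [inv_eq_of_order ht2]; simp
      · show (u * t)⁻¹ ∈ _
        rw [inv_eq_of_order hut2]; simp
  have hmemA : ∀ a, a ∈ A ↔ a = 1 ∨ a = u ∨ a = t ∨ a = u * t := by
    intro a
    rw [← SetLike.mem_coe, hA]; simp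
  have hAel : Cfsg.IsElementaryAbelian 2 A := by
    refine ⟨⟨⟨?_⟩⟩, ?_⟩
    · rintro ⟨a, ha⟩ ⟨b, hb⟩
      apply Subtype.ext
      show a * b = b * a
      rcases (hmemA a).mp ha with rfl | rfl | rfl | rfl <;>
        rcases (hmemA b).mp hb with rfl | rfl | rfl | rfl
      all_goals first
        | rfl
        | (simp; done)
        | exact htu.eq
        | exact htu.eq.symm
        | exact ((Commute.refl _).mul_right htu.symm).eq
        | exact ((Commute.refl _).mul_right htu.symm).eq.symm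
        | exact (htu.mul_right (Commute.refl _)).eq
        | exact (htu.mul_right (Commute.refl _)).eq.symm
    · intro a ha
      rw [pow_two]
      rcases (hmemA a).mp ha with rfl | rfl | rfl | rfl
      · exact one_mul 1
      · exact mul_self_of_order hu2
      · exact mul_self_of_order ht2
      · exact mul_self_of_order hut2
  have hA4 : 2 ^ 2 ≤ Nat.card A := by
    have h3 : Nat.card A = Set.ncard ({1, u, t, u * t} : Set G) := by
      rw [← hA]; rfl
    rw [h3]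
    have hne1 : u ≠ u * t := fun e => htne1 (mul_left_cancel (e.symm.trans (mul_one u).symm))
    have hne2 : t ≠ u * t := fun e => hune1 (mul_right_cancel (e.symm.trans (one_mul t).symm))
    rw [Set.ncard_insert_of_notMem (by
        simp only [Set.mem_insert_iff, Set.mem_singleton_iff, not_or]
        exact ⟨hune1.symm, htne1.symm, hut1.symm⟩),
      Set.ncard_insert_of_notMem (by
        simp only [Set.mem_insert_iff, Set.mem_singleton_iff, not_or]
        exact ⟨htne.symm, hne1⟩),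
      Set.ncard_insert_of_notMem (by
        simp only [Set.mem_singleton_iff]
        exact hne2),
      Set.ncard_singleton]
    norm_num
  have hAx : A ≤ Ce x := by
    intro a ha
    rw [mem_Ce]
    rcases (hmemA a).mp ha with rfl | rfl | rfl | rfl
    · exact Commute.one_left x
    · exact hux
    · exact htx
    · exact hux.mul_left htx
  have hOn : Ce x ≤ normalizer (OC x : Set G) :=
    le_normalizer.trans (normalizer_le_normalizer_relCore 2 _)
  have hodd : ¬ 2 ∣ Nat.card (OC x) := by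
    have := odd_card_relCore (Ce x)
    intro hd
    exact (Nat.not_even_iff_odd.mpr this) (even_iff_two_dvd.mpr hd)
  have hON : OC x ≤ F.N z := by
    refine (CoprimeGen.le_iSup_centralizer_ne_one (p := 2) hAel hA4 hodd (hAx.trans hOn)).trans ?_
    refine iSup_le fun a => ?_
    refine inf_le_right.trans ?_
    have ha := (hmemA a.1).mp a.2.1
    rcases ha with e | e | e | e
    · exact absurd e a.2.2
    · rw [e]; exact Ce_le_N hconu
    · rw [e]; exact Ce_le_N hcont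
    · rw [e]; exact Ce_le_N hconut
  -- the conjugates of `u` under `C(x)`
  intro c hc
  have hcx : c * x * c⁻¹ = x := conj_eq_of_commute (mem_Ce.mp hc)
  obtain ⟨u', hu'⟩ : ∃ u', u' = c * u * c⁻¹ := ⟨_, rfl⟩
  have hu'D : u' ∈ F.D := hu' ▸ F.conj u hu c
  have hu'2 := F.ord u' hu'D
  have hM' : F.cmp x u' = IntrinsicBasic.cj c (F.cmp x u) := by
    have := F.cmp_conj u hu x hxKu hx2 c
    rw [hcx, ← hu'] at this
    exact this
  have hu'M : u' ∈ F.cmp x u' := by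
    rw [hM', hu']; exact conj_mem_cj huM
  have hM'c : TC (Ce x) (F.cmp x u') := by
    rw [hM']; exact hM.cj_of_mem (le_normalizer hc)
  have hxm : u'⁻¹ * (u * u' * u⁻¹) ∈ OC x := by
    by_cases e : F.cmp x u' = F.cmp x u
    · rw [e] at hu'M
      exact ((mem_cenMod hM.le).mp hsmall).2 u' hu'M
    · exact ((mem_cenMod hM'c.le).mp (hM'c.le_cenMod hM e huM)).2 u' hu'M
  have hu'x : u' ∈ Ce x := hM'c.le hu'M
  have hux' : u ∈ Ce x := mem_Ce.mpr hux
  obtain ⟨o, ho, hoo, hcom⟩ := Cfsg.Agent.Intrinsic.Lifting.exists_involution (odd_card_relCore (Ce x))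
    (v := u) (x := u') (n := 1) (pow_of_order hu2) (hOn hux') (hOn hu'x)
    (by rw [mul_self_of_order hu'2]; exact one_mem _) hxm
  obtain ⟨o', ho', hconj⟩ := Cfsg.Agent.Intrinsic.Lifting.exists_conj_eq (odd_card_relCore (Ce x)) (v := u')
    (v' := u' * o) (n := 1) (m := 1) (pow_of_order hu'2)
    (by rw [pow_one, pow_two]; exact hoo) (hOn hu'x) (by rw [inv_mul_cancel_left]; exact ho)
  have hw : F.Con z (u' * o) := by
    refine hconu.adj hu ?_ hcom
    rw [← hconj]; exact F.conj u' hu'D o'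
  have hoc : o' * c ∈ F.N z := by
    rw [mem_N_iff hconu]
    have e : o' * c * u * (o' * c)⁻¹ = u' * o := by rw [← hconj, hu']; group
    rw [e]; exact hw
  have h3 := (F.N z).mul_mem ((F.N z).inv_mem (hON ho')) hoc
  rwa [inv_mul_cancel_left] at h3

end FrameC

end Cfsg.Agent.UGT.I34.WOneC
end

-- part: UGT/I34/WOneC/Step
section
set_option linter.all false
open scoped Cfsg.Agent.FastGrp

/-!
Products of independent sets in a Sylow 2-subgroup; uniqueness of the block system (5b.5 in a `FrameC`).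
-/

set_option autoImplicit false
set_option linter.unusedSectionVars false

namespace Cfsg.Agent.UGT.I34.WOneC

open Subgroup Cfsg
open Cfsg.Agent.SignalizersComponents
open Cfsg.Agent.SignalizersComponents.PLayerAut
open Cfsg.Agent.SignalizersComponents.IntrinsicBasic
open Cfsg.Agent.SignalizersComponents.RelSylow
open Cfsg.Agent.Intrinsic.WOneA (Ce OC mem_Ce mul_self_of_order ne_one_of_order order_two
  inv_eq_of_order pow_of_order orderOf_cj conj_eq_of_commute commute_of_conj_eq normalizes dihedral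
  lcj mem_lcj length_lcj prod_lcj commute_prod lset isMaxP_of_card IsMaxP.card_le card_cj
  IsMaxP.inf_of_normalizes mem_sup_of_normalizes exists_commuting_conj)

namespace FrameC

variable {G : Type*} [Group G] [Finite G] {F : FrameC G} {T : Subgroup G} {V : List G}

/-- multiplying an independent set in `T` by an element of `D ∩ T` -/
theorem Block.step (hB : Block F T V) {J : List G} (hJ : F.Ind J) (hJT : ∀ j ∈ J, j ∈ T)
    {w : G} (hw : w ∈ F.D) (hwT : w ∈ T) (hc : ∀ j ∈ J, Commute j w) :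
    ∃ J', F.Ind J' ∧ (∀ j ∈ J', j ∈ T) ∧ J'.prod = J.prod * w ∧
      ∀ c : G, (∀ j ∈ J, Commute c j) → Commute c w → ∀ j ∈ J', Commute c j := by
  have hw2 := F.ord w hw
  obtain ⟨v, hv, hwv⟩ := hB.cov w hw hwT
  by_cases hA : ∃ j ∈ J, F.A v j
  · obtain ⟨j₀, hj₀, hj₀v⟩ := hA
    have hj₀D := hJ.mem j₀ hj₀
    have hj₀2 := F.ord j₀ hj₀D
    have hj₀T := hJT j₀ hj₀
    obtain ⟨J', hJ', hperm, hprod⟩ := hJ.erase hj₀
    obtain ⟨_, hzJ', hJ'i⟩ := hJ'.of_cons
    have hJ'J : ∀ j ∈ J', j ∈ J := fun j hj => hperm.mem_iff.mpr (List.mem_cons_of_mem _ hj)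
    have hcw : Commute w J'.prod := commute_prod fun j hj => (hc j (hJ'J j hj)).symm
    have hcj : Commute j₀ J'.prod := commute_prod fun j hj => (hzJ' j hj).comm
    by_cases e : w = j₀
    · refine ⟨J', hJ'i, fun j hj => hJT j (hJ'J j hj), ?_, fun c h1 _ j hj => h1 j (hJ'J j hj)⟩
      rw [hprod, e, hcj.eq, mul_assoc, mul_self_of_order hj₀2, mul_one]
    · have hwA : F.A j₀ w := hB.same hv hj₀T hj₀v hwT hwv (hc j₀ hj₀)
      have hjw2 : orderOf (j₀ * w) = 2 := hwA.orderOf_mul (Ne.symm e)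
      have hjwD : j₀ * w ∈ F.D := hwA.mul_mem (Ne.symm e)
      have hjwT : j₀ * w ∈ T := T.mul_mem hj₀T hwT
      -- `j₀ w` is in the block of `v`
      have hjwv : F.A v (j₀ * w) := by
        obtain ⟨s, hs, hsv⟩ := hB.exists_other v
        have hz := hB.ind.z hv hs (Ne.symm hsv)
        have h3 := (hj₀v.zz hB.pg hj₀T (hB.mem s hs) hz).2.2
        have h4 := (hwv.zz hB.pg hwT (hB.mem s hs) hz).2.2
        exact A.of_cmp hz.left hz.mem (F.ord s hz.right) ((F.cmp s v).mul_mem h3 h4) hjw2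
          (hj₀v.comm.symm.mul_left hwv.comm.symm)
      refine ⟨(j₀ * w) :: J', hJ'i.cons hjwD ?_, ?_, ?_, ?_⟩
      · intro j hj
        have hjD := hJ.mem j (hJ'J j hj)
        have hjT := hJT j (hJ'J j hj)
        obtain ⟨q, hq, hjq⟩ := hB.cov j hjD hjT
        have hqv : v ≠ q := by
          rintro rfl
          exact (hB.same hv hj₀T hj₀v hjT hjq (hzJ' j hj).comm).nz (hzJ' j hj)
        exact hB.diff hv hq hqv hjwT hjwv hjT hjq
      · intro j hj
        rcases List.mem_cons.mp hj with rfl | hj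
        · exact hjwT
        · exact hJT j (hJ'J j hj)
      · rw [List.prod_cons, hprod, mul_assoc, mul_assoc, hcw.eq]
      · intro c h1 h2 j hj
        rcases List.mem_cons.mp hj with rfl | hj
        · exact (h1 j₀ hj₀).mul_right h2
        · exact h1 j (hJ'J j hj)
  · push Not at hA
    have hcw : Commute w J.prod := commute_prod fun j hj => (hc j hj).symm
    refine ⟨w :: J, hJ.cons hw ?_, ?_, ?_, ?_⟩
    · intro j hj
      have hjD := hJ.mem j hj
      have hjT := hJT j hj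
      obtain ⟨q, hq, hjq⟩ := hB.cov j hjD hjT
      have hqv : v ≠ q := by
        rintro rfl
        exact hA j hj hjq
      exact hB.diff hv hq hqv hwT hwv hjT hjq
    · intro j hj
      rcases List.mem_cons.mp hj with rfl | hj
      · exact hwT
      · exact hJT j hj
    · rw [List.prod_cons, hcw.eq]
    · intro c h1 h2 j hj
      rcases List.mem_cons.mp hj with rfl | hj
      · exact h2
      · exact h1 j hj

/-- products of two commuting independent sets in `T` -/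
theorem Block.mul (hB : Block F T V) {K : List G} : ∀ {J : List G}, F.Ind J → (∀ j ∈ J, j ∈ T) →
    F.Ind K → (∀ k ∈ K, k ∈ T) → (∀ j ∈ J, ∀ k ∈ K, Commute j k) →
    ∃ J', F.Ind J' ∧ (∀ j ∈ J', j ∈ T) ∧ J'.prod = J.prod * K.prod := by
  induction K with
  | nil =>
    intro J hJ hJT _ _ _
    exact ⟨J, hJ, hJT, by rw [List.prod_nil, mul_one]⟩
  | cons w K ih =>
    intro J hJ hJT hK hKT hc
    obtain ⟨hw, hz, hKi⟩ := hK.of_cons
    obtain ⟨J', hJ', hJ'T, hprod, hcc⟩ := hB.step hJ hJT hw (hKT w (by simp))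
      fun j hj => hc j hj w (by simp)
    obtain ⟨J'', h1, h2, h3⟩ := ih hJ' hJ'T hKi (fun k hk => hKT k (by simp [hk])) (by
      intro j hj k hk
      exact (hcc k (fun i hi => (hc i hi k (by simp [hk])).symm) (hz k hk).comm.symm j hj).symm)
    exact ⟨J'', h1, h2, by rw [h3, hprod, List.prod_cons, mul_assoc]⟩

/-- the block system of `T` is unique -/
theorem Block.mem_of_block (hB : Block F T V) {V' : List G} (hB' : Block F T V') {u : G}
    (hu : u ∈ V') : u ∈ V := by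
  have huD := hB'.ind.mem u hu
  have huT := hB'.mem u hu
  obtain ⟨v, hv, huv⟩ := hB.cov u huD huT
  obtain ⟨s, hs, hsv⟩ := hB.exists_other v
  obtain ⟨h1, h2, -⟩ := huv.zz hB.pg huT (hB.mem s hs) (hB.ind.z hv hs (Ne.symm hsv))
  have h3 : v = u := hB'.eq_of_A hu huv.symm fun p hpT hpL => by
    obtain ⟨n, hn⟩ := two_pow_of_mem hB.pg hpT
    have h3 := h1.mem_cmp hpL hn (F.comm_LK hB.pg huD hpL hpT h1.mem (hB.mem s hs))
    rw [h2] at h3
    exact hB.cenB v hv s hs (Ne.symm hsv) p hpT h3 v hv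
  rw [← h3]; exact hv

theorem Block.prod_eq (hB : Block F T V) {V' : List G} (hB' : Block F T V') :
    V.prod = V'.prod := by
  have hp : V.Perm V' := (List.perm_ext_iff_of_nodup hB.ind.nodup hB'.ind.nodup).mpr fun u =>
    ⟨fun h => hB'.mem_of_block hB h, fun h => hB.mem_of_block hB' h⟩
  apply hp.prod_eq'
  exact hB.ind.pw.imp fun hz => hz.comm

/-- `T` centralizes the product of its block system -/
theorem Block.commute (hB : Block F T V) {g : G} (hg : g ∈ T) : Commute g V.prod := by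
  have h1 := hB.cj g
  have h2 : IntrinsicBasic.cj g T = T := cj_eq_self_of_mem hg
  rw [h2] at h1
  have h3 := hB.prod_eq h1
  rw [prod_lcj] at h3
  exact commute_of_conj_eq h3.symm

theorem Block.ne_nil (hB : Block F T V) : V ≠ [] := by
  intro h
  have := hB.two
  rw [h] at this
  simp at this

theorem Block.commD (hB : Block F T V) {w v : G} (hw : w ∈ F.D) (hwT : w ∈ T) (hv : v ∈ V) :
    Commute w v := by
  obtain ⟨v', hv', hwv'⟩ := hB.cov w hw hwT
  exact hB.commA hv' hwT hwv' hv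

theorem Block.prod_mem (hB : Block F T V) : V.prod ∈ T := list_prod_mem hB.mem

/-- a conjugate `b ∈ T` of `x = ∏ V` is the product of a conjugate of `V` in `T` -/
theorem Block.exists_conj {T : Sylow 2 G} (hB : Block F (T : Subgroup G) V) {h : G}
    (hb : h * V.prod * h⁻¹ ∈ (T : Subgroup G)) : ∃ c ∈ Ce (h * V.prod * h⁻¹),
    ∀ v ∈ V, (c * h) * v * (c * h)⁻¹ ∈ (T : Subgroup G) := by
  have h2 : Fact (Nat.Prime 2) := ⟨Nat.prime_two⟩
  obtain ⟨b, hbe⟩ : ∃ b, b = h * V.prod * h⁻¹ := ⟨_, rfl⟩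
  rw [← hbe] at hb ⊢
  have hJ : F.Ind (lcj h V) := hB.ind.cj h
  have hJp : (lcj h V).prod = b := by rw [prod_lcj, hbe]
  have hb2 : orderOf b = 2 := by
    rw [hbe, orderOf_cj]; exact hB.ind.orderOf_prod hB.ne_nil
  have hWC : closure (lset (lcj h V)) ≤ Ce b := by
    rw [closure_le]
    intro j hj
    rw [SetLike.mem_coe, mem_Ce, ← hJp]
    exact hJ.commute_prod hj
  obtain ⟨Q, hQ, hTQ⟩ := exists_isMaxP (p := 2) (C := Ce b) (W := (T : Subgroup G) ⊓ Ce b)
    (T.2.to_le inf_le_left) inf_le_right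
  obtain ⟨c, hc, hcQ⟩ := hQ.exists_conj_le hJ.closure_pgroup hWC
  obtain ⟨T', hQT'⟩ := hQ.1.exists_le_sylow
  obtain ⟨v₀, V₀, hV₀⟩ := List.exists_cons_of_ne_nil hB.ne_nil
  obtain ⟨s, hs, hsv⟩ := hB.exists_other v₀
  have hz : F.Z v₀ s := hB.ind.z (by rw [hV₀]; simp) hs (Ne.symm hsv)
  obtain ⟨V', hB'⟩ := exists_block_of_sylow hz T'
  have hcb : Commute c b := mem_Ce.mp hc
  have hfus : Fus F (T : Subgroup G) (T' : Subgroup G) b (lcj c (lcj h V)) := by
    refine ⟨T'.2, hb, hb2, hJ.cj c, ?_, ?_, ?_⟩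
    · rw [prod_lcj, hJp, conj_eq_of_commute hcb]
    · intro x hx
      obtain ⟨j, hj, rfl⟩ := mem_lcj.mp hx
      exact hQT' (hcQ ⟨j, subset_closure hj, rfl⟩)
    · intro x hx hxb
      exact hQT' (hTQ ⟨hx, mem_Ce.mpr hxb⟩)
  refine ⟨c, hc, fun v hv => ?_⟩
  have h3 := hfus.mem hB hB' (c * (h * v * h⁻¹) * c⁻¹)
    (mem_lcj.mpr ⟨_, mem_lcj.mpr ⟨v, hv, rfl⟩, rfl⟩)
  have e : c * h * v * (c * h)⁻¹ = c * (h * v * h⁻¹) * c⁻¹ := by group
  rw [e]; exact h3

end FrameC

end Cfsg.Agent.UGT.I34.WOneC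
end

-- part: UGT/I34/WOneC/End
section
set_option linter.all false
open scoped Cfsg.Agent.FastGrp

/-!
The commuting graph on `D` is connected (modulo Aschbacher's criterion S1175).
-/

set_option autoImplicit false
set_option linter.unusedSectionVars false

namespace Cfsg.Agent.UGT.I34.WOneC

open Subgroup Cfsg
open Cfsg.Agent.SignalizersComponents
open Cfsg.Agent.SignalizersComponents.PLayerAut
open Cfsg.Agent.SignalizersComponents.IntrinsicBasic
open Cfsg.Agent.SignalizersComponents.RelSylow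
open Cfsg.Agent.Intrinsic.WOneA (Ce OC mem_Ce mul_self_of_order ne_one_of_order order_two
  inv_eq_of_order pow_of_order orderOf_cj conj_eq_of_commute commute_of_conj_eq normalizes dihedral
  lcj mem_lcj length_lcj prod_lcj commute_prod lset isMaxP_of_card IsMaxP.card_le card_cj
  IsMaxP.inf_of_normalizes mem_sup_of_normalizes exists_commuting_conj Asch)

namespace FrameC

variable {G : Type*} [Group G] [Finite G] {F : FrameC G} {V : List G}

/-- (h2) -/
theorem Block.mem_N {T : Sylow 2 G} (hB : Block F (T : Subgroup G) V) {z : G} (hz : z ∈ F.D)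
    (hzT : z ∈ (T : Subgroup G)) {g : G} (hg : g * V.prod * g⁻¹ ∈ F.N z) : g ∈ F.N z := by
  have h2 : Fact (Nat.Prime 2) := ⟨Nat.prime_two⟩
  have hTN := pgroup_le_N T.2 (Con.refl (F := F) z) hz hzT
  have hx2 := hB.ind.orderOf_prod hB.ne_nil
  have hbp : IsPGroup 2 (zpowers (g * V.prod * g⁻¹)) := by
    apply IsPGroup.of_card (n := 1)
    rw [Nat.card_zpowers, orderOf_cj, hx2]; norm_num
  obtain ⟨n, hn, hnT⟩ := (isMaxP_of_sylow_le T hTN).exists_conj_le hbp ((zpowers_le).mpr hg)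
  have h3 : n * (g * V.prod * g⁻¹) * n⁻¹ ∈ (T : Subgroup G) := hnT ⟨_, mem_zpowers _, rfl⟩
  have e : n * (g * V.prod * g⁻¹) * n⁻¹ = (n * g) * V.prod * (n * g)⁻¹ := by group
  rw [e] at h3
  obtain ⟨c, hc, hcT⟩ := hB.exists_conj h3
  obtain ⟨v₀, V₀, hV₀⟩ := List.exists_cons_of_ne_nil hB.ne_nil
  have hv₀ : v₀ ∈ V := by rw [hV₀]; simp
  have hconV : ∀ v ∈ V, F.Con z v := fun v hv =>
    (Con.refl (F := F) z).of_pgroup T.2 hz (hB.ind.mem v hv) hzT (hB.mem v hv)
  have hch : c * (n * g) ∈ F.N z :=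
    mem_N_of_conj hz (hconV v₀ hv₀) (hTN (hcT v₀ hv₀))
  -- `C(b) ≤ N`
  have hJ : F.Ind (lcj (c * (n * g)) V) := hB.ind.cj _
  have hJp : (lcj (c * (n * g)) V).prod = (n * g) * V.prod * (n * g)⁻¹ := by
    rw [prod_lcj]
    have h4 := conj_eq_of_commute (mem_Ce.mp hc)
    rw [← h4]; group
  have hcN : c ∈ F.N z := by
    refine hJ.Ce_le ?_ hz ?_ (by rw [hJp]; exact hc)
    · intro h4
      have h5 := length_lcj (c * (n * g)) V
      rw [h4] at h5
      have h6 := hB.two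
      simp only [List.length_nil] at h5
      omega
    · intro j hj
      obtain ⟨v, hv, rfl⟩ := mem_lcj.mp hj
      exact (Con.refl (F := F) z).of_pgroup T.2 hz (F.conj v (hB.ind.mem v hv) _) hzT (hcT v hv)
  have h5 := (F.N z).mul_mem ((F.N z).inv_mem hn)
    ((F.N z).mul_mem ((F.N z).inv_mem hcN) hch)
  have e2 : n⁻¹ * (c⁻¹ * (c * (n * g))) = g := by group
  rwa [e2] at h5

/-- (h3) -/
theorem Block.Ce_mul_le {T : Sylow 2 G} (hB : Block F (T : Subgroup G) V) {z : G} (hz : z ∈ F.D)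
    (hzT : z ∈ (T : Subgroup G)) {g : G} (hc : Commute V.prod (g * V.prod * g⁻¹))
    (hne : g * V.prod * g⁻¹ ≠ V.prod) : Ce (V.prod * (g * V.prod * g⁻¹)) ≤ F.N z := by
  have h2 : Fact (Nat.Prime 2) := ⟨Nat.prime_two⟩
  obtain ⟨x, hx⟩ : ∃ x, x = V.prod := ⟨_, rfl⟩
  have hx2 : orderOf x = 2 := hx ▸ hB.ind.orderOf_prod hB.ne_nil
  rw [← hx] at hc hne ⊢
  have hconT : ∀ w ∈ F.D, w ∈ (T : Subgroup G) → F.Con z w := fun w hw hwT =>
    (Con.refl (F := F) z).of_pgroup T.2 hz hw hzT hwT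
  have hCx : Ce x ≤ F.N z := by
    rw [hx]
    exact hB.ind.Ce_le hB.ne_nil hz fun v hv => hconT v (hB.ind.mem v hv) (hB.mem v hv)
  have hTx : (T : Subgroup G) ≤ Ce x := fun t ht => by
    rw [mem_Ce, hx]; exact hB.commute ht
  have hyp : IsPGroup 2 (zpowers (g * x * g⁻¹)) := by
    apply IsPGroup.of_card (n := 1)
    rw [Nat.card_zpowers, orderOf_cj, hx2]; norm_num
  obtain ⟨c, hcx, hcT⟩ := (isMaxP_of_sylow_le T hTx).exists_conj_le hyp
    ((zpowers_le).mpr (mem_Ce.mpr hc.symm))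
  have h3 : c * (g * x * g⁻¹) * c⁻¹ ∈ (T : Subgroup G) := hcT ⟨_, mem_zpowers _, rfl⟩
  have e : c * (g * x * g⁻¹) * c⁻¹ = (c * g) * x * (c * g)⁻¹ := by group
  rw [e] at h3
  have hcx' : c * x * c⁻¹ = x := conj_eq_of_commute (mem_Ce.mp hcx)
  obtain ⟨d, hd, hdT⟩ := hB.exists_conj (h := c * g) (by rw [← hx]; exact h3)
  rw [← hx] at hd
  have hJ : F.Ind (lcj (d * (c * g)) V) := hB.ind.cj _
  have hJp : (lcj (d * (c * g)) V).prod = (c * g) * x * (c * g)⁻¹ := by
    rw [prod_lcj, ← hx]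
    have h4 := conj_eq_of_commute (mem_Ce.mp hd)
    rw [← h4]; group
  have hJT : ∀ j ∈ lcj (d * (c * g)) V, j ∈ (T : Subgroup G) := by
    intro j hj
    obtain ⟨v, hv, rfl⟩ := mem_lcj.mp hj
    exact hdT v hv
  obtain ⟨J', hJ', hJ'T, hprod⟩ := hB.mul hB.ind hB.mem hJ hJT fun v hv j hj =>
    (hB.commD (hJ.mem j hj) (hJT j hj) hv).symm
  rw [hJp, ← hx] at hprod
  have hprod' : J'.prod = c * (x * (g * x * g⁻¹)) * c⁻¹ := by
    rw [hprod]
    calc x * ((c * g) * x * (c * g)⁻¹) = (c * x * c⁻¹) * ((c * g) * x * (c * g)⁻¹) := by rw [hcx']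
      _ = c * (x * (g * x * g⁻¹)) * c⁻¹ := by group
  have hne' : J' ≠ [] := by
    rintro rfl
    rw [List.prod_nil] at hprod'
    have h5 : x * (g * x * g⁻¹) = 1 := by
      have := congrArg (fun y => c⁻¹ * y * c) hprod'
      simp only [mul_one, inv_mul_cancel] at this
      rw [this]; group
    apply hne
    rw [← inv_eq_of_order hx2]
    rw [inv_eq_of_order hx2]
    have h6 := eq_inv_of_mul_eq_one_right h5
    rw [h6, inv_eq_of_order hx2]
  have hle := hJ'.Ce_le hne' hz fun j hj => hconT j (hJ'.mem j hj) (hJ'T j hj)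
  intro y hy
  have hcy : c * y * c⁻¹ ∈ F.N z := by
    apply hle
    rw [mem_Ce, hprod']
    have := mem_Ce.mp hy
    exact (Commute.map this (MulAut.conj c).toMonoidHom : _)
  have hcN := hCx hcx
  have := (F.N z).mul_mem ((F.N z).mul_mem ((F.N z).inv_mem hcN) hcy) hcN
  have e3 : c⁻¹ * (c * y * c⁻¹) * c = y := by group
  rwa [e3] at this

/-- 5b.5: `N = G` -/
theorem N_eq_top {u s : G} (h : F.Z u s) (hA : Asch G) {z : G} (hz : z ∈ F.D) : F.N z = ⊤ := by
  have h2 : Fact (Nat.Prime 2) := ⟨Nat.prime_two⟩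
  by_contra hN
  have hzp : IsPGroup 2 (zpowers z) := by
    apply IsPGroup.of_card (n := 1)
    rw [Nat.card_zpowers, F.ord z hz]; norm_num
  obtain ⟨T, hT⟩ := hzp.exists_le_sylow
  have hzT : z ∈ (T : Subgroup G) := hT (mem_zpowers z)
  obtain ⟨V, hB⟩ := exists_block_of_sylow h T
  have hTN := pgroup_le_N T.2 (Con.refl (F := F) z) hz hzT
  have hx2 : orderOf V.prod = 2 := hB.ind.orderOf_prod hB.ne_nil
  obtain ⟨H, hH⟩ := hA (F.N z) hN V.prod hx2 (hTN hB.prod_mem)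
    ⟨T, hB.prod_mem, fun t ht => hB.commute ht⟩ (fun g hg => hB.mem_N hz hzT hg)
    (fun g hc hne => hB.Ce_mul_le hz hzT hc hne)
  obtain ⟨g, hg⟩ := isConj_iff.mp (TwoFusion.StronglyEmbeddedBasic.isConj_of_involutions hH u
    (u * s) (F.ord u h.left) h.orderOf_mul)
  apply F.prod u h.left s h.right h.ne h.mem
  rw [← hg]
  exact F.conj u h.left g

/-- the commuting graph on `D` is connected -/
theorem con {u s : G} (h : F.Z u s) (hA : Asch G) {z w : G} (hz : z ∈ F.D) (hw : w ∈ F.D) :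
    F.Con z w := by
  obtain ⟨g, hg⟩ := F.one_class z hz w hw
  have h1 : g ∈ F.N z := by rw [N_eq_top h hA hz]; exact mem_top g
  rw [← hg]
  exact h1

end FrameC

end Cfsg.Agent.UGT.I34.WOneC
end

-- part: UGT/I34/WOneC/Comp
section
prune_inst 0x1000450054000000001800002000200030000002004000002040000000080001a04408013060021001202870000a002003100049423000002a000a0040000000000220c29008000001000000c800000000000000000000000000000000000000000000000
set_option linter.all false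
open scoped Cfsg.Agent.FastGrp

/-!
The contradiction if the commuting graph on `D` is connected (5b.2 in a `FrameC`).
-/

set_option autoImplicit false
set_option linter.unusedSectionVars false

namespace Cfsg.Agent.UGT.I34.WOneC

open Subgroup Cfsg
open Cfsg.Agent.SignalizersComponents
open Cfsg.Agent.SignalizersComponents.PLayerAut
open Cfsg.Agent.SignalizersComponents.IntrinsicBasic
open Cfsg.Agent.SignalizersComponents.RelSylow
open scoped commutatorElement
open Cfsg.Agent.Intrinsic.WOneA (Ce OC mem_Ce mul_self_of_order ne_one_of_order order_two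
  inv_eq_of_order pow_of_order orderOf_cj conj_eq_of_commute commute_of_conj_eq normalizes dihedral
  lcj mem_lcj length_lcj prod_lcj commute_prod lset isMaxP_of_card IsMaxP.card_le card_cj
  IsMaxP.inf_of_normalizes mem_sup_of_normalizes exists_commuting_conj Asch commute_of_ne
  le_of_involutions)

namespace FrameC

variable {G : Type*} [Group G] [Finite G] {F : FrameC G}

theorem pgroup_zpowers {x : G} (h : orderOf x = 2) : IsPGroup 2 (zpowers x) := by
  apply IsPGroup.of_card (n := 1)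
  rw [Nat.card_zpowers, h]; norm_num

theorem Z.tc {z s : G} (h : F.Z z s) : TC (Ce s) (F.cmp s z) :=
  F.cmp_comp z h.left s h.mem (F.ord s h.right)

theorem Z.exists_noncentral {z s : G} (h : F.Z z s) : ∃ k ∈ F.cmp s z, ¬ Commute k z := by
  have hs2 := F.ord s h.right
  obtain ⟨t, ht, ht2, htz, htc⟩ := F.exists_inv z h.left (zpowers s) (pgroup_zpowers hs2)
    ((zpowers_le).mpr h.mem)
  have hts : Commute t s := htc s (mem_zpowers s)
  obtain ⟨g, hg, hgt⟩ := F.big z h.left s h.right h.ne h.mem t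
    (h.mem_cmp ht (pow_of_order ht2) hts) ht2
  refine ⟨g, hg, fun hc => htz ?_⟩
  rw [← hgt, conj_eq_of_commute hc]

/-- the big component is generated by its involutions -/
theorem Z.cmp_le (hO : ∀ u ∈ F.D, OC u = ⊥) {z s : G} (h : F.Z z s) {N : Subgroup G}
    (hN : ∀ t ∈ F.cmp s z, orderOf t = 2 → t ∈ N) : F.cmp s z ≤ N := by
  obtain ⟨k, hk, hc⟩ := h.exists_noncentral
  exact le_of_involutions h.tc (hO s h.right)
    (F.self_mem_cmp h.left h.mem (F.ord s h.right)) (F.ord z h.left) hk hc hN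

theorem Z.centralizes (hO : ∀ u ∈ F.D, OC u = ⊥) {z s s' : G} (h : F.Z z s) (h' : F.Z z s')
    (hc : Commute s s') {m : G} (hm : m ∈ F.cmp s z) : Commute m s' := by
  have h1 := ((mem_cenMod h.tc.le).mp (h.cen h' hc)).2 m hm
  have h2 : m⁻¹ * (s' * m * s'⁻¹) = 1 := by
    have h3 : m⁻¹ * (s' * m * s'⁻¹) ∈ OC s := h1
    rwa [hO s h.right, mem_bot] at h3
  exact (commute_of_conj_eq (inv_mul_eq_one.mp h2).symm).symm

theorem Z.cmp_le_of_comm (hO : ∀ u ∈ F.D, OC u = ⊥) {z s s' : G} (h : F.Z z s) (h' : F.Z z s')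
    (hc : Commute s s') : F.cmp s z ≤ F.cmp s' z := by
  apply h.cmp_le hO
  have key := F.se z h.left s h.right h.ne h.mem (hO s h.right)
    {t | orderOf t = 2 ∧ t ∈ F.cmp s z ∧ t ∈ F.cmp s' z}
    ⟨F.ord z h.left, F.self_mem_cmp h.left h.mem (F.ord s h.right),
      F.self_mem_cmp h.left h'.mem (F.ord s' h'.right)⟩
  intro t ht ht2
  refine (key ?_ t ht ht2).2.2
  rintro t ⟨ht2, ht, ht'⟩ r hr hr2 htr
  refine ⟨hr2, hr, ?_⟩
  obtain ⟨h1, h2⟩ := h.of_mem_cmp ht ht2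
  obtain ⟨h1', h2'⟩ := h'.of_mem_cmp ht' ht2
  have hrA : F.A t r := A.of_cmp h1.left h1.mem (F.ord s h.right) (by rw [h2]; exact hr) hr2 htr.symm
  rw [← h2']
  exact h1'.mem_cmp_of_A hrA (h.centralizes hO h' hc hr)

theorem Z.cmp_eq_of_comm (hO : ∀ u ∈ F.D, OC u = ⊥) {z s s' : G} (h : F.Z z s) (h' : F.Z z s')
    (hc : Commute s s') : F.cmp s z = F.cmp s' z :=
  le_antisymm (h.cmp_le_of_comm hO h' hc) (h'.cmp_le_of_comm hO h hc.symm)

theorem Z.cmp_eq (hO : ∀ u ∈ F.D, OC u = ⊥) {z s s' : G} (h : F.Z z s) (h' : F.Z z s') :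
    F.cmp s z = F.cmp s' z := by
  have hz2 := F.ord z h.left
  by_cases e : F.cmp z s = F.cmp z s'
  · have key := F.se s h.right z h.left h.ne.symm h.symm.mem (hO z h.left)
      {t | F.Z z t ∧ F.cmp t z = F.cmp s z} ⟨h, rfl⟩
    refine (key ?_ s' ?_ (F.ord s' h'.right)).2.symm
    · rintro t ⟨ht, hte⟩ r hr hr2 htr
      have h1 := (h.symm.of_mem_cmp hr hr2).1.symm
      refine ⟨h1, ?_⟩
      rw [← hte]
      exact h1.cmp_eq_of_comm hO ht htr.symm
    · rw [e]; exact F.self_mem_cmp h'.right h'.symm.mem hz2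
  · refine h.cmp_eq_of_comm hO h' ?_
    exact commute_of_ne h.symm.tc h'.symm.tc e (hO z h.left)
      (F.self_mem_cmp h.right h.symm.mem hz2) (F.self_mem_cmp h'.right h'.symm.mem hz2)

theorem Z.exists_z {u s : G} (h : F.Z u s) {z : G} (hz : z ∈ F.D) : ∃ t, F.Z z t := by
  obtain ⟨g, hg⟩ := F.one_class u h.left z hz
  refine ⟨g * s * g⁻¹, ?_⟩
  rw [← hg]
  exact h.conj g

/-- if `(u, v)` is not of type (0), there is `s` commuting with `v`, `(u, s)` of type (0) -/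
theorem A.exists_z {u v s : G} (ha : F.A u v) (h : F.Z u s) :
    ∃ s', F.Z u s' ∧ Commute v s' := by
  have h2 : Fact (Nat.Prime 2) := ⟨Nat.prime_two⟩
  by_cases e : u = v
  · exact ⟨s, h, e ▸ h.comm⟩
  have hvC : v ∈ Ce u := mem_Ce.mpr ha.comm.symm
  -- a Sylow subgroup of `C(u)` containing `v`, one containing `s`
  obtain ⟨Q, hQ, hvQ⟩ := exists_isMaxP (p := 2) (C := Ce u) (pgroup_zpowers (F.ord v ha.right))
    ((zpowers_le).mpr hvC)
  have hsC : s ∈ Ce u := F.K_le u h.mem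
  obtain ⟨c, hc, hcs⟩ := hQ.exists_conj_le (pgroup_zpowers (F.ord s h.right))
    ((zpowers_le).mpr hsC)
  have h3 : c * s * c⁻¹ ∈ Q := hcs ⟨s, mem_zpowers s, rfl⟩
  have h4 := h.conj c
  have hcu : c * u * c⁻¹ = u := conj_eq_of_commute (mem_Ce.mp hc)
  rw [hcu] at h4
  exact ⟨c * s * c⁻¹, h4, ha.commute_of_Z hQ.1 (hvQ (mem_zpowers v)) h3 h4⟩

open Classical in
variable (F) in
/-- the component `B(z) = M_s(L_z)` (independent of `s`) -/
noncomputable def B (z : G) : Subgroup G := if h : ∃ s, F.Z z s then F.cmp h.choose z else ⊥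

theorem Z.B_eq (hO : ∀ u ∈ F.D, OC u = ⊥) {z s : G} (h : F.Z z s) : F.B z = F.cmp s z := by
  have hex : ∃ s, F.Z z s := ⟨s, h⟩
  unfold B
  rw [dif_pos hex]
  exact hex.choose_spec.cmp_eq hO h

theorem Z.mem_B (hO : ∀ u ∈ F.D, OC u = ⊥) {z s : G} (h : F.Z z s) : z ∈ F.B z := by
  rw [h.B_eq hO]; exact F.self_mem_cmp h.left h.mem (F.ord s h.right)

/-- `B v = B u` if `(u, v)` is not of type (0) -/
theorem Z.B_of_A (hO : ∀ u ∈ F.D, OC u = ⊥) {u s v : G} (h : F.Z u s) (hv : F.A u v) :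
    F.B v = F.B u := by
  obtain ⟨t, ht, hc⟩ := hv.exists_z h
  obtain ⟨h1, h2⟩ := ht.inherit_of_A hv hc
  rw [h1.B_eq hO, ht.B_eq hO, h2]

theorem Z.B_comm (hO : ∀ u ∈ F.D, OC u = ⊥) {u v : G} (h : F.Z u v) {a b : G} (ha : a ∈ F.B u)
    (hb : b ∈ F.B v) : Commute a b := by
  rw [h.symm.B_eq hO] at hb
  have h1 : F.cmp u v ≤ centralizer (F.B u : Set G) := by
    apply h.symm.cmp_le hO
    intro t ht ht2
    have h2 := (h.symm.of_mem_cmp ht ht2).1.symm
    rw [mem_centralizer_iff]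
    intro a ha
    rw [SetLike.mem_coe, h2.B_eq hO] at ha
    exact mem_Ce.mp (h2.tc.le ha)
  exact mem_centralizer_iff.mp (h1 hb) a ha

/-- the components `B` are equal or commute -/
theorem Z.B_eq_or {u₀ s₀ : G} (h₀ : F.Z u₀ s₀) (hO : ∀ u ∈ F.D, OC u = ⊥) {z w : G}
    (hz : z ∈ F.D) (h : F.Con z w) :
    F.B w = F.B z ∨ ∀ a ∈ F.B w, ∀ b ∈ F.B z, Commute a b := by
  have hBB : ∀ u ∈ F.D, ∀ v ∈ F.D, Commute u v → F.B v = F.B u ∨ F.Z u v := by
    intro u hu v hv hc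
    rcases F.A_or_Z hu hv hc with h1 | h1
    · obtain ⟨s, hs⟩ := h₀.exists_z hu
      exact Or.inl (hs.B_of_A hO h1)
    · exact Or.inr h1
  induction h with
  | refl => exact Or.inl rfl
  | @tail u v hzu huv ih =>
    obtain ⟨hu, hv, hc⟩ := huv
    rcases hBB u hu v hv hc with h1 | h1
    · rw [h1]; exact ih
    · rcases ih with h2 | h2
      · right
        intro a ha b hb
        rw [← h2] at hb
        exact (h1.B_comm hO hb ha).symm
      · obtain ⟨s, hs⟩ := h₀.exists_z hu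
        obtain ⟨t, ht⟩ := h₀.exists_z hz
        have huz : Commute u z := h2 u (hs.mem_B hO) z (ht.mem_B hO)
        rcases hBB u hu z hz huz with h3 | h3
        · right
          intro a ha b hb
          rw [h3] at hb
          exact (h1.B_comm hO hb ha).symm
        · by_cases e : F.B v = F.B z
          · exact Or.inl e
          · right
            intro a ha b hb
            rw [h1.symm.B_eq hO] at ha e
            rw [h3.symm.B_eq hO] at hb e
            exact commute_of_ne h1.symm.tc h3.symm.tc e (hO u hu) ha hb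

theorem false_of_core [IsSimpleGroup G] {u s : G} (h : F.Z u s) (hO : ∀ u ∈ F.D, OC u = ⊥)
    (hcon : ∀ z ∈ F.D, ∀ w ∈ F.D, F.Con z w) : False := by
  have hu := h.left
  have hDn : (closure F.D).Normal := by
    refine ⟨fun n hn g => ?_⟩
    induction hn using closure_induction with
    | mem x hx => exact subset_closure (F.conj x hx g)
    | one => rw [mul_one, mul_inv_cancel]; exact one_mem _
    | mul a b _ _ iha ihb =>
      have e : g * (a * b) * g⁻¹ = (g * a * g⁻¹) * (g * b * g⁻¹) := by group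
      rw [e]; exact mul_mem iha ihb
    | inv a _ iha =>
      have e : g * a⁻¹ * g⁻¹ = (g * a * g⁻¹)⁻¹ := by group
      rw [e]; exact inv_mem iha
  have hDtop : closure F.D = ⊤ := by
    rcases hDn.eq_bot_or_eq_top with h1 | h1
    · exfalso
      have h2 : u ∈ closure F.D := subset_closure hu
      rw [h1, mem_bot] at h2
      exact ne_one_of_order (F.ord u hu) h2
    · exact h1
  have hle : closure F.D ≤ normalizer (F.B u : Set G) := by
    rw [closure_le]
    intro w hw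
    obtain ⟨t, ht⟩ := h.exists_z hw
    have hwB := ht.mem_B hO
    rcases h.B_eq_or hO hu (hcon u hu w hw) with h1 | h1
    · rw [h1] at hwB
      exact le_normalizer hwB
    · rw [SetLike.mem_coe, mem_normalizer_iff_cj]
      have hfix : ∀ b ∈ F.B u, w * b * w⁻¹ = b := fun b hb =>
        conj_eq_of_commute (h1 w hwB b hb)
      have hsub : cj w (F.B u) ≤ F.B u := by
        rintro _ ⟨b, hb, rfl⟩
        change w * b * w⁻¹ ∈ F.B u
        rw [hfix b hb]; exact hb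
      exact Subgroup.eq_of_le_of_card_ge hsub (card_cj w _).ge
  rw [hDtop, top_le_iff, normalizer_eq_top_iff] at hle
  rcases hle.eq_bot_or_eq_top with h1 | h1
  · have h2 := h.mem_B hO
    rw [h1, mem_bot] at h2
    exact ne_one_of_order (F.ord u hu) h2
  · rw [h.B_eq hO] at h1
    have h2 : Ce s = ⊤ := by rw [eq_top_iff, ← h1]; exact h.tc.le
    obtain ⟨g, hg⟩ := F.one_class s h.right u hu
    have h3 : g ∈ Ce s := by rw [h2]; exact mem_top g
    rw [conj_eq_of_commute (mem_Ce.mp h3)] at hg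
    exact h.ne hg.symm

/-- the cores vanish -/
theorem core_eq_bot [IsSimpleGroup G] {F : FrameC G}
    (hcon : ∀ z ∈ F.D, ∀ w ∈ F.D, F.Con z w) (W : G → Subgroup G)
    (hW1 : ∀ u ∈ F.D, Odd (Nat.card (W u))) (hW2 : ∀ u ∈ F.D, OC u ≤ W u)
    (hW3 : ∀ u ∈ F.D, ∀ g, W (g * u * g⁻¹) = cj g (W u))
    (hW4 : ∀ u ∈ F.D, ∀ v ∈ F.D, Commute u v → W u = W v) : ∀ u ∈ F.D, OC u = ⊥ := by
  intro z hz
  have hconst : ∀ w, F.Con z w → W w = W z := by
    intro w hw
    induction hw with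
    | refl => rfl
    | tail _ hbc ih => rw [← ih]; exact (hW4 _ hbc.1 _ hbc.2.1 hbc.2.2).symm
  have hn : (W z).Normal := by
    rw [← normalizer_eq_top_iff, eq_top_iff]
    intro g _
    rw [mem_normalizer_iff_cj, ← hW3 z hz g]
    exact hconst _ (hcon z hz _ (F.conj z hz g))
  rcases hn.eq_bot_or_eq_top with h1 | h1
  · rw [eq_bot_iff, ← h1]; exact hW2 z hz
  · exfalso
    have h2 := hW1 z hz
    rw [h1, Subgroup.card_top] at h2
    have h3 : 2 ∣ Nat.card G := by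
      rw [← F.ord z hz]; exact orderOf_dvd_natCard z
    exact (Nat.not_even_iff_odd.mpr h2) (even_iff_two_dvd.mpr h3)

/-- the world with pairs of type (0) is empty -/
theorem false_of_frame [IsSimpleGroup G] (F : FrameC G) {u s : G} (h : F.Z u s) (hA : Asch G)
    (hW : ∃ W : G → Subgroup G, (∀ u ∈ F.D, Odd (Nat.card (W u))) ∧ (∀ u ∈ F.D, OC u ≤ W u) ∧
      (∀ u ∈ F.D, ∀ g, W (g * u * g⁻¹) = cj g (W u)) ∧
      (∀ u ∈ F.D, ∀ v ∈ F.D, Commute u v → W u = W v)) : False := by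
  obtain ⟨W, h1, h2, h3, h4⟩ := hW
  have hcon : ∀ z ∈ F.D, ∀ w ∈ F.D, F.Con z w := fun z hz w hw => con h hA hz hw
  exact false_of_core h (core_eq_bot hcon W h1 h2 h3 h4) hcon

end FrameC

end Cfsg.Agent.UGT.I34.WOneC
end

-- part: UGT/I34/WOneC/Functor
section
set_option linter.all false
open scoped Cfsg.Agent.FastGrp

/-!
(5b.1) in a `FrameC`: the odd subgroups `W u ⊇ O(C(u))`, and the end of world W1a (`false_of_frameC`).
-/

set_option autoImplicit false

namespace Cfsg.Agent.UGT.I34.WOneC.Functor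

open Subgroup Cfsg Cfsg.Agent.Intrinsic.Functor
open Cfsg.Agent.UGT.I34.WOneC Cfsg.Agent.UGT.I34.WOneC.FrameC
open Cfsg.Agent.SignalizersComponents
open Cfsg.Agent.SignalizersComponents.PLayerAut
open Cfsg.Agent.SignalizersComponents.IntrinsicBasic
open scoped commutatorElement
open Cfsg.Agent.Intrinsic.FunctorFrame (mem_four card_four cj_four comm_four sq_four elem_four
  commutator_le_of_cenMod)
open Cfsg.Agent.Intrinsic.WOneA (Ce OC mem_Ce mul_self_of_order ne_one_of_order order_two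
  inv_eq_of_order pow_of_order orderOf_cj conj_eq_of_commute commute_of_conj_eq normalizes
  mem_sup_of_normalizes exists_commuting_conj Asch)

universe u

variable {G : Type u} [Group G]

/-! ### the four-groups `⟨u, t⟩` -/

variable {F : FrameC G}

/-- `t` is an involution of `L u` different from `u` -/
structure Pr (F : FrameC G) (u t : G) : Prop where
  left : u ∈ F.D
  mem : t ∈ F.L u
  ord : orderOf t = 2
  ne : t ≠ u

namespace Pr

variable {u t : G} (h : Pr F u t)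

include h

theorem uu : u * u = 1 := mul_self_of_order (F.ord u h.left)

theorem tt : t * t = 1 := mul_self_of_order h.ord

theorem u1 : u ≠ 1 := ne_one_of_order (F.ord u h.left)

theorem t1 : t ≠ 1 := ne_one_of_order h.ord

theorem comm : Commute u t := (mem_Ce.mp (F.L_le h.left h.mem)).symm

theorem right : t ∈ F.D := (F.invol u h.left t h.mem h.ord).1

theorem swap : Pr F t u := ⟨h.right, (F.invol u h.left t h.mem h.ord).2, F.ord u h.left, h.ne.symm⟩

theorem mul_ord : orderOf (u * t) = 2 := by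
  apply order_two
  · have := sq_four h.uu h.tt h.comm (u * t)
      (mul_mem (subset_closure (by simp)) (subset_closure (by simp)))
    rwa [pow_two] at this
  · intro e
    apply h.ne
    have e1 : u = t⁻¹ := eq_inv_of_mul_eq_one_left e
    rw [e1, inv_eq_of_order h.ord]

theorem mul_mem' : u * t ∈ F.L u := mul_mem (F.self_mem u h.left) h.mem

theorem mul : Pr F u (u * t) := ⟨h.left, h.mul_mem', h.mul_ord, fun e => h.t1 (by simpa using e)⟩

theorem cj (g : G) : Pr F (g * u * g⁻¹) (g * t * g⁻¹) := by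
  refine ⟨F.conj u h.left g, ?_, ?_, ?_⟩
  · rw [F.L_conj u h.left g]; exact conj_mem_cj h.mem
  · rw [orderOf_cj]; exact h.ord
  · intro e
    apply h.ne
    have := congrArg (fun y => g⁻¹ * y * g) e
    simpa [mul_assoc] using this

theorem elem : IsElementaryAbelian 2 (closure ({u, t} : Set G)) := elem_four h.uu h.tt h.comm

theorem card : Nat.card ↥(closure ({u, t} : Set G)) = 4 :=
  card_four h.uu h.tt h.comm h.u1 h.t1 h.ne.symm

/-- the nontrivial elements are in `D` and the four-group is in their `L` -/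
theorem of_mem {a : G} (ha : a ∈ closure ({u, t} : Set G)) (ha1 : a ≠ 1) :
    a ∈ F.D ∧ closure ({u, t} : Set G) ≤ F.L a := by
  have key : ∀ b : G, b ∈ F.D → u ∈ F.L b → t ∈ F.L b → closure ({u, t} : Set G) ≤ F.L b := by
    intro b _ h1 h2
    rw [closure_le]
    rintro x (rfl | hx)
    · exact h1
    · rw [Set.mem_singleton_iff] at hx; rw [hx]; exact h2
  rcases (mem_four h.uu h.tt h.comm).mp ha with rfl | rfl | rfl | rfl
  · exact absurd rfl ha1
  · exact ⟨h.left, key _ h.left (F.self_mem _ h.left) h.mem⟩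
  · exact ⟨h.right, key _ h.right h.swap.mem (F.self_mem _ h.right)⟩
  · have h1 := h.mul.swap.mem
    have h2 := h.mul.right
    refine ⟨h2, key _ h2 h1 ?_⟩
    have h3 : u * (u * t) ∈ F.L (u * t) := mul_mem h1 (F.self_mem _ h2)
    rwa [← mul_assoc, h.uu, one_mul] at h3

theorem isPGroup : IsPGroup 2 (closure ({u, t} : Set G)) := isPGroup_of_sq h.elem.2

end Pr

/-! ### the configuration -/

/-- `⟨u, t⟩` and `⟨s, t'⟩`, commuting, of type (0) -/
structure Cfg (F : FrameC G) (u t s t' : G) : Prop where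
  z : F.Z u s
  left : Pr F u t
  right : Pr F s t'
  us : Commute u t'
  ts : Commute t s
  tt : Commute t t'

namespace Cfg

variable {u t s t' : G}

theorem symm (h : Cfg F u t s t') : Cfg F s t' u t :=
  ⟨h.z.symm, h.right, h.left, h.ts.symm, h.us.symm, h.tt.symm⟩

variable (h : Cfg F u t s t')

include h

theorem comm_all {a b : G} (ha : a ∈ closure ({u, t} : Set G)) (hb : b ∈ closure ({s, t'} : Set G)) :
    Commute a b := by
  have h1 : closure ({u, t} : Set G) ≤ centralizer ({s, t'} : Set G) := by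
    rw [closure_le]
    intro x hx
    rw [SetLike.mem_coe, mem_centralizer_iff]
    intro y hy
    rcases hx with rfl | hx <;> rcases hy with rfl | hy
    · exact h.z.comm.eq.symm
    · rw [Set.mem_singleton_iff] at hy; subst hy; exact h.us.eq.symm
    · rw [Set.mem_singleton_iff] at hx; subst hx; exact h.ts.eq.symm
    · rw [Set.mem_singleton_iff] at hx hy; subst hx; subst hy; exact h.tt.eq.symm
  have h2 : closure ({s, t'} : Set G) ≤ centralizer ({a} : Set G) := by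
    rw [closure_le]
    intro y hy
    rw [SetLike.mem_coe, mem_centralizer_singleton_iff]
    exact (mem_centralizer_iff.mp (h1 ha) y hy)
  exact (mem_centralizer_singleton_iff.mp (h2 hb)).symm

/-- all pairs are of type (0), left part -/
theorem z_left {a : G} (ha : a ∈ closure ({u, t} : Set G)) (ha1 : a ≠ 1) : F.Z a s := by
  rcases (mem_four h.left.uu h.left.tt h.left.comm).mp ha with rfl | rfl | rfl | rfl
  · exact absurd rfl ha1
  · exact h.z
  · exact (h.z.inherit h.left.mem h.left.ord h.ts).1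
  · exact (h.z.inherit h.left.mul_mem' h.left.mul_ord (h.z.comm.mul_left h.ts)).1

theorem zz {a b : G} (ha : a ∈ closure ({u, t} : Set G)) (ha1 : a ≠ 1)
    (hb : b ∈ closure ({s, t'} : Set G)) (hb1 : b ≠ 1) : F.Z a b := by
  have h1 := (h.z_left ha ha1).symm
  have hc : ∀ x ∈ closure ({s, t'} : Set G), Commute x a := fun x hx => (h.comm_all ha hx).symm
  rcases (mem_four h.right.uu h.right.tt h.right.comm).mp hb with rfl | rfl | rfl | rfl
  · exact absurd rfl hb1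
  · exact h1.symm
  · exact (h1.inherit h.right.mem h.right.ord (hc _ hb)).1.symm
  · exact (h1.inherit h.right.mul_mem' h.right.mul_ord (hc _ hb)).1.symm

theorem inf_eq_bot : closure ({u, t} : Set G) ⊓ closure ({s, t'} : Set G) = ⊥ := by
  rw [eq_bot_iff]
  rintro x ⟨hx, hx'⟩
  rw [mem_bot]
  by_contra hx1
  exact (h.zz hx hx1 hx' hx1).ne rfl

end Cfg

variable [Finite G]

theorem Cfg.separated {u t s t' : G} (h : Cfg F u t s t') :
    IsCoreSeparated (closure ({u, t} : Set G)) (closure ({s, t'} : Set G)) := by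
  refine ⟨h.left.elem, h.right.elem, h.left.card, h.right.card, ?_, h.inf_eq_bot,
    fun x hx y hy => (h.comm_all hx hy).eq, ?_⟩
  · intro e
    have h1 := h.inf_eq_bot
    rw [← e, inf_idem] at h1
    have h2 := h.left.card
    rw [h1, Subgroup.card_bot] at h2
    omega
  · intro a ha ha1 E hE
    have hE' : TC (Ce a) (E.map (Ce a).subtype) := by
      refine ⟨map_subtype_le _, ?_⟩
      have : (E.map (Ce a).subtype).subgroupOf (Ce a) = E :=
        Subgroup.comap_map_eq_self_of_injective (Ce a).subtype_injective _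
      rw [this]
      exact hE
    change ⁅E.map (Ce a).subtype, _⁆ ≤ relCore 2 (Ce a) ∨ ⁅E.map (Ce a).subtype, _⁆ ≤ relCore 2 (Ce a)
    obtain ⟨a₁, ha₁, a₂, ha₂, hprod⟩ : ∃ a₁ ∈ closure ({u, t} : Set G),
        ∃ a₂ ∈ closure ({s, t'} : Set G), a₁ * a₂ = a := by
      apply mem_sup_of_normalizes _ ha
      intro x hx
      rw [mem_normalizer_iff]
      intro y
      have hxy : ∀ y ∈ closure ({s, t'} : Set G), x * y * x⁻¹ = y := fun y hy =>
        conj_eq_of_commute (h.comm_all hx hy)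
      constructor
      · intro hy; rw [hxy y hy]; exact hy
      · intro hy
        have h1 : x⁻¹ * (x * y * x⁻¹) * x⁻¹⁻¹ = x * y * x⁻¹ :=
          conj_eq_of_commute (h.comm_all (inv_mem hx) hy)
        have h2 : x⁻¹ * (x * y * x⁻¹) * x⁻¹⁻¹ = y := by group
        rw [h2] at h1
        rw [h1]; exact hy
    -- a component different from `M` is centralized by the subgroups of `M`
    have key : ∀ M A : Subgroup G, TC (Ce a) M → A ≤ M → E.map (Ce a).subtype ≠ M →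
        ⁅E.map (Ce a).subtype, A⁆ ≤ relCore 2 (Ce a) := by
      intro M A hM hA hne
      exact commutator_le_of_cenMod hE'.le (hA.trans (hE'.le_cenMod hM hne))
    by_cases e1 : a₁ = 1
    · subst e1
      rw [one_mul] at hprod
      subst hprod
      obtain ⟨hD, hL⟩ := h.right.of_mem ha₂ ha1
      by_cases hne : E.map (Ce a₂).subtype = F.L a₂
      · left
        rw [hne]
        apply commutator_le_of_cenMod (F.L_le hD)
        intro x hx
        by_cases hx1 : x = 1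
        · rw [hx1]; exact one_mem _
        · exact (h.zz hx hx1 ha₂ ha1).K_right
      · right
        exact key _ _ (F.L_comp _ hD) hL hne
    by_cases e2 : a₂ = 1
    · subst e2
      rw [mul_one] at hprod
      subst hprod
      obtain ⟨hD, hL⟩ := h.left.of_mem ha₁ ha1
      by_cases hne : E.map (Ce a₁).subtype = F.L a₁
      · right
        rw [hne]
        apply commutator_le_of_cenMod (F.L_le hD)
        intro x hx
        by_cases hx1 : x = 1
        · rw [hx1]; exact one_mem _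
        · exact (h.zz ha₁ ha1 hx hx1).K_left
      · left
        exact key _ _ (F.L_comp _ hD) hL hne
    have hz := h.zz ha₁ e1 ha₂ e2
    have ho : orderOf a = 2 := by rw [← hprod]; exact hz.orderOf_mul
    have hK1 : a ∈ F.K a₁ := by
      rw [← hprod]; exact mul_mem (F.self_mem_K hz.left) hz.K_left
    have hK2 : a ∈ F.K a₂ := by
      rw [← hprod]; exact mul_mem hz.K_right (F.self_mem_K hz.right)
    have hne := hz.cmp_ne ho hK1 hK2
    have hL1 := (h.left.of_mem ha₁ e1).2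
    have hL2 := (h.right.of_mem ha₂ e2).2
    have hA1 : closure ({u, t} : Set G) ≤ F.cmp a a₁ := by
      intro x hx
      refine F.mem_cmp a₁ hz.left a hK1 ho x (hL1 hx) 1 ?_ ?_
      · rw [pow_one]; exact h.left.elem.2 x hx
      · rw [← hprod]
        exact Commute.mul_right (comm_four h.left.uu h.left.tt h.left.comm x hx a₁ ha₁)
          (h.comm_all hx ha₂)
    have hA2 : closure ({s, t'} : Set G) ≤ F.cmp a a₂ := by
      intro x hx
      refine F.mem_cmp a₂ hz.right a hK2 ho x (hL2 hx) 1 ?_ ?_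
      · rw [pow_one]; exact h.right.elem.2 x hx
      · rw [← hprod]
        exact Commute.mul_right (h.comm_all ha₁ hx).symm
          (comm_four h.right.uu h.right.tt h.right.comm x hx a₂ ha₂)
    by_cases e : E.map (Ce a).subtype = F.cmp a a₁
    · right
      apply key _ _ (F.cmp_comp a₂ hz.right a hK2 ho) hA2
      rw [e]; exact hne
    · left
      exact key _ _ (F.cmp_comp a₁ hz.left a hK1 ho) hA1 e

theorem Cfg.bal {u t s t' : G} (h : Cfg F u t s t') :
    ∀ a ∈ closure ({u, t} : Set G), a ≠ 1 →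
      th a ⊓ centralizer ((closure ({s, t'} : Set G) : Subgroup G) : Set G) ≤
        relCore 2 (centralizer ((closure ({s, t'} : Set G) : Subgroup G) : Set G)) := by
  intro a ha ha1
  have hs : s ∈ closure ({s, t'} : Set G) := subset_closure (by simp)
  have hz := h.z_left ha ha1
  apply bal_of' hs
  rintro x ⟨hx, hx'⟩
  exact F.bal a hz.left s hz.right hz.ne hz.mem x hx (mem_centralizer_singleton_iff.mp hx')

theorem Cfg.main (FT : OddSol G) {u t s t' : G} (h : Cfg F u t s t') :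
    Odd (Nat.card (W (closure ({u, t} : Set G)))) ∧
      W (closure ({u, t} : Set G)) = W (closure ({s, t'} : Set G)) := by
  exact ⟨(closure_of_separated FT h.separated h.bal).1,
    eq_of_separated FT h.separated h.bal h.symm.bal⟩

/-! ### independence -/

theorem exists_conj_commute {u t : G} {V : Subgroup G} (h : Pr F u t) (hV : IsPGroup 2 V)
    (hVK : V ≤ F.K u) : ∃ o ∈ OC u, ∀ v ∈ V, Commute (o * t * o⁻¹) v := by
  have hR : IsPGroup 2 (zpowers t) := by
    have h1 : zpowers t ≤ closure ({u, t} : Set G) := by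
      rw [zpowers_le]; exact subset_closure (by simp)
    exact h.isPGroup.to_le h1
  have hCn : Ce u ≤ normalizer (OC u : Set G) :=
    le_normalizer.trans (normalizer_le_normalizer_relCore 2 _)
  have hRn : zpowers t ≤ normalizer (OC u : Set G) := by
    rw [zpowers_le]; exact hCn (F.L_le h.left h.mem)
  obtain ⟨y, hy, hyc⟩ := exists_commuting_conj (N := OC u) (R := zpowers t) (W := V)
    (odd_card_relCore _) hR hV hRn ((hVK.trans (F.K_le u)).trans hCn)
    (fun r hr w hw => ((F.mem_K h.left).mp (hVK hw)).2 r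
      ((zpowers_le.mpr h.mem : zpowers t ≤ F.L u) hr))
  obtain ⟨r, hr, n, hn, rfl⟩ := mem_sup_of_normalizes hRn hy
  refine ⟨r * n * r⁻¹, (mem_normalizer_iff.mp (hRn hr) n).mp hn, ?_⟩
  intro v hv
  have h1 : (r * n) * (r⁻¹ * t * r) * (r * n)⁻¹ ∈ cj (r * n) (zpowers t) := by
    apply conj_mem_cj
    exact mul_mem (mul_mem (inv_mem hr) (mem_zpowers t)) hr
  have h2 := hyc _ h1 v hv
  have h3 : r * n * r⁻¹ * t * (r * n * r⁻¹)⁻¹ = (r * n) * (r⁻¹ * t * r) * (r * n)⁻¹ := by group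
  rw [h3]
  exact h2

theorem W_conj_eq {u t o : G} (h : Pr F u t) (ho : o ∈ OC u) :
    Pr F u (o * t * o⁻¹) ∧
      W (closure ({u, o * t * o⁻¹} : Set G)) = W (closure ({u, t} : Set G)) := by
  have hoC : o ∈ Ce u := relCore_le 2 _ ho
  have hou : o * u * o⁻¹ = u := conj_eq_of_commute (mem_Ce.mp hoC)
  have h1 := h.cj o
  rw [hou] at h1
  refine ⟨h1, ?_⟩
  have h2 : closure ({u, o * t * o⁻¹} : Set G) = cj o (closure ({u, t} : Set G)) := by
    rw [cj_four, hou]
  rw [h2, ← cj_W]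
  apply cj_eq_self_of_mem
  exact le_W (subset_closure (by simp)) h.u1 ho

/-- independence of all choices -/
theorem W_eq (FT : OddSol G) {u t s t' : G} (hz : F.Z u s) (h : Pr F u t) (h' : Pr F s t') :
    Odd (Nat.card (W (closure ({u, t} : Set G)))) ∧
    W (closure ({u, t} : Set G)) = W (closure ({s, t'} : Set G)) := by
  -- make `t` commute with `s`
  have hsp : IsPGroup 2 (zpowers s) := by
    have h1 : zpowers s ≤ closure ({s, t'} : Set G) := by
      rw [zpowers_le]; exact subset_closure (by simp)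
    exact h'.isPGroup.to_le h1
  obtain ⟨o, ho, hoc⟩ := exists_conj_commute h hsp (zpowers_le.mpr hz.mem)
  obtain ⟨h1, e1⟩ := W_conj_eq h ho
  rw [← e1]
  obtain ⟨t₁, ht₁⟩ : ∃ t₁, t₁ = o * t * o⁻¹ := ⟨_, rfl⟩
  rw [← ht₁] at h1 hoc ⊢
  have hc1 : Commute t₁ s := hoc s (mem_zpowers s)
  -- make `t'` commute with `⟨u, t₁⟩`
  have hVK : closure ({u, t₁} : Set G) ≤ F.K s := by
    rw [closure_le]
    rintro x (rfl | hx)
    · exact hz.K_right
    · rw [Set.mem_singleton_iff] at hx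
      subst hx
      exact (hz.inherit h1.mem h1.ord hc1).1.K_right
  obtain ⟨o', ho', hoc'⟩ := exists_conj_commute h' h1.isPGroup hVK
  obtain ⟨h2, e2⟩ := W_conj_eq h' ho'
  rw [← e2]
  have hcfg : Cfg F u t₁ s (o' * t' * o'⁻¹) :=
    ⟨hz, h1, h2, (hoc' u (subset_closure (by simp))).symm, hc1,
      (hoc' t₁ (subset_closure (by simp))).symm⟩
  exact hcfg.main FT

/-- **(5b.1)** -/
theorem hW (FT : OddSol G) (F : FrameC G) {u s : G} (h : F.Z u s) :
    ∃ W : G → Subgroup G, (∀ u ∈ F.D, Odd (Nat.card (W u))) ∧ (∀ u ∈ F.D, OC u ≤ W u) ∧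
      (∀ u ∈ F.D, ∀ g, W (g * u * g⁻¹) = cj g (W u)) ∧
      (∀ u ∈ F.D, ∀ v ∈ F.D, Commute u v → W u = W v) := by
  classical
  have hex : ∀ v ∈ F.D, ∃ s, F.Z v s := by
    intro v hv
    obtain ⟨g, rfl⟩ := F.one_class u h.left v hv
    exact ⟨_, h.conj g⟩
  have hpr : ∀ v ∈ F.D, ∃ t, Pr F v t := by
    intro v hv
    obtain ⟨t, h1, h2, h3, -⟩ := F.exists_inv v hv ⊥ (IsPGroup.of_bot) bot_le
    exact ⟨t, hv, h1, h2, h3⟩
  have hind : ∀ v t₁ t₂, Pr F v t₁ → Pr F v t₂ →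
      W (closure ({v, t₁} : Set G)) = W (closure ({v, t₂} : Set G)) := by
    intro v t₁ t₂ h1 h2
    obtain ⟨s, hs⟩ := hex v h1.left
    obtain ⟨t', ht'⟩ := hpr s hs.right
    rw [(W_eq FT hs h1 ht').2, (W_eq FT hs h2 ht').2]
  obtain ⟨Wf, hWf⟩ : ∃ Wf : G → Subgroup G, ∀ v t, Pr F v t →
      Wf v = W (closure ({v, t} : Set G)) := by
    refine ⟨fun v => if hv : ∃ t, Pr F v t then W (closure ({v, hv.choose} : Set G)) else ⊥, ?_⟩
    intro v t ht
    have hv : ∃ t, Pr F v t := ⟨t, ht⟩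
    simp only [dif_pos hv]
    exact hind v _ _ hv.choose_spec ht
  refine ⟨Wf, ?_, ?_, ?_, ?_⟩
  · intro v hv
    obtain ⟨t, ht⟩ := hpr v hv
    obtain ⟨s, hs⟩ := hex v hv
    obtain ⟨t', ht'⟩ := hpr s hs.right
    rw [hWf v t ht]
    exact (W_eq FT hs ht ht').1
  · intro v hv
    obtain ⟨t, ht⟩ := hpr v hv
    rw [hWf v t ht]
    exact le_W (subset_closure (by simp)) ht.u1
  · intro v hv g
    obtain ⟨t, ht⟩ := hpr v hv
    rw [hWf v t ht, hWf _ _ (ht.cj g), cj_W, cj_four]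
  · intro v hv w hw hc
    have key : ∀ a b, F.Z a b → Wf a = Wf b := by
      intro a b hz
      obtain ⟨t, ht⟩ := hpr a hz.left
      obtain ⟨t', ht'⟩ := hpr b hz.right
      rw [hWf a t ht, hWf b t' ht', (W_eq FT hz ht ht').2]
    rcases F.A_or_Z hv hw hc with h1 | h1
    · obtain ⟨s, hs⟩ := hex v hv
      obtain ⟨s', hs', hc'⟩ := h1.exists_z hs
      rw [key v s' hs', key w s' (hs'.inherit_of_A h1 hc').1]
    · exact key v w h1

/-- **World W1a is empty** (modulo Aschbacher's criterion and the odd order theorem). -/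
theorem false_of_frameC [IsSimpleGroup G] (FT : OddSol G) (hA : Asch G) (F : FrameC G) {u s : G}
    (h : F.Z u s) : False :=
  FrameC.false_of_frame F h hA (hW FT F h)

end Cfsg.Agent.UGT.I34.WOneC.Functor
end

-- part: UGT/I34/WOneC/Glue
section
set_option linter.all false
open scoped Cfsg.Agent.FastGrp

/-!
# I34 [A]: world W1a is empty

`false_of_zero`: in a simple group the world W1 (with the facts `TgtA κ` on the targets, (5.2), `ExY`, `CcMul`,
`Syl κ`) has no pairs of type (0), modulo Aschbacher's criterion S1175 and the odd order theorem.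
-/

set_option autoImplicit false
set_option linter.unusedSectionVars false

open Cfsg Subgroup
open Cfsg.Agent.SignalizersComponents Cfsg.Agent.Lib
open Cfsg.Agent.SignalizersComponents.IntrinsicBasic
open Cfsg.Agent.SignalizersComponents.PLayerAut
open Cfsg.Agent.SignalizersComponents.RelSylow
open Cfsg.Agent.Intrinsic
open Cfsg.Agent.Intrinsic.Basic hiding IsPair PQS Target IsPair.sq IsPair.ne_one IsPair.cj
open Cfsg.Agent.Intrinsic.Cen hiding pair_comm pair_mem_cen exists_pump pump_unique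
open Cfsg.Agent.Intrinsic.Quot hiding Big isPair_quot small_or_big
open Cfsg.Agent.UGT.I34.Pair Cfsg.Agent.UGT.I34.KF Cfsg.Agent.UGT.I34.WOne
open Cfsg.Agent.McLLyComp.Act (fixes_mul)
open Cfsg.Agent.Intrinsic.WOneA (Ce OC)

namespace Cfsg.Agent.UGT.I34.WOneC.Glue

open Cfsg.Agent.UGT.I34.WOneC.Five Cfsg.Agent.UGT.I34.WOneC.Cc Cfsg.Agent.UGT.I34.WOneC.Tg
  Cfsg.Agent.UGT.I34.WOneC.OfWOne

universe v

variable {G : Type v} [Group G] [Finite G] {κ : Kind.{v}} {τ : Bool} {D : Set G} {L : G → Subgroup G}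

theorem se (hA : TgtA κ) (h : W1 κ τ D L) (h52 : FxOr D L) {u s : G} (hu : u ∈ D) (hs : s ∈ D)
    (hne : u ≠ s) (hK : s ∈ cenMod (Ce u) (L u)) (hO : OC s = ⊥) {S : Set G} (hS : u ∈ S)
    (hstep : ∀ t ∈ S, ∀ t' ∈ pump s (L u), orderOf t' = 2 → Commute t t' → t' ∈ S) {t : G}
    (ht : t ∈ pump s (L u)) (ht2 : orderOf t = 2) : t ∈ S := by
  obtain ⟨h1, h2⟩ := (mem_K h hu).mp hK
  have hp := h.pair hu
  have hss := h.sq hs
  have hB : IsBig κ u (L u) s := isBig_of_zero h h52 hu hs hne.symm h1 h2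
  have hcomp := pump_comp hp hss h1 h2
  have huM := mem_pump hp hss h1 h2
  have huJ := pair_mem_cen hp h1
  have hJM := isComp_cen_inf hp hss h1 h2
  have hk := (kind_cen hp.comp (mem_centralizer_singleton_iff.mpr h1) hss h2).mpr hp.kind
  obtain ⟨M, hM⟩ : ∃ M, M = pump s (L u) := ⟨_, rfl⟩
  obtain ⟨huM', hT⟩ := id hB
  have hpq := isPair_quot hp.sq hp.ne_one huJ huM' hJM hk
  have hSE := hA.no_se _ _ _ hT hpq
  rw [← hM] at hcomp huM ht hstep hSE
  have hcore : core M = ⊥ := by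
    rw [eq_bot_iff, ← hO]
    exact hcomp.core_le_core
  have hmk2 : ∀ x (hx : x ∈ M) y (hy : y ∈ M), (QuotientGroup.mk ⟨x, hx⟩ : ↥M ⧸ oddCore ↥M) =
      QuotientGroup.mk ⟨y, hy⟩ → x = y := by
    intro x hx y hy e
    rw [mk_eq_mk_iff', hcore, mem_bot] at e
    exact inv_mul_eq_one.mp e
  have hord : ∀ x (hx : x ∈ M), orderOf (QuotientGroup.mk ⟨x, hx⟩ : ↥M ⧸ oddCore ↥M) = 2 ↔
      orderOf x = 2 := by
    intro x hx
    have key : ∀ x (hx : x ∈ M), (x * x = 1 ∧ x ≠ 1) ↔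
        ((QuotientGroup.mk ⟨x, hx⟩ : ↥M ⧸ oddCore ↥M) * QuotientGroup.mk ⟨x, hx⟩ = 1 ∧
          (QuotientGroup.mk ⟨x, hx⟩ : ↥M ⧸ oddCore ↥M) ≠ 1) := by
      intro x hx
      constructor
      · rintro ⟨h3, h4⟩
        refine ⟨?_, fun e => h4 (hmk2 x hx 1 M.one_mem e)⟩
        change (QuotientGroup.mk ⟨x * x, M.mul_mem hx hx⟩ : ↥M ⧸ oddCore ↥M) = 1
        rw [mk_eq_one_iff, h3]
        exact one_mem _
      · rintro ⟨h3, h4⟩
        refine ⟨hmk2 (x * x) (M.mul_mem hx hx) 1 M.one_mem h3, ?_⟩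
        rintro rfl
        exact h4 rfl
    constructor
    · intro h3
      obtain ⟨h4, h5⟩ := (key x hx).mpr ⟨sq_of h3, ne_of h3⟩
      exact order_two h4 h5
    · intro h3
      obtain ⟨h4, h5⟩ := (key x hx).mp ⟨sq_of h3, ne_of h3⟩
      exact orderOf_eq_prime (by rw [pow_two, h4]) h5
  have hfin := Graph.mem_of_no_se hSE (S := {x | ∃ t ∈ S, ∃ ht : t ∈ M, QuotientGroup.mk ⟨t, ht⟩ = x})
    (u := (QuotientGroup.mk ⟨u, huM⟩ : ↥M ⧸ oddCore ↥M)) ((hord u huM).mpr (h.pair hu).inv)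
    ⟨u, hS, huM, rfl⟩ (by
      rintro _ ⟨a, haS, haM, rfl⟩ b hb2 hab
      obtain ⟨⟨b, hbM⟩, rfl⟩ := QuotientGroup.mk_surjective b
      refine ⟨b, hstep a haS b hbM ((hord b hbM).mp hb2) ?_, hbM, rfl⟩
      exact hmk2 (a * b) (M.mul_mem haM hbM) (b * a) (M.mul_mem hbM haM) hab) ((hord t ht).mpr ht2)
  obtain ⟨a, haS, haM, e⟩ := hfin
  rwa [← hmk2 a haM t ht e]

/-- the record `FrameC` from the world W1 -/
noncomputable def frame (hA : TgtA κ) (hSyl : Syl κ) (h : W1 κ τ D L) (h52 : FxOr D L)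
    (hY : ExY D L) (hcc : CcMul D L) : FrameC G where
  D := D
  L := L
  cmp := cmpF L
  ord := ord h
  conj := fun _ hu g => h.conj hu g
  one_class := fun _ hu _ hv => h.one_class hu hv
  L_conj := fun _ hu g => h.L_conj hu g
  L_comp := fun _ hu => (h.comp hu).tc
  self_mem := fun _ hu => h.mem hu
  invol := invol h
  inf_eq := inf_eq h
  symm := symm h
  prod := fun u hu v hv hne hK hD => by
    obtain ⟨h1, h2⟩ := (mem_K h hu).mp hK
    refine mul_notMem h h52 hu hv hne.symm h1 h2 ?_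
    rw [h1]; exact hD
  prodC := fun u hu v hv hc hL hK =>
    C.mul_mem h ⟨hu, hv, hc.symm.eq, hL, fun hf => hK ((mem_K h hu).mpr ⟨hc.symm.eq, hf⟩)⟩
  exists_inv := exists_inv h
  sylow := sylow hSyl h
  cmp_comp := cmp_comp h
  cmp_self := fun u _ => cmpF_self L u
  cmp_conj := cmp_conj h
  mem_cmp := mem_cmp h
  memC := fun u hu s hs hne hK v hv hvu hvs hvK => by
    obtain ⟨h1, h2⟩ := (mem_K h hu).mp hK
    rw [cmpF_of_ne L hne.symm]
    by_cases hvL : v ∈ L u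
    · exact mem_pump_of_mem (h.pair hu) (h.sq hs) h1 h2 hvL hvs.eq (k := 1)
        (by rw [pow_one, pow_two, h.sq hv])
    · exact mem_pump_of_C h h52 hY hcc hs hne.symm h1 h2
        ⟨hu, hv, hvu.eq, hvL, fun hf => hvK ((mem_K h hu).mpr ⟨hvu.eq, hf⟩)⟩ hvs.eq
  of_cmp := of_cmp h (ofCmp hA h)
  cmp_inv := cmp_inv h
  cmp_cen := cmp_cen h
  big := big h h52
  cen5 := fun u hu s hs hne hK j hj hnej hjK hsj => by
    obtain ⟨h1, h2⟩ := (mem_K h hu).mp hK
    obtain ⟨h3, h4⟩ := (mem_K h hu).mp hjK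
    rw [cmpF_of_ne L hne.symm]
    refine ((pump_comp (h.pair hu) (h.sq hs) h1 h2).fixes_iff
      (mem_centralizer_singleton_iff.mpr hsj.symm.eq)).mp ?_
    exact fixes_pump h h52 hY hcc (ofCmp hA h) hu hs hne.symm h1 h2 hj hnej.symm h3 h4 hsj.eq
  small := small h
  diag := diag h
  bal := fun u hu s hs hne hK x hx hxs => by
    obtain ⟨h1, h2⟩ := (mem_K h hu).mp hK
    exact Tg.bal hA (h.pair hu) (h.sq hs) h1 h2 (isBig_of_zero h h52 hu hs hne.symm h1 h2) hx hxs.eq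
  se := by
    intro u hu s hs hne hK hO S hS hstep t ht ht2
    rw [cmpF_of_ne L hne.symm] at hstep ht
    exact se hA h h52 hu hs hne hK hO hS hstep ht ht2

/-- **World W1a is empty.** -/
theorem false_of_zero [IsSimpleGroup G] (FT : Functor.OddSol G) (hAs : WOneA.Asch G) (hA : TgtA κ)
    (hSyl : Syl κ) (h : W1 κ τ D L) (h52 : FxOr D L) (hY : ExY D L) (hcc : CcMul D L) {u s : G}
    (hu : u ∈ D) (hs : s ∈ D) (hsu : s ≠ u) (hus : s * u = u * s) (hf : Fixes s (L u)) : False :=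
  WOneC.Functor.false_of_frameC FT hAs (frame hA hSyl h h52 hY hcc) (u := u) (s := s)
    ⟨hu, hs, hsu.symm, (mem_K h hu).mpr ⟨hus, hf⟩⟩

end Cfsg.Agent.UGT.I34.WOneC.Glue
end
end

-- part: UGT/I34/Two/StepOneA
section
set_option linter.all false
open scoped Cfsg.Agent.FastGrp

/-!
# Step 1 (i), (ii): if `v` moves `X ∈ Ω_u`, then `u` moves all `Y ∈ Ω_v`, the diagonals coincide, and `|Ω_v| = 2`
-/

set_option autoImplicit false

open Cfsg Subgroup
open Cfsg.Agent.SignalizersComponents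
open Cfsg.Agent.SignalizersComponents.IntrinsicBasic
open Cfsg.Agent.Intrinsic
open Cfsg.Agent.Intrinsic.Basic hiding IsPair PQS Target
open Cfsg.Agent.Intrinsic.Cen hiding pair_comm pair_mem_cen exists_pump pump_unique
open Cfsg.Agent.Intrinsic.Quot hiding Big isPair_quot small_or_big
open Cfsg.Agent.Intrinsic.Diag
open Cfsg.Agent.Intrinsic.WZero (fixes_of_comm fixSub mem_fixSub mem_cent inv_eq)
open Cfsg.Agent.UGT.I34 Cfsg.Agent.UGT.I34.Pair
open Cfsg.Agent.McLLyComp.Act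
open Cfsg.Agent.ONType.Psl (PSL3)
open scoped commutatorElement

namespace Cfsg.Agent.UGT.I34.Two

universe u

variable {G : Type u} [Group G] [Finite G] {u v : G} {X Y : Subgroup G}

theorem conj_eq_one_iff {K : Type*} [Group K] (x : K) : MulAut.conj x = 1 ↔ x ∈ center K := by
  rw [mem_center_iff]
  constructor
  · intro h y
    have h1 := DFunLike.congr_fun h y
    rw [MulAut.conj_apply, MulAut.one_apply] at h1
    calc y * x = x * y * x⁻¹ * x := by rw [h1]
      _ = x * y := by group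
  · intro h
    apply MulEquiv.ext
    intro y
    rw [MulAut.conj_apply, MulAut.one_apply, ← h y, mul_inv_cancel_right]

/-- involutions of the diagonal -/
theorem Env.diag_elem (E : Env G) (hX : IsPair two u X) (hv2 : v * v = 1) (huv : u * v = v * u)
    (hmove : cj v X ≠ X) {s : G} (hs : s ∈ diag (centralizer ({u} : Set G)) X v) (hs2 : s * s = 1)
    (hs1 : s ≠ 1) : ∃ x, ∃ hx : x ∈ X, s⁻¹ * (x * (v * x * v⁻¹)) ∈ core (centralizer ({u} : Set G)) ∧
      x * x ∈ core X ∧ (QuotientGroup.mk ⟨x, hx⟩ : Bar X) ∉ center (Bar X) ∧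
      ∃ hsX : s ∈ normalizer (X : Set G), act X ⟨s, hsX⟩ = MulAut.conj (QuotientGroup.mk ⟨x, hx⟩) := by
  have hvH : v ∈ centralizer ({u} : Set G) := mem_c huv.symm
  have huH : u ∈ centralizer ({u} : Set G) := mem_c rfl
  obtain ⟨hE, h2, -, -⟩ := exists_diag hX.comp hvH hv2 hmove
  obtain ⟨x, hx, hmk⟩ := h2 s hs
  have hsH : s ∈ centralizer ({u} : Set G) := (hE.le hs).1
  have hf := fixes_inv_mul hX.comp hvH hmove hx hsH hmk
  have hsX : s ∈ normalizer (X : Set G) := by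
    have := mul_mem (le_normalizer hx) hf.1
    rwa [mul_inv_cancel_left] at this
  have hact : act X ⟨s, hsX⟩ = MulAut.conj (QuotientGroup.mk ⟨x, hx⟩) := by
    have h3 := (act_eq_one_iff hf.1).mpr hf
    have h4 := act_mul (le_normalizer hx) hf.1
    rw [h3, mul_one, act_of_mem hx] at h4
    rw [← h4]
    exact act_congr hsX (by group)
  obtain ⟨t, ht⟩ : ∃ t, t = (QuotientGroup.mk ⟨x, hx⟩ : Bar X) := ⟨_, rfl⟩
  have hz := E.kf_pair hX
  have htt : t * t ∈ center (Bar X) := by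
    rw [← conj_eq_one_iff, map_mul, ht, ← hact, ← act_mul hsX hsX, act_eq_one_iff, hs2]
    exact fixes_one X
  have hcX : ∀ c ∈ core X, ∀ h ∈ centralizer ({u} : Set G),
      h * c * h⁻¹ ∈ core (centralizer ({u} : Set G)) := fun c hc h hh =>
    conj_mem_core (le_normalizer hh) (hX.comp.core_le_core hc)
  have htc : t ∉ center (Bar X) := by
    intro h
    have key : x * (v * x * v⁻¹) ∈ core (centralizer ({u} : Set G)) := by
      rcases (hz.mem_center t).mp h with h3 | h3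
      · rw [ht, Quot.mk_eq_one_iff] at h3
        exact mul_mem (hX.comp.core_le_core h3) (hcX x h3 v hvH)
      · rw [ht, Quot.mk_eq_mk_iff'] at h3
        have h4 := inv_mem h3
        rw [mul_inv_rev, inv_inv] at h4
        -- `c = u⁻¹ x`
        have e1 : x * (v * x * v⁻¹) = (u * (u⁻¹ * x) * u⁻¹) * (v * (u⁻¹ * x) * v⁻¹) := by
          have hui : u⁻¹ = u := inv_eq_of_mul_eq_one_left hX.sq
          have h5 : u⁻¹ * v * u⁻¹ = v := by
            rw [hui, huv, mul_assoc, hX.sq, mul_one]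
          symm
          calc (u * (u⁻¹ * x) * u⁻¹) * (v * (u⁻¹ * x) * v⁻¹) = x * (u⁻¹ * v * u⁻¹) * x * v⁻¹ := by
                group
            _ = x * (v * x * v⁻¹) := by rw [h5]; group
        have h5 : u⁻¹ * x ∈ core X := by
          rw [show u⁻¹ * x = (x⁻¹ * u)⁻¹ by group]
          exact inv_mem h3
        rw [e1]
        exact mul_mem (hcX _ h5 u huH) (hcX _ h5 v hvH)
    apply hs1
    apply eq_one_of_mem_core_sq _ hs2 (K := centralizer ({u} : Set G))
    have h3 := mul_mem key (inv_mem hmk)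
    have e : x * (v * x * v⁻¹) * (s⁻¹ * (x * (v * x * v⁻¹)))⁻¹ = s := by group
    rwa [e] at h3
  refine ⟨x, hx, hmk, ?_, ht ▸ htc, hsX, hact⟩
  have h5 := hz.lift t htt htc
  rw [ht] at h5
  exact (Quot.mk_eq_one_iff (mul_mem hx hx)).mp h5

theorem Env.diag_not_fixes (E : Env G) (hX : IsPair two u X) (hY : IsPair two v Y)
    (huv : u * v = v * u) (hmove : cj v X ≠ X) {s : G}
    (hs : s ∈ diag (centralizer ({u} : Set G)) X v) (hs2 : s * s = 1) (hs1 : s ≠ 1) :
    ¬ Fixes s Y := by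
  intro hsY
  have hvH : v ∈ centralizer ({u} : Set G) := mem_c huv.symm
  obtain ⟨x, hx, hmk, hxx, hxc, hsX, hact⟩ := E.diag_elem hX hY.sq huv hmove hs hs2 hs1
  obtain ⟨hE, -⟩ := exists_diag hX.comp hvH hY.sq hmove
  obtain ⟨t, ht⟩ : ∃ t, t = (QuotientGroup.mk ⟨x, hx⟩ : Bar X) := ⟨_, rfl⟩
  rw [← ht] at hxc hact
  have hz := E.kf_pair hX
  have htt : t * t = 1 := by
    rw [ht]; exact (Quot.mk_eq_one_iff (mul_mem hx hx)).mpr hxx
  obtain ⟨P, Z, hL⟩ := hz.loc t htt hxc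
  obtain ⟨p, hpP, hpp⟩ := hL.four
  have hpt := (hL.mem_P p).mp hpP
  obtain ⟨q, hqX, hqs, hqp⟩ := lift_comm hs2 hsX p (by
    rw [hact, MulAut.conj_apply, ← hpt, mul_inv_cancel_right])
  have hsv : s * v = v * s := comm_c (hE.le hs).2
  obtain ⟨M, hM⟩ := E.key hY hs2 hs1 hsv hsY hqs
  obtain ⟨w, hw⟩ : ∃ w, w = v * (q * v * q⁻¹) := ⟨_, rfl⟩
  rw [← hw] at hM
  have hvi : v⁻¹ = v := inv_eq_of_mul_eq_one_left hY.sq
  have hw' : w = (v * q * v⁻¹) * q⁻¹ := by rw [hw, hvi]; group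
  have hg : Fixes (v * q * v⁻¹) X :=
    hX.comp.fixes_of_mem (isComp_cj_of_mem hX.comp hvH) (Ne.symm hmove) (conj_mem_cj hqX)
  have hwX : w ∈ normalizer (X : Set G) := by
    rw [hw']; exact mul_mem hg.1 (inv_mem (le_normalizer hqX))
  have hactw : act X ⟨w, hwX⟩ = (MulAut.conj p)⁻¹ := by
    have h1 := act_mul hg.1 (inv_mem (le_normalizer hqX))
    rw [(act_eq_one_iff hg.1).mpr hg, one_mul, act_inv (le_normalizer hqX), act_of_mem hqX, hqp] at h1
    rw [← h1]
    exact act_congr hwX hw'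
  have hp7 := pow_of_comm hz htt hxc hpt
  have h7 : w ^ 2 ^ 7 ∈ fixSub X := by
    rw [mem_fixSub, ← act_eq_one_iff (pow_mem hwX _)]
    have h1 : (⟨w ^ 2 ^ 7, pow_mem hwX _⟩ : ↥(normalizer (X : Set G))) = ⟨w, hwX⟩ ^ 2 ^ 7 := rfl
    rw [h1, map_pow, hactw, inv_pow, ← map_pow, hp7, map_one, inv_one]
  have h8 : w * w ∈ fixSub X := by
    apply mem_of_pow (odd_card_core M) hM (k := 6)
    rw [← pow_two, ← pow_mul, show 2 * 2 ^ 6 = 2 ^ 7 by norm_num]
    exact h7
  rw [mem_fixSub, ← act_eq_one_iff (mul_mem hwX hwX), act_mul hwX hwX, hactw, ← mul_inv_rev,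
    inv_eq_one, ← map_mul, conj_eq_one_iff] at h8
  exact hpp h8

/-- every 2-component contains an involution -/
theorem exists_inv {H K : Subgroup G} (hK : IsComp H K) : ∃ s ∈ K, s * s = 1 ∧ s ≠ 1 := by
  have : Fact (Nat.Prime 2) := ⟨Nat.prime_two⟩
  obtain ⟨s, hs⟩ := exists_prime_orderOf_dvd_card' 2 hK.even
  refine ⟨s, s.2, ?_, ?_⟩
  · have h1 : s * s = 1 := by rw [← pow_two, ← hs, pow_orderOf_eq_one]
    exact congrArg Subtype.val h1
  · intro h
    have : s = 1 := Subtype.ext h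
    rw [this, orderOf_one] at hs
    omega

/-- `u` normalizes `Y`, commutes with `J`, and `Y = J O(Y)`: then `u` fixes `Y` -/
theorem fixes_of_sup_comm {J : Subgroup G} (hs : J ⊔ core Y = Y) (huY : u ∈ normalizer (Y : Set G))
    (h : ∀ j ∈ J, u * j = j * u) : Fixes u Y := by
  have h1 := fixes_of_comm h
  exact (fixes_iff_of_sup hs h1.1 huY).mp h1

omit [Finite G] in
theorem lam_pair (hX : IsPair two u X) : Lam PSL3 X := hX.kind.quot

/-- **Step 1 (i)** -/
theorem Env.diag_eq (E : Env G) (hX : IsPair two u X) (hY : IsPair two v Y)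
    (huv : u * v = v * u) (hmove : cj v X ≠ X) : cj u Y ≠ Y ∧
      diag (centralizer ({u} : Set G)) X v = diag (centralizer ({v} : Set G)) Y u := by
  have hvH : v ∈ centralizer ({u} : Set G) := mem_c huv.symm
  have huH : u ∈ centralizer ({v} : Set G) := mem_c huv
  obtain ⟨hE, -⟩ := exists_diag hX.comp hvH hY.sq hmove
  have hlam := lam_diag hX.comp hvH hY.sq hmove (lam_pair hX)
  obtain ⟨E0, hE0⟩ : ∃ E0, E0 = diag (centralizer ({u} : Set G)) X v := ⟨_, rfl⟩
  obtain ⟨s, hsE, hs2, hs1⟩ := exists_inv hE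
  have hnf := E.diag_not_fixes hX hY huv hmove hsE hs2 hs1
  rw [← hE0] at hE hlam hsE ⊢
  have hE' : IsComp (centralizer ({v} : Set G) ⊓ centralizer ({u} : Set G)) E0 := by
    rw [inf_comm]; exact hE
  have hsv : s ∈ centralizer ({v} : Set G) := (hE.le hsE).2
  have hL2 := isComp_le_L2 huH hX.sq hE'
  by_cases h : cj u Y = Y
  · exfalso
    have huY := mem_normalizer_iff_cj.mpr h
    rcases McLLyComp.PumpT.tc_le_or huH hX.sq hE'.tc hY.comp.tc huY with h1 | h1
    · have h2 := sup_of_lam hE hY.comp hlam (lam_pair hY) h1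
      have h3 : Fixes u Y := fixes_of_sup_comm h2 huY fun j hj => (comm_c (hE.le hj).1).symm
      exact hmove (mem_normalizer_iff_cj.mp (typeZero_symm' hY hX huv.symm h3).1)
    · exact hnf ((hY.comp.fixes_iff hsv).mpr (h1 hsE))
  · refine ⟨h, ?_⟩
    by_contra hne
    obtain ⟨hE1, -, -, hcore, -⟩ := exists_diag hY.comp huH hX.sq h
    apply hnf
    refine fixes_of_comm_diag hY.comp huH hX.sq h hsv (hY.comp.L2_le_normalizer (hL2 hsE))
      ((isComp_cj_of_mem hY.comp huH).L2_le_normalizer (hL2 hsE)) fun m hm => ?_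
    have h1 := hE'.comm_le_core hE1 hne (commutator_mem_commutator hsE hm)
    have h2 := h1.2
    rw [hcore] at h2
    exact h2.2

/-- **Step 1 (ii)** -/
theorem Env.omega (E : Env G) (hX : IsPair two u X) (hY : IsPair two v Y)
    (huv : u * v = v * u) (hmove : cj v X ≠ X) {Y' : Subgroup G} (hY' : IsPair two v Y') :
    Y' = Y ∨ Y' = cj u Y := by
  have huH : u ∈ centralizer ({v} : Set G) := mem_c huv
  obtain ⟨h1, h2⟩ := E.diag_eq hX hY huv hmove
  obtain ⟨h3, h4⟩ := E.diag_eq hX hY' huv hmove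
  by_contra hne
  push Not at hne
  exact diag_ne hY.comp huH hX.sq h1 hY'.comp h3 hne.1 hne.2 (h4.symm.trans h2)

end Cfsg.Agent.UGT.I34.Two
end

-- part: UGT/I34/Two/StepOneB
section
set_option linter.all false
open scoped Cfsg.Agent.FastGrp

/-!
# Step 1 (iii): type (2) does not occur
-/

set_option autoImplicit false

open Cfsg Subgroup
open Cfsg.Agent.SignalizersComponents
open Cfsg.Agent.SignalizersComponents.IntrinsicBasic
open Cfsg.Agent.Intrinsic
open Cfsg.Agent.Intrinsic.Basic hiding IsPair PQS Target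
open Cfsg.Agent.Intrinsic.Cen hiding pair_comm pair_mem_cen exists_pump pump_unique
open Cfsg.Agent.Intrinsic.Quot hiding Big isPair_quot small_or_big
open Cfsg.Agent.Intrinsic.Diag
open Cfsg.Agent.Intrinsic.WZero (fixes_of_comm fixSub mem_fixSub mem_cent inv_eq)
open Cfsg.Agent.UGT.I34 Cfsg.Agent.UGT.I34.Pair
open Cfsg.Agent.McLLyComp.Act
open scoped commutatorElement

namespace Cfsg.Agent.UGT.I34.Two

universe u

variable {G : Type u} [Group G] [Finite G]

omit [Finite G] in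
/-- the image in `N / O(N)` of a subgroup of `N` commuting with `w` centralises `t` -/
theorem mem_P_of_comm {N : Subgroup G} {z t : Bar N} {P Zc : Subgroup (Bar N)}
    (hL : Loc (Bar N) z t P Zc) {w : G} (hwN : w ∈ normalizer (N : Set G))
    (ht : act N ⟨w, hwN⟩ = MulAut.conj t) {a : G} (haN : a ∈ N) (haw : a * w = w * a) :
    (QuotientGroup.mk ⟨a, haN⟩ : Bar N) ∈ P := by
  rw [hL.mem_P]
  have h1 : act N ⟨w, hwN⟩ (QuotientGroup.mk ⟨a, haN⟩) = QuotientGroup.mk ⟨a, haN⟩ := by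
    rw [act_mk hwN haN, Cfsg.Agent.McLLyComp.Act.mk_eq_iff]
    rw [← haw, mul_inv_cancel_right, inv_mul_cancel]
    exact one_mem _
  rw [ht, MulAut.conj_apply] at h1
  obtain ⟨b, hb⟩ : ∃ b, b = (QuotientGroup.mk ⟨a, haN⟩ : Bar N) := ⟨_, rfl⟩
  rw [← hb] at h1 ⊢
  calc b * t = t * b * t⁻¹ * t := by rw [h1]
    _ = t * b := by group

/-- covering up to index two -/
theorem card_image {N : Subgroup G} {z t : Bar N} {P Zc : Subgroup (Bar N)}
    (hL : Loc (Bar N) z t P Zc) {w : G} (hw : w * w = 1) (hwN : w ∈ normalizer (N : Set G))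
    (ht : act N ⟨w, hwN⟩ = MulAut.conj t) {L Z1 : Subgroup G}
    (hC : ∀ a ∈ N, a * w = w * a → cj a Z1 = Z1 → a ∈ L)
    (hidx : ∀ a ∈ N, a * w = w * a → ∀ b ∈ N, b * w = w * b → cj a Z1 ≠ Z1 → cj b Z1 ≠ Z1 →
      cj a Z1 = cj b Z1) : 64 ≤ Nat.card (qs N L) := by
  classical
  have key : ∃ p0 : Bar N, ∀ p ∈ P, p ∈ qs N L ∨ p0⁻¹ * p ∈ qs N L := by
    by_cases hall : ∀ p ∈ P, p ∈ qs N L
    · exact ⟨1, fun p hp => Or.inl (hall p hp)⟩
    · push Not at hall
      obtain ⟨p0, hp0, hp0n⟩ := hall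
      have hlift : ∀ p ∈ P, ∃ q, ∃ hq : q ∈ N, q * w = w * q ∧
          (QuotientGroup.mk ⟨q, hq⟩ : Bar N) = p := by
        intro p hp
        apply lift_comm hw hwN p
        rw [ht, MulAut.conj_apply, ← (hL.mem_P p).mp hp, mul_inv_cancel_right]
      have hmem : ∀ q, ∀ hq : q ∈ N, q * w = w * q → cj q Z1 = Z1 →
          (QuotientGroup.mk ⟨q, hq⟩ : Bar N) ∈ qs N L := by
        intro q hq hqw hqZ
        rw [mem_qs hq]
        exact ⟨q, ⟨hC q hq hqw hqZ, hq⟩, by rw [inv_mul_cancel]; exact one_mem _⟩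
      obtain ⟨q0, hq0, hq0w, hq0p⟩ := hlift p0 hp0
      have h0 : cj q0 Z1 ≠ Z1 := by
        intro h
        apply hp0n
        rw [← hq0p]
        exact hmem q0 hq0 hq0w h
      refine ⟨p0, fun p hp => ?_⟩
      obtain ⟨q, hq, hqw, hqp⟩ := hlift p hp
      by_cases h : cj q Z1 = Z1
      · left
        rw [← hqp]
        exact hmem q hq hqw h
      · right
        have h1 := hidx q0 hq0 hq0w q hq hqw h0 h
        have hc : (q0⁻¹ * q) * w = w * (q0⁻¹ * q) := by
          have e : q0⁻¹ * w = w * q0⁻¹ := by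
            calc q0⁻¹ * w = q0⁻¹ * (w * q0) * q0⁻¹ := by group
              _ = w * q0⁻¹ := by rw [← hq0w]; group
          rw [mul_assoc, hqw, ← mul_assoc, e, mul_assoc]
        have h2 : cj (q0⁻¹ * q) Z1 = Z1 := by
          rw [cj_mul, ← h1, ← cj_mul, inv_mul_cancel, cj_one]
        have h3 := hmem (q0⁻¹ * q) (mul_mem (inv_mem hq0) hq) hc h2
        rw [← hqp, ← hq0p]
        exact h3
  obtain ⟨p0, hp0⟩ := key
  obtain ⟨R, hR⟩ : ∃ R, R = qs N L := ⟨_, rfl⟩
  rw [← hR] at hp0 ⊢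
  have h1 : (P : Set (Bar N)) ⊆ (R : Set (Bar N)) ∪ (fun r => p0 * r) '' (R : Set (Bar N)) := by
    intro p hp
    rcases hp0 p hp with h | h
    · exact Or.inl h
    · exact Or.inr ⟨_, h, mul_inv_cancel_left _ _⟩
  have h2 := Set.ncard_le_ncard h1 (Set.toFinite _)
  have h3 := Set.ncard_union_le (R : Set (Bar N)) ((fun r => p0 * r) '' (R : Set (Bar N)))
  have h4 : ((fun r => p0 * r) '' (R : Set (Bar N))).ncard ≤ (R : Set (Bar N)).ncard :=
    Set.ncard_image_le (Set.toFinite _)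
  have h5 : (P : Set (Bar N)).ncard = 128 := by
    rw [← Nat.card_coe_set_eq]; exact hL.card_P
  have h6 : (R : Set (Bar N)).ncard = Nat.card R := (Nat.card_coe_set_eq _).symm
  omega

omit [Finite G] in
/-- nontrivial 2-elements have an involution as a power -/
theorem exists_inv_pow {x : G} {n : ℕ} (hx : x ^ 2 ^ n = 1) (hx1 : x ≠ 1) :
    ∃ k : ℕ, x ^ k * x ^ k = 1 ∧ x ^ k ≠ 1 := by
  induction n generalizing x with
  | zero => rw [pow_zero, pow_one] at hx; exact absurd hx hx1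
  | succ n ih =>
    by_cases h : x ^ 2 = 1
    · exact ⟨1, by rw [pow_one, ← pow_two, h], by rwa [pow_one]⟩
    · obtain ⟨k, h1, h2⟩ := ih (x := x ^ 2) (by rw [← pow_mul, ← pow_succ', hx]) h
      rw [← pow_mul] at h1 h2
      exact ⟨2 * k, h1, h2⟩

/-- a Sylow 2-subgroup of `L`, as a subgroup of `G` -/
theorem exists_syl (L : Subgroup G) : ∃ S : Subgroup G, S ≤ L ∧ IsPGroup 2 ↥S ∧ ¬ 2 ∣ S.relIndex L := by
  have : Fact (Nat.Prime 2) := ⟨Nat.prime_two⟩
  obtain ⟨T⟩ : Nonempty (Sylow 2 ↥L) := inferInstance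
  refine ⟨(T : Subgroup ↥L).map L.subtype, map_subtype_le _, T.isPGroup'.map _, ?_⟩
  rw [relIndex, subgroupOf, comap_map_eq_self_of_injective L.subtype_injective]
  exact T.not_dvd_index

/-- the action of a Sylow subgroup of `C(v, w) ∩ N(Z₁)` -/
theorem Env.side (E : Env G) {v w : G} {N N' Z1 : Subgroup G} (hN : IsPair two v N)
    (hN' : IsPair two v N') (hne : N' ≠ N) (hZ : IsPair two w Z1) (hvw : v * w = w * v)
    (hwN : w ∈ normalizer (N : Set G)) {t : Bar N} (ht : act N ⟨w, hwN⟩ = MulAut.conj t)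
    (htt : t * t = 1) (htc : t ∉ center (Bar N)) (hfN' : ¬ Fixes w N') {S L0 : Subgroup G}
    (hL0 : ∀ x, x ∈ L0 ↔ x * v = v * x ∧ x * w = w * x ∧ x ∈ normalizer (Z1 : Set G) ∧
      x ∈ normalizer (N : Set G) ∧ x ∈ normalizer (N' : Set G))
    (hSL : S ≤ L0) (hS2 : IsPGroup 2 ↥S) (hS : ¬ 2 ∣ S.relIndex L0)
    (hidx : ∀ a ∈ N, a * w = w * a → ∀ b ∈ N, b * w = w * b → cj a Z1 ≠ Z1 → cj b Z1 ≠ Z1 →
      cj a Z1 = cj b Z1) :
    (∃ (z t : Bar N) (P Zc : Subgroup (Bar N)), Loc (Bar N) z t P Zc ∧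
      ∃ ι : ↥(N.subgroupOf S) →* Bar N, Function.Injective ι ∧ ι.range ≤ P ∧
        64 ≤ Nat.card ι.range) ∧ ∀ x ∈ S, x ∈ N → Fixes x Z1 → x = 1 := by
  have hz := E.kf_pair hN
  obtain ⟨P, Zc, hL⟩ := hz.loc t htt htc
  obtain ⟨LN, hLN⟩ : ∃ LN, LN = N ⊓ centralizer ({w} : Set G) ⊓ normalizer (Z1 : Set G) := ⟨_, rfl⟩
  have memLN : ∀ x, x ∈ LN ↔ x ∈ N ∧ x * w = w * x ∧ x ∈ normalizer (Z1 : Set G) := by
    intro x
    rw [hLN, mem_inf, mem_inf, mem_centralizer_singleton_iff, and_assoc]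
  have hNv : ∀ x ∈ N, x * v = v * x := fun x hx => pair_comm hN hx
  have hNN' : N ≤ normalizer (N' : Set G) := hN.comp.le_L2.trans hN'.comp.L2_le_normalizer
  have hLNL0 : LN ≤ L0 := by
    intro x hx
    obtain ⟨h1, h2, h3⟩ := (memLN x).mp hx
    exact (hL0 x).mpr ⟨hNv x h1, h2, h3, le_normalizer h1, hNN' h1⟩
  have h64 : 64 ≤ Nat.card (qs N LN) := card_image hL hZ.sq hwN ht
    (fun a ha haw haZ => (memLN a).mpr ⟨ha, haw, mem_normalizer_iff_cj.mpr haZ⟩) hidx
  have hconj : ∀ l ∈ L0, ∀ n ∈ LN, l * n * l⁻¹ ∈ LN := by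
    intro l hl n hn
    obtain ⟨-, h2, h3, h4, -⟩ := (hL0 l).mp hl
    obtain ⟨m1, m2, m3⟩ := (memLN n).mp hn
    refine (memLN _).mpr ⟨(mem_normalizer_iff.mp h4 n).mp m1, ?_, mul_mem (mul_mem h3 m3) (inv_mem h3)⟩
    exact comm_c (mul_mem (mul_mem (mem_c h2) (mem_c m2)) (inv_mem (mem_c h2)))
  have hcov : ∀ n ∈ LN, ∃ s ∈ S ⊓ LN, s⁻¹ * n ∈ LN ⊓ core N ∧ n * s⁻¹ ∈ LN ⊓ core N := by
    refine sylow_cover hS2 hS hLNL0 hconj ?_ ?_
    · intro l hl n hn
      refine ⟨hconj l hl n hn.1, ?_⟩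
      exact conj_mem_core ((hL0 l).mp hl).2.2.2.1 hn.2
    · intro n hn
      obtain ⟨m1, m2, -⟩ := (memLN n).mp hn
      refine ⟨7, pow_mem hn _, ?_⟩
      have h1 := pow_of_comm hz htt htc ((hL.mem_P _).mp (mem_P_of_comm hL hwN ht m1 m2))
      exact (Quot.mk_eq_one_iff (pow_mem m1 _)).mp h1
  have hpow : ∀ x ∈ S, ∃ k : ℕ, x ^ 2 ^ k = 1 := by
    intro x hx
    obtain ⟨k, hk⟩ := hS2 ⟨x, hx⟩
    exact ⟨k, congrArg Subtype.val hk⟩
  refine ⟨⟨_, t, P, Zc, hL, ?_⟩, ?_⟩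
  · have hmN : ∀ x : ↥(N.subgroupOf S), ((x : ↥S) : G) ∈ N := fun x => mem_subgroupOf.mp x.2
    let ι : ↥(N.subgroupOf S) →* Bar N :=
      { toFun := fun x => QuotientGroup.mk ⟨((x : ↥S) : G), hmN x⟩
        map_one' := rfl
        map_mul' := fun _ _ => rfl }
    have hι : ∀ (x : ↥(N.subgroupOf S)), ι x = QuotientGroup.mk ⟨((x : ↥S) : G), hmN x⟩ := fun _ => rfl
    refine ⟨ι, ?_, ?_, ?_⟩
    · rw [injective_iff_map_eq_one]
      intro x hx
      rw [hι, Quot.mk_eq_one_iff] at hx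
      obtain ⟨k, hk⟩ := hpow _ (x : ↥S).2
      exact Subtype.ext (Subtype.ext (eq_one_of_mem_core hx hk))
    · rintro _ ⟨x, rfl⟩
      rw [hι]
      exact mem_P_of_comm hL hwN ht (hmN x) ((hL0 _).mp (hSL (x : ↥S).2)).2.1
    · refine h64.trans (Nat.card_le_card_of_injective _ (inclusion_injective (?_ : qs N LN ≤ ι.range)))
      rintro _ ⟨n, hn, rfl⟩
      obtain ⟨s, hs, hsn, -⟩ := hcov n hn
      have hsN : s ∈ N := ((memLN s).mp hs.2).1
      refine ⟨⟨⟨s, hs.1⟩, hsN⟩, ?_⟩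
      rw [hι]
      exact (Quot.mk_eq_mk_iff' hsN n.2).mpr hsn.2
  · intro x hxS hxN hf
    by_contra hx1
    obtain ⟨k, hk⟩ := hpow x hxS
    obtain ⟨m, hm1, hm2⟩ := exists_inv_pow hk hx1
    have hfp : Fixes (x ^ m) Z1 := by
      have : x ^ m ∈ fixSub Z1 := pow_mem (mem_fixSub.mpr hf) m
      exact this
    obtain ⟨g1, g2, -⟩ := (hL0 _).mp (hSL (pow_mem hxS m))
    exact E.not_both hN' hZ hvw hfN' hm1 hm2 g1 g2
      (hN'.comp.fixes_of_mem hN.comp hne (pow_mem hxN m)) hfp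

/-- **Step 1.** -/
theorem Env.no_move (E : Env G) {u v : G} {X Y : Subgroup G} (hX : IsPair two u X)
    (hY : IsPair two v Y) (huv : u * v = v * u) : v ∈ normalizer (X : Set G) := by
  by_contra hn
  have hmove : cj v X ≠ X := fun h => hn (mem_normalizer_iff_cj.mpr h)
  have hvH : v ∈ centralizer ({u} : Set G) := mem_c huv.symm
  have huH : u ∈ centralizer ({v} : Set G) := mem_c huv
  obtain ⟨hYm, hdiag⟩ := E.diag_eq hX hY huv hmove
  obtain ⟨hE, -⟩ := exists_diag hX.comp hvH hY.sq hmove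
  obtain ⟨s, hsE, hs2, hs1⟩ := exists_inv hE
  obtain ⟨x, hx, hmk, hxx, -, -, -⟩ := E.diag_elem hX hY.sq huv hmove hsE hs2 hs1
  have hsu : s * u = u * s := comm_c (hE.le hsE).1
  have hsv : s * v = v * s := comm_c (hE.le hsE).2
  have hv2 := hY.sq
  have hvi : v⁻¹ = v := inv_eq_of_mul_eq_one_left hv2
  obtain ⟨w, hw⟩ : ∃ w, w = v * s := ⟨_, rfl⟩
  have hw2 : w * w = 1 := by
    rw [hw]
    calc v * s * (v * s) = v * (s * v) * s := by group
      _ = (v * v) * (s * s) := by rw [hsv]; group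
      _ = 1 := by rw [hv2, hs2, one_mul]
  have hvw : v * w = w * v := by rw [hw, mul_assoc, hsv]
  have hwu : w * u = u * w := by rw [hw, mul_assoc, hsu, ← mul_assoc, ← huv, mul_assoc]
  -- `w` is conjugate to `v`
  obtain ⟨g, hg⟩ : ∃ g, g * v * g⁻¹ = w := by
    have hxC : x ∈ centralizer ({u} : Set G) := hX.comp.le hx
    have hcong : (x * v * x⁻¹)⁻¹ * w ∈ core (centralizer ({u} : Set G)) := by
      have hK' : IsComp (centralizer ({u} : Set G)) (cj v X) := isComp_cj_of_mem hX.comp hvH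
      have h1 : ⁅x⁻¹, (v * x * v⁻¹)⁻¹⁆ ∈ core (centralizer ({u} : Set G)) :=
        hX.comp.core_le_core (hX.comp.comm_le_core hK' (Ne.symm hmove)
          (commutator_mem_commutator (inv_mem hx) (inv_mem (conj_mem_cj hx)))).1
      have h2 := hX.comp.core_le_core hxx
      have e : (x * v * x⁻¹)⁻¹ * w = (x * x) * ⁅x⁻¹, (v * x * v⁻¹)⁻¹⁆ *
          (s⁻¹ * (x * (v * x * v⁻¹)))⁻¹ := by
        have e1 : (x * v * x⁻¹)⁻¹ * w = x * (v * x * v⁻¹)⁻¹ * s := by
          rw [hw, mul_inv_rev, mul_inv_rev, mul_inv_rev, mul_inv_rev, inv_inv, inv_inv, hvi]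
          group
        rw [e1, commutatorElement_def]
        group
      rw [e]
      exact mul_mem (mul_mem h2 h1) (inv_mem hmk)
    obtain ⟨o, -, ho⟩ := Lifting.exists_conj_eq (odd_card_core (centralizer ({u} : Set G)))
      (v := x * v * x⁻¹) (v' := w) (n := 1) (m := 1)
      (by
        rw [pow_one, pow_two]
        calc x * v * x⁻¹ * (x * v * x⁻¹) = x * (v * v) * x⁻¹ := by group
          _ = 1 := by rw [hv2]; group)
      (by rw [pow_one, pow_two, hw2])
      (le_normalizer_core _ (mul_mem (mul_mem hxC hvH) (inv_mem hxC))) hcong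
    refine ⟨o * x, ?_⟩
    rw [← ho]; group
  have hw1 : w ≠ 1 := by
    intro h
    apply hY.ne_one
    calc v = g⁻¹ * (g * v * g⁻¹) * g := by group
      _ = 1 := by rw [hg, h]; group
  have hZ : IsPair two w (cj g Y) := by
    have := hY.cj g
    rwa [hg] at this
  obtain ⟨Z1, hZ1⟩ : ∃ Z1, Z1 = cj g Y := ⟨_, rfl⟩
  rw [← hZ1] at hZ
  -- the two pairs over `v`
  have huvi : u * v * u⁻¹ = v := by rw [huv, mul_inv_cancel_right]
  have hY2 : IsPair two v (cj u Y) := by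
    have := hY.cj u
    rwa [huvi] at this
  have hY2m : cj u (cj u Y) ≠ cj u Y := by
    rw [← cj_mul, hX.sq, cj_one]
    exact Ne.symm hYm
  have hfact : ∀ N : Subgroup G, IsPair two v N → ¬ Fixes w N ∧
      ∃ (hwN : w ∈ normalizer (N : Set G)) (t : Bar N), act N ⟨w, hwN⟩ = MulAut.conj t ∧
        t * t = 1 ∧ t ∉ center (Bar N) := by
    intro N hN
    obtain ⟨hNm, hNd⟩ := E.diag_eq hX hN huv hmove
    obtain ⟨y, hy, -, hyy, hyc, hsN, hact⟩ := E.diag_elem hN hX.sq huv.symm hNm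
      (hNd ▸ hsE) hs2 hs1
    have hwN : w ∈ normalizer (N : Set G) := by
      rw [hw]; exact mul_mem (le_normalizer hN.mem) hsN
    have hactw : act N ⟨w, hwN⟩ = MulAut.conj (QuotientGroup.mk ⟨y, hy⟩) := by
      have h1 := act_mul (le_normalizer hN.mem) hsN
      rw [(act_eq_one_iff (le_normalizer hN.mem)).mpr (fixes_self hN), one_mul, hact] at h1
      rw [← h1]
      exact act_congr hwN hw
    refine ⟨?_, hwN, _, hactw, (Quot.mk_eq_one_iff (mul_mem hy hy)).mpr hyy, hyc⟩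
    intro hf
    rw [← act_eq_one_iff hwN, hactw, conj_eq_one_iff] at hf
    exact hyc hf
  -- the pairs over `w`
  have homega : ∀ Z : Subgroup G, IsPair two w Z → Z = Z1 ∨ Z = cj g (cj u Y) := by
    intro Z hZp
    have h1 : IsPair two v (cj g⁻¹ Z) := by
      have := hZp.cj g⁻¹
      have e : g⁻¹ * w * g⁻¹⁻¹ = v := by rw [← hg]; group
      rwa [e] at this
    rcases E.omega hX hY huv hmove h1 with h2 | h2
    · left; rw [hZ1, ← h2, cj_cj_inv]
    · right; rw [← h2, cj_cj_inv]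
  have hidx : ∀ a : G, a * w = w * a → ∀ b : G, b * w = w * b → cj a Z1 ≠ Z1 → cj b Z1 ≠ Z1 →
      cj a Z1 = cj b Z1 := by
    have key : ∀ a : G, a * w = w * a → cj a Z1 ≠ Z1 → cj a Z1 = cj g (cj u Y) := by
      intro a ha hne
      have h1 : IsPair two w (cj a Z1) := by
        have := hZ.cj a
        rwa [ha, mul_inv_cancel_right] at this
      exact (homega _ h1).resolve_left hne
    intro a ha b hb hna hnb
    rw [key a ha hna, key b hb hnb]
  -- the Sylow subgroup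
  obtain ⟨L0, hL0⟩ : ∃ L0 : Subgroup G, ∀ x, x ∈ L0 ↔ x * v = v * x ∧ x * w = w * x ∧
      x ∈ normalizer (Z1 : Set G) ∧ x ∈ normalizer (Y : Set G) ∧ x ∈ normalizer (cj u Y : Set G) := by
    refine ⟨centralizer ({v} : Set G) ⊓ (centralizer ({w} : Set G) ⊓ (normalizer (Z1 : Set G) ⊓
      (normalizer (Y : Set G) ⊓ normalizer (cj u Y : Set G)))), fun x => ?_⟩
    simp only [mem_inf, mem_centralizer_singleton_iff]
  obtain ⟨S, hSL, hS2, hS⟩ := exists_syl L0
  obtain ⟨hf1, hw1N, t1, ht1, htt1, htc1⟩ := hfact Y hY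
  obtain ⟨hf2, hw2N, t2, ht2, htt2, htc2⟩ := hfact (cj u Y) hY2
  obtain ⟨⟨z1, t1', P1, Zc1, hLoc1, ι1, hι1, hP1, hc1⟩, hinj1⟩ := E.side hY hY2 hYm hZ hvw hw1N ht1
    htt1 htc1 hf2 hL0 hSL hS2 hS fun a _ ha b _ hb => hidx a ha b hb
  obtain ⟨⟨z2, t2', P2, Zc2, hLoc2, ι2, hι2, hP2, hc2⟩, hinj2⟩ := E.side hY2 hY (Ne.symm hYm) hZ hvw
    hw2N ht2 htt2 htc2 hf1 (fun x => (hL0 x).trans (by tauto)) hSL hS2 hS
    fun a _ ha b _ hb => hidx a ha b hb
  have hSZ : S ≤ normalizer (Z1 : Set G) := fun x hx => ((hL0 x).mp (hSL hx)).2.2.1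
  refine Rank.false_of_two (S1 := Y.subgroupOf S) (S2 := (cj u Y).subgroupOf S) ?_ (E.kf_pair hZ)
    ((act Z1).comp (inclusion hSZ)) ?_ ?_ hLoc1 hLoc2 ι1 ι2 hι1 hι2 hP1 hP2 hc1 hc2
  · intro a ha b hb
    have h1 : ⁅(a : G), (b : G)⁆ ∈ core Y :=
      (hY.comp.comm_le_core hY2.comp (Ne.symm hYm) (commutator_mem_commutator ha hb)).1
    obtain ⟨k, hk⟩ := hS2 ⁅a, b⁆
    have h2 : ⁅(a : G), (b : G)⁆ ^ 2 ^ k = 1 := congrArg Subtype.val hk
    have h3 := eq_one_of_mem_core h1 h2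
    apply Subtype.ext
    exact commutatorElement_eq_one_iff_mul_comm.mp h3
  · intro a ha h
    exact Subtype.ext (hinj1 a a.2 ha ((act_eq_one_iff (hSZ a.2)).mp h))
  · intro a ha h
    exact Subtype.ext (hinj2 a a.2 ha ((act_eq_one_iff (hSZ a.2)).mp h))

end Cfsg.Agent.UGT.I34.Two
end
end
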